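import Mathlib
import Groth.Agent.Lib.Helper51.SmoothSecRing

/-!
# Smooth morphisms have sections étale-locally on the target (helper51)
-/

set_option autoImplicit false
universe u
open CategoryTheory CategoryTheory.Limits AlgebraicGeometry

namespace Groth.Agent.Lib.Helper51.SmoothSection

/-- For a smooth morphism `f : X ⟶ S` and a point `x : X`, there is an étale neighbourhood
`(S', s') → (S, f x)` over which `f` has a section. -/
theorem exists_etale_section {X S : Scheme.{u}} (f : X ⟶ S) [Smooth f] (x : X) :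
    ∃ (S' : Scheme.{u}) (g : S' ⟶ S) (s' : S'), Etale g ∧ g s' = f x ∧
      ∃ h : S' ⟶ X, h ≫ f = g := by
  obtain ⟨U, hU, V, hV, hxV, e, hf⟩ := Smooth.exists_isStandardSmooth f x
  obtain ⟨n, g, hgC, hg⟩ := hf.exists_etale_mvPolynomial
  algebraize [(f.appLE U V e).hom]
  have hss : Algebra.IsStandardSmooth Γ(S, U) Γ(X, V) := hf
  let gA : MvPolynomial (Fin n) Γ(S, U) →ₐ[Γ(S, U)] Γ(X, V) :=
    { g with commutes' := fun r => congr($hgC r) }
  let p : PrimeSpectrum Γ(S, U) := hU.primeIdealOf ⟨f x, e hxV⟩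
  let P : PrimeSpectrum Γ(X, V) := hV.primeIdealOf ⟨x, hxV⟩
  have hp : p ∈ Set.range (PrimeSpectrum.comap (algebraMap Γ(S, U) Γ(X, V))) :=
    ⟨P, IsAffineOpen.comap_primeIdealOf_appLE U hU V hV e hxV⟩
  obtain ⟨R₂, _, _, hE, 𝔮₂, _, σ, P', _, h1, h2⟩ :=
    Groth.Agent.Lib.Helper51.SmoothSecRing.exists_etale_section_data n gA p hp
  -- the schemes
  let a : Spec Γ(X, V) ⟶ Spec (.of (MvPolynomial (Fin n) Γ(S, U))) :=
    Spec.map (CommRingCat.ofHom g)
  let bσ : Spec (.of R₂) ⟶ Spec (.of (MvPolynomial (Fin n) Γ(S, U))) :=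
    Spec.map (CommRingCat.ofHom σ.toRingHom)
  let c : Spec (.of R₂) ⟶ Spec Γ(S, U) := Spec.map (CommRingCat.ofHom (algebraMap Γ(S, U) R₂))
  have ha : Etale a := HasRingHomProperty.Spec_iff.mpr hg
  have hc : Etale c := HasRingHomProperty.Spec_iff.mpr (RingHom.etale_algebraMap.mpr hE)
  let gfin : pullback a bσ ⟶ S := pullback.snd a bσ ≫ c ≫ hU.fromSpec
  let hfin : pullback a bσ ⟶ X := pullback.fst a bσ ≫ hV.fromSpec
  have hpt : a ⟨P', inferInstance⟩ = bσ ⟨𝔮₂, inferInstance⟩ := PrimeSpectrum.ext h2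
  obtain ⟨z, hz1, hz2⟩ := Scheme.Pullback.exists_preimage_pullback (f := a) (g := bσ)
    ⟨P', inferInstance⟩ ⟨𝔮₂, inferInstance⟩ hpt
  refine ⟨pullback a bσ, gfin, z, inferInstance, ?_, hfin, ?_⟩
  · change hU.fromSpec (c (pullback.snd a bσ z)) = f x
    rw [hz2]
    have : c ⟨𝔮₂, inferInstance⟩ = p := PrimeSpectrum.ext h1
    rw [this]
    exact hU.fromSpec_primeIdealOf ⟨f x, e hxV⟩
  · change (pullback.fst a bσ ≫ hV.fromSpec) ≫ f = pullback.snd a bσ ≫ c ≫ hU.fromSpec
    rw [Category.assoc, ← IsAffineOpen.SpecMap_appLE_fromSpec f hU hV e]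
    have hfac : Spec.map (f.appLE U V e) =
        a ≫ Spec.map (CommRingCat.ofHom (MvPolynomial.C : Γ(S, U) →+* _)) := by
      rw [← Spec.map_comp]
      congr 1
      ext r
      exact congr($hgC r).symm
    have hfac2 : c = bσ ≫ Spec.map (CommRingCat.ofHom (MvPolynomial.C : Γ(S, U) →+* _)) := by
      change Spec.map _ = Spec.map _ ≫ Spec.map _
      rw [← Spec.map_comp]
      congr 1
      ext r
      exact (σ.commutes r).symm
    rw [hfac, hfac2, Category.assoc, Category.assoc, pullback.condition_assoc]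

end Groth.Agent.Lib.Helper51.SmoothSection
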