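import Mathlib
import Groth.Agent.S7469
import Groth.Agent.S7470

/-!
# V coverings: helper lemmas (helper51)

* `isStandardV_of_openCover`: a finite affine open cover of an affine scheme is a standard V covering.
* `exists_standardV_refinesOver`: if `E` is a V covering of `T` and `g : S ⟶ T` with `S` affine, then
  there is a standard V covering `F` of `S` (indexed in `Type 0`) refining `E` over `g`.
-/

set_option autoImplicit false
universe w u
open CategoryTheory CategoryTheory.Limits AlgebraicGeometry Opposite HTop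

namespace Groth.Agent.Lib.Helper51.VCover

theorem isStandardV_of_openCover {S : Scheme.{u}} [IsAffine S] (E : PreZeroHypercover.{w} S)
    [Finite E.I₀] (haff : ∀ j, IsAffine (E.X j)) (hopen : ∀ j, IsOpenImmersion (E.f j))
    (hcov : ∀ x : S, ∃ j, x ∈ Set.range (E.f j).base) : IsStandardV E := by
  refine ⟨inferInstance, inferInstance, haff, ?_⟩
  intro V _ _ gV
  obtain ⟨j, hj⟩ := hcov (gV.base (IsLocalRing.closedPoint V))
  haveI := hopen j
  have hrange : Set.range gV.base ⊆ Set.range (E.f j).base := by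
    rintro _ ⟨y, rfl⟩
    have hy : (y : PrimeSpectrum V) ⤳ IsLocalRing.closedPoint V :=
      IsLocalRing.specializes_closedPoint y
    have hy' : gV.base y ⤳ gV.base (IsLocalRing.closedPoint V) := hy.map gV.continuous
    exact hy'.mem_open (E.f j).isOpenEmbedding.isOpen_range hj
  refine ⟨V, inferInstance, inferInstance, 𝟙 V, ⟨Function.injective_id, ?_⟩, j,
    IsOpenImmersion.lift (E.f j) gV hrange, ?_⟩
  · exact isLocalHom_id V
  · rw [IsOpenImmersion.lift_fac, Spec.map_id, Category.id_comp]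

theorem exists_standardV_refinesOver {S T : Scheme.{u}} [IsAffine S] (g : S ⟶ T)
    (E : PreZeroHypercover.{w} T) (hE : IsVCover E) :
    ∃ F : PreZeroHypercover.{0} S, IsStandardV F ∧ RefinesOver g F E := by
  classical
  -- choose affine opens
  have h1 : ∀ x : S, ∃ U : T.affineOpens, g.base x ∈ (U : T.Opens) := by
    intro x
    obtain ⟨U, hU, hx, -⟩ := exists_isAffineOpen_mem_and_subset (X := T) (x := g.base x)
      (U := ⊤) trivial
    exact ⟨⟨U, hU⟩, hx⟩
  choose U hU using h1
  have h2 : ∀ x : S, ∃ W : S.Opens, IsAffineOpen W ∧ x ∈ W ∧ W ≤ g ⁻¹ᵁ (U x : T.Opens) := by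
    intro x
    obtain ⟨W, hW, hx, hle⟩ := exists_isAffineOpen_mem_and_subset (X := S) (x := x)
      (U := g ⁻¹ᵁ (U x : T.Opens)) (hU x)
    exact ⟨W, hW, hx, hle⟩
  choose W hWaff hxW hWle using h2
  obtain ⟨t, ht⟩ := isCompact_univ.elim_finite_subcover (fun x : S => ((W x : S.Opens) : Set S))
    (fun x => (W x).isOpen) (fun x _ => Set.mem_iUnion.2 ⟨x, hxW x⟩)
  let n := t.card
  let e : Fin n ≃ t := t.equivFin.symm
  let pts : Fin n → S := fun k => (e k : S)
  let E₀ : PreZeroHypercover.{0} S :=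
    { I₀ := Fin n
      X := fun k => (W (pts k)).toScheme
      f := fun k => (W (pts k)).ι }
  have hE₀ : IsStandardV E₀ := by
    haveI : Finite E₀.I₀ := inferInstanceAs (Finite (Fin n))
    refine isStandardV_of_openCover E₀ (fun k => hWaff (pts k)) (fun k => ?_) ?_
    · change IsOpenImmersion (W (pts k)).ι
      infer_instance
    · intro x
      have hx := ht (Set.mem_univ x)
      simp only [Set.mem_iUnion] at hx
      obtain ⟨y, hy, hxy⟩ := hx
      refine ⟨e.symm ⟨y, hy⟩, ?_⟩
      change x ∈ Set.range (W (pts (e.symm ⟨y, hy⟩))).ι.base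
      have : pts (e.symm ⟨y, hy⟩) = y := by simp [pts]
      rw [this, Scheme.Opens.range_ι]
      exact hxy
  -- restriction maps
  let r : ∀ k, (W (pts k)).toScheme ⟶ ((U (pts k) : T.Opens) : Scheme.{u}) := fun k =>
    S.homOfLE (hWle (pts k)) ≫ g ∣_ (U (pts k) : T.Opens)
  have hr : ∀ k, r k ≫ (U (pts k) : T.Opens).ι = (W (pts k)).ι ≫ g := by
    intro k
    simp [r]
  have h3 : ∀ k, ∃ F : PreZeroHypercover.{0} ((U (pts k) : T.Opens) : Scheme.{u}),
      IsStandardV F ∧ RefinesOver (U (pts k) : T.Opens).ι F E := fun k => hE (U (pts k))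
  choose Fk hFk hFkref using h3
  haveI : ∀ k, IsAffine (E₀.X k) := fun k => hWaff (pts k)
  let G : ∀ k, PreZeroHypercover.{0} (E₀.X k) := fun k => (Fk k).pullback₁ (r k)
  have hG : ∀ k, IsStandardV (G k) := fun k =>
    Groth.Agent.S7469.result (r k) (Fk k) (hFk k)
  refine ⟨E₀.bind G, Groth.Agent.S7470.result E₀ hE₀ G hG, ?_⟩
  rintro ⟨k, j⟩
  change Fin n at k
  change (Fk k).I₀ at j
  obtain ⟨i, h₀, hh₀⟩ := hFkref k j
  refine ⟨i, pullback.snd (r k) ((Fk k).f j) ≫ h₀, ?_⟩
  have hc : pullback.fst (r k) ((Fk k).f j) ≫ r k =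
      pullback.snd (r k) ((Fk k).f j) ≫ (Fk k).f j := pullback.condition
  have e1 : (pullback.snd (r k) ((Fk k).f j) ≫ h₀) ≫ E.f i
      = pullback.snd (r k) ((Fk k).f j) ≫ (Fk k).f j ≫ (U (pts k) : T.Opens).ι := by
    rw [Category.assoc, hh₀]
  have e2 : pullback.snd (r k) ((Fk k).f j) ≫ (Fk k).f j ≫ (U (pts k) : T.Opens).ι
      = (pullback.fst (r k) ((Fk k).f j) ≫ r k) ≫ (U (pts k) : T.Opens).ι := by
    rw [hc, Category.assoc]
  have e3 : (pullback.fst (r k) ((Fk k).f j) ≫ r k) ≫ (U (pts k) : T.Opens).ι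
      = (pullback.fst (r k) ((Fk k).f j) ≫ (W (pts k)).ι) ≫ g := by
    rw [Category.assoc, hr k, Category.assoc]
  exact (e1.trans e2).trans e3

end Groth.Agent.Lib.Helper51.VCover
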