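import Mathlib
import Groth.Agent.Lib.Helper51.VCover
import Groth.Agent.S7473

/-!
# V sheaves: Zariski sheaf + sheaf for standard V coverings (helper51)
-/

set_option autoImplicit false
universe w v u
open CategoryTheory CategoryTheory.Limits AlgebraicGeometry Opposite HTop

namespace Groth.Agent.Lib.Helper51.VSheaf

open Groth.Agent.Lib.Helper51.VCover

theorem isStandardV_restrictIndex {T : Scheme.{u}} (E : PreZeroHypercover.{w} T)
    (hE : IsStandardV E) {ι : Type v} [Finite ι] (e : ι → E.I₀) (he : Function.Surjective e) :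
    IsStandardV (E.restrictIndex e) := by
  refine ⟨hE.isAffine, inferInstanceAs (Finite ι), fun j => hE.isAffine_obj (e j), ?_⟩
  intro V _ _ gV
  obtain ⟨W, h1, h2, φ, hφ, j, g', hg'⟩ := hE.lift V gV
  obtain ⟨k, rfl⟩ := he j
  exact ⟨W, h1, h2, φ, hφ, k, g', hg'⟩

theorem isVCover_of_isStandardV {T : Scheme.{u}} (E : PreZeroHypercover.{w} T)
    (hE : IsStandardV E) : IsVCover E := by
  intro U
  haveI := hE.finite_index
  haveI : IsAffine ((U : T.Opens) : Scheme.{u}) := U.2
  obtain ⟨n, ⟨e⟩⟩ := Finite.exists_equiv_fin E.I₀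
  have h1 := Groth.Agent.S7469.result (U : T.Opens).ι E hE
  refine ⟨(E.pullback₁ (U : T.Opens).ι).restrictIndex e.symm,
    isStandardV_restrictIndex _ h1 _ e.symm.surjective, ?_⟩
  intro j
  exact ⟨e.symm j, pullback.snd _ _, pullback.condition.symm⟩

/-- A sieve on `Y` is V-covering if its pullback to every affine scheme contains a standard V
covering. -/
def IsVCovSieve {Y : Scheme.{u}} (S : Sieve Y) : Prop :=
  ∀ (Z : Scheme.{u}) [IsAffine Z] (h : Z ⟶ Y),
    ∃ G : PreZeroHypercover.{u} Z, IsStandardV G ∧ ∀ j, S (G.f j ≫ h)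

theorem IsVCovSieve.pullback {Y Y' : Scheme.{u}} {S : Sieve Y} (hS : IsVCovSieve S) (f : Y' ⟶ Y) :
    IsVCovSieve (S.pullback f) := by
  intro Z _ h
  obtain ⟨G, hG, hGS⟩ := hS Z (h ≫ f)
  refine ⟨G, hG, fun j => ?_⟩
  have := hGS j
  rw [← Category.assoc] at this
  exact this

theorem isVCovSieve_generate {T : Scheme.{u}} (E : PreZeroHypercover.{w} T) (hE : IsVCover E) :
    IsVCovSieve (Sieve.generate E.presieve₀) := by
  intro Z _ h
  obtain ⟨F₀, hF₀, href⟩ := exists_standardV_refinesOver h E hE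
  haveI := hF₀.finite_index
  refine ⟨F₀.restrictIndex (ULift.down : ULift.{u} F₀.I₀ → F₀.I₀),
    isStandardV_restrictIndex _ hF₀ _ ULift.down_surjective, ?_⟩
  rintro ⟨j⟩
  obtain ⟨i, k, hk⟩ := href j
  exact ⟨_, k, E.f i, ⟨i⟩, hk⟩

variable {F : Scheme.{u}ᵒᵖ ⥤ Type v}

theorem isSeparatedFor_of_isVCovSieve (hzar : Presieve.IsSheaf Scheme.zariskiTopology F)
    (hstd : ∀ (T : Scheme.{u}) (E : PreZeroHypercover.{u} T), IsStandardV E →
      Presieve.IsSheafFor F E.presieve₀)
    {X : Scheme.{u}} (S : Sieve X) (hS : IsVCovSieve S) : Presieve.IsSeparatedFor F S.arrows := by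
  intro x t₁ t₂ h₁ h₂
  have hcov := X.affineCover.mem_grothendieckTopology
  refine (hzar _ hcov).isSeparatedFor.ext ?_
  rintro Z h ⟨Z', a, b, ⟨i⟩, rfl⟩
  suffices hs : F.map (X.affineCover.f i).op t₁ = F.map (X.affineCover.f i).op t₂ by
    rw [op_comp, Functor.map_comp]
    change F.map a.op (F.map (X.affineCover.f i).op t₁) = F.map a.op (F.map (X.affineCover.f i).op t₂)
    rw [hs]
  haveI : IsAffine (X.affineCover.X i) := by dsimp [Scheme.affineCover]; infer_instance
  obtain ⟨G, hG, hGS⟩ := hS (X.affineCover.X i) (X.affineCover.f i)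
  refine (hstd _ G hG).isSeparatedFor.ext ?_
  rintro _ _ ⟨j⟩
  have e1 := h₁ (G.f j ≫ X.affineCover.f i) (hGS j)
  have e2 := h₂ (G.f j ≫ X.affineCover.f i) (hGS j)
  rw [op_comp, Functor.map_comp] at e1 e2
  exact e1.trans e2.symm

theorem isSheafFor_of_isVCovSieve (hzar : Presieve.IsSheaf Scheme.zariskiTopology F)
    (hstd : ∀ (T : Scheme.{u}) (E : PreZeroHypercover.{u} T), IsStandardV E →
      Presieve.IsSheafFor F E.presieve₀)
    {X : Scheme.{u}} (S : Sieve X) (hS : IsVCovSieve S) : Presieve.IsSheafFor F S.arrows := by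
  have haff : ∀ (Z : Scheme.{u}) [IsAffine Z] (S : Sieve Z), IsVCovSieve S →
      Presieve.IsSheafFor F S.arrows := by
    intro Z _ S hS
    obtain ⟨G, hG, hGS⟩ := hS Z (𝟙 Z)
    apply Presieve.isSheafFor_subsieve_aux (S := Sieve.generate G.presieve₀)
    · have : Sieve.generate G.presieve₀ ≤ S := by
        rw [Sieve.generate_le_iff]
        rintro _ _ ⟨j⟩
        simpa using hGS j
      exact this
    · rw [← Presieve.isSheafFor_iff_generate]
      exact hstd _ G hG
    · intro Y' f hf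
      exact isSeparatedFor_of_isVCovSieve hzar hstd _
        ((isVCovSieve_generate G (isVCover_of_isStandardV G hG)).pullback f)
  refine X.affineOneHypercover.isSheafFor_sieve_of_pullback hzar (S := S) ?_ ?_
  · intro i
    haveI : IsAffine (X.affineOneHypercover.X i) := by
      change IsAffine (X.affineCover.X i)
      dsimp [Scheme.affineCover]; infer_instance
    exact haff _ _ (hS.pullback _)
  · intro i j k
    exact isSeparatedFor_of_isVCovSieve hzar hstd _ (hS.pullback _)

theorem isVSheaf_iff (F : Scheme.{u}ᵒᵖ ⥤ Type v) :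
    IsVSheaf F ↔ (Presieve.IsSheaf Scheme.zariskiTopology F ∧
      ∀ (T : Scheme.{u}) (E : PreZeroHypercover.{u} T), IsStandardV E →
        Presieve.IsSheafFor F E.presieve₀) := by
  constructor
  · intro hV
    refine ⟨?_, ?_⟩
    · change Presieve.IsSheaf (Scheme.zariskiPrecoverage.toGrothendieck) F
      rw [Precoverage.isSheaf_toGrothendieck_iff_of_isStableUnderBaseChange]
      intro X R hR
      have hR' : R ∈ Scheme.fpqcPrecoverage X := Scheme.zariskiPrecoverage_le_fpqcPrecoverage _ hR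
      obtain ⟨E₀, rfl⟩ := R.exists_eq_preZeroHypercover
      let 𝒰 : Scheme.Cover Scheme.fpqcPrecoverage X := ⟨E₀, hR'⟩
      have := Groth.Agent.S7473.result 𝒰
      exact hV _ ((presieve₀_mem_vPrecoverage_iff E₀).2 this)
    · intro T E hE
      exact hV _ ((presieve₀_mem_vPrecoverage_iff E).2 (isVCover_of_isStandardV E hE))
  · rintro ⟨hzar, hstd⟩ X R hR
    obtain ⟨E₀, rfl⟩ := R.exists_eq_preZeroHypercover
    have hE₀ : IsVCover E₀ := (presieve₀_mem_vPrecoverage_iff E₀).1 hR
    rw [Presieve.isSheafFor_iff_generate]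
    exact isSheafFor_of_isVCovSieve hzar hstd _ (isVCovSieve_generate E₀ hE₀)

end Groth.Agent.Lib.Helper51.VSheaf
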