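import Mathlib
import Groth.Agent.Lib.Helper12.Subtr
import Groth.Agent.Lib.Helper51.VSheaf
import Groth.Agent.S7471
import Groth.Prelude.Def_SGA1

/-!
# V coverings are universally submersive (helper51)
-/

set_option autoImplicit false
universe w v u
open CategoryTheory CategoryTheory.Limits AlgebraicGeometry Opposite HTop TopologicalSpace

namespace Groth.Agent.Lib.Helper51.VSubm

open Groth.Agent.Lib.Helper51.VCover Groth.Agent.Lib.Helper51.VSheaf

lemma extVal_closedPoint {V W : CommRingCat.{u}} [IsDomain V] [ValuationRing V] [IsDomain W]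
    [ValuationRing W] (φ : V ⟶ W) (hφ : IsExtVal V W φ) :
    (Spec.map φ).base (IsLocalRing.closedPoint W) = IsLocalRing.closedPoint V := by
  haveI := hφ.2
  exact (IsLocalRing.isLocalHom_iff_comap_closedPoint φ.hom).1 hφ.2

lemma extVal_genericPoint {V W : CommRingCat.{u}} [IsDomain V] [ValuationRing V] [IsDomain W]
    [ValuationRing W] (φ : V ⟶ W) (hφ : IsExtVal V W φ) :
    (Spec.map φ).base (⟨⊥, Ideal.isPrime_bot⟩ : PrimeSpectrum W) =
      (⟨⊥, Ideal.isPrime_bot⟩ : PrimeSpectrum V) := by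
  apply PrimeSpectrum.ext
  change Ideal.comap φ.hom ⊥ = ⊥
  rw [← RingHom.ker_eq_comap_bot]
  exact (RingHom.injective_iff_ker_eq_bot _).1 hφ.1

theorem hasValLift_of_isVCover {T : Scheme.{u}} (E : PreZeroHypercover.{w} T) (hE : IsVCover E) :
    HasValLift E := by
  intro V _ _ gV
  obtain ⟨U, hU, hx, -⟩ := exists_isAffineOpen_mem_and_subset (X := T)
    (x := gV.base (IsLocalRing.closedPoint V)) (U := ⊤) trivial
  have hrange : Set.range gV.base ⊆ Set.range U.ι.base := by
    rintro _ ⟨y, rfl⟩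
    rw [Scheme.Opens.range_ι]
    have hy : (y : PrimeSpectrum V) ⤳ IsLocalRing.closedPoint V :=
      IsLocalRing.specializes_closedPoint y
    exact (hy.map gV.continuous).mem_open U.isOpen hx
  let gU : Spec V ⟶ U := IsOpenImmersion.lift U.ι gV hrange
  obtain ⟨F, hF, href⟩ := hE ⟨U, hU⟩
  obtain ⟨W, h1, h2, φ, hφ, j, g', hg'⟩ := hF.lift V gU
  obtain ⟨i, k, hk⟩ := href j
  refine ⟨W, h1, h2, φ, hφ, i, g' ≫ k, ?_⟩
  have : gU ≫ U.ι = gV := IsOpenImmersion.lift_fac _ _ _
  rw [Category.assoc, hk, ← Category.assoc, hg', Category.assoc]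
  exact congrArg (Spec.map φ ≫ ·) this

theorem jointlySurjective_of_hasValLift {T : Scheme.{u}} (E : PreZeroHypercover.{w} T)
    (hE : HasValLift E) (t : T) : ∃ i, t ∈ Set.range (E.f i).base := by
  obtain ⟨W, h1, h2, φ, hφ, j, g', hg'⟩ :=
    hE (CommRingCat.of (T.residueField t)) (T.fromSpecResidueField t)
  obtain ⟨w⟩ : Nonempty (PrimeSpectrum W) := inferInstance
  refine ⟨j, g'.base w, ?_⟩
  have h1 : (g' ≫ E.f j).base w = t := by
    rw [hg']
    exact Scheme.fromSpecResidueField_apply t ((Spec.map φ).base w)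
  exact h1

lemma exists_specializes_of_mem_closure_image_comap {A B : Type u} [CommRing A] [CommRing B]
    (φ : A →+* B) (Z : Set (PrimeSpectrum B)) (hZ : IsClosed Z) (z' : PrimeSpectrum A)
    (hz' : z' ∈ closure (PrimeSpectrum.comap φ '' Z)) :
    ∃ z ∈ Z, PrimeSpectrum.comap φ z ⤳ z' := by
  obtain ⟨I, rfl⟩ := (PrimeSpectrum.isClosed_iff_zeroLocus_ideal Z).mp hZ
  rw [PrimeSpectrum.closure_image_comap_zeroLocus] at hz'
  obtain ⟨q, hqI, hq, hqle⟩ := z'.asIdeal.exists_ideal_comap_le_prime I hz'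
  exact ⟨⟨q, hq⟩, hqI, (PrimeSpectrum.le_iff_specializes ⟨q.comap φ, inferInstance⟩ z').mp hqle⟩

lemma exists_specializes_of_mem_closure_image {P Q : Scheme.{u}} [IsAffine P] [IsAffine Q]
    (g : P ⟶ Q) (Z : Set P) (hZ : IsClosed Z) (z' : Q) (hz' : z' ∈ closure (g.base '' Z)) :
    ∃ z ∈ Z, g.base z ⤳ z' := by
  let eP := Scheme.homeoOfIso P.isoSpec
  let eQ := Scheme.homeoOfIso Q.isoSpec
  have hnat : ∀ p, eQ (g.base p) = PrimeSpectrum.comap g.appTop.hom (eP p) := by
    intro p
    have := Scheme.isoSpec_hom_naturality g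
    have h2 := congrArg (fun h => h.base p) this
    exact h2.symm
  have hZ' : IsClosed (eP '' Z) := eP.isClosedMap _ hZ
  have hz'' : eQ z' ∈ closure (PrimeSpectrum.comap g.appTop.hom '' (eP '' Z)) := by
    have : PrimeSpectrum.comap g.appTop.hom '' (eP '' Z) = eQ '' (g.base '' Z) := by
      ext x
      constructor
      · rintro ⟨_, ⟨p, hp, rfl⟩, rfl⟩
        exact ⟨g.base p, ⟨p, hp, rfl⟩, hnat p⟩
      · rintro ⟨_, ⟨p, hp, rfl⟩, rfl⟩
        exact ⟨eP p, ⟨p, hp, rfl⟩, (hnat p).symm⟩
    have h5 : eQ z' ∈ closure (eQ '' (g.base '' Z)) := by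
      have h4 := eQ.image_closure (g.base '' Z)
      rw [← h4]
      exact ⟨z', hz', rfl⟩
    rw [this]
    exact h5
  obtain ⟨z₀, ⟨p, hp, rfl⟩, hspec⟩ :=
    exists_specializes_of_mem_closure_image_comap _ _ hZ' _ hz''
  refine ⟨p, hp, ?_⟩
  rw [← hnat] at hspec
  exact eQ.isInducing.specializes_iff.1 hspec

theorem isQuotientMap_of_isVCover {X' Y' : Scheme.{u}} (f' : X' ⟶ Y')
    (E : PreZeroHypercover.{w} Y') (hE : IsVCover E) (k : ∀ i, E.X i ⟶ X')
    (hk : ∀ i, k i ≫ f' = E.f i) : Topology.IsQuotientMap f'.base := by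
  rw [Topology.isQuotientMap_iff_isClosed]
  refine ⟨?_, fun Z => ⟨fun h => h.preimage f'.continuous, fun hZ => ?_⟩⟩
  · intro y
    obtain ⟨i, p, hp⟩ := jointlySurjective_of_hasValLift E (hasValLift_of_isVCover E hE) y
    refine ⟨(k i).base p, ?_⟩
    rw [← hp, ← hk i]
    rfl
  · have hcov : IsOpenCover (fun U : Y'.affineOpens => (U : Y'.Opens)) :=
      iSup_affineOpens_eq_top Y'
    rw [hcov.isClosed_iff_coe_preimage]
    intro U
    obtain ⟨G, hG, href⟩ := hE U
    choose idx h hh using href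
    let ZU : Set ((U : Y'.Opens) : Scheme.{u}) := (U : Y'.Opens).ι.base ⁻¹' Z
    change IsClosed ZU
    have hZj : ∀ j, IsClosed ((G.f j).base ⁻¹' ZU) := by
      intro j
      have : (G.f j).base ⁻¹' ZU = (h j ≫ k (idx j)).base ⁻¹' (f'.base ⁻¹' Z) := by
        ext p
        have e1 : (U : Y'.Opens).ι.base ((G.f j).base p) = f'.base ((h j ≫ k (idx j)).base p) := by
          have := congrArg (fun m => m.base p) (hh j)
          have e2 : (h j ≫ k (idx j)) ≫ f' = h j ≫ E.f (idx j) := by
            rw [Category.assoc, hk]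
          have e3 := congrArg (fun m => m.base p) e2
          exact (e3.trans this).symm
        simp only [Set.mem_preimage, ZU, e1]
      rw [this]
      exact hZ.preimage (h j ≫ k (idx j)).continuous
    have hstab : StableUnderSpecialization ZU := by
      intro z z' hzz' hz
      obtain ⟨A, hA1, hA2, hA3, g, hgc, hgg⟩ :=
        Groth.Agent.Lib.Helper12.exists_valuationRing_of_specializes hzz'
      obtain ⟨W, hW1, hW2, φ, hφ, j, g', hg'⟩ := hG.lift (CommRingCat.of A) g
      have hη : (G.f j).base (g'.base (⟨⊥, Ideal.isPrime_bot⟩ : PrimeSpectrum W)) = z := by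
        have := congrArg (fun m => m.base (⟨⊥, Ideal.isPrime_bot⟩ : PrimeSpectrum W)) hg'
        have e : g.base ((Spec.map φ).base (⟨⊥, Ideal.isPrime_bot⟩ : PrimeSpectrum W)) = z := by
          rw [extVal_genericPoint φ hφ]; exact hgg
        exact this.trans e
      have hc : (G.f j).base (g'.base (IsLocalRing.closedPoint W)) = z' := by
        have := congrArg (fun m => m.base (IsLocalRing.closedPoint W)) hg'
        have e : g.base ((Spec.map φ).base (IsLocalRing.closedPoint W)) = z' := by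
          rw [extVal_closedPoint φ hφ]; exact hgc
        exact this.trans e
      have h1 : g'.base (⟨⊥, Ideal.isPrime_bot⟩ : PrimeSpectrum W) ∈ (G.f j).base ⁻¹' ZU := by
        rw [Set.mem_preimage, hη]; exact hz
      have h2 : g'.base (⟨⊥, Ideal.isPrime_bot⟩ : PrimeSpectrum W) ⤳
          g'.base (IsLocalRing.closedPoint W) :=
        (IsLocalRing.specializes_closedPoint _).map g'.continuous
      have h3 := (hZj j).stableUnderSpecialization h2 h1
      rw [Set.mem_preimage, hc] at h3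
      exact h3
    rw [← closure_subset_iff_isClosed]
    intro z' hz'
    have hunion : ZU = ⋃ j, (G.f j).base '' ((G.f j).base ⁻¹' ZU) := by
      ext z
      constructor
      · intro hz
        obtain ⟨j, p, hp⟩ := jointlySurjective_of_hasValLift G hG.lift z
        exact Set.mem_iUnion.2 ⟨j, p, by rw [Set.mem_preimage, hp]; exact hz, hp⟩
      · intro hz
        obtain ⟨j, p, hp, rfl⟩ := Set.mem_iUnion.1 hz
        exact hp
    rw [hunion] at hz'
    haveI := hG.finite_index
    rw [closure_iUnion_of_finite] at hz'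
    obtain ⟨j, hj⟩ := Set.mem_iUnion.1 hz'
    haveI := hG.isAffine_obj j
    haveI : IsAffine ((U : Y'.Opens) : Scheme.{u}) := U.2
    obtain ⟨p, hp, hspec⟩ := exists_specializes_of_mem_closure_image (G.f j) _ (hZj j) z' hj
    exact hstab hspec hp

theorem univSubmersive_sigmaDesc {X : Scheme.{u}} (E : PreZeroHypercover.{u} X) (hE : IsVCover E) :
    SGA1.UnivSubmersive (Sigma.desc E.f) := by
  intro X' Y' i₁ i₂ f' sq
  let k : ∀ i : E.I₀, pullback i₂ (E.f i) ⟶ X' := fun i =>
    sq.lift (pullback.fst i₂ (E.f i)) (pullback.snd i₂ (E.f i) ≫ Sigma.ι E.X i)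
      (by rw [Category.assoc, Sigma.ι_desc]; exact pullback.condition)
  exact isQuotientMap_of_isVCover f' (E.pullback₁ i₂) (Groth.Agent.S7471.result i₂ E hE) k
    (fun i => sq.lift_fst _ _ _)

end Groth.Agent.Lib.Helper51.VSubm
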