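import Mathlib
import Groth.Agent.S9630
import Groth.Agent.S1630
import Groth.Agent.Lib.Helper69.GeomDescent

/-!
# Geometric irreducibility / connectedness for schemes over a field (helper51)
-/

set_option autoImplicit false
universe u

namespace Groth.Agent.Lib.Helper51

open CategoryTheory CategoryTheory.Limits AlgebraicGeometry TensorProduct

/-- Over a separably closed field, a `k`-algebra with irreducible spectrum is geometrically
irreducible. -/
theorem irreducibleSpace_tensor_of_isSepClosed {k R : Type u} [Field k] [IsSepClosed k]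
    [CommRing R] [Algebra k R] [IrreducibleSpace (PrimeSpectrum R)]
    (k' : Type u) [Field k'] [Algebra k k'] : IrreducibleSpace (PrimeSpectrum (k' ⊗[k] R)) := by
  have key := ((Groth.Agent.S9630.result (k := k) (R := R)).out 2 0).mp
  refine key ?_ k'
  have hb : Function.Bijective (algebraMap k (SeparableClosure k)) :=
    ⟨(algebraMap k (SeparableClosure k)).injective,
      IsSepClosed.algebraMap_surjective k (SeparableClosure k)⟩
  let e0 : k ≃ₐ[k] SeparableClosure k := AlgEquiv.ofBijective (Algebra.ofId k _) hb
  let e1 : SeparableClosure k ⊗[k] R ≃ₐ[k] R :=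
    (Algebra.TensorProduct.congr e0.symm AlgEquiv.refl).trans (Algebra.TensorProduct.lid k R)
  exact (PrimeSpectrum.homeomorphOfRingEquiv e1.toRingEquiv).symm.irreducibleSpace_iff.mp
    inferInstance

/-- Over a separably closed field `k`, `Spec K ⟶ Spec k` is geometrically irreducible for every
field extension `K`. -/
theorem geometricallyIrreducible_specMap_of_isSepClosed (k K : Type u) [Field k] [IsSepClosed k]
    [Field K] [Algebra k K] :
    GeometricallyIrreducible (Spec.map (CommRingCat.ofHom (algebraMap k K))) := by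
  refine ⟨?_⟩
  rw [geometrically_iff_of_commRing_of_isClosedUnderIsomorphisms]
  intro K' _ _
  have h1 : IrreducibleSpace (PrimeSpectrum (K' ⊗[k] K)) :=
    irreducibleSpace_tensor_of_isSepClosed K'
  have h2 : IrreducibleSpace (PrimeSpectrum (K ⊗[k] K')) :=
    (PrimeSpectrum.homeomorphOfRingEquiv
      (Algebra.TensorProduct.comm k K' K).toRingEquiv).irreducibleSpace_iff.mp h1
  have h3 : IrreducibleSpace ↥(Spec (CommRingCat.of (K ⊗[k] K'))) := h2
  exact (pullbackSpecIso k K K').hom.homeomorph.irreducibleSpace_iff.mpr h3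

/-- Geometrically irreducible morphisms are geometrically connected. -/
theorem geometricallyConnected_of_geometricallyIrreducible {X Y : Scheme.{u}} (f : X ⟶ Y)
    [GeometricallyIrreducible f] : GeometricallyConnected f := by
  refine ⟨fun K _ y Z fst snd h => ?_⟩
  have : IrreducibleSpace Z :=
    GeometricallyIrreducible.geometrically_irreducibleSpace (f := f) y fst snd h
  infer_instance

/-- Over a separably closed field `k`, `Spec K ⟶ Spec k` is geometrically connected. -/
theorem geometricallyConnected_specMap_of_isSepClosed (k K : Type u) [Field k] [IsSepClosed k]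
    [Field K] [Algebra k K] :
    GeometricallyConnected (Spec.map (CommRingCat.ofHom (algebraMap k K))) := by
  haveI := geometricallyIrreducible_specMap_of_isSepClosed k K
  exact geometricallyConnected_of_geometricallyIrreducible _

/-- Preimages of connected sets under a continuous open map with connected fibres are connected. -/
theorem isConnected_preimage_of_isOpenMap {α β : Type*} [TopologicalSpace α] [TopologicalSpace β]
    {f : α → β} (hc : Continuous f) (ho : IsOpenMap f) (hfib : ∀ y, IsConnected (f ⁻¹' {y}))
    {s : Set β} (hs : IsConnected s) : IsConnected (f ⁻¹' s) := by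
  have hsurj : Function.Surjective f := fun y => by
    obtain ⟨x, hx⟩ := (hfib y).nonempty
    exact ⟨x, hx⟩
  let g : f ⁻¹' s → s := s.restrictPreimage f
  have hgc : Continuous g := hc.restrictPreimage
  have hgo : IsOpenMap g := ho.restrictPreimage s
  have hgs : Function.Surjective g := by
    rintro ⟨y, hy⟩
    obtain ⟨x, rfl⟩ := hsurj y
    exact ⟨⟨x, hy⟩, rfl⟩
  have hcoind : Topology.IsCoinducing g := (hgo.isQuotientMap hgc hgs).isCoinducing
  have hgfib : ∀ y : s, IsConnected (g ⁻¹' {y}) := by
    intro y
    have h1 : (Subtype.val : f ⁻¹' s → α) '' (g ⁻¹' {y}) = f ⁻¹' {(y : β)} := by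
      ext x
      constructor
      · rintro ⟨⟨x', hx'⟩, hx'y, rfl⟩
        have : g ⟨x', hx'⟩ = y := hx'y
        simpa [g, Subtype.ext_iff] using this
      · intro hx
        have hx1 : f x = y := hx
        refine ⟨⟨x, by simp [hx1]⟩, ?_, rfl⟩
        change g _ = y
        exact Subtype.ext hx1
    have h2 := hfib (y : β)
    rw [← h1] at h2
    exact ⟨(h2.nonempty.of_image),
      (Topology.IsInducing.subtypeVal.isPreconnected_image).mp h2.isPreconnected⟩
  haveI : ConnectedSpace s := isConnected_iff_connectedSpace.mp hs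
  have h3 : IsConnected (g ⁻¹' Set.univ) :=
    hcoind.isConnected_preimage_of_isClosed hgfib isClosed_univ isConnected_univ
  rw [Set.preimage_univ] at h3
  haveI : ConnectedSpace (f ⁻¹' s) := connectedSpace_iff_univ.mpr h3
  exact isConnected_iff_connectedSpace.mpr inferInstance



/-- Base change of an affine open `U ⊆ X` (over a field `k`) to a field extension `K` is the
spectrum of `Γ(X, U) ⊗[k] K`, for a suitable `k`-algebra structure on `Γ(X, U)` (independent of `K`). -/
theorem exists_algebra_bcOpenIso {k : Type u} [Field k] {X : Scheme.{u}}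
    (f : X ⟶ Spec (CommRingCat.of k)) {U : X.Opens} (hU : IsAffineOpen U) :
    ∃ (_ : Algebra k Γ(X, U)), ∀ (K : Type u) [Field K] [Algebra k K],
      Nonempty (((pullback.fst f (Spec.map (CommRingCat.ofHom (algebraMap k K))) ⁻¹ᵁ U :
        (pullback f (Spec.map (CommRingCat.ofHom (algebraMap k K)))).Opens) : Scheme.{u}) ≅
        Spec (CommRingCat.of (Γ(X, U) ⊗[k] K))) := by
  obtain ⟨φ, hφ⟩ := Spec.map_surjective (hU.isoSpec.inv ≫ U.ι ≫ f)
  letI alg : Algebra k Γ(X, U) := φ.hom.toAlgebra
  refine ⟨alg, fun K _ _ => ?_⟩
  let g := Spec.map (CommRingCat.ofHom (algebraMap k K))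
  have h : IsPullback (pullback.fst f g) (pullback.snd f g) f g := IsPullback.of_hasPullback _ _
  have hp : IsPullback (pullback.fst f g ∣_ U) ((pullback.fst f g ⁻¹ᵁ U).ι ≫ pullback.snd f g)
      (U.ι ≫ f) g :=
    (isPullback_morphismRestrict (pullback.fst f g) U).paste_vert h
  have hp' : IsPullback ((pullback.fst f g ∣_ U) ≫ hU.isoSpec.hom)
      ((pullback.fst f g ⁻¹ᵁ U).ι ≫ pullback.snd f g)
      (Spec.map (CommRingCat.ofHom (algebraMap k Γ(X, U)))) g := by
    refine hp.of_iso (Iso.refl _) hU.isoSpec (Iso.refl _) (Iso.refl _) (by simp) (by simp) ?_ (by simp)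
    have : CommRingCat.ofHom (algebraMap k Γ(X, U)) = φ := rfl
    rw [this, hφ]
    simp
  exact ⟨hp'.isoPullback ≪≫ pullbackSpecIso k Γ(X, U) K⟩



theorem surjective_pullback_fst_field {k : Type u} [Field k] {X : Scheme.{u}}
    (f : X ⟶ Spec (CommRingCat.of k)) (K : Type u) [Field K] [Algebra k K] :
    Surjective (pullback.fst f (Spec.map (CommRingCat.ofHom (algebraMap k K)))) := by
  have hs : Surjective (Spec.map (CommRingCat.ofHom (algebraMap k K))) := by
    refine ⟨fun a => ?_⟩
    obtain ⟨b⟩ : Nonempty (Spec (CommRingCat.of K)) := inferInstanceAs (Nonempty (PrimeSpectrum K))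
    haveI : Subsingleton (Spec (CommRingCat.of k)) := inferInstanceAs (Subsingleton (PrimeSpectrum k))
    exact ⟨b, Subsingleton.elim _ _⟩
  exact MorphismProperty.of_isPullback (IsPullback.of_hasPullback f _).flip hs

/-- Irreducibility of `X_K` can be checked on base changes of nonempty affine opens. -/
theorem irreducibleSpace_pullback_of_forall_affine {k : Type u} [Field k] {X : Scheme.{u}}
    (f : X ⟶ Spec (CommRingCat.of k)) [IrreducibleSpace X] (K : Type u) [Field K] [Algebra k K]
    (H : ∀ U : X.Opens, IsAffineOpen U → (U : Set X).Nonempty →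
      IrreducibleSpace ↥((pullback.fst f (Spec.map (CommRingCat.ofHom (algebraMap k K))) ⁻¹ᵁ U :
        (pullback f (Spec.map (CommRingCat.ofHom (algebraMap k K)))).Opens) : Scheme.{u})) :
    IrreducibleSpace ↥(pullback f (Spec.map (CommRingCat.ofHom (algebraMap k K)))) := by
  set fst := pullback.fst f (Spec.map (CommRingCat.ofHom (algebraMap k K))) with hfst
  have hsurj : Surjective fst := surjective_pullback_fst_field f K
  let ι := {U : X.affineOpens // ((U : X.Opens) : Set X).Nonempty}
  haveI : Nonempty ι := by
    obtain ⟨x⟩ : Nonempty X := inferInstance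
    obtain ⟨U, hU, hxU, -⟩ := exists_isAffineOpen_mem_and_subset (x := x) (U := ⊤) trivial
    exact ⟨⟨⟨U, hU⟩, ⟨x, hxU⟩⟩⟩
  refine Groth.Agent.S1630.irreducibleSpace_of_cover
    (fun i : ι => ((fst ⁻¹ᵁ (i.1 : X.Opens) : _) : Set _)) (fun i => (fst ⁻¹ᵁ (i.1 : X.Opens)).2) ?_ ?_ ?_
  · intro i
    haveI := H i.1.1 i.1.2 i.2
    have h1 : IsIrreducible (Set.range (fst ⁻¹ᵁ (i.1 : X.Opens)).ι) := by
      rw [← Set.image_univ]
      exact (IrreducibleSpace.isIrreducible_univ _).image _
        (fst ⁻¹ᵁ (i.1 : X.Opens)).ι.continuous.continuousOn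
    rwa [Scheme.Opens.range_ι] at h1
  · ext z
    simp only [Set.mem_iUnion, Set.mem_univ, iff_true]
    obtain ⟨U, hU, hxU, -⟩ := exists_isAffineOpen_mem_and_subset (x := fst z) (U := ⊤) trivial
    exact ⟨⟨⟨U, hU⟩, ⟨fst z, hxU⟩⟩, hxU⟩
  · intro i j
    obtain ⟨x, hxi, hxj⟩ : (((i.1 : X.Opens) : Set X) ∩ ((j.1 : X.Opens) : Set X)).Nonempty :=
      nonempty_preirreducible_inter (i.1 : X.Opens).2 (j.1 : X.Opens).2 i.2 j.2
    obtain ⟨z, rfl⟩ := hsurj.surj x
    exact ⟨z, hxi, hxj⟩



theorem irreducibleSpace_preimage_iff {k : Type u} [Field k] {X : Scheme.{u}}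
    (f : X ⟶ Spec (CommRingCat.of k)) (U : X.Opens) [Algebra k Γ(X, U)]
    (K : Type u) [Field K] [Algebra k K]
    (hiso : Nonempty (((pullback.fst f (Spec.map (CommRingCat.ofHom (algebraMap k K))) ⁻¹ᵁ U :
        (pullback f (Spec.map (CommRingCat.ofHom (algebraMap k K)))).Opens) : Scheme.{u}) ≅
        Spec (CommRingCat.of (Γ(X, U) ⊗[k] K)))) :
    IrreducibleSpace ↥((pullback.fst f (Spec.map (CommRingCat.ofHom (algebraMap k K))) ⁻¹ᵁ U :
        (pullback f (Spec.map (CommRingCat.ofHom (algebraMap k K)))).Opens) : Scheme.{u}) ↔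
      IrreducibleSpace (PrimeSpectrum (K ⊗[k] Γ(X, U))) := by
  obtain ⟨e⟩ := hiso
  rw [e.hom.homeomorph.irreducibleSpace_iff]
  exact (PrimeSpectrum.homeomorphOfRingEquiv
    (Algebra.TensorProduct.comm k Γ(X, U) K).toRingEquiv).irreducibleSpace_iff

theorem irreducibleSpace_preimage_of_irreducibleSpace {k : Type u} [Field k] {X : Scheme.{u}}
    (f : X ⟶ Spec (CommRingCat.of k)) (U : X.Opens) (hne : (U : Set X).Nonempty)
    (K : Type u) [Field K] [Algebra k K]
    [IrreducibleSpace ↥(pullback f (Spec.map (CommRingCat.ofHom (algebraMap k K))))] :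
    IrreducibleSpace ↥((pullback.fst f (Spec.map (CommRingCat.ofHom (algebraMap k K))) ⁻¹ᵁ U :
        (pullback f (Spec.map (CommRingCat.ofHom (algebraMap k K)))).Opens) : Scheme.{u}) := by
  haveI : Nonempty ↥((pullback.fst f (Spec.map (CommRingCat.ofHom (algebraMap k K))) ⁻¹ᵁ U :
        (pullback f (Spec.map (CommRingCat.ofHom (algebraMap k K)))).Opens) : Scheme.{u}) := by
    obtain ⟨x, hx⟩ := hne
    obtain ⟨z, rfl⟩ := (surjective_pullback_fst_field f K).surj x
    exact ⟨⟨z, hx⟩⟩
  exact (pullback.fst f (Spec.map (CommRingCat.ofHom (algebraMap k K))) ⁻¹ᵁ U).ι.isOpenEmbedding.irreducibleSpace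

theorem irreducibleSpace_of_pullback {k : Type u} [Field k] {X : Scheme.{u}}
    (f : X ⟶ Spec (CommRingCat.of k)) (K : Type u) [Field K] [Algebra k K]
    [IrreducibleSpace ↥(pullback f (Spec.map (CommRingCat.ofHom (algebraMap k K))))] :
    IrreducibleSpace X :=
  (surjective_pullback_fst_field f K).surj.irreducibleSpace
    (pullback.fst f (Spec.map (CommRingCat.ofHom (algebraMap k K)))).continuous

/-- If `X_{k'}` is irreducible for every finite separable `k'/k` then `X` is geometrically
irreducible. -/
theorem geometricallyIrreducible_of_forall_finite_separable {k : Type u} [Field k] {X : Scheme.{u}}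
    (f : X ⟶ Spec (CommRingCat.of k))
    (h : ∀ (k' : Type u) [Field k'] [Algebra k k'] [FiniteDimensional k k'] [Algebra.IsSeparable k k'],
      IrreducibleSpace ↥(pullback f (Spec.map (CommRingCat.ofHom (algebraMap k k'))))) :
    GeometricallyIrreducible f := by
  haveI : IrreducibleSpace X := by
    haveI := h k
    exact irreducibleSpace_of_pullback f k
  refine ⟨geometrically_iff_of_commRing_of_isClosedUnderIsomorphisms.mpr fun K _ _ => ?_⟩
  refine irreducibleSpace_pullback_of_forall_affine f K fun U hU hne => ?_
  obtain ⟨alg, hiso⟩ := exists_algebra_bcOpenIso f hU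
  letI := alg
  rw [irreducibleSpace_preimage_iff f U K (hiso K)]
  have key := ((Groth.Agent.S9630.result (k := k) (R := Γ(X, U))).out 1 0).mp
  refine key ?_ K
  intro k' _ _ _ _
  rw [← irreducibleSpace_preimage_iff f U k' (hiso k')]
  haveI := h k'
  exact irreducibleSpace_preimage_of_irreducibleSpace f U hne k'

/-- If `X_{k^sep}` is irreducible then `X` is geometrically irreducible. -/
theorem geometricallyIrreducible_of_separableClosure {k : Type u} [Field k] {X : Scheme.{u}}
    (f : X ⟶ Spec (CommRingCat.of k))
    [IrreducibleSpace ↥(pullback f (Spec.map (CommRingCat.ofHom (algebraMap k (SeparableClosure k)))))] :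
    GeometricallyIrreducible f := by
  haveI : IrreducibleSpace X := irreducibleSpace_of_pullback f (SeparableClosure k)
  refine ⟨geometrically_iff_of_commRing_of_isClosedUnderIsomorphisms.mpr fun K _ _ => ?_⟩
  refine irreducibleSpace_pullback_of_forall_affine f K fun U hU hne => ?_
  obtain ⟨alg, hiso⟩ := exists_algebra_bcOpenIso f hU
  letI := alg
  rw [irreducibleSpace_preimage_iff f U K (hiso K)]
  have key := ((Groth.Agent.S9630.result (k := k) (R := Γ(X, U))).out 2 0).mp
  refine key ?_ K
  rw [← irreducibleSpace_preimage_iff f U (SeparableClosure k) (hiso _)]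
  exact irreducibleSpace_preimage_of_irreducibleSpace f U hne _


/-- Over a separably closed field, irreducible schemes are geometrically irreducible. -/
theorem geometricallyIrreducible_of_isSepClosed {k : Type u} [Field k] [IsSepClosed k]
    {X : Scheme.{u}} (f : X ⟶ Spec (CommRingCat.of k)) [IrreducibleSpace X] :
    GeometricallyIrreducible f := by
  refine ⟨geometrically_iff_of_commRing_of_isClosedUnderIsomorphisms.mpr fun K _ _ => ?_⟩
  haveI := geometricallyIrreducible_specMap_of_isSepClosed k K
  infer_instance

/-- Over a separably closed field, connected schemes are geometrically connected. -/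
theorem geometricallyConnected_of_isSepClosed {k : Type u} [Field k] [IsSepClosed k]
    {X : Scheme.{u}} (f : X ⟶ Spec (CommRingCat.of k)) [ConnectedSpace X] :
    GeometricallyConnected f := by
  refine ⟨geometrically_iff_of_commRing_of_isClosedUnderIsomorphisms.mpr fun K _ _ => ?_⟩
  haveI := geometricallyConnected_specMap_of_isSepClosed k K
  infer_instance

/-- Geometric connectedness descends along a field extension of the base. -/
theorem geometricallyConnected_of_isPullback {k K : Type u} [Field k] [Field K] [Algebra k K]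
    {X X' : Scheme.{u}} (f : X ⟶ Spec (CommRingCat.of k)) (f' : X' ⟶ Spec (CommRingCat.of K))
    (q : X' ⟶ X) (sq : IsPullback q f' f (Spec.map (CommRingCat.ofHom (algebraMap k K))))
    [GeometricallyConnected f'] : GeometricallyConnected f := by
  have h : GeometricallyConnected f' := inferInstance
  rw [geometricallyConnected_iff] at h ⊢
  refine Groth.Agent.Lib.Helper69.geometrically_descent' _ (fun π _ hW => ?_)
    (Field.toIsField K) (Field.toIsField k) (CommRingCat.ofHom (algebraMap k K)) sq h
  have : ConnectedSpace _ := hW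
  exact π.surjective.connectedSpace π.continuous

/-- Geometric irreducibility descends along a field extension of the base. -/
theorem geometricallyIrreducible_of_isPullback {k K : Type u} [Field k] [Field K] [Algebra k K]
    {X X' : Scheme.{u}} (f : X ⟶ Spec (CommRingCat.of k)) (f' : X' ⟶ Spec (CommRingCat.of K))
    (q : X' ⟶ X) (sq : IsPullback q f' f (Spec.map (CommRingCat.ofHom (algebraMap k K))))
    [GeometricallyIrreducible f'] : GeometricallyIrreducible f := by
  have h : GeometricallyIrreducible f' := inferInstance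
  rw [geometricallyIrreducible_iff] at h ⊢
  refine Groth.Agent.Lib.Helper69.geometrically_descent' _ (fun π _ hW => ?_)
    (Field.toIsField K) (Field.toIsField k) (CommRingCat.ofHom (algebraMap k K)) sq h
  have : IrreducibleSpace _ := hW
  exact π.surjective.irreducibleSpace π.continuous

/-- If `X_{k^sep}` is connected then `X` is geometrically connected. -/
theorem geometricallyConnected_of_separableClosure {k : Type u} [Field k] {X : Scheme.{u}}
    (f : X ⟶ Spec (CommRingCat.of k))
    [ConnectedSpace ↥(pullback f (Spec.map (CommRingCat.ofHom (algebraMap k (SeparableClosure k)))))] :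
    GeometricallyConnected f := by
  haveI : GeometricallyConnected
      (pullback.snd f (Spec.map (CommRingCat.ofHom (algebraMap k (SeparableClosure k))))) :=
    geometricallyConnected_of_isSepClosed _
  exact geometricallyConnected_of_isPullback f
    (pullback.snd f (Spec.map (CommRingCat.ofHom (algebraMap k (SeparableClosure k)))))
    (pullback.fst f (Spec.map (CommRingCat.ofHom (algebraMap k (SeparableClosure k)))))
    (IsPullback.of_hasPullback _ _)

end Groth.Agent.Lib.Helper51
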