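import Mathlib

/-!
# Fields separably closed in an extension (helper51)

`k` is *separably closed in* `L` when every element of `L` separable over `k` lies in `k`.
* `irreducible_map_of_relSepClosed`: monic separable irreducible polynomials over `k` stay irreducible
  over `L`.
* `isDomain_tensor_of_relSepClosed`: `L ⊗[k] K` is a domain for `K/k` finite separable.
* `mem_range_of_irreducibleSpace_tensor`: conversely if `Spec (L ⊗[k] k⟮a⟯)` is irreducible for a
  separable `a : L`, then `a ∈ k`.
-/

set_option autoImplicit false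

namespace Groth.Agent.Lib.Helper51

open Polynomial TensorProduct IntermediateField



/-- If `k` is separably closed in `L`, a monic irreducible separable polynomial over `k` stays
irreducible over `L`. -/
theorem irreducible_map_of_relSepClosed {k L : Type*} [Field k] [Field L] [Algebra k L]
    (h : ∀ a : L, IsSeparable k a → a ∈ Set.range (algebraMap k L))
    {f : k[X]} (hf : Irreducible f) (hm : f.Monic) (hsep : f.Separable) :
    Irreducible (f.map (algebraMap k L)) := by
  classical
  let E := AlgebraicClosure L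
  set p := f.map (algebraMap k L) with hp
  have hpm : p.Monic := hm.map _
  have hpu : ¬ IsUnit p := by
    intro hu
    have h0 := natDegree_eq_zero_of_isUnit hu
    rw [hp, natDegree_map] at h0
    exact hf.not_isUnit (by
      rw [Polynomial.isUnit_iff_degree_eq_zero]
      · rw [degree_eq_natDegree hf.ne_zero, h0]; rfl)
  obtain ⟨g, hgm, hgi, hgp⟩ := exists_monic_irreducible_factor p hpu
  -- coefficients of g are separable over k
  have hcoef : ∀ n, g.coeff n ∈ Set.range (algebraMap k L) := by
    intro n
    apply h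
    let ι := algebraMap L E
    have hsplit : (g.map ι).Splits := IsAlgClosed.splits _
    have hprod := hsplit.eq_prod_roots_of_monic (hgm.map ι)
    let S := separableClosure k E
    have hroots : ∀ r ∈ (g.map ι).roots, r ∈ S := by
      intro r hr
      rw [mem_separableClosure_iff]
      have hr0 : (g.map ι).eval r = 0 := (mem_roots (hgm.map ι).ne_zero).mp hr
      have hr1 : aeval r f = 0 := by
        obtain ⟨q, hq⟩ := hgp
        have : (p.map ι).eval r = 0 := by
          rw [hq, Polynomial.map_mul, eval_mul, hr0, zero_mul]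
        rw [hp, Polynomial.map_map, ← IsScalarTower.algebraMap_eq] at this
        rwa [aeval_def, eval₂_eq_eval_map]
      have hint : IsIntegral k r := ⟨f, hm, hr1⟩
      exact hsep.of_dvd (minpoly.dvd k r hr1)
    have hlift : g.map ι ∈ lifts (algebraMap S E) := by
      rw [hprod]
      rw [lifts_iff_liftsRing]
      refine Subring.multiset_prod_mem _ _ ?_
      intro q hq
      obtain ⟨r, hr, rfl⟩ := Multiset.mem_map.mp hq
      have hX : (X : E[X]) ∈ liftsRing (algebraMap S E) :=
        (lifts_iff_liftsRing _ _).mp (X_mem_lifts _)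
      have hC : C r ∈ liftsRing (algebraMap S E) :=
        (lifts_iff_liftsRing _ _).mp (C'_mem_lifts ⟨⟨r, hroots r hr⟩, rfl⟩)
      exact Subring.sub_mem _ hX hC
    obtain ⟨s, hs⟩ := (lifts_iff_coeff_lifts _).mp hlift n
    rw [coeff_map] at hs
    have hmem : (IsScalarTower.toAlgHom k L E) (g.coeff n) ∈ separableClosure k E := by
      change ι (g.coeff n) ∈ S
      rw [← hs]; exact s.2
    exact mem_separableClosure_iff.mp ((map_mem_separableClosure_iff _).mp hmem)
  have hglift : g ∈ lifts (algebraMap k L) := (lifts_iff_coeff_lifts _).mpr hcoef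
  obtain ⟨g₀, hg₀, hdeg, hg₀m⟩ := lifts_and_degree_eq_and_monic hglift hgm
  have hdvd : g₀ ∣ f := by
    rw [← map_dvd_map' (algebraMap k L), hg₀]; exact hgp
  have hg₀u : ¬ IsUnit g₀ := by
    intro hu
    apply hgi.not_isUnit
    rw [← hg₀]
    exact hu.map (mapRingHom (algebraMap k L))
  have hassoc : Associated g₀ f := by
    obtain ⟨q, hq⟩ := hdvd
    rcases hf.isUnit_or_isUnit hq with h1 | h1
    · exact absurd h1 hg₀u
    · exact ⟨h1.unit, by simp [hq]⟩
  have : g₀ = f := eq_of_monic_of_associated hg₀m hm hassoc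
  rw [hp, ← this, hg₀]
  exact hgi



theorem prime_of_prime_mapEquiv {A B : Type*} [CommRing A] [CommRing B] (r : A ≃+* B) (q : A[X])
    (h : Prime (Polynomial.mapEquiv r q)) : Prime q :=
  (MulEquiv.prime_iff (Polynomial.mapEquiv r)).mp h

theorem isDomain_tensor_of_relSepClosed {k L K : Type*} [Field k] [Field L] [Algebra k L]
    [Field K] [Algebra k K] [FiniteDimensional k K] [Algebra.IsSeparable k K]
    (h : ∀ a : L, IsSeparable k a → a ∈ Set.range (algebraMap k L)) :
    IsDomain (L ⊗[k] K) := by
  obtain ⟨α, hα⟩ := Field.exists_primitive_element k K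
  have hint : IsIntegral k α := Algebra.IsIntegral.isIntegral α
  set f := minpoly k α with hf
  have hirr : Irreducible f := minpoly.irreducible hint
  have hmon : f.Monic := minpoly.monic hint
  have hsep : f.Separable := Algebra.IsSeparable.isSeparable k α
  have hirrL := irreducible_map_of_relSepClosed h hirr hmon hsep
  let e₁ : AdjoinRoot f ≃ₐ[k] K :=
    (adjoinRootEquivAdjoin k hint).trans ((IntermediateField.equivOfEq hα).trans topEquiv)
  let q : (L ⊗[k] k)[X] := f.map (Algebra.TensorProduct.includeRight (R := k) (A := L) (B := k)).toRingHom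
  let e₂ : L ⊗[k] AdjoinRoot f ≃ₐ[L] AdjoinRoot q := AdjoinRoot.tensorAlgEquiv f q rfl
  let e₃ : L ⊗[k] K ≃ₐ[L] L ⊗[k] AdjoinRoot f :=
    Algebra.TensorProduct.congr AlgEquiv.refl e₁.symm
  let r : (L ⊗[k] k) ≃+* L := (Algebra.TensorProduct.rid k L L).toRingEquiv
  have hq : Polynomial.mapEquiv r q = f.map (algebraMap k L) := by
    simp only [q, Polynomial.mapEquiv_apply, Polynomial.map_map]
    congr 1
    ext x
    simp [r, Algebra.algebraMap_eq_smul_one]
  have hprime : Prime q := by
    apply prime_of_prime_mapEquiv r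
    rw [hq]
    exact hirrL.prime
  have : IsDomain (AdjoinRoot q) := AdjoinRoot.isDomain_of_prime hprime
  exact (e₃.trans e₂).toMulEquiv.isDomain _



theorem subsingleton_primeSpectrum_of_finite_of_irreducibleSpace (L R : Type*) [Field L]
    [CommRing R] [Algebra L R] [Module.Finite L R] [IrreducibleSpace (PrimeSpectrum R)] :
    Subsingleton (PrimeSpectrum R) := by
  have : IsArtinianRing R := IsArtinianRing.of_finite L R
  have h1 : IsPreirreducible (Set.univ : Set (PrimeSpectrum R)) :=
    (IrreducibleSpace.isIrreducible_univ _).isPreirreducible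
  rw [isPreirreducible_iff_subsingleton] at h1
  exact ⟨fun x y => h1 (Set.mem_univ x) (Set.mem_univ y)⟩

theorem mem_range_of_irreducibleSpace_tensor {k L : Type*} [Field k] [Field L] [Algebra k L]
    (a : L) (ha : IsSeparable k a) [IrreducibleSpace (PrimeSpectrum (L ⊗[k] k⟮a⟯))] :
    a ∈ Set.range (algebraMap k L) := by
  classical
  have hint : IsIntegral k a := ha.isIntegral
  have : FiniteDimensional k k⟮a⟯ := adjoin.finiteDimensional hint
  have hsub : Subsingleton (PrimeSpectrum (L ⊗[k] k⟮a⟯)) :=
    subsingleton_primeSpectrum_of_finite_of_irreducibleSpace L (L ⊗[k] k⟮a⟯)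
  let E := AlgebraicClosure L
  have key : ∀ x : {x // x ∈ (minpoly k a).aroots E}, (x : E) = algebraMap L E a := by
    intro x
    let σ : k⟮a⟯ →ₐ[k] E := (algHomAdjoinIntegralEquiv k hint).symm x
    have hσ : σ (AdjoinSimple.gen k a) = x := algHomAdjoinIntegralEquiv_symm_apply_gen k hint x
    let σ₀ : k⟮a⟯ →ₐ[k] E := (IsScalarTower.toAlgHom k L E).comp (k⟮a⟯.val)
    have hσ₀ : σ₀ (AdjoinSimple.gen k a) = algebraMap L E a := rfl
    let ψ : (L ⊗[k] k⟮a⟯) →ₐ[k] E :=
      Algebra.TensorProduct.productMap (IsScalarTower.toAlgHom k L E) σ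
    let ψ₀ : (L ⊗[k] k⟮a⟯) →ₐ[k] E :=
      Algebra.TensorProduct.productMap (IsScalarTower.toAlgHom k L E) σ₀
    let P : PrimeSpectrum (L ⊗[k] k⟮a⟯) := ⟨RingHom.ker ψ.toRingHom, RingHom.ker_isPrime _⟩
    let P₀ : PrimeSpectrum (L ⊗[k] k⟮a⟯) := ⟨RingHom.ker ψ₀.toRingHom, RingHom.ker_isPrime _⟩
    have hPP : P = P₀ := Subsingleton.elim _ _
    have ht0 : (a ⊗ₜ[k] 1 - 1 ⊗ₜ[k] AdjoinSimple.gen k a : L ⊗[k] k⟮a⟯) ∈ P₀.asIdeal := by
      change ψ₀ _ = 0
      rw [map_sub]
      simp only [ψ₀]
      rw [Algebra.TensorProduct.productMap_apply_tmul, Algebra.TensorProduct.productMap_apply_tmul,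
        hσ₀]
      simp
    rw [← hPP] at ht0
    have h2 : ψ (a ⊗ₜ[k] 1 - 1 ⊗ₜ[k] AdjoinSimple.gen k a) = 0 := ht0
    rw [map_sub] at h2
    simp only [ψ] at h2
    rw [Algebra.TensorProduct.productMap_apply_tmul, Algebra.TensorProduct.productMap_apply_tmul,
      hσ] at h2
    simp only [map_one, mul_one, one_mul, IsScalarTower.coe_toAlgHom'] at h2
    rw [sub_eq_zero] at h2
    exact h2.symm
  have hsplit : ((minpoly k a).map (algebraMap k E)).Splits := IsAlgClosed.splits _
  have hcard := card_rootSet_eq_natDegree (K := E) ha hsplit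
  have hle : Fintype.card ((minpoly k a).rootSet E) ≤ 1 := by
    rw [Fintype.card_le_one_iff]
    intro x y
    have hx : (x : E) ∈ (minpoly k a).aroots E := by
      have := x.2
      rw [mem_rootSet] at this
      rw [mem_aroots]; exact this
    have hy : (y : E) ∈ (minpoly k a).aroots E := by
      have := y.2
      rw [mem_rootSet] at this
      rw [mem_aroots]; exact this
    ext
    rw [key ⟨x, hx⟩, key ⟨y, hy⟩]
  have hpos : 0 < (minpoly k a).natDegree := minpoly.natDegree_pos hint
  have h1 : (minpoly k a).natDegree = 1 := by omega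
  exact (minpoly.natDegree_eq_one_iff.mp h1)


end Groth.Agent.Lib.Helper51
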