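import Mathlib
import Groth.Prelude.Def_CurvBase
import Groth.Agent.Lib.Helper51.GeomIrr
import Groth.Agent.Lib.Helper51.RelSepClosed

/-!
# Irreducibility of a base change via the generic fibre (helper51)

* `specMap_resMapOf`, `specMap_resMap`: `Spec κ(x) ⟶ X ⟶ Spec k` is `Spec` of `Curv2.resMap k X x`.
* `irreducibleSpace_pullback_iff_genericFibre`: for `ξ` the generic point of `X` over `k`,
  `X_K` is irreducible iff `Spec (κ(ξ) ⊗[k] K)` is.
-/

set_option autoImplicit false
universe u
open CategoryTheory CategoryTheory.Limits AlgebraicGeometry TensorProduct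

namespace Groth.Agent.Lib.Helper51

theorem fromSpecStalk_appTop' {X : Scheme.{u}} (x : X) :
    (X.fromSpecStalk x).appTop ≫ (Scheme.ΓSpecIso (X.presheaf.stalk x)).hom = X.presheaf.germ ⊤ x trivial := by
  rw [Scheme.fromSpecStalk_appTop]
  simp

theorem specMap_resMapOf {k : Type u} [Field k] {X : Scheme.{u}} (f : X ⟶ Spec (CommRingCat.of k)) (x : X) :
    Spec.map (CommRingCat.ofHom ((X.residue x).hom.comp ((X.presheaf.germ ⊤ x trivial).hom.comp (Coh.toGlobal f)))) = X.fromSpecResidueField x ≫ f := by
  apply ext_of_isAffine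
  rw [← cancel_mono (Scheme.ΓSpecIso (X.residueField x)).hom, Scheme.ΓSpecIso_naturality]
  rw [Scheme.Hom.comp_appTop, Scheme.fromSpecResidueField, Scheme.Hom.comp_appTop]
  simp only [Category.assoc]
  rw [Scheme.ΓSpecIso_naturality, ← Category.assoc (X.fromSpecStalk x).appTop, fromSpecStalk_appTop']
  ext a
  simp [Coh.toGlobal]

theorem specMap_resMap (k : Type u) [Field k] (X : Scheme.{u}) [X.Over (Spec (CommRingCat.of k))]
    (x : X) :
    Spec.map (CommRingCat.ofHom (Curv2.resMap k X x)) =
      X.fromSpecResidueField x ≫ (X ↘ Spec (CommRingCat.of k)) :=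
  specMap_resMapOf _ x


/-- A subset of an irreducible space containing a generic point is irreducible. -/
theorem isIrreducible_of_genericPoint_mem {α : Type*} [TopologicalSpace α] {η : α}
    (hη : IsGenericPoint η Set.univ) {S : Set α} (hS : η ∈ S) : IsIrreducible S := by
  refine ⟨⟨η, hS⟩, ?_⟩
  intro U V hU hV hSU hSV
  have h1 : η ∈ U := (hη.mem_open_set_iff hU).mpr (by
    obtain ⟨x, -, hx⟩ := hSU; exact ⟨x, Set.mem_univ _, hx⟩)
  have h2 : η ∈ V := (hη.mem_open_set_iff hV).mpr (by
    obtain ⟨x, -, hx⟩ := hSV; exact ⟨x, Set.mem_univ _, hx⟩)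
  exact ⟨η, hS, h1, h2⟩

/-- The base change `X_K` of an irreducible `k`-scheme is irreducible iff the base change of its
generic fibre `Spec (κ(ξ) ⊗[k] K)` is. -/
theorem irreducibleSpace_pullback_iff_genericFibre {k K : Type u} [Field k] [Field K] [Algebra k K]
    {X : Scheme.{u}} (f : X ⟶ Spec (CommRingCat.of k)) (ξ : X) (hξ : IsGenericPoint ξ Set.univ)
    [Algebra k (X.residueField ξ)]
    (hφ : Spec.map (CommRingCat.ofHom (algebraMap k (X.residueField ξ))) =
      X.fromSpecResidueField ξ ≫ f) :
    IrreducibleSpace ↥(pullback f (Spec.map (CommRingCat.ofHom (algebraMap k K)))) ↔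
      IrreducibleSpace (PrimeSpectrum (X.residueField ξ ⊗[k] K)) := by
  set gK := Spec.map (CommRingCat.ofHom (algebraMap k K)) with hgK
  set π := pullback.fst f gK with hπ
  have hsurj : Surjective π := surjective_pullback_fst_field f K
  have hopen : IsOpenMap π := by
    have : UniversallyOpen gK := inferInstance
    have : UniversallyOpen π := inferInstance
    exact π.isOpenMap
  -- the fibre
  have e1 : π.fiber ξ ≅ Spec (CommRingCat.of (X.residueField ξ ⊗[k] K)) :=
    (pullbackSymmetry _ _) ≪≫ pullbackRightPullbackFstIso f gK (X.fromSpecResidueField ξ) ≪≫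
      pullback.congrHom hφ.symm rfl ≪≫ pullbackSpecIso k (X.residueField ξ) K
  have hfib : IrreducibleSpace (PrimeSpectrum (X.residueField ξ ⊗[k] K)) ↔
      IsIrreducible (π ⁻¹' {ξ}) := by
    have h2 : IrreducibleSpace (PrimeSpectrum (X.residueField ξ ⊗[k] K)) ↔
        IrreducibleSpace (π ⁻¹' {ξ}) :=
      (e1.symm.hom.homeomorph.trans (π.fiberHomeo ξ)).irreducibleSpace_iff
    rw [h2]
    exact (isIrreducible_iff_irreducibleSpace).symm
  rw [hfib]
  constructor
  · intro hirr
    have hη := genericPoint_spec ↥(pullback f gK)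
    have h1 : IsGenericPoint (π (genericPoint ↥(pullback f gK))) (Set.univ : Set X) := by
      have := hη.image π.continuous
      rwa [Set.image_univ, hsurj.surj.range_eq, closure_univ] at this
    have h2 : π (genericPoint ↥(pullback f gK)) = ξ := h1.eq hξ
    exact isIrreducible_of_genericPoint_mem hη h2
  · intro hirr
    have huniv : IsPreirreducible (Set.univ : Set X) := by
      rw [← hξ.def]
      exact isIrreducible_singleton.closure.isPreirreducible
    have h1 : IsPreirreducible (π ⁻¹' Set.univ) := by
      refine IsPreirreducible.preimage_of_dense_isPreirreducible_fiber huniv π hopen ?_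
      have : ({ξ} : Set X) ⊆ Set.univ ∩ {x | IsPreirreducible (π ⁻¹' {x})} := by
        rintro x rfl
        exact ⟨Set.mem_univ _, hirr.isPreirreducible⟩
      refine subset_trans ?_ (closure_mono this)
      rw [hξ.def]
    rw [Set.preimage_univ] at h1
    haveI : Nonempty ↥(pullback f gK) := by
      obtain ⟨x, -⟩ := hirr.nonempty
      exact ⟨x⟩
    haveI : PreirreducibleSpace ↥(pullback f gK) := ⟨h1⟩
    exact ⟨inferInstance⟩


open IntermediateField in
/-- If `X_L` is irreducible and `k ⊆ K ⊆ L` then `X_K` is irreducible. -/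
theorem irreducibleSpace_pullback_of_tower {k : Type u} [Field k] {X : Scheme.{u}}
    (f : X ⟶ Spec (CommRingCat.of k)) (K L : Type u) [Field K] [Field L] [Algebra k K]
    [Algebra k L] [Algebra K L] [IsScalarTower k K L]
    [IrreducibleSpace ↥(pullback f (Spec.map (CommRingCat.ofHom (algebraMap k L))))] :
    IrreducibleSpace ↥(pullback f (Spec.map (CommRingCat.ofHom (algebraMap k K)))) := by
  set gK := Spec.map (CommRingCat.ofHom (algebraMap k K)) with hgK
  set h := Spec.map (CommRingCat.ofHom (algebraMap K L)) with hh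
  have hgL : Spec.map (CommRingCat.ofHom (algebraMap k L)) = h ≫ gK := by
    rw [hh, hgK, ← Spec.map_comp, ← CommRingCat.ofHom_comp, ← IsScalarTower.algebraMap_eq]
  have e : pullback f (Spec.map (CommRingCat.ofHom (algebraMap k L))) ≅
      pullback (pullback.snd f gK) h :=
    pullback.congrHom rfl hgL ≪≫ (pullbackLeftPullbackSndIso f gK h).symm
  haveI : IrreducibleSpace ↥(pullback (pullback.snd f gK) h) :=
    e.hom.homeomorph.irreducibleSpace_iff.mp inferInstance
  haveI : Surjective h := Groth.Agent.Lib.Helper69.surjective_specMap_field _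
  have hs : Surjective (pullback.fst (pullback.snd f gK) h) := inferInstance
  exact hs.surj.irreducibleSpace (pullback.fst (pullback.snd f gK) h).continuous

open IntermediateField in
/-- If `X` is irreducible with generic point `ξ` and `X_{κ(ξ)}` is irreducible, then `X` is
geometrically irreducible. -/
theorem geometricallyIrreducible_of_pullback_residueField_genericPoint {k : Type u} [Field k]
    {X : Scheme.{u}} (f : X ⟶ Spec (CommRingCat.of k)) (ξ : X) (hξ : IsGenericPoint ξ Set.univ)
    [Algebra k (X.residueField ξ)]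
    (hφ : Spec.map (CommRingCat.ofHom (algebraMap k (X.residueField ξ))) =
      X.fromSpecResidueField ξ ≫ f)
    [IrreducibleSpace ↥(pullback f (Spec.map (CommRingCat.ofHom (algebraMap k (X.residueField ξ)))))] :
    GeometricallyIrreducible f := by
  have h : ∀ a : X.residueField ξ, IsSeparable k a →
      a ∈ Set.range (algebraMap k (X.residueField ξ)) := by
    intro a ha
    haveI : IrreducibleSpace ↥(pullback f (Spec.map (CommRingCat.ofHom (algebraMap k k⟮a⟯)))) :=
      irreducibleSpace_pullback_of_tower f k⟮a⟯ (X.residueField ξ)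
    have hirr := (irreducibleSpace_pullback_iff_genericFibre (K := k⟮a⟯) f ξ hξ hφ).mp inferInstance
    exact mem_range_of_irreducibleSpace_tensor a ha
  refine geometricallyIrreducible_of_forall_finite_separable _ ?_
  intro K _ _ _ _
  rw [irreducibleSpace_pullback_iff_genericFibre f ξ hξ hφ]
  have hdom : IsDomain (X.residueField ξ ⊗[k] K) := isDomain_tensor_of_relSepClosed h
  infer_instance

/-- The fibre of a surjective morphism from an irreducible scheme over the generic point is
irreducible. -/
theorem irreducibleSpace_fiber_genericPoint {X Y : Scheme.{u}} (π : Y ⟶ X) [IrreducibleSpace Y]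
    [Surjective π] (ξ : X) (hξ : IsGenericPoint ξ Set.univ) : IrreducibleSpace ↥(π.fiber ξ) := by
  have hη := genericPoint_spec ↥Y
  have h1 : IsGenericPoint (π (genericPoint ↥Y)) (Set.univ : Set X) := by
    have := hη.image π.continuous
    rwa [Set.image_univ, π.surjective.range_eq, closure_univ] at this
  have h2 : π (genericPoint ↥Y) = ξ := h1.eq hξ
  have h3 : IsIrreducible (π ⁻¹' {ξ}) := isIrreducible_of_genericPoint_mem hη h2
  haveI := isIrreducible_iff_irreducibleSpace.mp h3
  exact (π.fiberHomeo ξ).irreducibleSpace_iff.mpr inferInstance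



/-- The fibre of `X_K ⟶ X` over `x` is `Spec (κ(x) ⊗[k] K)`. -/
noncomputable def fiberFstIsoSpecTensor {k K : Type u} [Field k] [Field K] [Algebra k K]
    {X : Scheme.{u}} (f : X ⟶ Spec (CommRingCat.of k)) (x : X)
    [Algebra k (X.residueField x)]
    (hφ : Spec.map (CommRingCat.ofHom (algebraMap k (X.residueField x))) =
      X.fromSpecResidueField x ≫ f) :
    (pullback.fst f (Spec.map (CommRingCat.ofHom (algebraMap k K)))).fiber x ≅
      Spec (CommRingCat.of (X.residueField x ⊗[k] K)) :=
  (pullbackSymmetry _ _) ≪≫ pullbackRightPullbackFstIso f _ (X.fromSpecResidueField x) ≪≫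
      pullback.congrHom hφ.symm rfl ≪≫ pullbackSpecIso k (X.residueField x) K

/-- The fibre of `X_K ⟶ X` over a `k`-rational point is a single point. -/
theorem subsingleton_preimage_of_rational {k K : Type u} [Field k] [Field K] [Algebra k K]
    {X : Scheme.{u}} (f : X ⟶ Spec (CommRingCat.of k)) (x : X)
    [Algebra k (X.residueField x)]
    (hφ : Spec.map (CommRingCat.ofHom (algebraMap k (X.residueField x))) =
      X.fromSpecResidueField x ≫ f)
    (hx : Function.Surjective (algebraMap k (X.residueField x))) :
    (pullback.fst f (Spec.map (CommRingCat.ofHom (algebraMap k K))) ⁻¹' {x}).Subsingleton := by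
  have h1 : Function.Surjective
      (Algebra.TensorProduct.includeRight : K →ₐ[k] X.residueField x ⊗[k] K) :=
    Algebra.TensorProduct.includeRight_surjective K hx
  have h2 : Subsingleton (PrimeSpectrum (X.residueField x ⊗[k] K)) :=
    (PrimeSpectrum.comap_injective_of_surjective _ h1).subsingleton
  have h2' : Subsingleton ↥(Spec (CommRingCat.of (X.residueField x ⊗[k] K))) := h2
  have h3 : Subsingleton ↥((pullback.fst f (Spec.map (CommRingCat.ofHom (algebraMap k K)))).fiber x) :=
    (fiberFstIsoSpecTensor f x hφ).hom.homeomorph.injective.subsingleton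
  have h4 : Subsingleton ↥(pullback.fst f (Spec.map (CommRingCat.ofHom (algebraMap k K))) ⁻¹' {x}) :=
    ((pullback.fst f (Spec.map (CommRingCat.ofHom (algebraMap k K)))).fiberHomeo x).symm.injective.subsingleton
  exact Set.subsingleton_coe _ |>.mp h4

/-- An irreducible `k`-scheme with dense set of rational points is geometrically irreducible. -/
theorem geometricallyIrreducible_of_dense_rational {k : Type u} [Field k]
    {X : Scheme.{u}} (f : X ⟶ Spec (CommRingCat.of k)) [IrreducibleSpace X]
    (alg : ∀ x : X, Algebra k (X.residueField x))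
    (hφ : ∀ x : X, Spec.map (CommRingCat.ofHom (@algebraMap k (X.residueField x) _ _ (alg x))) =
      X.fromSpecResidueField x ≫ f)
    (hd : Dense {x : X | Function.Surjective (@algebraMap k (X.residueField x) _ _ (alg x))}) :
    GeometricallyIrreducible f := by
  refine ⟨geometrically_iff_of_commRing_of_isClosedUnderIsomorphisms.mpr fun K _ _ => ?_⟩
  set π := pullback.fst f (Spec.map (CommRingCat.ofHom (algebraMap k K))) with hπ
  have hsurj : Surjective π := surjective_pullback_fst_field f K
  have hopen : IsOpenMap π := by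
    have : UniversallyOpen (Spec.map (CommRingCat.ofHom (algebraMap k K))) := inferInstance
    have : UniversallyOpen π := inferInstance
    exact π.isOpenMap
  haveI : Nonempty ↥(pullback f (Spec.map (CommRingCat.ofHom (algebraMap k K)))) := by
    obtain ⟨x⟩ : Nonempty X := inferInstance
    obtain ⟨z, -⟩ := hsurj.surj x
    exact ⟨z⟩
  haveI : PreirreducibleSpace ↥(pullback f (Spec.map (CommRingCat.ofHom (algebraMap k K)))) := by
    refine ⟨?_⟩
    rintro U V hU hV ⟨u, -, hu⟩ ⟨v, -, hv⟩
    have hU' : IsOpen (π '' U) := hopen U hU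
    have hV' : IsOpen (π '' V) := hopen V hV
    obtain ⟨y, hyU, hyV⟩ : ((π '' U) ∩ (π '' V)).Nonempty :=
      nonempty_preirreducible_inter hU' hV' ⟨π u, u, hu, rfl⟩ ⟨π v, v, hv, rfl⟩
    obtain ⟨x, hxW, hx⟩ := hd.inter_open_nonempty _ (hU'.inter hV') ⟨y, hyU, hyV⟩
    obtain ⟨z₁, hz₁, hz₁x⟩ := hxW.1
    obtain ⟨z₂, hz₂, hz₂x⟩ := hxW.2
    letI := alg x
    have hss := subsingleton_preimage_of_rational (K := K) f x (hφ x) hx
    have : z₁ = z₂ := hss hz₁x hz₂x
    subst this
    exact ⟨z₁, Set.mem_univ _, hz₁, hz₂⟩
  exact ⟨inferInstance⟩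



/-- A generalizing map to a space with generic point `η` whose fibre over `η` has a generic point
has irreducible source. -/
theorem irreducibleSpace_of_generalizingMap {Y Z : Type*} [TopologicalSpace Y] [TopologicalSpace Z]
    {a : Y → Z} (hg : GeneralizingMap a) {η : Z} (hη : IsGenericPoint η Set.univ)
    {ζ : Y} (hζ : a ⁻¹' {η} ⊆ closure {ζ}) : IrreducibleSpace Y := by
  have huniv : closure ({ζ} : Set Y) = Set.univ := by
    rw [Set.eq_univ_iff_forall]
    intro y
    have h1 : η ⤳ a y := by
      rw [specializes_iff_mem_closure, hη.def]; exact Set.mem_univ _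
    obtain ⟨y', hy', hy'η⟩ := hg h1
    have h2 : y' ∈ closure {ζ} := hζ hy'η
    have h3 : ζ ⤳ y' := specializes_iff_mem_closure.mpr h2
    exact specializes_iff_mem_closure.mp (h3.trans hy')
  haveI : Nonempty Y := ⟨ζ⟩
  haveI : PreirreducibleSpace Y := ⟨by
    rw [← huniv]; exact isIrreducible_singleton.closure.isPreirreducible⟩
  exact ⟨inferInstance⟩

/-- A flat morphism to an irreducible scheme whose generic fibre is irreducible has irreducible
source. -/
theorem irreducibleSpace_of_flat_of_fiber {Y Z : Scheme.{u}} (a : Y ⟶ Z) [Flat a] (η : Z)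
    (hη : IsGenericPoint η Set.univ) [IrreducibleSpace ↥(a.fiber η)] : IrreducibleSpace Y := by
  have hζ₀ := genericPoint_spec ↥(a.fiber η)
  refine irreducibleSpace_of_generalizingMap (Flat.generalizingMap a) hη
    (ζ := a.fiberι η (genericPoint ↥(a.fiber η))) ?_
  rw [← a.range_fiberι η, ← Set.image_univ, ← hζ₀.def, ← Set.image_singleton]
  exact image_closure_subset_closure_image (a.fiberι η).continuous

theorem geometricallyIrreducible_of_flat_of_genericFibre {k : Type u} [Field k] {X C : Scheme.{u}}
    (c : C ⟶ Spec (CommRingCat.of k)) (f : X ⟶ C) [IrreducibleSpace C]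
    [GeometricallyIrreducible c] [Flat f]
    [GeometricallyIrreducible (f.fiberToSpecResidueField (genericPoint C))] :
    GeometricallyIrreducible (f ≫ c) := by
  refine ⟨geometrically_iff_of_commRing_of_isClosedUnderIsomorphisms.mpr fun K _ _ => ?_⟩
  set gK := Spec.map (CommRingCat.ofHom (algebraMap k K)) with hgK
  set p := pullback.fst c gK with hp
  haveI : IrreducibleSpace ↥(pullback c gK) :=
    GeometricallyIrreducible.geometrically_irreducibleSpace (f := c) _ _ _ (IsPullback.of_hasPullback _ _)
  have hsurj : Surjective p := surjective_pullback_fst_field c K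
  have hη' := genericPoint_spec ↥(pullback c gK)
  have h1 : IsGenericPoint (p (genericPoint ↥(pullback c gK))) (Set.univ : Set C) := by
    have := hη'.image p.continuous
    rwa [Set.image_univ, hsurj.surj.range_eq, closure_univ] at this
  have h2 : p (genericPoint ↥(pullback c gK)) = genericPoint C := h1.eq (genericPoint_spec C)
  have h3 : GeometricallyIrreducible
      ((pullback.snd f p).fiberToSpecResidueField (genericPoint ↥(pullback c gK))) := by
    rw [Groth.Agent.Lib.Helper69.geometricallyIrreducible_fibre_iff f p (pullback.snd f p)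
      (pullback.fst f p) (IsPullback.of_hasPullback f p), h2]
    infer_instance
  haveI : IrreducibleSpace ↥((pullback.snd f p).fiber (genericPoint ↥(pullback c gK))) :=
    GeometricallyIrreducible.irreducibleSpace_of_subsingleton
      ((pullback.snd f p).fiberToSpecResidueField (genericPoint ↥(pullback c gK)))
  haveI : IrreducibleSpace ↥(pullback f p) :=
    irreducibleSpace_of_flat_of_fiber (pullback.snd f p) _ hη'
  exact (pullbackRightPullbackFstIso c gK f).hom.homeomorph.irreducibleSpace_iff.mp inferInstance


end Groth.Agent.Lib.Helper51
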