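import Mathlib

/-!
# Irreducible components and generalizing maps (helper51)
-/

set_option autoImplicit false
universe u

namespace Groth.Agent.Lib.Helper51

open Topology

variable {Y Z : Type*} [TopologicalSpace Y] [TopologicalSpace Z]

/-- The closure of a point is an irreducible component iff the point is maximal for
generization (one direction). -/
theorem eq_of_specializes_of_closure_mem_irreducibleComponents [T0Space Z] {η η' : Z}
    (hη : closure {η} ∈ irreducibleComponents Z) (h : η' ⤳ η) : η' = η := by
  have h1 : closure {η} ⊆ closure {η'} := by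
    rw [← specializes_iff_closure_subset]; exact h
  have h2 : closure {η'} ⊆ closure {η} :=
    hη.2 isIrreducible_singleton.closure h1
  have h3 : η ⤳ η' := by
    rw [specializes_iff_closure_subset]; exact h2
  exact (h.antisymm h3).eq

/-- Every point has a generization whose closure is an irreducible component containing it. -/
theorem exists_specializes_closure_mem_irreducibleComponents [QuasiSober Y] (y : Y) :
    ∃ ζ : Y, ζ ⤳ y ∧ closure {ζ} ∈ irreducibleComponents Y := by
  have hW := irreducibleComponent_mem_irreducibleComponents y
  have hcl : IsClosed (irreducibleComponent y) := isClosed_irreducibleComponent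
  obtain ⟨ζ, hζ⟩ := QuasiSober.sober hW.1 hcl
  refine ⟨ζ, ?_, ?_⟩
  · rw [specializes_iff_mem_closure, hζ.def]
    exact mem_irreducibleComponent
  · rw [hζ.def]; exact hW

/-- For a continuous generalizing map, the image of a maximal point is a maximal point. -/
theorem closure_image_mem_irreducibleComponents [QuasiSober Y] [QuasiSober Z] [T0Space Y]
    {a : Y → Z} (hg : GeneralizingMap a) {ζ : Y}
    (hζ : closure {ζ} ∈ irreducibleComponents Y) : closure {a ζ} ∈ irreducibleComponents Z := by
  obtain ⟨w, hw1, hw2⟩ := exists_specializes_closure_mem_irreducibleComponents (a ζ)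
  obtain ⟨ζ', hζ', rfl⟩ := hg hw1
  have : ζ' = ζ := eq_of_specializes_of_closure_mem_irreducibleComponents hζ hζ'
  subst this
  exact hw2

/-- For a continuous generalizing map `a`, the preimage of an irreducible component is the union
of the irreducible components of the source contained in it. -/
theorem preimage_irreducibleComponent_eq_sUnion [QuasiSober Y] [QuasiSober Z] [T0Space Z]
    {a : Y → Z} (hc : Continuous a) (hg : GeneralizingMap a) {T : Set Z}
    (hT : T ∈ irreducibleComponents Z) :
    a ⁻¹' T = ⋃₀ {W : Set Y | W ∈ irreducibleComponents Y ∧ W ⊆ a ⁻¹' T} := by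
  apply Set.Subset.antisymm
  · intro y hy
    have hTcl : IsClosed T := isClosed_of_mem_irreducibleComponents T hT
    obtain ⟨η, hη⟩ := QuasiSober.sober hT.1 hTcl
    have hηy : η ⤳ a y := by
      rw [specializes_iff_mem_closure, hη.def]; exact hy
    obtain ⟨y', hy', hay'⟩ := hg hηy
    obtain ⟨ζ, hζy', hζ⟩ := exists_specializes_closure_mem_irreducibleComponents y'
    have haζ : a ζ ⤳ η := hay' ▸ hζy'.map hc
    have hηT : closure {η} ∈ irreducibleComponents Z := by rw [hη.def]; exact hT
    have haζη : a ζ = η := eq_of_specializes_of_closure_mem_irreducibleComponents hηT haζ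
    refine ⟨closure {ζ}, ⟨hζ, ?_⟩, ?_⟩
    · intro z hz
      have : ζ ⤳ z := specializes_iff_mem_closure.mpr hz
      have h2 : a ζ ⤳ a z := this.map hc
      rw [haζη] at h2
      have : a z ∈ closure {η} := specializes_iff_mem_closure.mp h2
      rwa [hη.def] at this
    · exact specializes_iff_mem_closure.mp (hζy'.trans hy')
  · rintro y ⟨W, ⟨-, hW⟩, hyW⟩
    exact hW hyW

/-- For a continuous generalizing map, the closure of the image of an irreducible component is an
irreducible component. -/
theorem closure_image_mem_irreducibleComponents' [QuasiSober Y] [QuasiSober Z] [T0Space Y]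
    {a : Y → Z} (hc : Continuous a) (hg : GeneralizingMap a) {T : Set Y}
    (hT : T ∈ irreducibleComponents Y) : closure (a '' T) ∈ irreducibleComponents Z := by
  have hTcl : IsClosed T := isClosed_of_mem_irreducibleComponents T hT
  obtain ⟨ζ, hζ⟩ := QuasiSober.sober hT.1 hTcl
  have h1 : closure (a '' T) = closure {a ζ} := by
    rw [← hζ.def, closure_image_closure hc, Set.image_singleton]
  rw [h1]
  exact closure_image_mem_irreducibleComponents hg (by rw [hζ.def]; exact hT)

/-- For a continuous generalizing surjective map, every irreducible component of the target is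
the closure of the image of an irreducible component of the source. -/
theorem exists_irreducibleComponent_closure_image_eq [QuasiSober Y] [QuasiSober Z] [T0Space Z]
    {a : Y → Z} (hc : Continuous a) (hs : Function.Surjective a) {W : Set Z}
    (hW : W ∈ irreducibleComponents Z) :
    ∃ T ∈ irreducibleComponents Y, closure (a '' T) = W := by
  have hWcl : IsClosed W := isClosed_of_mem_irreducibleComponents W hW
  obtain ⟨w, hw⟩ := QuasiSober.sober hW.1 hWcl
  obtain ⟨y, rfl⟩ := hs w
  obtain ⟨ζ, hζy, hζ⟩ := exists_specializes_closure_mem_irreducibleComponents y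
  have h1 : a ζ ⤳ a y := hζy.map hc
  have h2 : a ζ = a y :=
    eq_of_specializes_of_closure_mem_irreducibleComponents (by rw [hw.def]; exact hW) h1
  refine ⟨closure {ζ}, hζ, ?_⟩
  rw [closure_image_closure hc, Set.image_singleton, h2, hw.def]

/-- Cardinality bound on irreducible components along a continuous generalizing surjection. -/
theorem mk_irreducibleComponents_le {Y Z : Type u} [TopologicalSpace Y] [TopologicalSpace Z]
    [QuasiSober Y] [QuasiSober Z] [T0Space Y] [T0Space Z]
    {a : Y → Z} (hc : Continuous a) (hg : GeneralizingMap a) (hs : Function.Surjective a) :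
    Cardinal.mk ↥(irreducibleComponents Z) ≤ Cardinal.mk ↥(irreducibleComponents Y) := by
  let Φ : ↥(irreducibleComponents Y) → ↥(irreducibleComponents Z) :=
    fun T => ⟨closure (a '' T.1), closure_image_mem_irreducibleComponents' hc hg T.2⟩
  refine Cardinal.mk_le_of_surjective (f := Φ) ?_
  rintro ⟨W, hW⟩
  obtain ⟨T, hT, hTW⟩ := exists_irreducibleComponent_closure_image_eq hc hs hW
  exact ⟨⟨T, hT⟩, Subtype.ext hTW⟩

end Groth.Agent.Lib.Helper51
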