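import Mathlib
import Groth.Agent.Lib.Helper51.GeomIrr
import Groth.Agent.Lib.Helper51.IrrComp

/-!
# Comparing base changes to two field extensions (helper51)
-/

set_option autoImplicit false
universe u

namespace Groth.Agent.Lib.Helper51

open CategoryTheory CategoryTheory.Limits AlgebraicGeometry TensorProduct

/-- Two base changes `X_K`, `X_Ω` of a `k`-scheme are dominated by a common scheme `Y`, which is a
base change of `X_Ω` along a field extension `Ω → E` and maps surjectively and flatly to `X_K`. -/
theorem exists_common_bc {k K Ω : Type u} [Field k] [Field K] [Field Ω] [Algebra k K] [Algebra k Ω]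
    {X : Scheme.{u}} (f : X ⟶ Spec (CommRingCat.of k)) :
    ∃ (E : Type u) (_ : Field E) (_ : Algebra Ω E) (Y : Scheme.{u})
      (a : Y ⟶ pullback f (Spec.map (CommRingCat.ofHom (algebraMap k K))))
      (b : Y ⟶ pullback f (Spec.map (CommRingCat.ofHom (algebraMap k Ω))))
      (s : Y ⟶ Spec (CommRingCat.of E)),
      Surjective a ∧ Flat a ∧
      IsPullback b s (pullback.snd f (Spec.map (CommRingCat.ofHom (algebraMap k Ω))))
        (Spec.map (CommRingCat.ofHom (algebraMap Ω E))) := by
  obtain ⟨E, _, α, β, hαβ⟩ := Groth.Agent.Lib.Helper69.exists_common_field_ext k K Ω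
    (algebraMap k K) (algebraMap k Ω)
  letI : Algebra Ω E := β.toAlgebra
  set gK := Spec.map (CommRingCat.ofHom (algebraMap k K)) with hgK
  set gΩ := Spec.map (CommRingCat.ofHom (algebraMap k Ω)) with hgΩ
  let sβ := Spec.map (CommRingCat.ofHom (algebraMap Ω E))
  let sα := Spec.map (CommRingCat.ofHom α)
  have hcomp : sβ ≫ gΩ = sα ≫ gK := by
    simp only [sβ, sα, hgK, hgΩ]
    rw [← Spec.map_comp, ← Spec.map_comp]
    congr 1
    ext x
    exact (congrFun (congrArg DFunLike.coe hαβ) x).symm
  let Y := pullback (pullback.snd f gΩ) sβ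
  let b : Y ⟶ pullback f gΩ := pullback.fst _ _
  let s : Y ⟶ Spec (CommRingCat.of E) := pullback.snd _ _
  have s1 : IsPullback b s (pullback.snd f gΩ) sβ := IsPullback.of_hasPullback _ _
  have hW : IsPullback (pullback.fst f gΩ) (pullback.snd f gΩ) f gΩ := IsPullback.of_hasPullback _ _
  have big := s1.paste_horiz hW
  rw [hcomp] at big
  have sq : IsPullback (pullback.fst f gK) (pullback.snd f gK) f gK := IsPullback.of_hasPullback _ _
  let a : Y ⟶ pullback f gK :=
    sq.lift (b ≫ pullback.fst f gΩ) (s ≫ sα) (by have := big.w; simp only [Category.assoc] at this ⊢; exact this)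
  have hl1 : a ≫ pullback.fst f gK = b ≫ pullback.fst f gΩ := sq.lift_fst _ _ _
  have hl2 : a ≫ pullback.snd f gK = s ≫ sα := sq.lift_snd _ _ _
  rw [← hl1] at big
  have left := IsPullback.of_right big hl2 sq
  have hsα : Surjective sα := Groth.Agent.Lib.Helper69.surjective_specMap_field α
  have hfα : Flat sα := inferInstance
  exact ⟨E, inferInstance, inferInstance, Y, a, b, s,
    MorphismProperty.of_isPullback left.flip hsα, MorphismProperty.of_isPullback left.flip hfα, s1⟩

end Groth.Agent.Lib.Helper51
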