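import Mathlib
import Groth.Prelude.Def_FDesc
import Groth.Agent.S2150
import Groth.Agent.Lib.Helper51.GenFibre
import Groth.Agent.Lib.Helper51.GeomCard

/-!
# Geometric connectedness via a geometrically connected subset (helper51)
-/

set_option autoImplicit false
universe u
open CategoryTheory CategoryTheory.Limits AlgebraicGeometry TensorProduct

namespace Groth.Agent.Lib.Helper51


/-- Let `π` be a continuous, open, closed, surjective map, `C` a connected subset of the target and
`S ⊆ C` a nonempty subset with preconnected preimage. Then `π ⁻¹' C` is connected. -/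
theorem isConnected_preimage_of_isOpenMap_of_isClosedMap {α β : Type*} [TopologicalSpace α]
    [TopologicalSpace β] {π : α → β} (ho : IsOpenMap π) (hcl : IsClosedMap π)
    (hsurj : Function.Surjective π) {C S : Set β} (hC : IsConnected C) (hSC : S ⊆ C)
    (hS : S.Nonempty) (hpre : IsPreconnected (π ⁻¹' S)) : IsConnected (π ⁻¹' C) := by
  refine ⟨?_, ?_⟩
  · obtain ⟨c, hc⟩ := hC.nonempty
    obtain ⟨a, rfl⟩ := hsurj c
    exact ⟨a, hc⟩
  · intro U V hU hV hUV hUne hVne
    by_contra hcon
    rw [Set.not_nonempty_iff_eq_empty] at hcon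
    -- key: every point of `C` has a preimage in `U`
    have key : ∀ U V : Set α, IsOpen U → IsOpen V → π ⁻¹' C ⊆ U ∪ V →
        (π ⁻¹' C ∩ U).Nonempty → π ⁻¹' C ∩ (U ∩ V) = ∅ → ∀ c ∈ C, ∃ a ∈ U, π a = c := by
      intro U V hU hV hUV hUne hcon c hc
      have hU' : IsOpen (π '' U) := ho U hU
      have hV' : IsOpen (π '' Vᶜ)ᶜ := (hcl _ hV.isClosed_compl).isOpen_compl
      have hcov : C ⊆ π '' U ∪ (π '' Vᶜ)ᶜ := by
        intro c hc
        by_cases h : c ∈ π '' Vᶜ
        · obtain ⟨w, hw, rfl⟩ := h
          rcases hUV hc with h1 | h1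
          · exact Or.inl ⟨w, h1, rfl⟩
          · exact absurd h1 hw
        · exact Or.inr h
      have h1 : (C ∩ π '' U).Nonempty := by
        obtain ⟨a, haC, haU⟩ := hUne
        exact ⟨π a, haC, a, haU, rfl⟩
      by_contra hnot
      have h2 : (C ∩ (π '' Vᶜ)ᶜ).Nonempty := by
        refine ⟨c, hc, ?_⟩
        rintro ⟨w, hw, rfl⟩
        rcases hUV hc with h3 | h3
        · exact hnot ⟨w, h3, rfl⟩
        · exact hw h3
      obtain ⟨d, hdC, ⟨u, hu, rfl⟩, hd2⟩ := hC.isPreconnected _ _ hU' hV' hcov h1 h2
      apply hd2
      refine ⟨u, ?_, rfl⟩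
      intro huV
      have : u ∈ π ⁻¹' C ∩ (U ∩ V) := ⟨hdC, hu, huV⟩
      rw [hcon] at this
      exact this
    obtain ⟨s, hs⟩ := hS
    obtain ⟨a, haU, has⟩ := key U V hU hV hUV hUne hcon s (hSC hs)
    have hcon' : π ⁻¹' C ∩ (V ∩ U) = ∅ := by rw [Set.inter_comm V U]; exact hcon
    obtain ⟨b, hbV, hbs⟩ := key V U hV hU (by rw [Set.union_comm]; exact hUV) hVne hcon' s (hSC hs)
    have hsub : π ⁻¹' S ⊆ U ∪ V := fun x hx => hUV (hSC hx)
    obtain ⟨z, hzS, hzUV⟩ := hpre U V hU hV hsub ⟨a, by rw [Set.mem_preimage, has]; exact hs, haU⟩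
      ⟨b, by rw [Set.mem_preimage, hbs]; exact hs, hbV⟩
    have : z ∈ π ⁻¹' C ∩ (U ∩ V) := ⟨hSC hzS, hzUV⟩
    rw [hcon] at this
    exact this


/-- The projection `X_{k^sep} ⟶ X` is a closed map. -/
theorem isClosedMap_pullback_fst_of_isIntegral {k : Type u} [Field k] {X : Scheme.{u}}
    (f : X ⟶ Spec (CommRingCat.of k)) (K : Type u) [Field K] [Algebra k K] [Algebra.IsIntegral k K] :
    IsClosedMap (pullback.fst f (Spec.map (CommRingCat.ofHom (algebraMap k K)))) := by
  have h1 : IsIntegralHom (Spec.map (CommRingCat.ofHom (algebraMap k K))) := by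
    rw [IsIntegralHom.SpecMap_iff]
    exact algebraMap_isIntegral_iff.mpr inferInstance
  have h2 : IsIntegralHom (pullback.fst f (Spec.map (CommRingCat.ofHom (algebraMap k K)))) :=
    inferInstance
  exact (pullback.fst f (Spec.map (CommRingCat.ofHom (algebraMap k K)))).isClosedMap

theorem isOpenMap_pullback_fst_field {k : Type u} [Field k] {X : Scheme.{u}}
    (f : X ⟶ Spec (CommRingCat.of k)) (K : Type u) [Field K] [Algebra k K] :
    IsOpenMap (pullback.fst f (Spec.map (CommRingCat.ofHom (algebraMap k K)))) := by
  have : UniversallyOpen (Spec.map (CommRingCat.ofHom (algebraMap k K))) := inferInstance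
  have : UniversallyOpen (pullback.fst f (Spec.map (CommRingCat.ofHom (algebraMap k K)))) :=
    inferInstance
  exact (pullback.fst f (Spec.map (CommRingCat.ofHom (algebraMap k K)))).isOpenMap

/-- A connected `k`-scheme containing a nonempty subset whose preimage in `X_{k^sep}` is
preconnected is geometrically connected. -/
theorem geometricallyConnected_of_isPreconnected_preimage {k : Type u} [Field k] {X : Scheme.{u}}
    (f : X ⟶ Spec (CommRingCat.of k)) [ConnectedSpace X] {S : Set X} (hS : S.Nonempty)
    (hpre : _root_.IsPreconnected ((pullback.fst f (Spec.map (CommRingCat.ofHom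
      (algebraMap k (SeparableClosure k))))) ⁻¹' S)) :
    GeometricallyConnected f := by
  have h1 := isConnected_preimage_of_isOpenMap_of_isClosedMap
    (isOpenMap_pullback_fst_field f (SeparableClosure k))
    (isClosedMap_pullback_fst_of_isIntegral f (SeparableClosure k))
    (surjective_pullback_fst_field f (SeparableClosure k)).surj
    isConnected_univ (Set.subset_univ S) hS hpre
  rw [Set.preimage_univ] at h1
  haveI : ConnectedSpace ↥(pullback f (Spec.map (CommRingCat.ofHom
      (algebraMap k (SeparableClosure k))))) := connectedSpace_iff_univ.mpr h1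
  exact geometricallyConnected_of_separableClosure f


/-- If `k` is separably closed in `κ(x)`, the fibre of `X_K ⟶ X` over `x` is irreducible. -/
theorem isIrreducible_preimage_singleton_of_relSepClosed {k : Type u} [Field k] {X : Scheme.{u}}
    (f : X ⟶ Spec (CommRingCat.of k)) (K : Type u) [Field K] [Algebra k K] (x : X)
    [Algebra k (X.residueField x)]
    (hφ : Spec.map (CommRingCat.ofHom (algebraMap k (X.residueField x))) =
      X.fromSpecResidueField x ≫ f)
    (h : ∀ a : X.residueField x, IsSeparable k a → a ∈ Set.range (algebraMap k (X.residueField x))) :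
    IsIrreducible ((pullback.fst f (Spec.map (CommRingCat.ofHom (algebraMap k K)))) ⁻¹' {x}) := by
  haveI h1 : IrreducibleSpace (PrimeSpectrum (K ⊗[k] X.residueField x)) :=
    (Groth.Agent.S2150.result).mpr h K
  haveI h2 : IrreducibleSpace (PrimeSpectrum (X.residueField x ⊗[k] K)) :=
    (PrimeSpectrum.homeomorphOfRingEquiv
      (Algebra.TensorProduct.comm k K (X.residueField x)).toRingEquiv).irreducibleSpace_iff.mp
        inferInstance
  haveI h2' : IrreducibleSpace ↥(Spec (CommRingCat.of (X.residueField x ⊗[k] K))) := h2
  haveI h3 : IrreducibleSpace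
      ↥((pullback.fst f (Spec.map (CommRingCat.ofHom (algebraMap k K)))).fiber x) :=
    (fiberFstIsoSpecTensor f x hφ).hom.homeomorph.irreducibleSpace_iff.mpr inferInstance
  haveI h4 : IrreducibleSpace
      ↥((pullback.fst f (Spec.map (CommRingCat.ofHom (algebraMap k K)))) ⁻¹' {x}) :=
    ((pullback.fst f (Spec.map (CommRingCat.ofHom (algebraMap k K)))).fiberHomeo x).irreducibleSpace_iff.mp
      inferInstance
  exact isIrreducible_iff_irreducibleSpace.mpr h4

/-- A connected `k`-scheme with a point `x` such that `k` is separably closed in `κ(x)` is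
geometrically connected. -/
theorem geometricallyConnected_of_relSepClosed_point {k : Type u} [Field k] {X : Scheme.{u}}
    (f : X ⟶ Spec (CommRingCat.of k)) [ConnectedSpace X] (x : X)
    [Algebra k (X.residueField x)]
    (hφ : Spec.map (CommRingCat.ofHom (algebraMap k (X.residueField x))) =
      X.fromSpecResidueField x ≫ f)
    (h : ∀ a : X.residueField x, IsSeparable k a → a ∈ Set.range (algebraMap k (X.residueField x))) :
    GeometricallyConnected f :=
  geometricallyConnected_of_isPreconnected_preimage f (Set.singleton_nonempty x)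
    (isIrreducible_preimage_singleton_of_relSepClosed f _ x hφ h).isPreirreducible.isPreconnected



/-- If `Y ⟶ X` is a `k`-morphism with `Y` geometrically connected over `k`, the preimage in `X_K`
of the image of `Y` is connected. -/
theorem isConnected_preimage_range_of_geometricallyConnected {k : Type u} [Field k]
    {X Y : Scheme.{u}} (g : Y ⟶ X) (f : X ⟶ Spec (CommRingCat.of k))
    [GeometricallyConnected (g ≫ f)] (K : Type u) [Field K] [Algebra k K] :
    _root_.IsConnected ((pullback.fst f (Spec.map (CommRingCat.ofHom (algebraMap k K)))) ⁻¹' Set.range g) := by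
  set gK := Spec.map (CommRingCat.ofHom (algebraMap k K)) with hgK
  set π := pullback.fst f gK with hπ
  haveI : ConnectedSpace ↥(pullback (g ≫ f) gK) :=
    GeometricallyConnected.geometrically_connectedSpace (f := g ≫ f) _ _ _
      (IsPullback.of_hasPullback _ _)
  haveI : ConnectedSpace ↥(pullback g π) :=
    (pullbackRightPullbackFstIso f gK g).hom.homeomorph.symm.surjective.connectedSpace
      (pullbackRightPullbackFstIso f gK g).hom.homeomorph.symm.continuous
  rw [← Scheme.Pullback.range_snd g π]
  exact isConnected_range (pullback.snd g π).continuous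

theorem geometricallyConnected_of_hom_of_geometricallyConnected {k : Type u} [Field k]
    {X Y : Scheme.{u}} (g : Y ⟶ X) (f : X ⟶ Spec (CommRingCat.of k)) [Nonempty Y]
    [ConnectedSpace X] [GeometricallyConnected (g ≫ f)] : GeometricallyConnected f :=
  geometricallyConnected_of_isPreconnected_preimage f (Set.range_nonempty g)
    (isConnected_preimage_range_of_geometricallyConnected g f (SeparableClosure k)).isPreconnected



/-- Strengthening of `exists_common_bc` which also records compatibility with the projections to `X`. -/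
theorem exists_common_bc' {k K Ω : Type u} [Field k] [Field K] [Field Ω] [Algebra k K] [Algebra k Ω]
    {X : Scheme.{u}} (f : X ⟶ Spec (CommRingCat.of k)) :
    ∃ (E : Type u) (_ : Field E) (_ : Algebra Ω E) (Y : Scheme.{u})
      (a : Y ⟶ pullback f (Spec.map (CommRingCat.ofHom (algebraMap k K))))
      (b : Y ⟶ pullback f (Spec.map (CommRingCat.ofHom (algebraMap k Ω))))
      (s : Y ⟶ Spec (CommRingCat.of E)),
      Surjective a ∧ Flat a ∧
      IsPullback b s (pullback.snd f (Spec.map (CommRingCat.ofHom (algebraMap k Ω))))
        (Spec.map (CommRingCat.ofHom (algebraMap Ω E))) ∧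
      a ≫ pullback.fst f (Spec.map (CommRingCat.ofHom (algebraMap k K))) =
        b ≫ pullback.fst f (Spec.map (CommRingCat.ofHom (algebraMap k Ω))) := by
  obtain ⟨E, _, α, β, hαβ⟩ := Groth.Agent.Lib.Helper69.exists_common_field_ext k K Ω
    (algebraMap k K) (algebraMap k Ω)
  letI : Algebra Ω E := β.toAlgebra
  set gK := Spec.map (CommRingCat.ofHom (algebraMap k K)) with hgK
  set gΩ := Spec.map (CommRingCat.ofHom (algebraMap k Ω)) with hgΩ
  let sβ := Spec.map (CommRingCat.ofHom (algebraMap Ω E))
  let sα := Spec.map (CommRingCat.ofHom α)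
  have hcomp : sβ ≫ gΩ = sα ≫ gK := by
    simp only [sβ, sα, hgK, hgΩ]
    rw [← Spec.map_comp, ← Spec.map_comp]
    congr 1
    ext x
    exact (congrFun (congrArg DFunLike.coe hαβ) x).symm
  let Y := pullback (pullback.snd f gΩ) sβ
  let b : Y ⟶ pullback f gΩ := pullback.fst _ _
  let s : Y ⟶ Spec (CommRingCat.of E) := pullback.snd _ _
  have s1 : IsPullback b s (pullback.snd f gΩ) sβ := IsPullback.of_hasPullback _ _
  have hW : IsPullback (pullback.fst f gΩ) (pullback.snd f gΩ) f gΩ := IsPullback.of_hasPullback _ _
  have big := s1.paste_horiz hW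
  rw [hcomp] at big
  have sq : IsPullback (pullback.fst f gK) (pullback.snd f gK) f gK := IsPullback.of_hasPullback _ _
  let a : Y ⟶ pullback f gK :=
    sq.lift (b ≫ pullback.fst f gΩ) (s ≫ sα) (by have := big.w; simp only [Category.assoc] at this ⊢; exact this)
  have hl1 : a ≫ pullback.fst f gK = b ≫ pullback.fst f gΩ := sq.lift_fst _ _ _
  have hl2 : a ≫ pullback.snd f gK = s ≫ sα := sq.lift_snd _ _ _
  have hl1' := hl1
  rw [← hl1] at big
  have left := IsPullback.of_right big hl2 sq
  have hsα : Surjective sα := Groth.Agent.Lib.Helper69.surjective_specMap_field α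
  have hfα : Flat sα := inferInstance
  exact ⟨E, inferInstance, inferInstance, Y, a, b, s,
    MorphismProperty.of_isPullback left.flip hsα, MorphismProperty.of_isPullback left.flip hfα, s1, hl1'⟩

/-- If the preimage of `Z ⊆ X` in `X_Ω` is connected for some separably closed `Ω`, then its
preimage in `X_K` is connected for every field extension `K/k`. -/
theorem isConnected_preimage_of_isSepClosed {k : Type u} [Field k] {X : Scheme.{u}}
    (f : X ⟶ Spec (CommRingCat.of k)) (Ω : Type u) [Field Ω] [Algebra k Ω] [IsSepClosed Ω]
    {Z : Set X}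
    (hZ : _root_.IsConnected ((pullback.fst f (Spec.map (CommRingCat.ofHom (algebraMap k Ω)))) ⁻¹' Z))
    (K : Type u) [Field K] [Algebra k K] :
    _root_.IsConnected ((pullback.fst f (Spec.map (CommRingCat.ofHom (algebraMap k K)))) ⁻¹' Z) := by
  obtain ⟨E, _, _, Y, a, b, s, ha, -, sq, hab⟩ := exists_common_bc' (K := K) (Ω := Ω) f
  haveI : GeometricallyConnected (Spec.map (CommRingCat.ofHom (algebraMap Ω E))) :=
    geometricallyConnected_specMap_of_isSepClosed Ω E
  have hb1 : GeometricallyConnected b :=
    MorphismProperty.of_isPullback (P := @GeometricallyConnected) sq.flip inferInstance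
  have hb2 : UniversallyOpen b :=
    MorphismProperty.of_isPullback (P := @UniversallyOpen) sq.flip inferInstance
  have h1 := isConnected_preimage_of_isOpenMap b.continuous b.isOpenMap
    (fun y => b.isConnected_preimage_singleton y) hZ
  have h2 : b ⁻¹' ((pullback.fst f (Spec.map (CommRingCat.ofHom (algebraMap k Ω)))) ⁻¹' Z) =
      a ⁻¹' ((pullback.fst f (Spec.map (CommRingCat.ofHom (algebraMap k K)))) ⁻¹' Z) := by
    ext y
    simp only [Set.mem_preimage]
    have := congrArg (fun φ : Y ⟶ X => φ y) hab
    simp only [Scheme.Hom.comp_apply] at this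
    rw [this]
  rw [h2] at h1
  have h3 := h1.image a a.continuous.continuousOn
  rwa [Set.image_preimage_eq _ ha.surj] at h3


/-- Let `C ⊆ X` be a connected subset of a `k`-scheme containing a nonempty subset `S` whose preimage
in `X_{k^sep}` is preconnected. Then the preimage of `C` in `X_K` is connected for every `K/k`. -/
theorem isConnected_preimage_of_isPreconnected_preimage {k : Type u} [Field k] {X : Scheme.{u}}
    (f : X ⟶ Spec (CommRingCat.of k)) {C S : Set X} (hC : _root_.IsConnected C) (hSC : S ⊆ C)
    (hS : S.Nonempty)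
    (hpre : _root_.IsPreconnected ((pullback.fst f (Spec.map (CommRingCat.ofHom
      (algebraMap k (SeparableClosure k))))) ⁻¹' S))
    (K : Type u) [Field K] [Algebra k K] :
    _root_.IsConnected ((pullback.fst f (Spec.map (CommRingCat.ofHom (algebraMap k K)))) ⁻¹' C) := by
  have h1 := isConnected_preimage_of_isOpenMap_of_isClosedMap
    (isOpenMap_pullback_fst_field f (SeparableClosure k))
    (isClosedMap_pullback_fst_of_isIntegral f (SeparableClosure k))
    (surjective_pullback_fst_field f (SeparableClosure k)).surj
    hC hSC hS hpre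
  exact isConnected_preimage_of_isSepClosed f (SeparableClosure k) h1 K


/-- For a continuous open surjection with connected fibres, clopen sets are saturated and have
clopen image. -/
theorem isClopen_image_of_connected_fibres {α β : Type*} [TopologicalSpace α] [TopologicalSpace β]
    {π : α → β} (ho : IsOpenMap π) (hsurj : Function.Surjective π)
    (hfib : ∀ b, IsPreconnected (π ⁻¹' {b})) {U : Set α} (hU : IsClopen U) :
    IsClopen (π '' U) ∧ π ⁻¹' (π '' U) = U := by
  have hsat : ∀ V : Set α, IsClopen V → π ⁻¹' (π '' V) = V := by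
    intro V hV
    apply Set.Subset.antisymm
    · rintro a ⟨u, hu, hua⟩
      have h1 : π ⁻¹' {π a} ⊆ V :=
        (hfib (π a)).subset_isClopen hV ⟨u, hua, hu⟩
      exact h1 rfl
    · exact Set.subset_preimage_image π V
  refine ⟨⟨?_, ho U hU.isOpen⟩, hsat U hU⟩
  have hc : (π '' U)ᶜ = π '' Uᶜ := by
    ext b
    constructor
    · intro hb
      obtain ⟨a, rfl⟩ := hsurj b
      exact ⟨a, fun ha => hb ⟨a, ha, rfl⟩, rfl⟩
    · rintro ⟨a, ha, rfl⟩ hb
      have : a ∈ π ⁻¹' (π '' U) := hb
      rw [hsat U hU] at this
      exact ha this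
  rw [← isOpen_compl_iff, hc]
  exact ho _ hU.compl.isOpen

theorem existsUnique_idempotent_tensor {k R S : Type u} [Field k] [CommRing R] [CommRing S]
    [Algebra k R] [Algebra k S]
    (hS : ∀ (k' : Type u) [Field k'] [Algebra k k'], ConnectedSpace (PrimeSpectrum (k' ⊗[k] S)))
    (x : R ⊗[k] S) (hx : IsIdempotentElem x) :
    ∃! e : R, IsIdempotentElem e ∧ algebraMap R (R ⊗[k] S) e = x := by
  have hGC : GeometricallyConnected (Spec.map (CommRingCat.ofHom (algebraMap k S))) := by
    refine ⟨geometrically_iff_of_commRing_of_isClosedUnderIsomorphisms.mpr fun K _ _ => ?_⟩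
    have h1 : ConnectedSpace ↥(Spec (CommRingCat.of (S ⊗[k] K))) := by
      have h2 := hS K
      exact (PrimeSpectrum.homeomorphOfRingEquiv
        (Algebra.TensorProduct.comm k K S).toRingEquiv).surjective.connectedSpace
        (PrimeSpectrum.homeomorphOfRingEquiv
        (Algebra.TensorProduct.comm k K S).toRingEquiv).continuous
    exact (pullbackSpecIso k S K).hom.homeomorph.symm.surjective.connectedSpace
      (pullbackSpecIso k S K).hom.homeomorph.symm.continuous
  have hUO : UniversallyOpen (Spec.map (CommRingCat.ofHom (algebraMap k S))) := inferInstance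
  set π := Spec.map (CommRingCat.ofHom (algebraMap R (R ⊗[k] S))) with hπ
  have sq : IsPullback π
      (Spec.map (CommRingCat.ofHom (S := R ⊗[k] S) Algebra.TensorProduct.includeRight.toRingHom))
      (Spec.map (CommRingCat.ofHom (algebraMap k R)))
      (Spec.map (CommRingCat.ofHom (algebraMap k S))) :=
    isPullback_SpecMap_of_isPushout _ _ _ _ (CommRingCat.isPushout_tensorProduct k R S)
  have h1 : GeometricallyConnected π :=
    MorphismProperty.of_isPullback (P := @GeometricallyConnected) sq.flip hGC
  have h2 : UniversallyOpen π :=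
    MorphismProperty.of_isPullback (P := @UniversallyOpen) sq.flip hUO
  have hclopen : IsClopen ((PrimeSpectrum.basicOpen x : Set (PrimeSpectrum (R ⊗[k] S)))) :=
    PrimeSpectrum.isClopen_iff.mpr ⟨x, hx, rfl⟩
  obtain ⟨h3, h4⟩ := isClopen_image_of_connected_fibres (π := π) π.isOpenMap π.surjective
    (fun b => (π.isConnected_preimage_singleton b).isPreconnected) hclopen
  obtain ⟨e, he, hee⟩ := PrimeSpectrum.isClopen_iff.mp h3
  have hinj : Function.Injective (algebraMap R (R ⊗[k] S)) := by
    haveI : Nontrivial S := by
      haveI := hS k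
      by_contra hn
      rw [not_nontrivial_iff_subsingleton] at hn
      obtain ⟨p⟩ : Nonempty (PrimeSpectrum (k ⊗[k] S)) := inferInstance
      exact p.2.ne_top (Ideal.eq_top_of_isUnit_mem _ (Submodule.zero_mem _)
        (isUnit_of_subsingleton _))
    exact Algebra.TensorProduct.includeLeft_injective (S := R) (FaithfulSMul.algebraMap_injective k S)
  refine ⟨e, ⟨he, ?_⟩, ?_⟩
  · apply PrimeSpectrum.basicOpen_injOn_isIdempotentElem (he.map (algebraMap R (R ⊗[k] S))) hx
    apply SetLike.coe_injective
    rw [← h4, hee]
    ext p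
    rfl
  · rintro e' ⟨he', hxe'⟩
    apply hinj
    rw [hxe']
    symm
    apply PrimeSpectrum.basicOpen_injOn_isIdempotentElem (he.map (algebraMap R (R ⊗[k] S))) hx
    apply SetLike.coe_injective
    rw [← h4, hee]
    ext p
    rfl



/-- If `Y ⟶ X` is a `k`-morphism with `Y_K` connected, the preimage in `X_K` of the image of `Y` is
connected. -/
theorem isConnected_preimage_range_of_connectedSpace {k : Type u} [Field k]
    {X Y : Scheme.{u}} (g : Y ⟶ X) (f : X ⟶ Spec (CommRingCat.of k))
    (K : Type u) [Field K] [Algebra k K]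
    [ConnectedSpace ↥(pullback (g ≫ f) (Spec.map (CommRingCat.ofHom (algebraMap k K))))] :
    _root_.IsConnected ((pullback.fst f (Spec.map (CommRingCat.ofHom (algebraMap k K)))) ⁻¹' Set.range g) := by
  set gK := Spec.map (CommRingCat.ofHom (algebraMap k K)) with hgK
  set π := pullback.fst f gK with hπ
  haveI : ConnectedSpace ↥(pullback g π) :=
    (pullbackRightPullbackFstIso f gK g).hom.homeomorph.symm.surjective.connectedSpace
      (pullbackRightPullbackFstIso f gK g).hom.homeomorph.symm.continuous
  rw [← Scheme.Pullback.range_snd g π]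
  exact isConnected_range (pullback.snd g π).continuous

/-- Let `K/k` be algebraic, `g : Y ⟶ X` a `k`-morphism with `X` connected and `Y_K` connected. Then
`X_K` is connected. -/
theorem connectedSpace_pullback_of_hom_of_isIntegral {k : Type u} [Field k]
    {X Y : Scheme.{u}} (g : Y ⟶ X) (f : X ⟶ Spec (CommRingCat.of k))
    (K : Type u) [Field K] [Algebra k K] [Algebra.IsIntegral k K] [ConnectedSpace X]
    [ConnectedSpace ↥(pullback (g ≫ f) (Spec.map (CommRingCat.ofHom (algebraMap k K))))] :
    ConnectedSpace ↥(pullback f (Spec.map (CommRingCat.ofHom (algebraMap k K)))) := by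
  haveI : Nonempty Y := by
    obtain ⟨z⟩ : Nonempty ↥(pullback (g ≫ f) (Spec.map (CommRingCat.ofHom (algebraMap k K)))) :=
      inferInstance
    exact ⟨pullback.fst (g ≫ f) (Spec.map (CommRingCat.ofHom (algebraMap k K))) z⟩
  have h1 := isConnected_preimage_of_isOpenMap_of_isClosedMap
    (isOpenMap_pullback_fst_field f K)
    (isClosedMap_pullback_fst_of_isIntegral f K)
    (surjective_pullback_fst_field f K).surj
    isConnected_univ (Set.subset_univ (Set.range g)) (Set.range_nonempty g)
    (isConnected_preimage_range_of_connectedSpace g f K).isPreconnected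
  rw [Set.preimage_univ] at h1
  exact connectedSpace_iff_univ.mpr h1



/-- If `k` is separably closed in the field `L`, then `Spec L ⟶ Spec k` is geometrically irreducible. -/
theorem geometricallyIrreducible_specMap_of_relSepClosed {k L : Type u} [Field k] [Field L]
    [Algebra k L] (h : ∀ a : L, IsSeparable k a → a ∈ Set.range (algebraMap k L)) :
    GeometricallyIrreducible (Spec.map (CommRingCat.ofHom (algebraMap k L))) := by
  refine ⟨geometrically_iff_of_commRing_of_isClosedUnderIsomorphisms.mpr fun K _ _ => ?_⟩
  haveI h1 : IrreducibleSpace (PrimeSpectrum (K ⊗[k] L)) := (Groth.Agent.S2150.result).mpr h K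
  haveI h2 : IrreducibleSpace (PrimeSpectrum (L ⊗[k] K)) :=
    (PrimeSpectrum.homeomorphOfRingEquiv
      (Algebra.TensorProduct.comm k K L).toRingEquiv).irreducibleSpace_iff.mp inferInstance
  haveI h2' : IrreducibleSpace ↥(Spec (CommRingCat.of (L ⊗[k] K))) := h2
  exact (pullbackSpecIso k L K).hom.homeomorph.irreducibleSpace_iff.mpr inferInstance

/-- A connected `k`-scheme with an `L`-valued point, where `k` is separably closed in the field `L`,
is geometrically connected. -/
theorem geometricallyConnected_of_fieldPoint {k : Type u} [Field k] {X : Scheme.{u}}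
    (f : X ⟶ Spec (CommRingCat.of k)) [ConnectedSpace X] (L : Type u) [Field L] [Algebra k L]
    (i : Spec (CommRingCat.of L) ⟶ X) (hi : i ≫ f = Spec.map (CommRingCat.ofHom (algebraMap k L)))
    (h : ∀ a : L, IsSeparable k a → a ∈ Set.range (algebraMap k L)) :
    GeometricallyConnected f := by
  haveI : GeometricallyIrreducible (i ≫ f) := by
    rw [hi]; exact geometricallyIrreducible_specMap_of_relSepClosed h
  haveI : GeometricallyConnected (i ≫ f) := geometricallyConnected_of_geometricallyIrreducible _
  haveI : Nonempty ↥(Spec (CommRingCat.of L)) := inferInstanceAs (Nonempty (PrimeSpectrum L))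
  exact geometricallyConnected_of_hom_of_geometricallyConnected i f

open IntermediateField in
/-- If `x ∈ X` has `k₁ = ` separable closure of `k` in `κ(x)` finite over `k` and `X_{k₁}` is connected,
then `X` is geometrically connected. -/
theorem geometricallyConnected_of_connectedSpace_pullback_separableClosure {k : Type u} [Field k]
    {X : Scheme.{u}} (f : X ⟶ Spec (CommRingCat.of k)) (x : X) [Algebra k (X.residueField x)]
    (hφ : Spec.map (CommRingCat.ofHom (algebraMap k (X.residueField x))) =
      X.fromSpecResidueField x ≫ f)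
    [ConnectedSpace ↥(pullback f (Spec.map (CommRingCat.ofHom
      (algebraMap k (separableClosure k (X.residueField x))))))] :
    GeometricallyConnected f := by
  set k₁ := separableClosure k (X.residueField x) with hk₁
  set g := Spec.map (CommRingCat.ofHom (algebraMap k k₁)) with hg
  have hcomp : X.fromSpecResidueField x ≫ f =
      Spec.map (CommRingCat.ofHom (algebraMap k₁ (X.residueField x))) ≫ g := by
    rw [← hφ, hg, ← Spec.map_comp, ← CommRingCat.ofHom_comp, ← IsScalarTower.algebraMap_eq]
  let i : Spec (CommRingCat.of (X.residueField x)) ⟶ pullback f g :=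
    pullback.lift (X.fromSpecResidueField x)
      (Spec.map (CommRingCat.ofHom (algebraMap k₁ (X.residueField x)))) hcomp
  have hi : i ≫ pullback.snd f g =
      Spec.map (CommRingCat.ofHom (algebraMap k₁ (X.residueField x))) := pullback.lift_snd _ _ _
  haveI : GeometricallyConnected (pullback.snd f g) := by
    refine geometricallyConnected_of_fieldPoint (pullback.snd f g) (X.residueField x) i hi ?_
    intro a ha
    have h1 : a ∈ separableClosure k₁ (X.residueField x) := mem_separableClosure_iff.mpr ha
    rw [hk₁, separableClosure.separableClosure_eq_bot] at h1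
    exact IntermediateField.mem_bot.mp h1
  exact geometricallyConnected_of_isPullback f (pullback.snd f g) (pullback.fst f g)
    (IsPullback.of_hasPullback f g)


end Groth.Agent.Lib.Helper51
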