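import Mathlib
import Groth.Agent.Lib.Helper51.GeomConn

/-!
# Towers of base changes and descent of clopen sets to finite level (helper51)

* `bcMap f K L : X_L ⟶ X_K` for `k ⊆ K ⊆ L`, with `isPullback_bcMap`, `surjective_bcMap`,
  `isOpenMap_bcMap`, `isClosedMap_bcMap` (for `L/K` algebraic).
* `fibMap f x hφ K : Spec κ(x) ×_k Spec K ⟶ X_K` (inclusion of the fibre over `x`), injective with
  range the fibre, compatible with `bcMap`.
* `exists_intermediateField_idempotent`: idempotents of `S ⊗[k] E` descend to finite level.
* `connectedSpace_pullback_of_forall_finite`: if `X_K` is connected for all finite subextensions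
  `K` of an algebraic extension `E/k`, then `X_E` is connected.
-/

set_option autoImplicit false
universe u
open CategoryTheory CategoryTheory.Limits AlgebraicGeometry TensorProduct

namespace Groth.Agent.Lib.Helper51


theorem IsPullback.range_fst_eq {P X Y S : Scheme.{u}} {fst : P ⟶ X} {snd : P ⟶ Y} {f : X ⟶ S}
    {g : Y ⟶ S} (h : IsPullback fst snd f g) : Set.range fst = f ⁻¹' Set.range g := by
  rw [← Scheme.Pullback.range_fst f g]
  have h1 : (fst : P → X) = (pullback.fst f g : _ → X) ∘ (h.isoPullback.hom : P → _) := by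
    have := h.isoPullback_hom_fst
    ext p
    exact (congrArg (fun φ : P ⟶ X => φ p) this).symm
  have h2 : Set.range (h.isoPullback.hom : P → _) = Set.univ :=
    Set.range_eq_univ.mpr h.isoPullback.hom.homeomorph.surjective
  rw [h1, Set.range_comp, h2, Set.image_univ]

section Tower

variable {k : Type u} [Field k] {X : Scheme.{u}} (f : X ⟶ Spec (CommRingCat.of k))
  (K L : Type u) [Field K] [Field L] [Algebra k K] [Algebra k L] [Algebra K L] [IsScalarTower k K L]

/-- The transition map `X_L ⟶ X_K` for a tower `k ⊆ K ⊆ L`. -/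
noncomputable def bcMap :
    pullback f (Spec.map (CommRingCat.ofHom (algebraMap k L))) ⟶
      pullback f (Spec.map (CommRingCat.ofHom (algebraMap k K))) :=
  pullback.map f (Spec.map (CommRingCat.ofHom (algebraMap k L))) f
    (Spec.map (CommRingCat.ofHom (algebraMap k K))) (𝟙 X)
    (Spec.map (CommRingCat.ofHom (algebraMap K L))) (𝟙 _) (by simp)
    (by rw [Category.comp_id, ← Spec.map_comp, ← CommRingCat.ofHom_comp,
      ← IsScalarTower.algebraMap_eq])

@[reassoc (attr := simp)]
theorem bcMap_fst : bcMap f K L ≫ pullback.fst f _ = pullback.fst f _ := by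
  rw [bcMap, pullback.map, pullback.lift_fst, Category.comp_id]

@[reassoc (attr := simp)]
theorem bcMap_snd : bcMap f K L ≫ pullback.snd f _ =
    pullback.snd f _ ≫ Spec.map (CommRingCat.ofHom (algebraMap K L)) := by
  rw [bcMap, pullback.map, pullback.lift_snd]

theorem isPullback_bcMap :
    IsPullback (bcMap f K L) (pullback.snd f (Spec.map (CommRingCat.ofHom (algebraMap k L))))
      (pullback.snd f (Spec.map (CommRingCat.ofHom (algebraMap k K))))
      (Spec.map (CommRingCat.ofHom (algebraMap K L))) := by
  have hgL : Spec.map (CommRingCat.ofHom (algebraMap k L)) =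
      Spec.map (CommRingCat.ofHom (algebraMap K L)) ≫ Spec.map (CommRingCat.ofHom (algebraMap k K)) := by
    rw [← Spec.map_comp, ← CommRingCat.ofHom_comp, ← IsScalarTower.algebraMap_eq]
  have big : IsPullback (pullback.fst f (Spec.map (CommRingCat.ofHom (algebraMap k L))))
      (pullback.snd f (Spec.map (CommRingCat.ofHom (algebraMap k L)))) f
      (Spec.map (CommRingCat.ofHom (algebraMap K L)) ≫ Spec.map (CommRingCat.ofHom (algebraMap k K))) := by
    rw [← hgL]; exact IsPullback.of_hasPullback _ _
  have sq : IsPullback (pullback.fst f (Spec.map (CommRingCat.ofHom (algebraMap k K))))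
      (pullback.snd f (Spec.map (CommRingCat.ofHom (algebraMap k K)))) f
      (Spec.map (CommRingCat.ofHom (algebraMap k K))) := IsPullback.of_hasPullback _ _
  rw [← bcMap_fst f K L] at big
  exact IsPullback.of_right big (bcMap_snd f K L) sq

theorem surjective_bcMap : Function.Surjective (bcMap f K L) := by
  have h : Surjective (Spec.map (CommRingCat.ofHom (algebraMap K L))) :=
    Groth.Agent.Lib.Helper69.surjective_specMap_field _
  have : Surjective (bcMap f K L) :=
    MorphismProperty.of_isPullback (P := @Surjective) (isPullback_bcMap f K L).flip h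
  exact this.surj

theorem isOpenMap_bcMap : IsOpenMap (bcMap f K L) := by
  have h : UniversallyOpen (Spec.map (CommRingCat.ofHom (algebraMap K L))) := inferInstance
  have : UniversallyOpen (bcMap f K L) :=
    MorphismProperty.of_isPullback (P := @UniversallyOpen) (isPullback_bcMap f K L).flip h
  exact (bcMap f K L).isOpenMap

theorem isClosedMap_bcMap [Algebra.IsIntegral K L] : IsClosedMap (bcMap f K L) := by
  have h : IsIntegralHom (Spec.map (CommRingCat.ofHom (algebraMap K L))) := by
    rw [IsIntegralHom.SpecMap_iff]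
    exact algebraMap_isIntegral_iff.mpr inferInstance
  have : IsIntegralHom (bcMap f K L) :=
    MorphismProperty.of_isPullback (P := @IsIntegralHom) (isPullback_bcMap f K L).flip h
  exact (bcMap f K L).isClosedMap

end Tower

section Fibre

variable {k : Type u} [Field k] {X : Scheme.{u}} (f : X ⟶ Spec (CommRingCat.of k)) (x : X)
  [Algebra k (X.residueField x)]
  (hφ : Spec.map (CommRingCat.ofHom (algebraMap k (X.residueField x))) =
      X.fromSpecResidueField x ≫ f)
  (K : Type u) [Field K] [Algebra k K]

/-- The inclusion of the fibre `Spec κ(x) ×_k Spec K ⟶ X_K`. -/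
noncomputable def fibMap :
    pullback (Spec.map (CommRingCat.ofHom (algebraMap k (X.residueField x))))
      (Spec.map (CommRingCat.ofHom (algebraMap k K))) ⟶
      pullback f (Spec.map (CommRingCat.ofHom (algebraMap k K))) :=
  pullback.map _ (Spec.map (CommRingCat.ofHom (algebraMap k K))) f
    (Spec.map (CommRingCat.ofHom (algebraMap k K))) (X.fromSpecResidueField x) (𝟙 _) (𝟙 _)
    (by rw [Category.comp_id, hφ]) (by simp)

@[reassoc]
theorem fibMap_fst : fibMap f x hφ K ≫ pullback.fst f _ =
    pullback.fst _ _ ≫ X.fromSpecResidueField x := by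
  rw [fibMap, pullback.map, pullback.lift_fst]

@[reassoc]
theorem fibMap_snd : fibMap f x hφ K ≫ pullback.snd f _ = pullback.snd _ _ := by
  rw [fibMap, pullback.map, pullback.lift_snd, Category.comp_id]

theorem isPullback_fibMap :
    IsPullback (fibMap f x hφ K)
      (pullback.fst (Spec.map (CommRingCat.ofHom (algebraMap k (X.residueField x))))
        (Spec.map (CommRingCat.ofHom (algebraMap k K))))
      (pullback.fst f (Spec.map (CommRingCat.ofHom (algebraMap k K))))
      (X.fromSpecResidueField x) := by
  have big := (IsPullback.of_hasPullback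
    (Spec.map (CommRingCat.ofHom (algebraMap k (X.residueField x))))
    (Spec.map (CommRingCat.ofHom (algebraMap k K)))).flip
  have big' : IsPullback
      (fibMap f x hφ K ≫ pullback.snd f (Spec.map (CommRingCat.ofHom (algebraMap k K))))
      (pullback.fst (Spec.map (CommRingCat.ofHom (algebraMap k (X.residueField x))))
        (Spec.map (CommRingCat.ofHom (algebraMap k K))))
      (Spec.map (CommRingCat.ofHom (algebraMap k K))) (X.fromSpecResidueField x ≫ f) :=
    IsPullback.of_iso big (Iso.refl _) (Iso.refl _) (Iso.refl _) (Iso.refl _)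
      (by simp [fibMap_snd]) (by simp) (by simp) (by simp [hφ])
  exact IsPullback.of_right big' (fibMap_fst f x hφ K)
    (IsPullback.of_hasPullback f (Spec.map (CommRingCat.ofHom (algebraMap k K)))).flip

theorem range_fibMap : Set.range (fibMap f x hφ K) =
    (pullback.fst f (Spec.map (CommRingCat.ofHom (algebraMap k K)))) ⁻¹' {x} := by
  rw [IsPullback.range_fst_eq (isPullback_fibMap f x hφ K), Scheme.range_fromSpecResidueField]

theorem injective_fibMap : Function.Injective (fibMap f x hφ K) := by
  have h1 : Mono (X.fromSpecResidueField x) := inferInstance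
  have h2 : Mono (fibMap f x hφ K) :=
    MorphismProperty.of_isPullback (P := MorphismProperty.monomorphisms Scheme.{u})
      (isPullback_fibMap f x hφ K).flip h1
  exact (fibMap f x hφ K).injective

variable (L : Type u) [Field L] [Algebra k L] [Algebra K L] [IsScalarTower k K L]

theorem fibMap_bcMap :
    fibMap f x hφ L ≫ bcMap f K L =
      bcMap (Spec.map (CommRingCat.ofHom (algebraMap k (X.residueField x)))) K L ≫ fibMap f x hφ K := by
  apply pullback.hom_ext
  · rw [Category.assoc, bcMap_fst, fibMap_fst, Category.assoc, fibMap_fst, bcMap_fst_assoc]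
  · rw [Category.assoc, bcMap_snd, fibMap_snd_assoc, Category.assoc, fibMap_snd, bcMap_snd]

end Fibre



theorem tensorMap_id_injective {k S K E : Type*} [Field k] [CommRing S] [Algebra k S]
    [CommRing K] [Algebra k K] [CommRing E] [Algebra k E] (g : K →ₐ[k] E)
    (hg : Function.Injective g) :
    Function.Injective (Algebra.TensorProduct.map (AlgHom.id k S) g) := by
  have h1 : Function.Injective (LinearMap.lTensor S g.toLinearMap) :=
    Module.Flat.lTensor_preserves_injective_linearMap _ hg
  have h2 : ∀ z, Algebra.TensorProduct.map (AlgHom.id k S) g z = LinearMap.lTensor S g.toLinearMap z := by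
    intro z
    induction z using TensorProduct.induction_on with
    | zero => simp
    | tmul a b => simp
    | add a b ha hb => rw [map_add, map_add, ha, hb]
  intro a b hab
  rw [h2, h2] at hab
  exact h1 hab

/-- An idempotent of `S ⊗[k] E`, with `E/k` an algebraic field extension, is defined over a
finite subextension. -/
theorem exists_intermediateField_idempotent {k S E : Type*} [Field k] [CommRing S] [Algebra k S]
    [Field E] [Algebra k E] [Algebra.IsAlgebraic k E] (e : S ⊗[k] E) (he : IsIdempotentElem e) :
    ∃ (K : IntermediateField k E), FiniteDimensional k K ∧ ∃ e' : S ⊗[k] K,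
      IsIdempotentElem e' ∧ Algebra.TensorProduct.map (AlgHom.id k S) K.val e' = e := by
  classical
  obtain ⟨s, hs⟩ := TensorProduct.exists_finset e
  let T : Finset E := s.image Prod.snd
  let K : IntermediateField k E := IntermediateField.adjoin k (T : Set E)
  have hT : ∀ i ∈ s, i.2 ∈ K := fun i hi =>
    IntermediateField.subset_adjoin k _ (Finset.mem_coe.mpr (Finset.mem_image_of_mem _ hi))
  have hfin : FiniteDimensional k K :=
    IntermediateField.finiteDimensional_adjoin (fun x _ => Algebra.IsIntegral.isIntegral x)
  let e' : S ⊗[k] K := ∑ i ∈ s.attach, (i.1.1 ⊗ₜ[k] (⟨i.1.2, hT i.1 i.2⟩ : K))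
  have hmap : Algebra.TensorProduct.map (AlgHom.id k S) K.val e' = e := by
    rw [hs, map_sum]
    rw [← Finset.sum_attach s]
    apply Finset.sum_congr rfl
    intro i _
    simp
  refine ⟨K, hfin, e', ?_, hmap⟩
  apply tensorMap_id_injective K.val K.val.injective
  rw [map_mul, hmap]
  exact he


section Limit

theorem pullbackSpecIso_inv_bcMap (k S K L : Type u) [Field k] [CommRing S] [Algebra k S]
    [Field K] [Field L] [Algebra k K] [Algebra k L] [Algebra K L] [IsScalarTower k K L] :
    (pullbackSpecIso k S L).inv ≫ bcMap (Spec.map (CommRingCat.ofHom (algebraMap k S))) K L =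
      Spec.map (CommRingCat.ofHom
        (Algebra.TensorProduct.map (AlgHom.id k S) (IsScalarTower.toAlgHom k K L)).toRingHom) ≫
        (pullbackSpecIso k S K).inv := by
  apply pullback.hom_ext
  · rw [Category.assoc, bcMap_fst, pullbackSpecIso_inv_fst, Category.assoc, pullbackSpecIso_inv_fst,
      ← Spec.map_comp]
    congr 1
    ext a
    simp
  · rw [Category.assoc, bcMap_snd, pullbackSpecIso_inv_snd_assoc, Category.assoc,
      pullbackSpecIso_inv_snd, ← Spec.map_comp, ← Spec.map_comp]
    congr 1
    all_goals (ext a; simp)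

/-- If `X_K` is connected for every finite subextension `K` of the algebraic extension `E/k`, then
`X_E` is connected. -/
theorem connectedSpace_pullback_of_forall_finite {k : Type u} [Field k] {X : Scheme.{u}}
    (f : X ⟶ Spec (CommRingCat.of k)) (E : Type u) [Field E] [Algebra k E] [Algebra.IsAlgebraic k E]
    (h : ∀ K : IntermediateField k E, FiniteDimensional k K →
      ConnectedSpace ↥(pullback f (Spec.map (CommRingCat.ofHom (algebraMap k K))))) :
    ConnectedSpace ↥(pullback f (Spec.map (CommRingCat.ofHom (algebraMap k E)))) := by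
  haveI hbot : FiniteDimensional k (⊥ : IntermediateField k E) := inferInstance
  have h0 := h ⊥ hbot
  obtain ⟨z0⟩ : Nonempty ↥(pullback f (Spec.map (CommRingCat.ofHom
    (algebraMap k (⊥ : IntermediateField k E))))) := inferInstance
  let x : X := pullback.fst f _ z0
  rw [connectedSpace_iff_clopen]
  refine ⟨?_, ?_⟩
  · obtain ⟨z, -⟩ := (surjective_pullback_fst_field f E).surj x
    exact ⟨z⟩
  intro U hU
  by_contra hcon
  rw [not_or] at hcon
  obtain ⟨hne', hnu⟩ := hcon
  have hne : U.Nonempty := Set.nonempty_iff_ne_empty.mpr hne'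
  -- the algebra structure on the residue field
  obtain ⟨φ, hφ'⟩ := Spec.map_surjective (X.fromSpecResidueField x ≫ f)
  letI : Algebra k (X.residueField x) := φ.hom.toAlgebra
  have hφ : Spec.map (CommRingCat.ofHom (algebraMap k (X.residueField x))) =
      X.fromSpecResidueField x ≫ f := hφ'
  -- the clopen subset of `Spec (κ ⊗ E)`
  set ι := fibMap f x hφ E with hι
  set eE := pullbackSpecIso k (X.residueField x) E with heE
  have hU' : IsClopen (eE.inv ⁻¹' (ι ⁻¹' U)) :=
    (hU.preimage ι.continuous).preimage eE.inv.continuous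
  obtain ⟨e, he, hUe⟩ := PrimeSpectrum.isClopen_iff.mp hU'
  obtain ⟨K, hK, e', he', hee'⟩ := exists_intermediateField_idempotent e he
  haveI := h K hK
  haveI : Algebra.IsAlgebraic K E := Algebra.IsAlgebraic.tower_top (K := k) K
  haveI : Algebra.IsIntegral K E := inferInstance
  set ρ := bcMap f K E with hρ
  set σ := bcMap (Spec.map (CommRingCat.ofHom (algebraMap k (X.residueField x)))) K E with hσ
  set eK := pullbackSpecIso k (X.residueField x) K with heK
  -- membership in `ι ⁻¹' U` only depends on the image under `σ`
  have hsat : ∀ p : ↥(pullback (Spec.map (CommRingCat.ofHom (algebraMap k (X.residueField x))))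
      (Spec.map (CommRingCat.ofHom (algebraMap k E)))),
      ι p ∈ U ↔ eK.hom (σ p) ∈
        (PrimeSpectrum.basicOpen e' : Set (PrimeSpectrum (X.residueField x ⊗[k] K))) := by
    intro p
    have h1 : ι p ∈ U ↔ eE.hom p ∈ eE.inv ⁻¹' (ι ⁻¹' U) := by
      rw [Set.mem_preimage, Set.mem_preimage]
      have : eE.inv (eE.hom p) = p := by
        rw [← Scheme.Hom.comp_apply, Iso.hom_inv_id]; rfl
      rw [this]
    rw [h1, hUe]
    have h2 := pullbackSpecIso_inv_bcMap k (X.residueField x) K E
    have h3 : σ ≫ eK.hom = eE.hom ≫ Spec.map (CommRingCat.ofHom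
        (Algebra.TensorProduct.map (AlgHom.id k (X.residueField x))
          (IsScalarTower.toAlgHom k K E)).toRingHom) := by
      rw [← cancel_epi eE.inv, ← Category.assoc, h2, Category.assoc, Iso.inv_hom_id,
        Category.comp_id, Iso.inv_hom_id_assoc]
    have h4 : eK.hom (σ p) = Spec.map (CommRingCat.ofHom
        (Algebra.TensorProduct.map (AlgHom.id k (X.residueField x))
          (IsScalarTower.toAlgHom k K E)).toRingHom) (eE.hom p) := by
      rw [← Scheme.Hom.comp_apply, h3, Scheme.Hom.comp_apply]
    rw [h4]
    have h5 : (IsScalarTower.toAlgHom k K E) = K.val := rfl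
    rw [← hee', h5]
    rfl
  -- images of `U` and its complement under `ρ` are everything
  have hρo : IsOpenMap ρ := isOpenMap_bcMap f K E
  have hρc : IsClosedMap ρ := isClosedMap_bcMap f K E
  have hρU : ρ '' U = Set.univ :=
    IsClopen.eq_univ ⟨hρc U hU.isClosed, hρo U hU.isOpen⟩ (hne.image ρ)
  have hUc : (Uᶜ).Nonempty := Set.nonempty_compl.mpr hnu
  have hρUc : ρ '' Uᶜ = Set.univ :=
    IsClopen.eq_univ ⟨hρc _ hU.compl.isClosed, hρo _ hU.compl.isOpen⟩ (hUc.image ρ)
  obtain ⟨x', hx'⟩ := (surjective_pullback_fst_field f K).surj x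
  obtain ⟨u, huU, hux'⟩ : x' ∈ ρ '' U := by rw [hρU]; exact Set.mem_univ _
  obtain ⟨v, hvU, hvx'⟩ : x' ∈ ρ '' Uᶜ := by rw [hρUc]; exact Set.mem_univ _
  have hπ : ∀ w, ρ w = x' → w ∈ Set.range ι := by
    intro w hw
    rw [hι, range_fibMap, Set.mem_preimage, Set.mem_singleton_iff, ← hx', ← hw, hρ,
      ← Scheme.Hom.comp_apply, bcMap_fst]
  obtain ⟨q, rfl⟩ := hπ u hux'
  obtain ⟨p, rfl⟩ := hπ v hvx'
  have hcomm : ∀ w, ρ (ι w) = fibMap f x hφ K (σ w) := by
    intro w
    rw [hρ, hι, hσ, ← Scheme.Hom.comp_apply, fibMap_bcMap, Scheme.Hom.comp_apply]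
  have hσpq : σ q = σ p := by
    apply injective_fibMap f x hφ K
    rw [← hcomm, ← hcomm, hux', hvx']
  have h6 := (hsat q).mp huU
  rw [hσpq] at h6
  exact hvU ((hsat p).mpr h6)

end Limit

end Groth.Agent.Lib.Helper51
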