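import Mathlib
import Groth.Prelude.Def_CurvBase
import Groth.Agent.Lib.Helper51.GenFibre
import Groth.Agent.Lib.Helper51.Tower

/-!
# Local rings of a base change `X_K` (helper51)

`𝒪_{X_K,y}` is a localisation of `𝒪_{X,x} ⊗[k] K` (`exists_stalk_ringEquiv`).
-/

set_option autoImplicit false
universe u
open CategoryTheory CategoryTheory.Limits AlgebraicGeometry TensorProduct

namespace Groth.Agent.Lib.Helper51

/-- `Spec 𝒪_{X,x} ⟶ X` is flat. -/
instance flat_fromSpecStalk {X : Scheme.{u}} (x : X) : Flat (X.fromSpecStalk x) := by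
  have hU := isAffineOpen_opensRange (X.affineCover.f (X.affineCover.idx x))
  have hx : x ∈ (X.affineCover.f (X.affineCover.idx x)).opensRange := X.affineCover.covers x
  rw [← hU.fromSpecStalk_eq_fromSpecStalk hx]
  dsimp [IsAffineOpen.fromSpecStalk]
  have : Flat (Spec.map (X.presheaf.germ _ x hx)) := by
    rw [Flat.SpecMap_iff]
    letI : Algebra Γ(X, (X.affineCover.f (X.affineCover.idx x)).opensRange) (X.presheaf.stalk x) :=
      (X.presheaf.germ _ x hx).hom.toAlgebra
    haveI := hU.isLocalization_stalk ⟨x, hx⟩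
    have h1 : Module.Flat Γ(X, (X.affineCover.f (X.affineCover.idx x)).opensRange) (X.presheaf.stalk x) :=
      IsLocalization.flat _ (hU.primeIdealOf ⟨x, hx⟩).asIdeal.primeCompl
    exact h1
  infer_instance

/-- A flat preimmersion induces isomorphisms on stalks. -/
theorem bijective_stalkMap_of_flat_of_isPreimmersion {W Y : Scheme.{u}} (j : W ⟶ Y) [Flat j]
    [IsPreimmersion j] (w : W) : Function.Bijective (j.stalkMap w).hom := by
  refine ⟨?_, j.stalkMap_surjective w⟩
  have hflat : (j.stalkMap w).hom.Flat := Flat.stalkMap j w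
  algebraize [(j.stalkMap w).hom]
  haveI : IsLocalHom (algebraMap (Y.presheaf.stalk (j w)) (W.presheaf.stalk w)) :=
    inferInstanceAs (IsLocalHom (j.stalkMap w).hom)
  haveI : Module.FaithfullyFlat (Y.presheaf.stalk (j w)) (W.presheaf.stalk w) :=
    Module.FaithfullyFlat.of_flat_of_isLocalHom
  exact FaithfulSMul.algebraMap_injective _ _

section SpecBc

variable {k : Type u} [Field k] {X : Scheme.{u}} (f : X ⟶ Spec (CommRingCat.of k))
  (S : Type u) [CommRing S] [Algebra k S] (i : Spec (CommRingCat.of S) ⟶ X)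
  (hi : Spec.map (CommRingCat.ofHom (algebraMap k S)) = i ≫ f)
  (K : Type u) [Field K] [Algebra k K]

/-- The base change `Spec S ×_k Spec K ⟶ X_K` of a morphism `Spec S ⟶ X` over `k`. -/
noncomputable def specBcMap :
    pullback (Spec.map (CommRingCat.ofHom (algebraMap k S)))
      (Spec.map (CommRingCat.ofHom (algebraMap k K))) ⟶
      pullback f (Spec.map (CommRingCat.ofHom (algebraMap k K))) :=
  pullback.map _ (Spec.map (CommRingCat.ofHom (algebraMap k K))) f
    (Spec.map (CommRingCat.ofHom (algebraMap k K))) i (𝟙 _) (𝟙 _)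
    (by rw [Category.comp_id, hi]) (by simp)

@[reassoc]
theorem specBcMap_fst : specBcMap f S i hi K ≫ pullback.fst f _ = pullback.fst _ _ ≫ i := by
  rw [specBcMap, pullback.map, pullback.lift_fst]

@[reassoc]
theorem specBcMap_snd : specBcMap f S i hi K ≫ pullback.snd f _ = pullback.snd _ _ := by
  rw [specBcMap, pullback.map, pullback.lift_snd, Category.comp_id]

theorem isPullback_specBcMap :
    IsPullback (specBcMap f S i hi K)
      (pullback.fst (Spec.map (CommRingCat.ofHom (algebraMap k S)))
        (Spec.map (CommRingCat.ofHom (algebraMap k K))))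
      (pullback.fst f (Spec.map (CommRingCat.ofHom (algebraMap k K)))) i := by
  have big := (IsPullback.of_hasPullback
    (Spec.map (CommRingCat.ofHom (algebraMap k S)))
    (Spec.map (CommRingCat.ofHom (algebraMap k K)))).flip
  have big' : IsPullback
      (specBcMap f S i hi K ≫ pullback.snd f (Spec.map (CommRingCat.ofHom (algebraMap k K))))
      (pullback.fst (Spec.map (CommRingCat.ofHom (algebraMap k S)))
        (Spec.map (CommRingCat.ofHom (algebraMap k K))))
      (Spec.map (CommRingCat.ofHom (algebraMap k K))) (i ≫ f) :=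
    IsPullback.of_iso big (Iso.refl _) (Iso.refl _) (Iso.refl _) (Iso.refl _)
      (by simp [specBcMap_snd]) (by simp) (by simp) (by simp [hi])
  exact IsPullback.of_right big' (specBcMap_fst f S i hi K)
    (IsPullback.of_hasPullback f (Spec.map (CommRingCat.ofHom (algebraMap k K)))).flip

end SpecBc

theorem specMap_stalkMapOf {k : Type u} [Field k] {X : Scheme.{u}} (f : X ⟶ Spec (CommRingCat.of k)) (x : X) :
    Spec.map (CommRingCat.ofHom ((X.presheaf.germ ⊤ x trivial).hom.comp (Coh.toGlobal f))) = X.fromSpecStalk x ≫ f := by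
  apply ext_of_isAffine
  rw [← cancel_mono (Scheme.ΓSpecIso (X.presheaf.stalk x)).hom, Scheme.ΓSpecIso_naturality]
  rw [Scheme.Hom.comp_appTop]
  simp only [Category.assoc]
  rw [fromSpecStalk_appTop']
  ext a
  simp [Coh.toGlobal]


section StalkBc

variable {k : Type u} [Field k] {X : Scheme.{u}} (f : X ⟶ Spec (CommRingCat.of k)) (x : X)
  [Algebra k (X.presheaf.stalk x)]
  (hψ : Spec.map (CommRingCat.ofHom (algebraMap k (X.presheaf.stalk x))) = X.fromSpecStalk x ≫ f)
  (K : Type u) [Field K] [Algebra k K]

/-- The base change `Spec 𝒪_{X,x} ×_k Spec K ⟶ X_K`. -/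
noncomputable def stalkBcMap :
    pullback (Spec.map (CommRingCat.ofHom (algebraMap k (X.presheaf.stalk x))))
      (Spec.map (CommRingCat.ofHom (algebraMap k K))) ⟶
      pullback f (Spec.map (CommRingCat.ofHom (algebraMap k K))) :=
  @specBcMap k _ X f (X.presheaf.stalk x) (X.presheaf.stalk x).commRing _ (X.fromSpecStalk x) hψ K _ _

theorem isPullback_stalkBcMap :
    IsPullback (stalkBcMap f x hψ K)
      (pullback.fst (Spec.map (CommRingCat.ofHom (algebraMap k (X.presheaf.stalk x))))
        (Spec.map (CommRingCat.ofHom (algebraMap k K))))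
      (pullback.fst f (Spec.map (CommRingCat.ofHom (algebraMap k K)))) (X.fromSpecStalk x) :=
  @isPullback_specBcMap k _ X f (X.presheaf.stalk x) (X.presheaf.stalk x).commRing _
    (X.fromSpecStalk x) hψ K _ _

instance flat_stalkBcMap : Flat (stalkBcMap f x hψ K) :=
  MorphismProperty.of_isPullback (P := @Flat) (isPullback_stalkBcMap f x hψ K).flip
    (flat_fromSpecStalk x)

instance isPreimmersion_stalkBcMap : IsPreimmersion (stalkBcMap f x hψ K) :=
  MorphismProperty.of_isPullback (P := @IsPreimmersion) (isPullback_stalkBcMap f x hψ K).flip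
    inferInstance

theorem range_stalkBcMap : Set.range (stalkBcMap f x hψ K) =
    (pullback.fst f (Spec.map (CommRingCat.ofHom (algebraMap k K)))) ⁻¹' {y | y ⤳ x} := by
  rw [IsPullback.range_fst_eq (isPullback_stalkBcMap f x hψ K), Scheme.range_fromSpecStalk]

/-- The prime of `𝒪_{X,x} ⊗[k] K` attached to a point of `Spec 𝒪_{X,x} ×_k Spec K`. -/
noncomputable def stalkBcPrime
    (w : ↥(pullback (Spec.map (CommRingCat.ofHom (algebraMap k (X.presheaf.stalk x))))
      (Spec.map (CommRingCat.ofHom (algebraMap k K))))) :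
    PrimeSpectrum (X.presheaf.stalk x ⊗[k] K) :=
  (pullbackSpecIso k (X.presheaf.stalk x) K).hom w

/-- The local ring of `X_K` at the image of `w` is the localisation of `𝒪_{X,x} ⊗[k] K` at the
corresponding prime. -/
noncomputable def stalkBcRingEquiv
    (w : ↥(pullback (Spec.map (CommRingCat.ofHom (algebraMap k (X.presheaf.stalk x))))
      (Spec.map (CommRingCat.ofHom (algebraMap k K))))) :
    (pullback f (Spec.map (CommRingCat.ofHom (algebraMap k K)))).presheaf.stalk
      (stalkBcMap f x hψ K w) ≃+* Localization.AtPrime (stalkBcPrime x K w).asIdeal :=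
  (RingEquiv.ofBijective ((stalkBcMap f x hψ K).stalkMap w).hom
    (bijective_stalkMap_of_flat_of_isPreimmersion (stalkBcMap f x hψ K) w)).trans
  ((RingEquiv.ofBijective ((pullbackSpecIso k (X.presheaf.stalk x) K).hom.stalkMap w).hom
    (ConcreteCategory.bijective_of_isIso _)).symm.trans
  (Spec.stalkIso (CommRingCat.of (X.presheaf.stalk x ⊗[k] K))
    (stalkBcPrime x K w)).commRingCatIsoToRingEquiv)

theorem fst_stalkBcPrime
    (w : ↥(pullback (Spec.map (CommRingCat.ofHom (algebraMap k (X.presheaf.stalk x))))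
      (Spec.map (CommRingCat.ofHom (algebraMap k K))))) :
    (stalkBcPrime x K w).asIdeal.comap (Algebra.TensorProduct.includeLeftRingHom) =
      (pullback.fst (Spec.map (CommRingCat.ofHom (algebraMap k (X.presheaf.stalk x))))
        (Spec.map (CommRingCat.ofHom (algebraMap k K))) w : PrimeSpectrum (X.presheaf.stalk x)).asIdeal := by
  have h := pullbackSpecIso_hom_fst k (X.presheaf.stalk x) K
  have h2 := congrArg (fun φ => (φ w : PrimeSpectrum (X.presheaf.stalk x))) h
  simp only [Scheme.Hom.comp_apply] at h2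
  rw [← h2]
  rfl

theorem fst_stalkBcMap_eq_iff
    (w : ↥(pullback (Spec.map (CommRingCat.ofHom (algebraMap k (X.presheaf.stalk x))))
      (Spec.map (CommRingCat.ofHom (algebraMap k K))))) :
    pullback.fst f (Spec.map (CommRingCat.ofHom (algebraMap k K))) (stalkBcMap f x hψ K w) = x ↔
      (stalkBcPrime x K w).asIdeal.comap (Algebra.TensorProduct.includeLeftRingHom) =
        IsLocalRing.maximalIdeal (X.presheaf.stalk x) := by
  have hw := (isPullback_stalkBcMap f x hψ K).w
  have h1 : pullback.fst f (Spec.map (CommRingCat.ofHom (algebraMap k K))) (stalkBcMap f x hψ K w) =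
      X.fromSpecStalk x (pullback.fst (Spec.map (CommRingCat.ofHom (algebraMap k (X.presheaf.stalk x))))
        (Spec.map (CommRingCat.ofHom (algebraMap k K))) w) := by
    rw [← Scheme.Hom.comp_apply, hw, Scheme.Hom.comp_apply]
  rw [h1, fst_stalkBcPrime]
  have hinj : Function.Injective (X.fromSpecStalk x) := (X.fromSpecStalk x).isEmbedding.injective
  constructor
  · intro h
    have h2 : X.fromSpecStalk x (pullback.fst (Spec.map (CommRingCat.ofHom (algebraMap k (X.presheaf.stalk x))))
        (Spec.map (CommRingCat.ofHom (algebraMap k K))) w) =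
        X.fromSpecStalk x (IsLocalRing.closedPoint (X.presheaf.stalk x)) := by
      rw [h, Scheme.fromSpecStalk_closedPoint]
    rw [hinj h2]
    rfl
  · intro h
    have h2 : (pullback.fst (Spec.map (CommRingCat.ofHom (algebraMap k (X.presheaf.stalk x))))
        (Spec.map (CommRingCat.ofHom (algebraMap k K))) w : PrimeSpectrum (X.presheaf.stalk x)) =
        IsLocalRing.closedPoint (X.presheaf.stalk x) := PrimeSpectrum.ext h
    rw [h2]
    exact Scheme.fromSpecStalk_closedPoint

/-- Every point of `X_K` over a generisation of `x` comes from `Spec 𝒪_{X,x} ×_k Spec K`. -/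
theorem exists_stalkBcMap_eq_of_specializes
    (y : ↥(pullback f (Spec.map (CommRingCat.ofHom (algebraMap k K)))))
    (hy : pullback.fst f (Spec.map (CommRingCat.ofHom (algebraMap k K))) y ⤳ x) :
    ∃ w, stalkBcMap f x hψ K w = y := by
  have hrange : y ∈ Set.range (stalkBcMap f x hψ K) := by
    rw [range_stalkBcMap]
    exact hy
  exact hrange

/-- Every point of `X_K` over `x` comes from `Spec 𝒪_{X,x} ×_k Spec K`. -/
theorem exists_stalkBcMap_eq
    (y : ↥(pullback f (Spec.map (CommRingCat.ofHom (algebraMap k K)))))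
    (hy : pullback.fst f (Spec.map (CommRingCat.ofHom (algebraMap k K))) y = x) :
    ∃ w, stalkBcMap f x hψ K w = y :=
  exists_stalkBcMap_eq_of_specializes f x hψ K y (by rw [hy])

/-- Every prime of `𝒪_{X,x} ⊗[k] K` comes from a point of `Spec 𝒪_{X,x} ×_k Spec K`. -/
theorem exists_stalkBcPrime_eq (q : PrimeSpectrum (X.presheaf.stalk x ⊗[k] K)) :
    ∃ w, stalkBcPrime x K w = q := by
  let q' : ↥(Spec (CommRingCat.of (X.presheaf.stalk x ⊗[k] K))) := q
  refine ⟨(pullbackSpecIso k (X.presheaf.stalk x) K).inv q', ?_⟩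
  have h : (pullbackSpecIso k (X.presheaf.stalk x) K).hom
      ((pullbackSpecIso k (X.presheaf.stalk x) K).inv q') = q' := by
    rw [← Scheme.Hom.comp_apply, Iso.inv_hom_id]
    rfl
  exact h

end StalkBc


section StalkTransfer

variable {k : Type u} [Field k] {X : Scheme.{u}} (f : X ⟶ Spec (CommRingCat.of k)) (x : X)
  [Algebra k (X.presheaf.stalk x)]
  (hψ : Spec.map (CommRingCat.ofHom (algebraMap k (X.presheaf.stalk x))) = X.fromSpecStalk x ≫ f)
  (K : Type u) [Field K] [Algebra k K]

include hψ

/-- If `𝒪_{X,x} ⊗[k] K` is reduced, so are the local rings of `X_K` at points over generisations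
of `x`. -/
theorem isReduced_stalk_of_isReduced_tensor_of_specializes [IsReduced (X.presheaf.stalk x ⊗[k] K)]
    (y : ↥(pullback f (Spec.map (CommRingCat.ofHom (algebraMap k K)))))
    (hy : pullback.fst f (Spec.map (CommRingCat.ofHom (algebraMap k K))) y ⤳ x) :
    IsReduced ((pullback f (Spec.map (CommRingCat.ofHom (algebraMap k K)))).presheaf.stalk y) := by
  obtain ⟨w, rfl⟩ := exists_stalkBcMap_eq_of_specializes f x hψ K y hy
  have E := stalkBcRingEquiv f x hψ K w
  exact isReduced_of_injective E E.injective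

/-- If `𝒪_{X,x} ⊗[k] K` is reduced, so are the local rings of `X_K` at points over `x`. -/
theorem isReduced_stalk_of_isReduced_tensor [IsReduced (X.presheaf.stalk x ⊗[k] K)]
    (y : ↥(pullback f (Spec.map (CommRingCat.ofHom (algebraMap k K)))))
    (hy : pullback.fst f (Spec.map (CommRingCat.ofHom (algebraMap k K))) y = x) :
    IsReduced ((pullback f (Spec.map (CommRingCat.ofHom (algebraMap k K)))).presheaf.stalk y) :=
  isReduced_stalk_of_isReduced_tensor_of_specializes f x hψ K y (by rw [hy])

/-- If `𝒪_{X,x} ⊗[k] K` is a domain, so are the local rings of `X_K` at points over `x`. -/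
theorem isDomain_stalk_of_isDomain_tensor [IsDomain (X.presheaf.stalk x ⊗[k] K)]
    (y : ↥(pullback f (Spec.map (CommRingCat.ofHom (algebraMap k K)))))
    (hy : pullback.fst f (Spec.map (CommRingCat.ofHom (algebraMap k K))) y = x) :
    IsDomain ((pullback f (Spec.map (CommRingCat.ofHom (algebraMap k K)))).presheaf.stalk y) := by
  obtain ⟨w, rfl⟩ := exists_stalkBcMap_eq f x hψ K y hy
  have E := stalkBcRingEquiv f x hψ K w
  haveI : IsDomain (Localization.AtPrime (stalkBcPrime x K w).asIdeal) :=
    IsLocalization.isDomain_localization (stalkBcPrime x K w).asIdeal.primeCompl_le_nonZeroDivisors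
  exact E.toMulEquiv.isDomain_iff.mpr inferInstance

/-- For `K/k` algebraic: if all local rings of `X_K` at points over `x` are reduced, then
`𝒪_{X,x} ⊗[k] K` is reduced. -/
theorem isReduced_tensor_of_forall_stalk [Algebra.IsIntegral k K]
    (h : ∀ y : ↥(pullback f (Spec.map (CommRingCat.ofHom (algebraMap k K)))),
      pullback.fst f (Spec.map (CommRingCat.ofHom (algebraMap k K))) y = x →
      IsReduced ((pullback f (Spec.map (CommRingCat.ofHom (algebraMap k K)))).presheaf.stalk y)) :
    IsReduced (X.presheaf.stalk x ⊗[k] K) := by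
  apply isReduced_ofLocalizationMaximal
  intro 𝔐 h𝔐
  haveI : Algebra.IsIntegral (X.presheaf.stalk x) (X.presheaf.stalk x ⊗[k] K) := inferInstance
  have hmax : (𝔐.comap (algebraMap (X.presheaf.stalk x) (X.presheaf.stalk x ⊗[k] K))).IsMaximal :=
    Ideal.isMaximal_comap_of_isIntegral_of_isMaximal 𝔐
  have hcomap : 𝔐.comap (Algebra.TensorProduct.includeLeftRingHom) =
      IsLocalRing.maximalIdeal (X.presheaf.stalk x) := IsLocalRing.eq_maximalIdeal hmax
  obtain ⟨w, hw⟩ := exists_stalkBcPrime_eq x K ⟨𝔐, h𝔐.isPrime⟩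
  have hy := (fst_stalkBcMap_eq_iff f x hψ K w).mpr (by rw [hw]; exact hcomap)
  haveI := h _ hy
  have E := stalkBcRingEquiv f x hψ K w
  have hq : (stalkBcPrime x K w).asIdeal = 𝔐 := by rw [hw]
  have E' : Localization.AtPrime 𝔐 ≃+* Localization.AtPrime (stalkBcPrime x K w).asIdeal := by
    have := hq
    subst this
    exact RingEquiv.refl _
  exact isReduced_of_injective (E'.trans E.symm) (E'.trans E.symm).injective

end StalkTransfer

end Groth.Agent.Lib.Helper51
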