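import Mathlib
import Groth.Agent.S4628
import Groth.Agent.S9634
import Groth.Agent.S1548
import Groth.Agent.Lib.Helper69.GeomDescent

/-!
# Geometric reducedness for schemes over a field (helper51)
-/

set_option autoImplicit false
universe u

namespace Groth.Agent.Lib.Helper51

open CategoryTheory CategoryTheory.Limits AlgebraicGeometry TensorProduct

/-- A geometrically reduced `k`-algebra stays reduced after tensoring with any field extension. -/
theorem isReduced_tensor_of_isGeometricallyReduced {k S : Type u} [Field k] [CommRing S]
    [Algebra k S] [Algebra.IsGeometricallyReduced k S] (K : Type u) [Field K] [Algebra k K] :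
    IsReduced (K ⊗[k] S) := by
  have key := ((Groth.Agent.S9634.result (k := k) (S := S)).out 1 2).mp
  exact key ‹_› K

/-- `Spec K ⟶ Spec k` is geometrically reduced when `K` is a geometrically reduced `k`-algebra
(e.g. a separable extension). -/
theorem geometricallyReduced_specMap (k K : Type u) [Field k] [Field K] [Algebra k K]
    [Algebra.IsGeometricallyReduced k K] :
    GeometricallyReduced (Spec.map (CommRingCat.ofHom (algebraMap k K))) := by
  refine ⟨?_⟩
  rw [geometrically_iff_of_commRing_of_isClosedUnderIsomorphisms]
  intro K' _ _
  have h1 : IsReduced (K' ⊗[k] K) := isReduced_tensor_of_isGeometricallyReduced K'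
  have h2 : IsReduced (K ⊗[k] K') :=
    isReduced_of_injective (Algebra.TensorProduct.comm k K K').toRingEquiv.toRingHom
      (Algebra.TensorProduct.comm k K K').injective
  have h3 : AlgebraicGeometry.IsReduced (Spec (CommRingCat.of (K ⊗[k] K'))) :=
    (affine_isReduced_iff _).mpr h2
  exact isReduced_of_isOpenImmersion (pullbackSpecIso k K K').hom

/-- Base change of a reduced scheme along a geometrically reduced field extension is reduced. -/
theorem isReduced_pullback_of_isGeometricallyReduced {k K : Type u} [Field k] [Field K] [Algebra k K]
    [Algebra.IsGeometricallyReduced k K] {X : Scheme.{u}} (f : X ⟶ Spec (CommRingCat.of k))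
    [AlgebraicGeometry.IsReduced X] :
    AlgebraicGeometry.IsReduced (pullback f (Spec.map (CommRingCat.ofHom (algebraMap k K)))) := by
  haveI := geometricallyReduced_specMap k K
  haveI : AlgebraicGeometry.IsReduced
      (pullback (Spec.map (CommRingCat.ofHom (algebraMap k K))) f) :=
    Groth.Agent.S4628.result _ _
  exact isReduced_of_isOpenImmersion (pullbackSymmetry _ _).hom

/-- A finite purely inseparable extension of a perfect field is trivial. -/
theorem algebraMap_bijective_of_perfectField (Ω k' : Type u) [Field Ω] [PerfectField Ω] [Field k']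
    [Algebra Ω k'] [FiniteDimensional Ω k'] [IsPurelyInseparable Ω k'] :
    Function.Bijective (algebraMap Ω k') :=
  ⟨(algebraMap Ω k').injective, IsPurelyInseparable.surjective_algebraMap_of_isSeparable Ω k'⟩

/-- A reduced scheme over a perfect field is geometrically reduced. -/
theorem geometricallyReduced_of_perfectField {Ω : Type u} [Field Ω] [PerfectField Ω]
    {Y : Scheme.{u}} (g : Y ⟶ Spec (CommRingCat.of Ω)) [AlgebraicGeometry.IsReduced Y] :
    GeometricallyReduced g := by
  refine ⟨?_⟩
  rw [geometrically_iff_of_commRing_of_isClosedUnderIsomorphisms]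
  intro K _ _
  refine @IsReduced.of_openCover _ (Scheme.Pullback.openCoverOfLeft Y.affineCover
    g (Spec.map (CommRingCat.ofHom (algebraMap Ω K)))) ?_
  intro i
  refine Groth.Agent.S1548.isReduced_pullback_affine Ω _ (Y.affineCover.f i ≫ g) ?_ K
  intro k' _ _ _ _
  have hb := algebraMap_bijective_of_perfectField Ω k'
  haveI : IsIso (CommRingCat.ofHom (algebraMap Ω k')) :=
    (ConcreteCategory.isIso_iff_bijective _).mpr hb
  haveI : IsIso (Spec.map (CommRingCat.ofHom (algebraMap Ω k'))) := inferInstance
  haveI : AlgebraicGeometry.IsReduced (Y.affineCover.X i) :=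
    isReduced_of_isOpenImmersion (Y.affineCover.f i)
  have hoi : IsOpenImmersion
      (pullback.fst (Y.affineCover.f i ≫ g) (Spec.map (CommRingCat.ofHom (algebraMap Ω k')))) :=
    MorphismProperty.pullback_fst _ _ inferInstance
  exact @isReduced_of_isOpenImmersion _ _ _ hoi ‹_›

/-- Geometric reducedness descends along a field extension of the base. -/
theorem geometricallyReduced_of_isPullback {k K : Type u} [Field k] [Field K] [Algebra k K]
    {X X' : Scheme.{u}} (f : X ⟶ Spec (CommRingCat.of k)) (f' : X' ⟶ Spec (CommRingCat.of K))
    (q : X' ⟶ X) (sq : IsPullback q f' f (Spec.map (CommRingCat.ofHom (algebraMap k K))))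
    [GeometricallyReduced f'] : GeometricallyReduced f := by
  have h : GeometricallyReduced f' := inferInstance
  rw [geometricallyReduced_iff] at h ⊢
  refine Groth.Agent.Lib.Helper69.geometrically_descent'' _ (fun β snd hW => ?_)
    (Field.toIsField K) (Field.toIsField k) (CommRingCat.ofHom (algebraMap k K)) sq h
  have : AlgebraicGeometry.IsReduced (pullback snd (Spec.map (CommRingCat.ofHom β))) := hW
  have hs : Surjective (Spec.map (CommRingCat.ofHom β)) :=
    Groth.Agent.Lib.Helper69.surjective_specMap_field β
  have hd : IsSchemeTheoreticallyDominant (Spec.map (CommRingCat.ofHom β)) := by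
    rw [isSchemeTheoreticallyDominant_iff_isDominant]
    infer_instance
  exact IsSchemeTheoreticallyDominant.isReduced
    (pullback.fst snd (Spec.map (CommRingCat.ofHom β)))

end Groth.Agent.Lib.Helper51
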