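import Mathlib

/-!
# Jacobian criterion: slicing a formally smooth local algebra (helper51)

`P` a local `R`-algebra, formally smooth with `Ω[P/R]` finite free, `K` its residue field.

* `one_tmul_D_mem_span`, `span_one_tmul_D_eq_top`: if `𝔞 ⊆ 𝔪` is generated by `G` and `Ω[(P/𝔞)/R] = 0`,
  the elements `1 ⊗ d g`, `g ∈ G`, span `K ⊗ Ω[P/R]`.
* `formallySmooth_quotient_of_linearIndependent`: if `j i ∈ 𝔪` and the `1 ⊗ d (j i)` are linearly
  independent in `K ⊗ Ω[P/R]`, then `P/(j)` is formally smooth over `R`.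
* `subsingleton_kaehler_quotient_of_span_eq_top`, `formallyEtale_quotient_of_basis`: if moreover they span,
  `P/(j)` is formally étale over `R`.
-/

set_option autoImplicit false
open TensorProduct IsLocalRing KaehlerDifferential

namespace Groth.Agent.Lib.Helper51.JacobianSlice

section Local

variable {R P : Type*} [CommRing R] [CommRing P] [Algebra R P] [IsLocalRing P]

theorem one_tmul_D_mem_span (G : Set P) (hG : G ⊆ maximalIdeal P) (y : P)
    (hy : y ∈ Ideal.span G) :
    (1 : ResidueField P) ⊗ₜ[P] D R P y ∈ Submodule.span (ResidueField P)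
      ((fun g => (1 : ResidueField P) ⊗ₜ[P] D R P g) '' G) := by
  have hle : Ideal.span G ≤ maximalIdeal P := Ideal.span_le.mpr hG
  induction hy using Submodule.span_induction with
  | mem x hx => exact Submodule.subset_span ⟨x, hx, rfl⟩
  | zero => simp
  | add x y hx hy ihx ihy =>
    rw [map_add, tmul_add]
    exact Submodule.add_mem _ ihx ihy
  | smul a x hx ih =>
    rw [smul_eq_mul, Derivation.leibniz, tmul_add]
    refine Submodule.add_mem _ ?_ ?_
    · have : (1 : ResidueField P) ⊗ₜ[P] (a • D R P x) =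
          (residue P a) • ((1 : ResidueField P) ⊗ₜ[P] D R P x) := by
        rw [← smul_tmul, smul_tmul', Algebra.smul_def, mul_one, smul_eq_mul, mul_one]
        rfl
      rw [this]
      exact Submodule.smul_mem _ _ ih
    · have : (1 : ResidueField P) ⊗ₜ[P] (x • D R P a) = 0 := by
        rw [← smul_tmul, Algebra.smul_def, mul_one]
        have : algebraMap P (ResidueField P) x = 0 := (residue_eq_zero_iff x).mpr (hle hx)
        rw [this, zero_tmul]
      rw [this]
      exact Submodule.zero_mem _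

/-- If `𝔞 ⊆ 𝔪` is generated by `G` and `P/𝔞` has no differentials over `R`, then the `1 ⊗ d g`, `g ∈ G`,
span `K ⊗ Ω[P/R]` over the residue field `K`. -/
theorem span_one_tmul_D_eq_top (𝔞 : Ideal P) (h𝔞 : 𝔞 ≤ maximalIdeal P)
    [Subsingleton Ω[(P ⧸ 𝔞)⁄R]] (G : Set P) (hG : Ideal.span G = 𝔞) :
    Submodule.span (ResidueField P)
      ((fun g => (1 : ResidueField P) ⊗ₜ[P] D R P g) '' G) = ⊤ := by
  rw [eq_top_iff]
  intro v _
  let φ : (P ⧸ 𝔞) →ₗ[P] ResidueField P :=
    Submodule.liftQ 𝔞 (Algebra.linearMap P (ResidueField P)) (by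
      intro x hx
      exact (residue_eq_zero_iff x).mpr (h𝔞 hx))
  have hφ : Function.Surjective φ := by
    intro k
    obtain ⟨p, rfl⟩ := residue_surjective k
    exact ⟨Ideal.Quotient.mk 𝔞 p, rfl⟩
  obtain ⟨z, rfl⟩ := LinearMap.rTensor_surjective Ω[P⁄R] hφ v
  have hex := KaehlerDifferential.exact_kerCotangentToTensor_mapBaseChange R P (P ⧸ 𝔞)
    Ideal.Quotient.mk_surjective
  obtain ⟨c, rfl⟩ := (hex z).mp (Subsingleton.elim _ _)
  obtain ⟨⟨y, hy⟩, rfl⟩ := Ideal.toCotangent_surjective _ c
  rw [KaehlerDifferential.kerCotangentToTensor_toCotangent, LinearMap.rTensor_tmul]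
  have h1 : φ 1 = 1 := rfl
  rw [h1]
  refine one_tmul_D_mem_span G ?_ y ?_
  · intro g hg
    exact h𝔞 (hG ▸ Ideal.subset_span hg)
  · rw [hG]
    simpa [Ideal.Quotient.eq_zero_iff_mem] using hy

section Quotient

variable {ι : Type*} (j : ι → P) (hj : ∀ i, j i ∈ maximalIdeal P)

include hj in
theorem span_range_le_maximalIdeal : Ideal.span (Set.range j) ≤ maximalIdeal P :=
  Ideal.span_le.mpr (by rintro _ ⟨i, rfl⟩; exact hj i)

include hj in
theorem isLocalRing_quotient : IsLocalRing (P ⧸ Ideal.span (Set.range j)) := by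
  have : Nontrivial (P ⧸ Ideal.span (Set.range j)) :=
    Ideal.Quotient.nontrivial_iff.mpr (fun h => (maximalIdeal.isMaximal P).ne_top
      (top_le_iff.mp (h ▸ span_range_le_maximalIdeal j hj)))
  exact IsLocalRing.of_surjective' (Ideal.Quotient.mk _) Ideal.Quotient.mk_surjective

include hj in
/-- **Jacobian criterion (smooth slice)**: if the `1 ⊗ d (j i)` are linearly independent in
`K ⊗ Ω[P/R]`, then `P/(j)` is formally smooth over `R`. -/
theorem formallySmooth_quotient_of_linearIndependent [Finite ι]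
    [Algebra.FormallySmooth R P] [Module.Free P Ω[P⁄R]] [Module.Finite P Ω[P⁄R]]
    (hli : LinearIndependent (ResidueField P)
      (fun i => (1 : ResidueField P) ⊗ₜ[P] D R P (j i))) :
    Algebra.FormallySmooth R (P ⧸ Ideal.span (Set.range j)) := by
  classical
  set 𝔟 : Ideal P := Ideal.span (Set.range j) with h𝔟def
  have h𝔟 : 𝔟 ≤ maximalIdeal P := span_range_le_maximalIdeal j hj
  haveI : IsLocalRing (P ⧸ 𝔟) := isLocalRing_quotient j hj
  let toK : (P ⧸ 𝔟) →+* ResidueField P := Ideal.Quotient.lift 𝔟 (residue P)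
    (fun a ha => (residue_eq_zero_iff a).mpr (h𝔟 ha))
  letI : Algebra (P ⧸ 𝔟) (ResidueField P) := toK.toAlgebra
  haveI : IsScalarTower P (P ⧸ 𝔟) (ResidueField P) := IsScalarTower.of_algebraMap_eq' rfl
  have h₁ : Function.Surjective (algebraMap P (P ⧸ 𝔟)) := Ideal.Quotient.mk_surjective
  have hker : RingHom.ker (algebraMap P (P ⧸ 𝔟)) = 𝔟 := Ideal.mk_ker
  have h₂ : (RingHom.ker (algebraMap P (P ⧸ 𝔟))).FG := by
    rw [hker]
    exact Submodule.fg_span (Set.finite_range j)
  have h₃ : maximalIdeal (P ⧸ 𝔟) ≤ RingHom.ker (algebraMap (P ⧸ 𝔟) (ResidueField P)) := by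
    intro x hx
    obtain ⟨p, rfl⟩ := Ideal.Quotient.mk_surjective x
    rw [RingHom.mem_ker]
    change residue P p = 0
    rw [residue_eq_zero_iff]
    by_contra hp
    have hu : IsUnit p := by
      by_contra hnu
      exact hp ((mem_maximalIdeal p).mpr hnu)
    exact ((mem_maximalIdeal _).mp hx) (hu.map (Ideal.Quotient.mk 𝔟))
  rw [Algebra.FormallySmooth.iff_injective_cotangentComplexBaseChange P (ResidueField P) h₁ h₂ h₃]
  let j' : ι → RingHom.ker (algebraMap P (P ⧸ 𝔟)) := fun i =>
    ⟨j i, by rw [hker]; exact Ideal.subset_span ⟨i, rfl⟩⟩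
  let π : (ι →₀ P) →ₗ[P] RingHom.ker (algebraMap P (P ⧸ 𝔟)) := Finsupp.linearCombination P j'
  have hπ : Function.Surjective π := by
    rw [← LinearMap.range_eq_top, Finsupp.range_linearCombination]
    apply Submodule.map_injective_of_injective
      (RingHom.ker (algebraMap P (P ⧸ 𝔟))).injective_subtype
    rw [Submodule.map_span, ← Set.range_comp, Submodule.map_subtype_top]
    exact hker.symm
  let g : ResidueField P ⊗[P] (ι →₀ P) →ₗ[P]
      ResidueField P ⊗[P] RingHom.ker (algebraMap P (P ⧸ 𝔟)) := LinearMap.lTensor (ResidueField P) π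
  have hg : Function.Surjective g := LinearMap.lTensor_surjective (ResidueField P) hπ
  let e := TensorProduct.finsuppScalarRight P (ResidueField P) (ResidueField P) ι
  have hcomp : ∀ c : ι →₀ ResidueField P,
      cotangentComplexBaseChange R (P ⧸ 𝔟) P (ResidueField P) (g (e.symm c)) =
        Finsupp.linearCombination (ResidueField P)
          (fun i => (1 : ResidueField P) ⊗ₜ[P] D R P (j i)) c := by
    intro c
    induction c using Finsupp.induction_linear with
    | zero => simp
    | add a b ha hb => simp only [map_add, ha, hb]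
    | single i k =>
      rw [finsuppScalarRight_symm_apply_single, LinearMap.lTensor_tmul,
        Finsupp.linearCombination_single, cotangentComplexBaseChange_tmul, kerToTensor_apply,
        Finsupp.linearCombination_single]
      simp only [one_smul]
      rfl
  intro x y hxy
  obtain ⟨a, rfl⟩ := hg x
  obtain ⟨b, rfl⟩ := hg y
  obtain ⟨a, rfl⟩ := e.symm.surjective a
  obtain ⟨b, rfl⟩ := e.symm.surjective b
  rw [hcomp, hcomp] at hxy
  rw [hli hxy]

omit [IsLocalRing P] in
/-- If the `d (j i)` span `Ω[P/R]`, then `P/(j)` has no differentials over `R`. -/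
theorem subsingleton_kaehler_quotient_of_span_eq_top
    (hspan : Submodule.span P (Set.range fun i => D R P (j i)) = ⊤) :
    Subsingleton Ω[(P ⧸ Ideal.span (Set.range j))⁄R] := by
  set 𝔟 : Ideal P := Ideal.span (Set.range j)
  have hm : KaehlerDifferential.map R R P (P ⧸ 𝔟) = 0 := by
    apply LinearMap.ext_on_range hspan
    intro i
    rw [KaehlerDifferential.map_D, LinearMap.zero_apply]
    have : algebraMap P (P ⧸ 𝔟) (j i) = 0 :=
      Ideal.Quotient.eq_zero_iff_mem.mpr (Ideal.subset_span ⟨i, rfl⟩)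
    rw [this, map_zero]
  have hD : ∀ s : P ⧸ 𝔟, D R (P ⧸ 𝔟) s = 0 := by
    intro s
    obtain ⟨p, rfl⟩ := Ideal.Quotient.mk_surjective s
    have := KaehlerDifferential.map_D R R P (P ⧸ 𝔟) p
    rw [hm, LinearMap.zero_apply] at this
    exact this.symm
  have htop := KaehlerDifferential.span_range_derivation R (P ⧸ 𝔟)
  have hbot : Submodule.span (P ⧸ 𝔟) (Set.range (D R (P ⧸ 𝔟))) = ⊥ := by
    rw [Submodule.span_eq_bot]
    rintro _ ⟨s, rfl⟩
    exact hD s
  rw [hbot] at htop
  exact (Submodule.subsingleton_iff (P ⧸ 𝔟)).mp (subsingleton_of_bot_eq_top htop)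

include hj in
/-- **Jacobian criterion (étale slice)**: if the `1 ⊗ d (j i)` form a basis of `K ⊗ Ω[P/R]`, then
`P/(j)` is formally étale over `R`. -/
theorem formallyEtale_quotient_of_basis [Finite ι]
    [Algebra.FormallySmooth R P] [Module.Free P Ω[P⁄R]] [Module.Finite P Ω[P⁄R]]
    (hli : LinearIndependent (ResidueField P)
      (fun i => (1 : ResidueField P) ⊗ₜ[P] D R P (j i)))
    (hsp : Submodule.span (ResidueField P)
      (Set.range fun i => (1 : ResidueField P) ⊗ₜ[P] D R P (j i)) = ⊤) :
    Algebra.FormallyEtale R (P ⧸ Ideal.span (Set.range j)) := by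
  have h1 := formallySmooth_quotient_of_linearIndependent j hj hli
  let b : Module.Basis ι (ResidueField P) (ResidueField P ⊗[P] Ω[P⁄R]) :=
    Module.Basis.mk hli hsp.ge
  have hspan : Submodule.span P (Set.range fun i => D R P (j i)) = ⊤ :=
    IsLocalRing.span_eq_top_of_tmul_eq_basis (fun i => D R P (j i)) b
      (fun i => (Module.Basis.mk_apply hli hsp.ge i).symm)
  have h2 : Subsingleton Ω[(P ⧸ Ideal.span (Set.range j))⁄R] :=
    subsingleton_kaehler_quotient_of_span_eq_top j hspan
  have h3 : Algebra.FormallyUnramified R (P ⧸ Ideal.span (Set.range j)) := ⟨h2⟩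
  exact Algebra.FormallyEtale.of_formallyUnramified_and_formallySmooth

end Quotient

end Local

end Groth.Agent.Lib.Helper51.JacobianSlice
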