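import Mathlib
import Groth.Agent.Lib.Helper51.JacobianSlice

/-!
# Global étale slice (helper51)

`R → B` smooth, `q` a prime of `B`, `J ≤ q` an ideal such that `B_q / J B_q` has no differentials
over `R`.  Then there are a finitely generated `I₀ ≤ J` and `f ∉ q` with `B_f / I₀ B_f` étale over `R`.
-/

set_option autoImplicit false
open TensorProduct IsLocalRing KaehlerDifferential

namespace Groth.Agent.Lib.Helper51.EtaleSlice

open Groth.Agent.Lib.Helper51.JacobianSlice

section LocalStep

variable {R B : Type*} [CommRing R] [CommRing B] [Algebra R B]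

/-- Local step: find finitely many elements of `J` cutting out a formally étale quotient of `B_q`
(`P` any localization of `B` at `q`). -/
theorem exists_fg_formallyEtale_of_isLocalization [Algebra.Smooth R B]
    (q : Ideal B) [q.IsPrime] (P : Type*) [CommRing P] [Algebra B P] [Algebra R P]
    [IsScalarTower R B P] [IsLocalization.AtPrime P q] (J : Ideal B) (hJ : J ≤ q)
    [Subsingleton Ω[(P ⧸ J.map (algebraMap B P))⁄R]] :
    ∃ I₀ : Ideal B, I₀ ≤ J ∧ I₀.FG ∧
      Algebra.FormallyEtale R (P ⧸ I₀.map (algebraMap B P)) := by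
  classical
  haveI : IsLocalRing P := IsLocalization.AtPrime.isLocalRing P q
  haveI : Algebra.FormallySmooth B P := Algebra.FormallySmooth.of_isLocalization q.primeCompl
  haveI : Algebra.FormallySmooth R P := Algebra.FormallySmooth.comp R B P
  haveI : Algebra.EssFiniteType B P := Algebra.EssFiniteType.of_isLocalization P q.primeCompl
  haveI : Algebra.EssFiniteType R P := Algebra.EssFiniteType.comp R B P
  haveI : Module.Finite P Ω[P⁄R] := inferInstance
  haveI : Module.Free P Ω[P⁄R] := Module.free_of_flat_of_isLocalRing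
  let K := ResidueField P
  let V := K ⊗[P] Ω[P⁄R]
  let G : Set P := algebraMap B P '' (J : Set B)
  have hGspan : Ideal.span G = J.map (algebraMap B P) := rfl
  have h𝔞 : J.map (algebraMap B P) ≤ maximalIdeal P := by
    rw [← IsLocalization.AtPrime.map_eq_maximalIdeal q P]
    exact Ideal.map_mono hJ
  have htop := span_one_tmul_D_eq_top (R := R) (J.map (algebraMap B P)) h𝔞 G hGspan
  set T : Set V := (fun g => (1 : K) ⊗ₜ[P] D R P g) '' G with hT
  obtain ⟨b, hbT, hbspan, hbli⟩ := exists_linearIndependent K T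
  haveI : Module.Finite K V := inferInstance
  have hbfin : b.Finite := hbli.setFinite
  haveI : Finite b := hbfin
  have hchoice : ∀ v : b, ∃ β : B, β ∈ J ∧ (1 : K) ⊗ₜ[P] D R P (algebraMap B P β) = (v : V) := by
    intro v
    obtain ⟨g, ⟨β, hβ, rfl⟩, hg⟩ := hbT v.2
    exact ⟨β, hβ, hg⟩
  choose β hβJ hβv using hchoice
  let j : b → P := fun v => algebraMap B P (β v)
  have hj : ∀ v, j v ∈ maximalIdeal P := fun v =>
    h𝔞 (Ideal.mem_map_of_mem _ (hβJ v))
  have hfun : (fun v : b => (1 : K) ⊗ₜ[P] D R P (j v)) = fun v : b => (v : V) := funext hβv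
  have hli : LinearIndependent K (fun v : b => (1 : K) ⊗ₜ[P] D R P (j v)) := by
    rw [hfun]; exact hbli
  have hsp : Submodule.span K (Set.range fun v : b => (1 : K) ⊗ₜ[P] D R P (j v)) = ⊤ := by
    rw [hfun, Subtype.range_coe, hbspan]
    exact htop
  have hE := formallyEtale_quotient_of_basis (R := R) j hj hli hsp
  refine ⟨Ideal.span (Set.range β), Ideal.span_le.mpr ?_, Submodule.fg_span (Set.finite_range β), ?_⟩
  · rintro _ ⟨v, rfl⟩
    exact hβJ v
  · have : (Ideal.span (Set.range β)).map (algebraMap B P) = Ideal.span (Set.range j) := by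
      rw [Ideal.map_span, ← Set.range_comp]
      rfl
    rw [this]
    exact hE

/-- Local step for `Localization.AtPrime q`. -/
theorem exists_fg_formallyEtale_atPrime [Algebra.Smooth R B]
    (q : Ideal B) [q.IsPrime] (J : Ideal B) (hJ : J ≤ q)
    [Subsingleton Ω[(Localization.AtPrime q ⧸ J.map (algebraMap B (Localization.AtPrime q)))⁄R]] :
    ∃ I₀ : Ideal B, I₀ ≤ J ∧ I₀.FG ∧
      Algebra.FormallyEtale R
        (Localization.AtPrime q ⧸ I₀.map (algebraMap B (Localization.AtPrime q))) :=
  exists_fg_formallyEtale_of_isLocalization q (Localization.AtPrime q) J hJ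

end LocalStep

section GlobalStep

variable {R B : Type*} [CommRing R] [CommRing B] [Algebra R B]

/-- scalar tower `R → B/I → S/IS`. -/
instance isScalarTower_quotient_map (I : Ideal B) (S : Type*) [CommRing S] [Algebra B S]
    [Algebra R S] [IsScalarTower R B S] :
    IsScalarTower R (B ⧸ I) (S ⧸ I.map (algebraMap B S)) :=
  IsScalarTower.of_algebraMap_eq fun r => by
    rw [IsScalarTower.algebraMap_apply R B (B ⧸ I), Ideal.Quotient.algebraMap_eq,
      Ideal.Quotient.algebraMap_quotient_map_quotient,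
      IsScalarTower.algebraMap_apply R S (S ⧸ I.map (algebraMap B S)),
      Ideal.Quotient.algebraMap_eq, IsScalarTower.algebraMap_apply R B S]

theorem algebraMapSubmonoid_primeCompl_quotient (I q : Ideal B) [q.IsPrime] (hI : I ≤ q)
    [(q.map (Ideal.Quotient.mk I)).IsPrime] :
    Algebra.algebraMapSubmonoid (B ⧸ I) q.primeCompl = (q.map (Ideal.Quotient.mk I)).primeCompl := by
  ext y
  constructor
  · rintro ⟨b, hb, rfl⟩
    intro hmem
    apply hb
    rw [Ideal.Quotient.algebraMap_eq] at hmem
    obtain ⟨c, hc, hcb⟩ := (Ideal.mem_map_iff_of_surjective _ Ideal.Quotient.mk_surjective).mp hmem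
    have : c - b ∈ I := Ideal.Quotient.eq.mp hcb
    have h2 : b = c - (c - b) := by ring
    rw [h2]
    exact Ideal.sub_mem _ hc (hI this)
  · intro hy
    obtain ⟨b, rfl⟩ := Ideal.Quotient.mk_surjective y
    refine ⟨b, ?_, rfl⟩
    intro hb
    exact hy (Ideal.mem_map_of_mem _ hb)

/-- **Global étale slice**: `R → B` smooth, `J ≤ q` with `Ω[(B_q/J B_q)/R] = 0` (`P` any localization
of `B` at `q`). Then there are a finitely generated `I₀ ≤ J` and `f ∉ q` with `B_f / I₀ B_f` étale
over `R`. -/
theorem exists_etale_away_quotient_of_isLocalization [Algebra.Smooth R B]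
    (q : Ideal B) [q.IsPrime] (P : Type*) [CommRing P] [Algebra B P] [Algebra R P]
    [IsScalarTower R B P] [IsLocalization.AtPrime P q] (J : Ideal B) (hJ : J ≤ q)
    [Subsingleton Ω[(P ⧸ J.map (algebraMap B P))⁄R]] :
    ∃ I₀ : Ideal B, I₀ ≤ J ∧ I₀.FG ∧ ∃ f : B, f ∉ q ∧
      Algebra.Etale R (Localization.Away f ⧸ I₀.map (algebraMap B (Localization.Away f))) := by
  obtain ⟨I₀, hI₀J, hfg, hE⟩ := exists_fg_formallyEtale_of_isLocalization (R := R) q P J hJ
  refine ⟨I₀, hI₀J, hfg, ?_⟩
  have hI₀q : I₀ ≤ q := hI₀J.trans hJ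
  haveI hqb : (q.map (Ideal.Quotient.mk I₀)).IsPrime :=
    Ideal.map_isPrime_of_surjective Ideal.Quotient.mk_surjective (by rwa [Ideal.mk_ker])
  set qb := q.map (Ideal.Quotient.mk I₀) with hqbdef
  haveI h1 : IsLocalization (Algebra.algebraMapSubmonoid (B ⧸ I₀) q.primeCompl)
      (P ⧸ I₀.map (algebraMap B P)) := inferInstance
  rw [algebraMapSubmonoid_primeCompl_quotient I₀ q hI₀q] at h1
  let e₁ : Localization.AtPrime qb ≃ₐ[B ⧸ I₀] (P ⧸ I₀.map (algebraMap B P)) :=
    IsLocalization.algEquiv qb.primeCompl _ _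
  let e₁' : (P ⧸ I₀.map (algebraMap B P)) ≃ₐ[R] Localization.AtPrime qb :=
    (e₁.restrictScalars R).symm
  haveI : Algebra.IsEtaleAt R qb := Algebra.FormallyEtale.of_equiv e₁'
  haveI : Algebra.FinitePresentation R (B ⧸ I₀) := Algebra.FinitePresentation.quotient hfg
  obtain ⟨r, hr, hEt⟩ := Algebra.exists_etale_of_isEtaleAt (R := R) qb
  obtain ⟨f, rfl⟩ := Ideal.Quotient.mk_surjective r
  refine ⟨f, fun hf => hr (Ideal.mem_map_of_mem _ hf), ?_⟩
  haveI h2 : IsLocalization (Algebra.algebraMapSubmonoid (B ⧸ I₀) (Submonoid.powers f))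
      (Localization.Away f ⧸ I₀.map (algebraMap B (Localization.Away f))) := inferInstance
  have hpow : Algebra.algebraMapSubmonoid (B ⧸ I₀) (Submonoid.powers f) =
      Submonoid.powers (Ideal.Quotient.mk I₀ f) := Submonoid.map_powers _ f
  rw [hpow] at h2
  let e₂ : Localization.Away (Ideal.Quotient.mk I₀ f) ≃ₐ[B ⧸ I₀]
      (Localization.Away f ⧸ I₀.map (algebraMap B (Localization.Away f))) :=
    IsLocalization.algEquiv (Submonoid.powers (Ideal.Quotient.mk I₀ f)) _ _
  exact Algebra.Etale.of_equiv (e₂.restrictScalars R)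

/-- Global étale slice for `Localization.AtPrime q`. -/
theorem exists_etale_away_quotient [Algebra.Smooth R B]
    (q : Ideal B) [q.IsPrime] (J : Ideal B) (hJ : J ≤ q)
    [Subsingleton Ω[(Localization.AtPrime q ⧸ J.map (algebraMap B (Localization.AtPrime q)))⁄R]] :
    ∃ I₀ : Ideal B, I₀ ≤ J ∧ I₀.FG ∧ ∃ f : B, f ∉ q ∧
      Algebra.Etale R (Localization.Away f ⧸ I₀.map (algebraMap B (Localization.Away f))) :=
  exists_etale_away_quotient_of_isLocalization q (Localization.AtPrime q) J hJ

end GlobalStep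

end Groth.Agent.Lib.Helper51.EtaleSlice
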