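import Mathlib
import Groth.Agent.Lib.Helper51.JacobianSmooth

/-!
# Minimal generators of an ideal at a prime (helper51)

For a finitely generated ideal `J` of `B` and a prime `q`, there are `g_1, …, g_r ∈ J` generating `J B_q`
with `r = dim_κ(q) κ(q) ⊗_B J` (Nakayama).
-/

set_option autoImplicit false
open TensorProduct IsLocalRing

namespace Groth.Agent.Lib.Helper51.MinGen

open Groth.Agent.Lib.Helper51.JacobianSmooth

theorem exists_minimal_generators {B : Type*} [CommRing B] (q : Ideal B) [q.IsPrime] (J : Ideal B)
    (hJ : J.FG) :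
    ∃ (r : ℕ) (g : Fin r → B), (∀ i, g i ∈ J) ∧
      J.map (algebraMap B (Localization.AtPrime q)) =
        Ideal.span (Set.range fun i => algebraMap B (Localization.AtPrime q) (g i)) ∧
      r = Module.finrank q.ResidueField (q.ResidueField ⊗[B] J) := by
  classical
  set P := Localization.AtPrime q with hP
  let K := ResidueField P
  let N : Ideal P := J.map (algebraMap B P)
  haveI : Module.Finite P N := Module.Finite.iff_fg.mpr (hJ.map _)
  let V := K ⊗[P] N
  let f₀ : J → N := fun b => ⟨algebraMap B P b, Ideal.mem_map_of_mem _ b.2⟩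
  let w : J → V := fun b => (1 : K) ⊗ₜ[P] f₀ b
  let t : Set V := Set.range w
  have hf₀ : Submodule.span P (Set.range f₀) = ⊤ := by
    apply Submodule.map_injective_of_injective N.injective_subtype
    rw [Submodule.map_span, Submodule.map_subtype_top, ← Set.range_comp]
    change Ideal.span _ = Ideal.map _ _
    rw [Ideal.map]
    congr 1
    ext x
    constructor
    · rintro ⟨b, rfl⟩
      exact ⟨b.1, b.2, rfl⟩
    · rintro ⟨b, hb, rfl⟩
      exact ⟨⟨b, hb⟩, rfl⟩
  have htop : Submodule.span K t = ⊤ := by
    rw [eq_top_iff]
    rintro v -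
    induction v using TensorProduct.induction_on with
    | zero => exact Submodule.zero_mem _
    | add x y hx hy => exact Submodule.add_mem _ hx hy
    | tmul k n =>
      have hn : n ∈ Submodule.span P (Set.range f₀) := by rw [hf₀]; trivial
      revert k
      induction hn using Submodule.span_induction with
      | mem x hx =>
        intro k
        obtain ⟨b, rfl⟩ := hx
        have : k ⊗ₜ[P] f₀ b = k • ((1 : K) ⊗ₜ[P] f₀ b) := by
          rw [TensorProduct.smul_tmul', smul_eq_mul, mul_one]
        rw [this]
        exact Submodule.smul_mem _ _ (Submodule.subset_span ⟨b, rfl⟩)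
      | zero =>
        intro k
        rw [TensorProduct.tmul_zero]
        exact Submodule.zero_mem _
      | add x y _ _ hx hy =>
        intro k
        rw [TensorProduct.tmul_add]
        exact Submodule.add_mem _ (hx k) (hy k)
      | smul p x _ hx =>
        intro k
        rw [← TensorProduct.smul_tmul]
        exact hx (p • k)
  obtain ⟨b, hbt, hspan, hli⟩ := exists_linearIndependent K t
  haveI : Module.Finite K V := inferInstance
  have hbfin : b.Finite := hli.setFinite
  haveI : Finite ↥b := hbfin
  obtain ⟨r, ⟨e⟩⟩ := Finite.exists_equiv_fin ↥b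
  have hchoice : ∀ j : Fin r, ∃ β : J, w β = ((e.symm j : ↥b) : V) := fun j => hbt (e.symm j).2
  choose g₁ hg₁ using hchoice
  have hfun : (fun j : Fin r => w (g₁ j)) = Subtype.val ∘ (e.symm : Fin r → ↥b) := by
    funext j
    exact hg₁ j
  have hli' : LinearIndependent K (fun j : Fin r => w (g₁ j)) := by
    rw [hfun]
    exact hli.comp _ e.symm.injective
  have hsp' : ⊤ ≤ Submodule.span K (Set.range fun j : Fin r => w (g₁ j)) := by
    rw [hfun, Set.range_comp, e.symm.surjective.range_eq, Set.image_univ, Subtype.range_coe, hspan,
      htop]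
  let bas : Module.Basis (Fin r) K V := Module.Basis.mk hli' hsp'
  have hsp := IsLocalRing.span_eq_top_of_tmul_eq_basis (R := P) (M := N)
    (fun j => f₀ (g₁ j)) bas (fun j => (Module.Basis.mk_apply hli' hsp' j).symm)
  refine ⟨r, fun j => (g₁ j : B), fun j => (g₁ j).2, ?_, ?_⟩
  · have h1 := congrArg (Submodule.map N.subtype) hsp
    rw [Submodule.map_span, Submodule.map_subtype_top, ← Set.range_comp] at h1
    exact h1.symm
  · have h2 : Module.finrank K V = r := by
      rw [Module.finrank_eq_card_basis bas, Fintype.card_fin]
    rw [← h2]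
    exact (LinearEquiv.finrank_eq (tensorIdealMapEquiv q.primeCompl J)).symm

end Groth.Agent.Lib.Helper51.MinGen
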