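import Mathlib
import Groth.Agent.Lib.Helper51.EtaleCoordAdapted
import Groth.Agent.Lib.Helper51.MinGen

/-!
# Étale coordinates adapted to a smooth closed subscheme, packaged (helper51)

`A → B` finitely presented and smooth at `q`, `ι : B → C` a surjection of `A`-algebras onto a smooth
`A`-algebra with `ker ι ≤ q`. Then on some `D(f) ∋ q` there are étale coordinates
`A[X_1..X_m, Z_1..Z_n] → B_f` with `Z_j ↦ g_j`, where the `g_j ∈ ker ι` generate `(ker ι) B_f`.
-/

set_option autoImplicit false
universe u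
open TensorProduct

namespace Groth.Agent.Lib.Helper51.ClosedCoord

open Groth.Agent.Lib.Helper51.EtaleCoordAdapted Groth.Agent.Lib.Helper51.MinGen

theorem exists_adapted_coordinates {A B C : Type u} [CommRing A] [CommRing B] [CommRing C]
    [Algebra A B] [Algebra A C] [Algebra.FinitePresentation A B] [Algebra.Smooth A C]
    (ι : B →ₐ[A] C) (hι : Function.Surjective ι) (q : Ideal B) [q.IsPrime]
    (hq : RingHom.ker ι ≤ q) [Algebra.IsSmoothAt A q] :
    ∃ (m n : ℕ) (f : B) (g : Fin n → B), f ∉ q ∧ (∀ j, ι (g j) = 0) ∧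
      ∀ (B' : Type u) [CommRing B'] [Algebra B B'] [IsLocalization.Away f B'],
        ∃ ψ : MvPolynomial (ULift.{u} (Fin m ⊕ Fin n)) A →+* B',
          ψ.Etale ∧ ψ.comp MvPolynomial.C = (algebraMap B B').comp (algebraMap A B) ∧
          (∀ j : Fin n, ψ (MvPolynomial.X (ULift.up (Sum.inr j))) = algebraMap B B' (g j)) ∧
          (RingHom.ker ι).map (algebraMap B B') =
            Ideal.span (Set.range fun j : Fin n => algebraMap B B' (g j)) := by
  classical
  set J : Ideal B := RingHom.ker ι with hJdef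
  have hJ : J.FG := Algebra.FinitePresentation.ker_fG_of_surjective ι hι
  let e₀ : (B ⧸ J) ≃ₐ[A] C := Ideal.quotientKerAlgEquivOfSurjective hι
  haveI : Algebra.Smooth A (B ⧸ J) := Algebra.Smooth.of_equiv e₀.symm
  let Q : Ideal (B ⧸ J) := q.map (Ideal.Quotient.mk J)
  haveI hQprime : Q.IsPrime :=
    Ideal.map_isPrime_of_surjective Ideal.Quotient.mk_surjective (by rw [Ideal.mk_ker]; exact hq)
  have hQ : Q.comap (Ideal.Quotient.mk J) = q := by
    rw [Ideal.comap_map_of_surjective _ Ideal.Quotient.mk_surjective, ← RingHom.ker_eq_comap_bot,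
      Ideal.mk_ker]
    exact sup_eq_left.mpr hq
  haveI : Algebra.IsSmoothAt A Q := inferInstanceAs (Algebra.FormallySmooth A (Localization.AtPrime Q))
  obtain ⟨n, g, hg, hgen, hmin⟩ := exists_minimal_generators q J hJ
  obtain ⟨f, hf, m, g', hEt, hgenf⟩ :=
    exists_adapted_etale_coordinates A B J hJ q hq Q hQ n g hg hgen hmin
  refine ⟨m, n, f, g, hf, fun j => (RingHom.mem_ker).mp (hg j), ?_⟩
  intro B' _ _ _
  let eB : Localization.Away f ≃ₐ[B] B' := IsLocalization.algEquiv (.powers f) _ _
  let T₀ := MvPolynomial (Fin n ⊕ Fin m) A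
  let T := MvPolynomial (ULift.{u} (Fin m ⊕ Fin n)) A
  let ψ₀ : T₀ →ₐ[A] Localization.Away f :=
    MvPolynomial.aeval (Sum.elim (fun i => algebraMap B (Localization.Away f) (g i)) g')
  let s : ULift.{u} (Fin m ⊕ Fin n) ≃ Fin n ⊕ Fin m := Equiv.ulift.trans (Equiv.sumComm _ _)
  let ρ : T ≃ₐ[A] T₀ := MvPolynomial.renameEquiv A s
  let ψ : T →+* B' :=
    ((eB : Localization.Away f ≃+* B').toRingHom.comp ψ₀.toRingHom).comp
      (ρ : T ≃+* T₀).toRingHom
  have hψX : ∀ k : ULift.{u} (Fin m ⊕ Fin n), ψ (MvPolynomial.X k) =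
      eB (Sum.elim (fun i => algebraMap B (Localization.Away f) (g i)) g' (s k)) := by
    intro k
    change eB (ψ₀ (MvPolynomial.rename s (MvPolynomial.X k))) = _
    rw [MvPolynomial.rename_X]
    change eB (MvPolynomial.aeval _ (MvPolynomial.X (s k))) = _
    rw [MvPolynomial.aeval_X]
  refine ⟨ψ, ?_, ?_, ?_, ?_⟩
  · have h1 : (ψ₀.toRingHom.comp (ρ : T ≃+* T₀).toRingHom).Etale :=
      RingHom.Etale.respectsIso.2 _ _ hEt
    have h2 := RingHom.Etale.respectsIso.1 _ (eB : Localization.Away f ≃+* B') h1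
    exact h2
  · ext a
    change eB (ψ₀ (MvPolynomial.rename s (MvPolynomial.C a))) = _
    rw [MvPolynomial.rename_C]
    change eB (MvPolynomial.aeval _ (MvPolynomial.C a)) = _
    rw [MvPolynomial.aeval_C, IsScalarTower.algebraMap_apply A B (Localization.Away f),
      AlgEquiv.commutes]
    rfl
  · intro j
    rw [hψX]
    change eB (algebraMap B (Localization.Away f) (g j)) = _
    rw [AlgEquiv.commutes]
  · have h1 : (J.map (algebraMap B (Localization.Away f))).map
        ((eB : Localization.Away f ≃+* B') : Localization.Away f →+* B') =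
        J.map (algebraMap B B') := by
      rw [Ideal.map_map]
      congr 1
      ext b
      exact eB.commutes b
    rw [← h1, hgenf, Ideal.map_span, ← Set.range_comp]
    congr 2
    funext j
    exact eB.commutes (g j)

end Groth.Agent.Lib.Helper51.ClosedCoord
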