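import Mathlib
import Groth.Agent.Lib.Helper51.StalkBC
import Groth.Agent.Lib.Helper51.GeomRed
import Groth.Agent.Lib.Helper51.GeomIrr

/-!
# Geometric reducedness at a point (helper51)

`isGeomReducedAt_iff`: all local rings of all `X_K` at points over `x` are reduced iff `𝒪_{X,x}` is a
geometrically reduced `k`-algebra.
-/

set_option autoImplicit false
universe u
open CategoryTheory CategoryTheory.Limits AlgebraicGeometry TensorProduct

namespace Groth.Agent.Lib.Helper51

/-- A reduced algebra over a perfect field is geometrically reduced. -/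
theorem isGeometricallyReduced_of_perfectField_of_isReduced {k S : Type u} [Field k]
    [PerfectField k] [CommRing S] [Algebra k S] [IsReduced S] :
    Algebra.IsGeometricallyReduced k S := by
  refine ((Groth.Agent.S9634.result (k := k) (S := S)).out 0 1).mp ?_
  intro k' _ _ _ _
  have hb := algebraMap_bijective_of_perfectField k k'
  let e : k ≃ₐ[k] k' := AlgEquiv.ofBijective (Algebra.ofId k k') hb
  let E : k' ⊗[k] S ≃ₐ[k] S :=
    (Algebra.TensorProduct.congr e.symm (AlgEquiv.refl : S ≃ₐ[k] S)).trans
      (Algebra.TensorProduct.lid k S)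
  exact isReduced_of_injective E E.injective

section

variable {k : Type u} [Field k] {X : Scheme.{u}} (f : X ⟶ Spec (CommRingCat.of k)) (x : X)
  [Algebra k (X.presheaf.stalk x)]
  (hψ : Spec.map (CommRingCat.ofHom (algebraMap k (X.presheaf.stalk x))) = X.fromSpecStalk x ≫ f)

include hψ

theorem isReduced_stalk_of_isGeometricallyReduced_of_specializes
    [Algebra.IsGeometricallyReduced k (X.presheaf.stalk x)]
    (K : Type u) [Field K] [Algebra k K]
    (y : ↥(pullback f (Spec.map (CommRingCat.ofHom (algebraMap k K)))))
    (hy : pullback.fst f (Spec.map (CommRingCat.ofHom (algebraMap k K))) y ⤳ x) :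
    IsReduced ((pullback f (Spec.map (CommRingCat.ofHom (algebraMap k K)))).presheaf.stalk y) := by
  haveI h1 : IsReduced (K ⊗[k] X.presheaf.stalk x) :=
    isReduced_tensor_of_isGeometricallyReduced K
  haveI h2 : IsReduced (X.presheaf.stalk x ⊗[k] K) :=
    isReduced_of_injective (Algebra.TensorProduct.comm k (X.presheaf.stalk x) K)
      (Algebra.TensorProduct.comm k (X.presheaf.stalk x) K).injective
  exact isReduced_stalk_of_isReduced_tensor_of_specializes f x hψ K y hy

theorem isReduced_stalk_of_isGeometricallyReduced
    [Algebra.IsGeometricallyReduced k (X.presheaf.stalk x)]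
    (K : Type u) [Field K] [Algebra k K]
    (y : ↥(pullback f (Spec.map (CommRingCat.ofHom (algebraMap k K)))))
    (hy : pullback.fst f (Spec.map (CommRingCat.ofHom (algebraMap k K))) y = x) :
    IsReduced ((pullback f (Spec.map (CommRingCat.ofHom (algebraMap k K)))).presheaf.stalk y) :=
  isReduced_stalk_of_isGeometricallyReduced_of_specializes f x hψ K y (by rw [hy])

theorem isGeometricallyReduced_of_forall_stalk
    (h : ∀ y : ↥(pullback f (Spec.map (CommRingCat.ofHom (algebraMap k (AlgebraicClosure k))))),
      pullback.fst f (Spec.map (CommRingCat.ofHom (algebraMap k (AlgebraicClosure k)))) y = x →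
      IsReduced ((pullback f (Spec.map (CommRingCat.ofHom
        (algebraMap k (AlgebraicClosure k))))).presheaf.stalk y)) :
    Algebra.IsGeometricallyReduced k (X.presheaf.stalk x) := by
  rw [Algebra.isGeometricallyReduced_field_iff]
  haveI h1 : IsReduced (X.presheaf.stalk x ⊗[k] AlgebraicClosure k) :=
    isReduced_tensor_of_forall_stalk f x hψ (AlgebraicClosure k) h
  exact isReduced_of_injective (Algebra.TensorProduct.comm k (AlgebraicClosure k) (X.presheaf.stalk x))
      (Algebra.TensorProduct.comm k (AlgebraicClosure k) (X.presheaf.stalk x)).injective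

theorem isGeomReducedAt_iff :
    (∀ (K : Type u) [Field K] [Algebra k K]
      (y : ↥(pullback f (Spec.map (CommRingCat.ofHom (algebraMap k K))))),
      pullback.fst f (Spec.map (CommRingCat.ofHom (algebraMap k K))) y = x →
      IsReduced ((pullback f (Spec.map (CommRingCat.ofHom (algebraMap k K)))).presheaf.stalk y)) ↔
    Algebra.IsGeometricallyReduced k (X.presheaf.stalk x) := by
  constructor
  · intro h
    exact isGeometricallyReduced_of_forall_stalk f x hψ (h (AlgebraicClosure k))
  · intro h K _ _ y hy
    exact isReduced_stalk_of_isGeometricallyReduced f x hψ K y hy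

end


/-- A domain over an algebraically closed field stays a domain after any field extension. -/
theorem isDomain_tensor_of_isAlgClosed {k A : Type u} [Field k] [IsAlgClosed k] [CommRing A]
    [Algebra k A] [IsDomain A] (K : Type u) [Field K] [Algebra k K] :
    IsDomain (A ⊗[k] K) := by
  let g : Spec (CommRingCat.of A) ⟶ Spec (CommRingCat.of k) :=
    Spec.map (CommRingCat.ofHom (algebraMap k A))
  haveI : IsIntegral (Spec (CommRingCat.of A)) := (affine_isIntegral_iff _).mpr ‹IsDomain A›
  haveI : IsSepClosed k := inferInstance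
  haveI : PerfectField k := inferInstance
  haveI hI : GeometricallyIrreducible g := geometricallyIrreducible_of_isSepClosed g
  haveI hR : GeometricallyReduced g := geometricallyReduced_of_perfectField g
  haveI h1 : IrreducibleSpace ↥(pullback g (Spec.map (CommRingCat.ofHom (algebraMap k K)))) :=
    GeometricallyIrreducible.geometrically_irreducibleSpace (f := g) _ _ _
      (IsPullback.of_hasPullback _ _)
  haveI h2 : AlgebraicGeometry.IsReduced (pullback g (Spec.map (CommRingCat.ofHom (algebraMap k K)))) :=
    GeometricallyReduced.geometrically_isReduced (f := g) _ _ _ (IsPullback.of_hasPullback _ _)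
  haveI h3 : IsIntegral (pullback g (Spec.map (CommRingCat.ofHom (algebraMap k K)))) :=
    isIntegral_iff_irreducibleSpace_and_isReduced _ |>.mpr ⟨h1, h2⟩
  haveI h4 : IsIntegral (Spec (CommRingCat.of (A ⊗[k] K))) :=
    isIntegral_of_isOpenImmersion (pullbackSpecIso k A K).inv
  exact (affine_isIntegral_iff _).mp h4


/-- A reduced `k`-algebra `R` such that every minimal prime `𝔭` admits a `k`-algebra map to a
geometrically reduced algebra with kernel contained in `𝔭` is geometrically reduced. -/
theorem isGeometricallyReduced_of_minimalPrimes {k R : Type u} [Field k] [CommRing R] [Algebra k R]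
    [IsReduced R]
    (h : ∀ 𝔭 ∈ minimalPrimes R, ∃ (F : Type u) (_ : CommRing F) (_ : Algebra k F)
      (_ : Algebra.IsGeometricallyReduced k F) (φ : R →ₐ[k] F), RingHom.ker φ ≤ 𝔭) :
    Algebra.IsGeometricallyReduced k R := by
  classical
  rw [Algebra.isGeometricallyReduced_field_iff]
  set K := AlgebraicClosure k with hK
  suffices hred : IsReduced (R ⊗[k] K) from
    isReduced_of_injective (Algebra.TensorProduct.comm k K R) (Algebra.TensorProduct.comm k K R).injective
  let 𝒞 := Module.Basis.ofVectorSpace k K
  refine ⟨fun z hz => ?_⟩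
  set b := TensorProduct.equivFinsuppOfBasisRight (M := R) 𝒞 z with hb
  have hzb : z = b.sum fun i m => m ⊗ₜ[k] 𝒞 i := by
    rw [← TensorProduct.equivFinsuppOfBasisRight_symm_apply, hb, LinearEquiv.symm_apply_apply]
  -- every coefficient lies in every minimal prime
  have hmem : ∀ i, ∀ 𝔭 ∈ minimalPrimes R, b i ∈ 𝔭 := by
    intro i 𝔭 h𝔭
    obtain ⟨F, _, _, hF, φ, hker⟩ := h 𝔭 h𝔭
    apply hker
    rw [RingHom.mem_ker]
    haveI : IsReduced (K ⊗[k] F) := inferInstance
    haveI : IsReduced (F ⊗[k] K) :=
      isReduced_of_injective (Algebra.TensorProduct.comm k F K) (Algebra.TensorProduct.comm k F K).injective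
    let Φ : R ⊗[k] K →ₐ[k] F ⊗[k] K := Algebra.TensorProduct.map φ (AlgHom.id k K)
    have hΦz : IsNilpotent (Φ z) := hz.map Φ
    have hΦz0 : Φ z = 0 := hΦz.eq_zero
    have hsum : Φ z = (b.mapRange φ (map_zero φ)).sum fun i m => m ⊗ₜ[k] 𝒞 i := by
      rw [hzb, Finsupp.sum, map_sum, Finsupp.sum_mapRange_index (by intro i; simp)]
      rw [Finsupp.sum]
      apply Finset.sum_congr rfl
      intro j _
      simp [Φ]
    rw [hsum] at hΦz0
    have h0 := TensorProduct.sum_tmul_basis_right_eq_zero 𝒞 _ hΦz0
    have := DFunLike.congr_fun h0 i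
    simpa using this
  have hb0 : b = 0 := by
    ext i
    have h1 : b i ∈ sInf (minimalPrimes R) := by
      rw [Ideal.mem_sInf]
      intro 𝔭 h𝔭
      exact hmem i 𝔭 h𝔭
    have h2 : sInf (minimalPrimes R) = nilradical R := by
      rw [nilradical, ← Ideal.sInf_minimalPrimes]
      rfl
    rw [h2, nilradical_eq_zero] at h1
    simpa using h1
  rw [hzb, hb0]
  simp

end Groth.Agent.Lib.Helper51
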