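import Mathlib
import Groth.Agent.Lib.Helper51.GeomRedAt
import Groth.Agent.Lib.Helper51.IrrComp

/-!
# Geometric reducedness from the generic points (helper51)

`geometricallyReduced_of_generic`: a reduced `k`-scheme whose local rings at the generic points of the
irreducible components are geometrically reduced is geometrically reduced.
-/

set_option autoImplicit false
universe u
open CategoryTheory CategoryTheory.Limits AlgebraicGeometry TensorProduct

namespace Groth.Agent.Lib.Helper51

/-- The `k`-algebra structure on the local ring at a point of a `k`-scheme. -/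
noncomputable abbrev stalkAlg {k : Type u} [Field k] {X : Scheme.{u}}
    (f : X ⟶ Spec (CommRingCat.of k)) (x : X) : Algebra k (X.presheaf.stalk x) :=
  ((X.presheaf.germ ⊤ x trivial).hom.comp (Coh.toGlobal f)).toAlgebra

/-- The point of `X` attached to a minimal prime of `𝒪_{X,x}` is the generic point of an irreducible
component. -/
theorem closure_fromSpecStalk_mem_irreducibleComponents {X : Scheme.{u}} (x : X)
    (𝔭 : PrimeSpectrum (X.presheaf.stalk x)) (h𝔭 : 𝔭.asIdeal ∈ minimalPrimes (X.presheaf.stalk x)) :
    closure {X.fromSpecStalk x 𝔭} ∈ irreducibleComponents X := by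
  obtain ⟨ζ, hζη, hζ⟩ := exists_specializes_closure_mem_irreducibleComponents (X.fromSpecStalk x 𝔭)
  have hζx : ζ ⤳ x := by
    have h1 : X.fromSpecStalk x 𝔭 ⤳ x := by
      have : X.fromSpecStalk x 𝔭 ∈ Set.range (X.fromSpecStalk x) := ⟨𝔭, rfl⟩
      rw [Scheme.range_fromSpecStalk] at this
      exact this
    exact hζη.trans h1
  have hζr : ζ ∈ Set.range (X.fromSpecStalk x) := by
    rw [Scheme.range_fromSpecStalk]; exact hζx
  obtain ⟨𝔮, rfl⟩ := hζr
  have hspec : 𝔮 ⤳ 𝔭 :=
    (X.fromSpecStalk x).isEmbedding.isInducing.specializes_iff.mp hζη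
  have hle : 𝔮.asIdeal ≤ 𝔭.asIdeal := (PrimeSpectrum.le_iff_specializes 𝔮 𝔭).mpr hspec
  have heq : 𝔮 = 𝔭 := by
    apply PrimeSpectrum.ext
    exact le_antisymm hle (h𝔭.2 ⟨𝔮.2, bot_le⟩ hle)
  rw [← heq]; exact hζ

/-- The specialisation map `𝒪_{X,x} ⟶ 𝒪_{X,η}` for `η` the point attached to the prime `𝔭` of
`𝒪_{X,x}` pulls the maximal ideal back to `𝔭`. -/
theorem comap_stalkSpecializes_maximalIdeal {X : Scheme.{u}} (x : X)
    (𝔭 : PrimeSpectrum (X.presheaf.stalk x)) (h : X.fromSpecStalk x 𝔭 ⤳ x) :
    (IsLocalRing.maximalIdeal (X.presheaf.stalk (X.fromSpecStalk x 𝔭))).comap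
      (X.presheaf.stalkSpecializes h).hom = 𝔭.asIdeal := by
  have h1 := Scheme.SpecMap_stalkSpecializes_fromSpecStalk h
  have h2 := congrArg (fun φ => φ (IsLocalRing.closedPoint (X.presheaf.stalk (X.fromSpecStalk x 𝔭)))) h1
  simp only [Scheme.fromSpecStalk_closedPoint] at h2
  have h3 := (X.fromSpecStalk x).isEmbedding.injective h2
  have h4 := congrArg PrimeSpectrum.asIdeal h3
  rw [← h4]
  rfl

/-- If `𝒪_{X,x}` is reduced and the local rings at the points attached to the minimal primes of
`𝒪_{X,x}` are geometrically reduced, then `𝒪_{X,x}` is geometrically reduced. -/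
theorem isGeometricallyReduced_stalk_of_minimal {k : Type u} [Field k] {X : Scheme.{u}}
    (f : X ⟶ Spec (CommRingCat.of k)) (x : X) [_root_.IsReduced (X.presheaf.stalk x)]
    (hgen : ∀ P : PrimeSpectrum (X.presheaf.stalk x), P.asIdeal ∈ minimalPrimes (X.presheaf.stalk x) →
      @Algebra.IsGeometricallyReduced k (X.presheaf.stalk (X.fromSpecStalk x P)) _ _
        (stalkAlg f (X.fromSpecStalk x P))) :
    @Algebra.IsGeometricallyReduced k (X.presheaf.stalk x) _ _ (stalkAlg f x) := by
  letI := stalkAlg f x
  apply isGeometricallyReduced_of_minimalPrimes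
  intro 𝔭 h𝔭
  haveI : 𝔭.IsPrime := h𝔭.1.1
  let P : PrimeSpectrum (X.presheaf.stalk x) := ⟨𝔭, h𝔭.1.1⟩
  have hη : X.fromSpecStalk x P ⤳ x := by
    have : X.fromSpecStalk x P ∈ Set.range (X.fromSpecStalk x) := ⟨P, rfl⟩
    rw [Scheme.range_fromSpecStalk] at this
    exact this
  letI := stalkAlg f (X.fromSpecStalk x P)
  let φ : X.presheaf.stalk x →ₐ[k] X.presheaf.stalk (X.fromSpecStalk x P) :=
    { (X.presheaf.stalkSpecializes hη).hom with
      commutes' := by
        intro c
        show (X.presheaf.stalkSpecializes hη).hom ((X.presheaf.germ ⊤ x trivial).hom (Coh.toGlobal f c)) =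
          (X.presheaf.germ ⊤ (X.fromSpecStalk x P) trivial).hom (Coh.toGlobal f c)
        exact TopCat.Presheaf.germ_stalkSpecializes_apply X.presheaf (U := ⊤) trivial hη _ }
  refine ⟨X.presheaf.stalk (X.fromSpecStalk x P), inferInstance, inferInstance, hgen P h𝔭, φ, ?_⟩
  intro a ha
  rw [RingHom.mem_ker] at ha
  have h1 : a ∈ (IsLocalRing.maximalIdeal (X.presheaf.stalk (X.fromSpecStalk x P))).comap
      (X.presheaf.stalkSpecializes hη).hom := by
    rw [Ideal.mem_comap]
    have : (X.presheaf.stalkSpecializes hη).hom a = 0 := ha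
    rw [this]
    exact zero_mem _
  rw [comap_stalkSpecializes_maximalIdeal x P hη] at h1
  exact h1

/-- For a reduced `k`-scheme which is geometrically reduced at the generic points of its irreducible
components, all local rings are geometrically reduced `k`-algebras. -/
theorem isGeometricallyReduced_stalk_of_generic {k : Type u} [Field k] {X : Scheme.{u}}
    (f : X ⟶ Spec (CommRingCat.of k)) [IsReduced X]
    (hgen : ∀ η : X, closure {η} ∈ irreducibleComponents X →
      @Algebra.IsGeometricallyReduced k (X.presheaf.stalk η) _ _ (stalkAlg f η)) (x : X) :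
    @Algebra.IsGeometricallyReduced k (X.presheaf.stalk x) _ _ (stalkAlg f x) := by
  haveI : _root_.IsReduced (X.presheaf.stalk x) := inferInstance
  exact isGeometricallyReduced_stalk_of_minimal f x
    (fun P hP => hgen _ (closure_fromSpecStalk_mem_irreducibleComponents x P hP))

/-- A reduced `k`-scheme which is geometrically reduced at the generic points of its irreducible
components is geometrically reduced. -/
theorem geometricallyReduced_of_generic {k : Type u} [Field k] {X : Scheme.{u}}
    (f : X ⟶ Spec (CommRingCat.of k)) [IsReduced X]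
    (hgen : ∀ η : X, closure {η} ∈ irreducibleComponents X →
      @Algebra.IsGeometricallyReduced k (X.presheaf.stalk η) _ _ (stalkAlg f η)) :
    GeometricallyReduced f := by
  refine ⟨?_⟩
  rw [geometrically_iff_of_commRing_of_isClosedUnderIsomorphisms]
  intro K _ _
  refine @isReduced_of_isReduced_stalk _ ?_
  intro y
  letI := stalkAlg f (pullback.fst f (Spec.map (CommRingCat.ofHom (algebraMap k K))) y)
  have hψ := specMap_stalkMapOf f (pullback.fst f (Spec.map (CommRingCat.ofHom (algebraMap k K))) y)
  haveI := isGeometricallyReduced_stalk_of_generic f hgen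
    (pullback.fst f (Spec.map (CommRingCat.ofHom (algebraMap k K))) y)
  exact isReduced_stalk_of_isGeometricallyReduced f _ hψ K y rfl

end Groth.Agent.Lib.Helper51
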