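import Mathlib
import Groth.Agent.Lib.Helper51.GenericRed

/-!
# Openness of the geometrically reduced locus on locally Noetherian schemes (helper51)
-/

set_option autoImplicit false
universe u
open AlgebraicGeometry CategoryTheory CategoryTheory.Limits

namespace Groth.Agent.Lib.Helper51

/-- In a Noetherian ring, reducedness of a localisation at a prime spreads to a basic open. -/
theorem exists_notMem_forall_isReduced_localization {A : Type*} [CommRing A] [IsNoetherianRing A]
    (p : Ideal A) [p.IsPrime] (S : Type*) [CommRing S] [Algebra A S] [IsLocalization.AtPrime S p]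
    [IsReduced S] :
    ∃ f : A, f ∉ p ∧ ∀ (q : Ideal A) [q.IsPrime] (T : Type*) [CommRing T] [Algebra A T]
      [IsLocalization.AtPrime T q], f ∉ q → IsReduced T := by
  classical
  obtain ⟨G, hG⟩ := (isNoetherian_def.mp ‹IsNoetherianRing A›) (nilradical A)
  have hs : ∀ n ∈ G, ∃ s : A, s ∉ p ∧ s * n = 0 := by
    intro n hn
    have hnil : IsNilpotent n := by
      have : n ∈ nilradical A := hG ▸ Submodule.subset_span hn
      exact mem_nilradical.mp this
    have h0 : algebraMap A S n = 0 := (hnil.map (algebraMap A S)).eq_zero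
    obtain ⟨⟨s, hs⟩, hsn⟩ := (IsLocalization.map_eq_zero_iff p.primeCompl S n).mp h0
    exact ⟨s, hs, hsn⟩
  choose! s hs1 hs2 using hs
  refine ⟨∏ n ∈ G, s n, ?_, ?_⟩
  · intro hmem
    obtain ⟨n, hn, hsn⟩ := (Ideal.IsPrime.prod_mem_iff (p := p)).mp hmem
    exact hs1 n hn hsn
  · intro q _ T _ _ _ hfq
    have hkill : ∀ n ∈ nilradical A, (∏ n ∈ G, s n) * n = 0 := by
      intro n hn
      rw [← hG] at hn
      induction hn using Submodule.span_induction with
      | mem x hx =>
        rw [← Finset.prod_erase_mul _ _ hx, mul_assoc, hs2 x hx, mul_zero]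
      | zero => simp
      | add x y _ _ hx hy => rw [mul_add, hx, hy, add_zero]
      | smul a x _ hx => rw [smul_eq_mul, mul_left_comm, hx, mul_zero]
    refine ⟨fun a ha => ?_⟩
    obtain ⟨n, t, rfl⟩ := IsLocalization.exists_mk'_eq q.primeCompl a
    obtain ⟨m, hm⟩ := ha
    rw [← IsLocalization.mk'_pow] at hm
    obtain ⟨u, hu⟩ := (IsLocalization.mk'_eq_zero_iff _ _).mp hm
    have hun : (u : A) * n ∈ nilradical A := by
      rw [mem_nilradical]
      refine ⟨m + 1, ?_⟩
      rw [mul_pow, pow_succ, pow_succ]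
      calc (u : A) ^ m * u * (n ^ m * n) = (u : A) ^ m * n * (u * n ^ m) := by ring
        _ = 0 := by rw [hu, mul_zero]
    have h1 := hkill _ hun
    rw [IsLocalization.mk'_eq_zero_iff]
    refine ⟨⟨(∏ n ∈ G, s n) * u, ?_⟩, ?_⟩
    · exact q.primeCompl.mul_mem hfq u.2
    · show (∏ n ∈ G, s n) * u * n = 0
      rw [mul_assoc]; exact h1

open AlgebraicGeometry CategoryTheory in
/-- On a locally Noetherian scheme, the set of points with reduced local ring is open. -/
theorem exists_open_forall_isReduced_stalk {X : Scheme.{u}} [IsLocallyNoetherian X] (x : X)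
    [_root_.IsReduced (X.presheaf.stalk x)] :
    ∃ V : X.Opens, x ∈ V ∧ ∀ v ∈ V, _root_.IsReduced (X.presheaf.stalk v) := by
  obtain ⟨_, ⟨U, hU, rfl⟩, hxU, -⟩ :=
    X.isBasis_affineOpens.exists_subset_of_mem_open (Set.mem_univ x) isOpen_univ
  haveI : IsNoetherianRing Γ(X, U) := IsLocallyNoetherian.component_noetherian ⟨U, hU⟩
  letI algx := X.presheaf.algebra_section_stalk (⟨x, hxU⟩ : U)
  haveI locx := hU.isLocalization_stalk ⟨x, hxU⟩
  obtain ⟨f, hfp, hf⟩ := exists_notMem_forall_isReduced_localization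
    (hU.primeIdealOf ⟨x, hxU⟩).asIdeal (X.presheaf.stalk x)
  refine ⟨X.basicOpen f, ?_, ?_⟩
  · rw [Scheme.mem_basicOpen X f x hxU]
    exact (IsLocalization.AtPrime.isUnit_to_map_iff (X.presheaf.stalk x)
      (hU.primeIdealOf ⟨x, hxU⟩).asIdeal f).mpr hfp
  · intro v hv
    have hvU : v ∈ U := X.basicOpen_le f hv
    letI algv := X.presheaf.algebra_section_stalk (⟨v, hvU⟩ : U)
    haveI locv := hU.isLocalization_stalk ⟨v, hvU⟩
    refine hf (hU.primeIdealOf ⟨v, hvU⟩).asIdeal (X.presheaf.stalk v) ?_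
    rw [Scheme.mem_basicOpen X f v hvU] at hv
    exact (IsLocalization.AtPrime.isUnit_to_map_iff (X.presheaf.stalk v)
      (hU.primeIdealOf ⟨v, hvU⟩).asIdeal f).mp hv


/-- In a locally Noetherian scheme every point has an open neighbourhood `V` such that every
irreducible component meeting `V` passes through the point. -/
theorem exists_open_forall_maximal_specializes {X : Scheme.{u}} [IsLocallyNoetherian X] (x : X) :
    ∃ V : X.Opens, x ∈ V ∧ ∀ v ∈ V, ∀ η : X, closure {η} ∈ irreducibleComponents X → η ⤳ v → η ⤳ x := by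
  classical
  obtain ⟨_, ⟨U, hU, rfl⟩, hxU, -⟩ :=
    X.isBasis_affineOpens.exists_subset_of_mem_open (Set.mem_univ x) isOpen_univ
  haveI : IsNoetherianRing Γ(X, U) := IsLocallyNoetherian.component_noetherian ⟨U, hU⟩
  haveI : TopologicalSpace.NoetherianSpace ↥U := noetherianSpace_of_isAffineOpen U hU
  haveI : QuasiSober ↥U := U.isOpenEmbedding'.quasiSober
  have hfin : (irreducibleComponents ↥U).Finite :=
    TopologicalSpace.NoetherianSpace.finite_irreducibleComponents
  let x' : ↥U := ⟨x, hxU⟩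
  let Bad : Set ↥U := ⋃ Z ∈ {Z ∈ irreducibleComponents ↥U | x' ∉ Z}, Z
  have hBad : IsClosed Bad := by
    apply Set.Finite.isClosed_biUnion (hfin.subset (fun Z hZ => hZ.1))
    intro Z hZ
    exact isClosed_of_mem_irreducibleComponents Z hZ.1
  have hx'Bad : x' ∉ Bad := by
    intro h
    simp only [Bad, Set.mem_iUnion] at h
    obtain ⟨Z, hZ, hxZ⟩ := h
    exact hZ.2 hxZ
  refine ⟨⟨Subtype.val '' Badᶜ, U.isOpen.isOpenEmbedding_subtypeVal.isOpenMap _ hBad.isOpen_compl⟩,
    ⟨x', hx'Bad, rfl⟩, ?_⟩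
  rintro v ⟨v', hv', rfl⟩ η hη hηv
  have hηU : η ∈ U := hηv.mem_open U.isOpen v'.2
  let η' : ↥U := ⟨η, hηU⟩
  have hη'v' : η' ⤳ v' := Topology.IsInducing.subtypeVal.specializes_iff.mp hηv
  set Z := irreducibleComponent η' with hZdef
  have hZ : Z ∈ irreducibleComponents ↥U := irreducibleComponent_mem_irreducibleComponents η'
  have hZcl : IsClosed Z := isClosed_irreducibleComponent
  have hη'Z : η' ∈ Z := mem_irreducibleComponent
  have hv'Z : v' ∈ Z := by
    have : v' ∈ closure {η'} := specializes_iff_mem_closure.mp hη'v'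
    exact (hZcl.closure_subset_iff.mpr (Set.singleton_subset_iff.mpr hη'Z)) this
  have hx'Z : x' ∈ Z := by
    by_contra hcon
    apply hv'
    simp only [Bad, Set.mem_iUnion]
    exact ⟨Z, ⟨hZ, hcon⟩, hv'Z⟩
  obtain ⟨ζ, hζ⟩ := QuasiSober.sober hZ.1 hZcl
  have hζη' : ζ ⤳ η' := by
    rw [specializes_iff_mem_closure, hζ.def]; exact hη'Z
  have hζη : (ζ : X) ⤳ η := Topology.IsInducing.subtypeVal.specializes_iff.mpr hζη'
  have heq : (ζ : X) = η := eq_of_specializes_of_closure_mem_irreducibleComponents hη hζη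
  have hζx' : ζ ⤳ x' := by
    rw [specializes_iff_mem_closure, hζ.def]; exact hx'Z
  have hζx : (ζ : X) ⤳ x := Topology.IsInducing.subtypeVal.specializes_iff.mpr hζx'
  rw [← heq]; exact hζx


/-- On a locally Noetherian `k`-scheme, the set of points whose local ring is a geometrically reduced
`k`-algebra is open. -/
theorem isOpen_setOf_isGeometricallyReduced_stalk {k : Type u} [Field k] {X : Scheme.{u}}
    [IsLocallyNoetherian X] (f : X ⟶ Spec (CommRingCat.of k)) :
    IsOpen {x : X | @Algebra.IsGeometricallyReduced k (X.presheaf.stalk x) _ _ (stalkAlg f x)} := by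
  rw [isOpen_iff_forall_mem_open]
  intro x hx
  letI := stalkAlg f x
  haveI : Algebra.IsGeometricallyReduced k (X.presheaf.stalk x) := hx
  haveI : _root_.IsReduced (X.presheaf.stalk x) := Algebra.isReduced_of_isGeometricallyReduced k
  obtain ⟨V₁, hxV₁, hV₁⟩ := exists_open_forall_isReduced_stalk x
  obtain ⟨V₂, hxV₂, hV₂⟩ := exists_open_forall_maximal_specializes x
  refine ⟨(V₁ ⊓ V₂ : X.Opens), ?_, (V₁ ⊓ V₂).isOpen, ⟨hxV₁, hxV₂⟩⟩
  rintro v ⟨hv₁, hv₂⟩
  haveI := hV₁ v hv₁
  refine isGeometricallyReduced_stalk_of_minimal f v ?_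
  intro P hP
  have hcomp := closure_fromSpecStalk_mem_irreducibleComponents v P hP
  have hηv : X.fromSpecStalk v P ⤳ v := by
    have : X.fromSpecStalk v P ∈ Set.range (X.fromSpecStalk v) := ⟨P, rfl⟩
    rw [Scheme.range_fromSpecStalk] at this
    exact this
  have hηx : X.fromSpecStalk v P ⤳ x := hV₂ v hv₂ _ hcomp hηv
  letI := stalkAlg f (X.fromSpecStalk v P)
  refine (isGeomReducedAt_iff f (X.fromSpecStalk v P) (specMap_stalkMapOf f _)).mp ?_
  intro K _ _ y hy
  exact isReduced_stalk_of_isGeometricallyReduced_of_specializes f x (specMap_stalkMapOf f x) K y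
    (by rw [hy]; exact hηx)

end Groth.Agent.Lib.Helper51
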