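import Mathlib
import Groth.Agent.Lib.Helper51.NoethOpen

/-!
# Openness of the locus of points with integral local ring on locally Noetherian schemes (helper51)
-/

set_option autoImplicit false
universe u
open AlgebraicGeometry CategoryTheory CategoryTheory.Limits

namespace Groth.Agent.Lib.Helper51

/-- In a Noetherian ring, integrality of a localisation at a prime spreads to a basic open. -/
theorem exists_notMem_forall_isDomain_localization {A : Type*} [CommRing A] [IsNoetherianRing A]
    (p : Ideal A) [p.IsPrime] (S : Type*) [CommRing S] [Algebra A S] [IsLocalization.AtPrime S p]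
    [IsDomain S] :
    ∃ f : A, f ∉ p ∧ ∀ (q : Ideal A) [q.IsPrime] (T : Type*) [CommRing T] [Algebra A T]
      [IsLocalization.AtPrime T q], f ∉ q → IsDomain T := by
  classical
  set P : Ideal A := RingHom.ker (algebraMap A S) with hP
  haveI hPprime : P.IsPrime := RingHom.ker_isPrime (algebraMap A S)
  obtain ⟨G, hG⟩ := (isNoetherian_def.mp ‹IsNoetherianRing A›) P
  have hs : ∀ n ∈ G, ∃ s : A, s ∉ p ∧ s * n = 0 := by
    intro n hn
    have h0 : algebraMap A S n = 0 := by
      have : n ∈ P := hG ▸ Submodule.subset_span hn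
      exact (RingHom.mem_ker).mp this
    obtain ⟨⟨s, hs⟩, hsn⟩ := (IsLocalization.map_eq_zero_iff p.primeCompl S n).mp h0
    exact ⟨s, hs, hsn⟩
  choose! s hs1 hs2 using hs
  refine ⟨∏ n ∈ G, s n, ?_, ?_⟩
  · intro hmem
    obtain ⟨n, hn, hsn⟩ := (Ideal.IsPrime.prod_mem_iff (p := p)).mp hmem
    exact hs1 n hn hsn
  · intro q _ T _ _ _ hfq
    have hkill : ∀ n ∈ P, (∏ n ∈ G, s n) * n = 0 := by
      intro n hn
      rw [← hG] at hn
      induction hn using Submodule.span_induction with
      | mem x hx =>
        rw [← Finset.prod_erase_mul _ _ hx, mul_assoc, hs2 x hx, mul_zero]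
      | zero => simp
      | add x y _ _ hx hy => rw [mul_add, hx, hy, add_zero]
      | smul a x _ hx => rw [smul_eq_mul, mul_left_comm, hx, mul_zero]
    have hPq : P ≤ q := by
      intro n hn
      have h0 : (∏ n ∈ G, s n) * n ∈ q := by rw [hkill n hn]; exact q.zero_mem
      exact (Ideal.IsPrime.mem_or_mem ‹q.IsPrime› h0).resolve_left hfq
    have hzero : ∀ n ∈ P, ∀ t : q.primeCompl, IsLocalization.mk' T n t = 0 := by
      intro n hn t
      rw [IsLocalization.mk'_eq_zero_iff]
      exact ⟨⟨∏ n ∈ G, s n, hfq⟩, hkill n hn⟩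
    haveI : Nontrivial T := (IsLocalization.AtPrime.isLocalRing T q).toNontrivial
    haveI : NoZeroDivisors T := by
      refine ⟨fun {a b} hab => ?_⟩
      obtain ⟨a, s₁, rfl⟩ := IsLocalization.exists_mk'_eq q.primeCompl a
      obtain ⟨b, s₂, rfl⟩ := IsLocalization.exists_mk'_eq q.primeCompl b
      rw [← IsLocalization.mk'_mul, IsLocalization.mk'_eq_zero_iff] at hab
      obtain ⟨u, hu⟩ := hab
      have huP : (u : A) * (a * b) ∈ P := by rw [hu]; exact P.zero_mem
      have hunot : (u : A) ∉ P := fun h => u.2 (hPq h)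
      rcases hPprime.mem_or_mem ((hPprime.mem_or_mem huP).resolve_left hunot) with h | h
      · exact Or.inl (hzero a h s₁)
      · exact Or.inr (hzero b h s₂)
    exact NoZeroDivisors.to_isDomain T

/-- On a locally Noetherian scheme, the set of points with integral local ring is open. -/
theorem exists_open_forall_isDomain_stalk {X : Scheme.{u}} [IsLocallyNoetherian X] (x : X)
    [IsDomain (X.presheaf.stalk x)] :
    ∃ V : X.Opens, x ∈ V ∧ ∀ v ∈ V, IsDomain (X.presheaf.stalk v) := by
  obtain ⟨_, ⟨U, hU, rfl⟩, hxU, -⟩ :=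
    X.isBasis_affineOpens.exists_subset_of_mem_open (Set.mem_univ x) isOpen_univ
  haveI : IsNoetherianRing Γ(X, U) := IsLocallyNoetherian.component_noetherian ⟨U, hU⟩
  letI algx := X.presheaf.algebra_section_stalk (⟨x, hxU⟩ : U)
  haveI locx := hU.isLocalization_stalk ⟨x, hxU⟩
  obtain ⟨f, hfp, hf⟩ := exists_notMem_forall_isDomain_localization
    (hU.primeIdealOf ⟨x, hxU⟩).asIdeal (X.presheaf.stalk x)
  refine ⟨X.basicOpen f, ?_, ?_⟩
  · rw [Scheme.mem_basicOpen X f x hxU]
    exact (IsLocalization.AtPrime.isUnit_to_map_iff (X.presheaf.stalk x)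
      (hU.primeIdealOf ⟨x, hxU⟩).asIdeal f).mpr hfp
  · intro v hv
    have hvU : v ∈ U := X.basicOpen_le f hv
    letI algv := X.presheaf.algebra_section_stalk (⟨v, hvU⟩ : U)
    haveI locv := hU.isLocalization_stalk ⟨v, hvU⟩
    refine hf (hU.primeIdealOf ⟨v, hvU⟩).asIdeal (X.presheaf.stalk v) ?_
    rw [Scheme.mem_basicOpen X f v hvU] at hv
    exact (IsLocalization.AtPrime.isUnit_to_map_iff (X.presheaf.stalk v)
      (hU.primeIdealOf ⟨v, hvU⟩).asIdeal f).mp hv

/-- On a locally Noetherian scheme, the set of points with integral local ring is open. -/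
theorem isOpen_setOf_isDomain_stalk (X : Scheme.{u}) [IsLocallyNoetherian X] :
    IsOpen {x : X | IsDomain (X.presheaf.stalk x)} := by
  rw [isOpen_iff_forall_mem_open]
  intro x hx
  haveI : IsDomain (X.presheaf.stalk x) := hx
  obtain ⟨V, hxV, hV⟩ := exists_open_forall_isDomain_stalk x
  exact ⟨V, fun v hv => hV v hv, V.isOpen, hxV⟩

/-- If `𝒪_{X,y}` is a domain, the only maximal point specialising to `y` is the one attached to the
zero ideal of `𝒪_{X,y}`. -/
theorem eq_fromSpecStalk_bot_of_specializes {X : Scheme.{u}} (y : X) [IsDomain (X.presheaf.stalk y)]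
    {η : X} (hη : closure {η} ∈ irreducibleComponents X) (h : η ⤳ y) :
    η = X.fromSpecStalk y (⟨⊥, Ideal.isPrime_bot⟩ : PrimeSpectrum (X.presheaf.stalk y)) := by
  have hr : η ∈ Set.range (X.fromSpecStalk y) := by rw [Scheme.range_fromSpecStalk]; exact h
  obtain ⟨P, rfl⟩ := hr
  have hle : (⟨⊥, Ideal.isPrime_bot⟩ : PrimeSpectrum (X.presheaf.stalk y)) ⤳ P :=
    (PrimeSpectrum.le_iff_specializes _ _).mp bot_le
  have := hle.map (X.fromSpecStalk y).continuous
  exact (eq_of_specializes_of_closure_mem_irreducibleComponents hη this).symm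

/-- The generic point of the unique irreducible component through `y`, on a scheme all of whose
local rings are domains. -/
noncomputable def genericOf (X : Scheme.{u}) (h : ∀ x : X, IsDomain (X.presheaf.stalk x)) (y : X) : X :=
  haveI := h y
  X.fromSpecStalk y (⟨⊥, Ideal.isPrime_bot⟩ : PrimeSpectrum (X.presheaf.stalk y))

theorem genericOf_specializes (X : Scheme.{u}) (h : ∀ x : X, IsDomain (X.presheaf.stalk x)) (y : X) :
    genericOf X h y ⤳ y := by
  haveI := h y
  have : genericOf X h y ∈ Set.range (X.fromSpecStalk y) := ⟨_, rfl⟩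
  rw [Scheme.range_fromSpecStalk] at this
  exact this

theorem closure_genericOf_mem (X : Scheme.{u}) (h : ∀ x : X, IsDomain (X.presheaf.stalk x)) (y : X) :
    closure {genericOf X h y} ∈ irreducibleComponents X := by
  haveI := h y
  refine closure_fromSpecStalk_mem_irreducibleComponents y _ ?_
  exact ⟨⟨Ideal.isPrime_bot, bot_le⟩, fun _ _ _ => bot_le⟩

theorem eq_genericOf (X : Scheme.{u}) (h : ∀ x : X, IsDomain (X.presheaf.stalk x)) (y : X)
    {η : X} (hη : closure {η} ∈ irreducibleComponents X) (hy : η ⤳ y) : η = genericOf X h y := by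
  haveI := h y
  exact eq_fromSpecStalk_bot_of_specializes y hη hy

theorem isLocallyConstant_genericOf (X : Scheme.{u}) [IsLocallyNoetherian X]
    (h : ∀ x : X, IsDomain (X.presheaf.stalk x)) : IsLocallyConstant (genericOf X h) := by
  rw [IsLocallyConstant.iff_exists_open]
  intro y
  obtain ⟨V, hyV, hV⟩ := exists_open_forall_maximal_specializes y
  refine ⟨V, V.isOpen, hyV, fun v hv => ?_⟩
  exact eq_genericOf X h y (closure_genericOf_mem X h v)
    (hV v hv _ (closure_genericOf_mem X h v) (genericOf_specializes X h v))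

/-- A connected locally Noetherian scheme all of whose local rings are domains is irreducible. -/
theorem irreducibleSpace_of_forall_isDomain_stalk (X : Scheme.{u}) [IsLocallyNoetherian X]
    [ConnectedSpace X] (h : ∀ x : X, IsDomain (X.presheaf.stalk x)) : IrreducibleSpace X := by
  obtain ⟨y₀⟩ : Nonempty X := inferInstance
  have hconst : ∀ y : X, genericOf X h y = genericOf X h y₀ := fun y =>
    (isLocallyConstant_genericOf X h).apply_eq_of_isPreconnected isPreconnected_univ
      (Set.mem_univ y) (Set.mem_univ y₀)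
  have huniv : (Set.univ : Set X) = closure {genericOf X h y₀} := by
    refine (Set.eq_univ_of_forall fun y => ?_).symm
    rw [← specializes_iff_mem_closure, ← hconst y]
    exact genericOf_specializes X h y
  rw [irreducibleSpace_def]
  show IsIrreducible (Set.univ : Set X)
  rw [huniv]
  exact isIrreducible_singleton.closure

/-- The map sending an irreducible component to the connected component containing it. -/
noncomputable def irrToConn (Y : Type*) [TopologicalSpace Y] (Z : irreducibleComponents Y) :
    _root_.ConnectedComponents Y :=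
  ConnectedComponents.mk Z.2.1.nonempty.some

theorem irrToConn_eq {Y : Type*} [TopologicalSpace Y] (Z : irreducibleComponents Y) {y : Y}
    (hy : y ∈ (Z : Set Y)) : irrToConn Y Z = ConnectedComponents.mk y := by
  unfold irrToConn
  rw [ConnectedComponents.coe_eq_coe']
  exact Z.2.1.isConnected.isPreconnected.subset_connectedComponent hy Z.2.1.nonempty.some_mem

theorem irrToConn_surjective (Y : Type*) [TopologicalSpace Y] :
    Function.Surjective (irrToConn Y) := by
  intro c
  obtain ⟨y, rfl⟩ := ConnectedComponents.surjective_coe c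
  exact ⟨⟨irreducibleComponent y, irreducibleComponent_mem_irreducibleComponents y⟩,
    irrToConn_eq _ mem_irreducibleComponent⟩

/-- An irreducible component of a scheme with integral local rings is the closure of
`genericOf z` for any of its points `z`. -/
theorem eq_closure_genericOf (X : Scheme.{u}) (h : ∀ x : X, IsDomain (X.presheaf.stalk x))
    {Z : Set X} (hZ : Z ∈ irreducibleComponents X) {z : X} (hz : z ∈ Z) :
    Z = closure {genericOf X h z} := by
  have hZcl : IsClosed Z := isClosed_of_mem_irreducibleComponents Z hZ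
  obtain ⟨ζ, hζ⟩ := QuasiSober.sober hZ.1 hZcl
  have hζz : ζ ⤳ z := by rw [specializes_iff_mem_closure, hζ.def]; exact hz
  have hζc : closure {ζ} ∈ irreducibleComponents X := by rw [hζ.def]; exact hZ
  rw [← eq_genericOf X h z hζc hζz, hζ.def]

theorem irrToConn_injective_of_forall_isDomain_stalk (X : Scheme.{u}) [IsLocallyNoetherian X]
    (h : ∀ x : X, IsDomain (X.presheaf.stalk x)) : Function.Injective (irrToConn X) := by
  intro Z Z' hZZ'
  obtain ⟨z, hz⟩ := Z.2.1.nonempty
  obtain ⟨z', hz'⟩ := Z'.2.1.nonempty
  rw [irrToConn_eq Z hz, irrToConn_eq Z' hz', ConnectedComponents.coe_eq_coe'] at hZZ'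
  have hgen : genericOf X h z = genericOf X h z' :=
    (isLocallyConstant_genericOf X h).apply_eq_of_isPreconnected isPreconnected_connectedComponent
      hZZ' mem_connectedComponent
  apply Subtype.ext
  rw [eq_closure_genericOf X h Z.2 hz, eq_closure_genericOf X h Z'.2 hz', hgen]

/-- If distinct irreducible components lie in distinct connected components, every reduced local
ring is a domain. -/
theorem isDomain_stalk_of_irrToConn_injective (X : Scheme.{u})
    (hinj : Function.Injective (irrToConn X)) (y : X) [_root_.IsReduced (X.presheaf.stalk y)] :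
    IsDomain (X.presheaf.stalk y) := by
  have huniq : ∀ P P' : PrimeSpectrum (X.presheaf.stalk y),
      P.asIdeal ∈ minimalPrimes (X.presheaf.stalk y) → P'.asIdeal ∈ minimalPrimes (X.presheaf.stalk y) →
      P = P' := by
    intro P P' hP hP'
    have hZ := closure_fromSpecStalk_mem_irreducibleComponents y P hP
    have hZ' := closure_fromSpecStalk_mem_irreducibleComponents y P' hP'
    have hy : ∀ Q : PrimeSpectrum (X.presheaf.stalk y), y ∈ closure {X.fromSpecStalk y Q} := by
      intro Q
      rw [← specializes_iff_mem_closure]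
      have : X.fromSpecStalk y Q ∈ Set.range (X.fromSpecStalk y) := ⟨Q, rfl⟩
      rw [Scheme.range_fromSpecStalk] at this
      exact this
    have heq : (⟨_, hZ⟩ : irreducibleComponents X) = ⟨_, hZ'⟩ := by
      apply hinj
      rw [irrToConn_eq ⟨_, hZ⟩ (hy P), irrToConn_eq ⟨_, hZ'⟩ (hy P')]
    have hcl : closure {X.fromSpecStalk y P} = closure {X.fromSpecStalk y P'} :=
      congrArg Subtype.val heq
    have hins : Inseparable (X.fromSpecStalk y P) (X.fromSpecStalk y P') :=
      inseparable_iff_closure_eq.mpr hcl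
    exact (X.fromSpecStalk y).isEmbedding.injective hins.eq
  obtain ⟨⟨P, hP⟩⟩ := Ideal.nonempty_minimalPrimes (I := (⊥ : Ideal (X.presheaf.stalk y)))
    (by exact bot_ne_top)
  haveI hPprime : P.IsPrime := hP.1.1
  have hmin : (⊥ : Ideal (X.presheaf.stalk y)).minimalPrimes = {P} := by
    ext Q
    constructor
    · intro hQ
      haveI : Q.IsPrime := hQ.1.1
      exact congrArg PrimeSpectrum.asIdeal (huniq ⟨Q, hQ.1.1⟩ ⟨P, hPprime⟩ hQ hP)
    · rintro rfl
      exact hP
  have hbot : (⊥ : Ideal (X.presheaf.stalk y)) = P := by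
    have h1 := Ideal.sInf_minimalPrimes (I := (⊥ : Ideal (X.presheaf.stalk y)))
    rw [hmin, sInf_singleton] at h1
    rw [h1]
    exact (nilradical_eq_zero (X.presheaf.stalk y)).symm
  haveI : (⊥ : Ideal (X.presheaf.stalk y)).IsPrime := hbot ▸ hPprime
  exact IsDomain.of_bot_isPrime _

end Groth.Agent.Lib.Helper51
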