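import Mathlib
import Groth.Prelude.Def_MoreMor
import Groth.Agent.Lib.Helper51.GeomIrr

/-!
# Geometric fibres and base change (helper51)

For a cartesian square `X' = X ×_Y Y'` and `y' : Y'`, the geometric fibre of `f'` over `y'` maps to the
geometric fibre of `f` over `g y'`, and this map is a base change of
`Spec κ(y')^sep ⟶ Spec κ(g y')^sep`; it is therefore geometrically irreducible and universally open.
-/

set_option autoImplicit false
universe u
open CategoryTheory CategoryTheory.Limits AlgebraicGeometry

namespace Groth.Agent.Lib.Helper51

section GeomFibreBC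

variable {X Y X' Y' : Scheme.{u}} {f : X ⟶ Y} {f' : X' ⟶ Y'} {g' : X' ⟶ X} {g : Y' ⟶ Y}

/-- `Spec κ(y)^sep ⟶ Spec κ(y)`. -/
noncomputable def sepMap (Y : Scheme.{u}) (y : Y) :
    Spec (CommRingCat.of (SeparableClosure (Y.residueField y))) ⟶ Spec (Y.residueField y) :=
  Spec.map (CommRingCat.ofHom
    (algebraMap (Y.residueField y) (SeparableClosure (Y.residueField y))))

theorem geomFiber_eq (f : X ⟶ Y) (y : Y) :
    MoreMor.geomFiber f y = pullback (f.fiberToSpecResidueField y) (sepMap Y y) := rfl

/-- The chosen embedding `κ(g y')^sep → κ(y')^sep` over `κ(g y') → κ(y')`. -/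
noncomputable def sepLift (g : Y' ⟶ Y) (y' : Y') :
    SeparableClosure (Y.residueField (g y')) →+* SeparableClosure (Y'.residueField y') :=
  letI : Algebra (Y.residueField (g y')) (SeparableClosure (Y'.residueField y')) :=
    ((algebraMap (Y'.residueField y') (SeparableClosure (Y'.residueField y'))).comp
      (g.residueFieldMap y').hom).toAlgebra
  (IsSepClosed.lift : SeparableClosure (Y.residueField (g y')) →ₐ[Y.residueField (g y')]
    SeparableClosure (Y'.residueField y')).toRingHom

theorem sepLift_algebraMap (g : Y' ⟶ Y) (y' : Y') (c : Y.residueField (g y')) :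
    sepLift g y' (algebraMap _ _ c) =
      algebraMap (Y'.residueField y') (SeparableClosure (Y'.residueField y'))
        ((g.residueFieldMap y').hom c) := by
  letI : Algebra (Y.residueField (g y')) (SeparableClosure (Y'.residueField y')) :=
    ((algebraMap (Y'.residueField y') (SeparableClosure (Y'.residueField y'))).comp
      (g.residueFieldMap y').hom).toAlgebra
  exact (IsSepClosed.lift : SeparableClosure (Y.residueField (g y')) →ₐ[Y.residueField (g y')]
    SeparableClosure (Y'.residueField y')).commutes c

theorem specMap_sepLift_comp (g : Y' ⟶ Y) (y' : Y') :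
    Spec.map (CommRingCat.ofHom (sepLift g y')) ≫ sepMap Y (g y') =
      sepMap Y' y' ≫ Spec.map (g.residueFieldMap y') := by
  unfold sepMap
  rw [← Spec.map_comp, ← Spec.map_comp]
  congr 1
  exact CommRingCat.hom_ext (RingHom.ext fun c => sepLift_algebraMap g y' c)

/-- The map on scheme-theoretic fibres induced by a cartesian square. -/
noncomputable def fiberMapOfIsPullback (hc : IsPullback g' f' f g) (y' : Y') :
    f'.fiber y' ⟶ f.fiber (g y') :=
  pullback.map _ _ _ _ g' (Spec.map (g.residueFieldMap y')) g hc.w.symm (by simp)

theorem isPullback_fiberMapOfIsPullback (hc : IsPullback g' f' f g) (y' : Y') :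
    IsPullback (fiberMapOfIsPullback hc y') (f'.fiberToSpecResidueField y')
      (f.fiberToSpecResidueField (g y')) (Spec.map (g.residueFieldMap y')) :=
  isPullback_fiberToSpecResidueField_of_isPullback hc y'

/-- The map on geometric fibres induced by a cartesian square. -/
noncomputable def geomFiberMap (hc : IsPullback g' f' f g) (y' : Y') :
    pullback (f'.fiberToSpecResidueField y') (sepMap Y' y') ⟶
      pullback (f.fiberToSpecResidueField (g y')) (sepMap Y (g y')) :=
  pullback.lift (pullback.fst _ _ ≫ fiberMapOfIsPullback hc y')
    (pullback.snd _ _ ≫ Spec.map (CommRingCat.ofHom (sepLift g y')))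
    (by
      rw [Category.assoc, (isPullback_fiberMapOfIsPullback hc y').w, pullback.condition_assoc,
        Category.assoc, specMap_sepLift_comp])

theorem geomFiberMap_fst (hc : IsPullback g' f' f g) (y' : Y') :
    geomFiberMap hc y' ≫ pullback.fst _ _ = pullback.fst _ _ ≫ fiberMapOfIsPullback hc y' := by
  rw [geomFiberMap, pullback.lift_fst]

theorem geomFiberMap_snd (hc : IsPullback g' f' f g) (y' : Y') :
    geomFiberMap hc y' ≫ pullback.snd _ _ =
      pullback.snd _ _ ≫ Spec.map (CommRingCat.ofHom (sepLift g y')) := by
  rw [geomFiberMap, pullback.lift_snd]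

theorem isPullback_geomFiberMap (hc : IsPullback g' f' f g) (y' : Y') :
    IsPullback (geomFiberMap hc y')
      (pullback.snd (f'.fiberToSpecResidueField y') (sepMap Y' y'))
      (pullback.snd (f.fiberToSpecResidueField (g y')) (sepMap Y (g y')))
      (Spec.map (CommRingCat.ofHom (sepLift g y'))) := by
  have big := (IsPullback.of_hasPullback (f'.fiberToSpecResidueField y')
    (sepMap Y' y')).paste_horiz (isPullback_fiberMapOfIsPullback hc y')
  rw [← specMap_sepLift_comp, ← geomFiberMap_fst] at big
  exact IsPullback.of_right big (geomFiberMap_snd hc y') (IsPullback.of_hasPullback _ _)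

theorem geometricallyIrreducible_geomFiberMap (hc : IsPullback g' f' f g) (y' : Y') :
    GeometricallyIrreducible (geomFiberMap hc y') := by
  let _ : Algebra (SeparableClosure (Y.residueField (g y')))
      (SeparableClosure (Y'.residueField y')) := (sepLift g y').toAlgebra
  have h : GeometricallyIrreducible (Spec.map (CommRingCat.ofHom (sepLift g y'))) :=
    geometricallyIrreducible_specMap_of_isSepClosed (SeparableClosure (Y.residueField (g y')))
      (SeparableClosure (Y'.residueField y'))
  exact MorphismProperty.of_isPullback (P := @GeometricallyIrreducible)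
    (isPullback_geomFiberMap hc y').flip h

theorem universallyOpen_geomFiberMap (hc : IsPullback g' f' f g) (y' : Y') :
    UniversallyOpen (geomFiberMap hc y') := by
  have h : UniversallyOpen (Spec.map (CommRingCat.ofHom (sepLift g y'))) := inferInstance
  exact MorphismProperty.of_isPullback (P := @UniversallyOpen)
    (isPullback_geomFiberMap hc y').flip h

end GeomFibreBC

end Groth.Agent.Lib.Helper51
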