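import Mathlib
import Groth.Agent.Lib.Helper27.WeaklyEtaleField
import Groth.Agent.Lib.Helper82.Olivier1

/-!
# The maximal separable subalgebra of an algebra over a field

For a commutative algebra `A` over a field `k`, the separable elements form a subalgebra `sepSub k A`
(built on helper27's `WeaklyEtaleField`).  If `A` has only trivial idempotents it is a field, and
if moreover `A` maps to a field finite over `k`, it is finite over `k`.
-/

set_option autoImplicit false
universe u

open Groth.Agent.Lib.Helper27.WeaklyEtaleField

namespace Groth.Agent.Lib.Helper51.Pi0Alg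

variable (k : Type*) [Field k] (A : Type*) [CommRing A] [Algebra k A]

/-- The subalgebra of separable elements. -/
def sepSub : Subalgebra k A := Algebra.adjoin k {a : A | IsSeparable k a}

variable {k A}

theorem mem_sepSub_iff {a : A} : a ∈ sepSub k A ↔ IsSeparable k a :=
  ⟨fun h => isSeparable_of_mem_adjoin (fun b hb => hb) h, fun h => Algebra.subset_adjoin h⟩

instance : Algebra.IsSeparable k (sepSub k A) :=
  isSeparable_subalgebra_of_forall _ fun _ hx => mem_sepSub_iff.mp hx

/-- The image of a separable algebra lands in `sepSub`. -/
theorem algHom_mem_sepSub {L : Type*} [CommRing L] [Algebra k L] [Algebra.IsSeparable k L]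
    (φ : L →ₐ[k] A) (l : L) : φ l ∈ sepSub k A := by
  rw [mem_sepSub_iff]
  have hl : IsSeparable k l := Algebra.IsSeparable.isSeparable k l
  have hdvd : minpoly k (φ l) ∣ minpoly k l := by
    apply minpoly.dvd
    rw [Polynomial.aeval_algHom_apply, minpoly.aeval, map_zero]
  exact Polynomial.Separable.of_dvd hl hdvd

theorem isField_sepSub [Nontrivial A] (h : ∀ e : A, IsIdempotentElem e → e = 0 ∨ e = 1) :
    IsField (sepSub k A) := by
  haveI : Algebra.WeaklyEtale k (sepSub k A) := weaklyEtale_of_isSeparable k _
  apply Groth.Agent.Lib.Helper82.Olivier.isField_of_weaklyEtale_of_idem (K := k)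
  intro e he
  have he' : IsIdempotentElem (e : A) := by
    have := congrArg Subtype.val he.eq
    exact this
  rcases h _ he' with h0 | h1
  · left
    exact Subtype.ext h0
  · right
    exact Subtype.ext h1

/-- If `A` has trivial idempotents and maps to a field finite over `k`, `sepSub k A` is finite. -/
theorem finite_sepSub [Nontrivial A] (h : ∀ e : A, IsIdempotentElem e → e = 0 ∨ e = 1)
    {κ : Type*} [Field κ] [Algebra k κ] [Module.Finite k κ] (ev : A →ₐ[k] κ) :
    Module.Finite k (sepSub k A) := by
  letI : Field (sepSub k A) := (isField_sepSub h).toField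
  let ψ : sepSub k A →ₐ[k] κ := ev.comp (sepSub k A).val
  have hinj : Function.Injective ψ := ψ.toRingHom.injective
  exact Module.Finite.of_injective ψ.toLinearMap hinj

end Groth.Agent.Lib.Helper51.Pi0Alg
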