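import Mathlib
import Groth.Agent.Lib.Helper51.Pi0Alg
import Groth.Agent.Lib.Helper50.TopConn
import Groth.Agent.Lib.Helper58.SchemeIdem
import Groth.Agent.Lib.Helper37.EtaleFibres

/-!
# The scheme of connected components of a scheme locally of finite type over a field
-/

set_option autoImplicit false
universe u

open CategoryTheory AlgebraicGeometry Limits TopologicalSpace

namespace Groth.Agent.Lib.Helper51.Pi0Sch

open Groth.Agent.Lib.Helper58.SchemeIdem Groth.Agent.Lib.Helper51.Pi0Alg

/-! ### Topology -/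

theorem isOpen_connectedComponent_of_locally_noetherianSpace {α : Type*} [TopologicalSpace α]
    (h : ∀ y : α, ∃ U : Set α, IsOpen U ∧ y ∈ U ∧ NoetherianSpace U) (x : α) :
    IsOpen (connectedComponent x) := by
  rw [isOpen_iff_mem_nhds]
  intro y hy
  obtain ⟨U, hU, hyU, hN⟩ := h y
  have hopen := Groth.Agent.Lib.Helper50.isOpen_connectedComponent_of_noetherianSpace
    (⟨y, hyU⟩ : U)
  have h1 : IsOpen (Subtype.val '' connectedComponent (⟨y, hyU⟩ : U)) :=
    hU.isOpenMap_subtype_val _ hopen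
  have h2 : IsPreconnected (Subtype.val '' connectedComponent (⟨y, hyU⟩ : U)) :=
    isPreconnected_connectedComponent.image _ continuous_subtype_val.continuousOn
  have h3 : Subtype.val '' connectedComponent (⟨y, hyU⟩ : U) ⊆ connectedComponent y :=
    h2.subset_connectedComponent ⟨_, mem_connectedComponent, rfl⟩
  rw [connectedComponent_eq hy]
  exact Filter.mem_of_superset (h1.mem_nhds ⟨_, mem_connectedComponent, rfl⟩) h3

theorem isOpen_connectedComponent (X : Scheme.{u}) [IsLocallyNoetherian X] (x : X) :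
    IsOpen (connectedComponent x) := by
  refine isOpen_connectedComponent_of_locally_noetherianSpace (fun y => ?_) x
  obtain ⟨_, ⟨(U : X.Opens), hU : IsAffineOpen U, rfl⟩, hyU, -⟩ :=
    X.isBasis_affineOpens.exists_subset_of_mem_open (Set.mem_univ y) isOpen_univ
  haveI : IsNoetherianRing Γ(X, U) := IsLocallyNoetherian.component_noetherian ⟨U, hU⟩
  exact ⟨U, U.2, hyU, noetherianSpace_of_isAffineOpen U hU⟩

/-! ### Idempotents -/

theorem idem_trivial_of_connected {Z : Scheme.{u}} [PreconnectedSpace Z] (e : Γ(Z, ⊤))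
    (hid : IsIdempotentElem e) : e = 0 ∨ e = 1 := by
  rcases isClopen_iff.mp (isClopen_basicOpen e hid) with h | h
  · left
    apply eq_zero_of_basicOpen_eq_bot e hid
    apply Opens.ext
    rw [h]; rfl
  · right
    have hid' : IsIdempotentElem (1 - e) := hid.one_sub
    have h1 : Z.basicOpen (1 - e) = ⊥ := by
      apply Opens.ext
      rw [coe_basicOpen_one_sub e hid, h, Set.compl_univ]; rfl
    have h2 := eq_zero_of_basicOpen_eq_bot (1 - e) hid' h1
    exact (sub_eq_zero.mp h2).symm

/-! ### Schemes étale over a field -/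

theorem discreteTopology_of_etale_field {k : Type u} [Field k] {E : Scheme.{u}}
    (e : E ⟶ Spec (CommRingCat.of k)) [Etale e] : DiscreteTopology E := by
  have := Groth.Agent.Lib.Helper37.EtaleFibres.locallyQuasiFinite_of_etale e
  let y : ↥(Spec (CommRingCat.of k)) := IsLocalRing.closedPoint k
  have hd := e.isDiscrete_preimage_singleton y
  have huniv : e ⁻¹' {y} = Set.univ :=
    Set.eq_univ_of_forall fun w => Subsingleton.elim (α := PrimeSpectrum k) _ _
  rw [huniv] at hd
  exact isDiscrete_univ_iff.1 hd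

/-! ### Morphisms to affine schemes and ring maps -/

/-- The morphism `T ⟶ Spec R` attached to a ring map `R ⟶ Γ(T, ⊤)`. -/
noncomputable def toSpec {T : Scheme.{u}} {R : CommRingCat.{u}} (a : R ⟶ Γ(T, ⊤)) :
    T ⟶ Spec R :=
  T.toSpecΓ ≫ Spec.map a

theorem toSpec_appTop {T : Scheme.{u}} {R : CommRingCat.{u}} (a : R ⟶ Γ(T, ⊤)) :
    (toSpec a).appTop = (Scheme.ΓSpecIso R).hom ≫ a := by
  simp [toSpec, Scheme.toSpecΓ_appTop, Scheme.ΓSpecIso_naturality]

theorem toSpec_injective {T : Scheme.{u}} {R : CommRingCat.{u}} {a b : R ⟶ Γ(T, ⊤)}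
    (h : toSpec a = toSpec b) : a = b := by
  have := congrArg Scheme.Hom.appTop h
  rw [toSpec_appTop, toSpec_appTop] at this
  exact (cancel_epi _).mp this

theorem eq_toSpec {T : Scheme.{u}} {R : CommRingCat.{u}} (m : T ⟶ Spec R) :
    m = toSpec ((Scheme.ΓSpecIso R).inv ≫ m.appTop) := by
  apply ext_of_isAffine
  rw [toSpec_appTop]; simp

theorem comp_toSpec {T' T : Scheme.{u}} {R : CommRingCat.{u}} (v : T' ⟶ T) (a : R ⟶ Γ(T, ⊤)) :
    v ≫ toSpec a = toSpec (a ≫ v.appTop) := by
  apply ext_of_isAffine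
  rw [Scheme.Hom.comp_appTop, toSpec_appTop, toSpec_appTop, Category.assoc]

theorem toSpec_comp_SpecMap {T : Scheme.{u}} {R S : CommRingCat.{u}} (a : R ⟶ Γ(T, ⊤))
    (b : S ⟶ R) : toSpec a ≫ Spec.map b = toSpec (b ≫ a) := by
  simp [toSpec]

theorem SpecMap_eq_toSpec {R S : CommRingCat.{u}} (b : S ⟶ R) :
    Spec.map b = toSpec (b ≫ (Scheme.ΓSpecIso R).inv) := by
  apply ext_of_isAffine
  rw [toSpec_appTop]
  rw [← Scheme.ΓSpecIso_naturality_assoc]; simp

end Groth.Agent.Lib.Helper51.Pi0Sch
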