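import Mathlib
import Groth.Agent.S2150
import Groth.Agent.Lib.Helper51.RelSepClosed

/-!
# Counting the primes of `κ ⊗[k] L` by embeddings of the separable closure (helper51)

* `exists_algHom_of_prime`, `prime_eq_of_algHom`, `card_primeSpectrum_tensor_le`.
-/

set_option autoImplicit false
universe u
open TensorProduct Polynomial IntermediateField

namespace Groth.Agent.Lib.Helper51

section SepCount

variable {k κ L : Type u} [Field k] [Field κ] [Algebra k κ] [Field L] [Algebra k L]

/-- A zero-dimensional-by-integrality ring with irreducible spectrum has a single prime. -/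
theorem subsingleton_primeSpectrum_of_isIntegral_of_irreducibleSpace (F R : Type*) [Field F]
    [CommRing R] [Algebra F R] [Algebra.IsIntegral F R] [IrreducibleSpace (PrimeSpectrum R)] :
    Subsingleton (PrimeSpectrum R) := by
  have hprime : (nilradical R).IsPrime :=
    PrimeSpectrum.irreducibleSpace_iff_isPrime_nilradical.mp inferInstance
  have hmax : ∀ P : Ideal R, P.IsPrime → P.IsMaximal := by
    intro P hP
    have : (P.comap (algebraMap F R)).IsMaximal := by
      have : P.comap (algebraMap F R) = ⊥ := by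
        have hne : P.comap (algebraMap F R) ≠ ⊤ := (Ideal.comap_isPrime _ P).ne_top
        exact (Ideal.eq_bot_or_top _).resolve_right hne
      rw [this]; exact Ideal.bot_isMaximal
    exact Ideal.isMaximal_of_isIntegral_of_isMaximal_comap P this
  have hnm : (nilradical R).IsMaximal := hmax _ hprime
  have hall : ∀ P : PrimeSpectrum R, P.asIdeal = nilradical R := by
    intro P
    have hle : nilradical R ≤ P.asIdeal := nilradical_le_prime P.asIdeal
    exact (hnm.eq_of_le P.2.ne_top hle).symm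
  exact ⟨fun P Q => PrimeSpectrum.ext (by rw [hall P, hall Q])⟩

/-- Every prime of `κ ⊗[k] L` determines an embedding over `k` of the separable closure of `k` in `κ`
into `L`, provided `L` splits it. -/
theorem exists_algHom_of_prime
    (hsplit : ∀ a : separableClosure k κ, ((minpoly k a).map (algebraMap k L)).Splits)
    (𝔭 : Ideal (κ ⊗[k] L)) [𝔭.IsPrime] :
    ∃ σ : separableClosure k κ →ₐ[k] L, ∀ a : separableClosure k κ,
      (a : κ) ⊗ₜ[k] (1 : L) - (1 : κ) ⊗ₜ[k] σ a ∈ 𝔭 := by
  classical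
  set k' := separableClosure k κ with hk'
  let q : κ ⊗[k] L →+* (κ ⊗[k] L) ⧸ 𝔭 := Ideal.Quotient.mk 𝔭
  let i : κ →+* (κ ⊗[k] L) ⧸ 𝔭 := q.comp (Algebra.TensorProduct.includeLeftRingHom)
  let j : L →+* (κ ⊗[k] L) ⧸ 𝔭 :=
    q.comp (Algebra.TensorProduct.includeRight : L →ₐ[k] κ ⊗[k] L).toRingHom
  have hi : ∀ a : κ, i a = q (a ⊗ₜ[k] 1) := fun a => rfl
  have hj : ∀ l : L, j l = q (1 ⊗ₜ[k] l) := fun l => rfl
  have hik : ∀ c : k, i (algebraMap k κ c) = j (algebraMap k L c) := by
    intro c
    rw [hi, hj]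
    congr 1
    rw [Algebra.algebraMap_eq_smul_one, Algebra.algebraMap_eq_smul_one, TensorProduct.smul_tmul]
  have h1 : ∀ a : k', ∃ b : L, j b = i (algebraMap k' κ a) := by
    intro a
    have hint : IsIntegral k a := (Algebra.IsSeparable.isSeparable k a).isIntegral
    have hne : (minpoly k a).map (algebraMap k L) ≠ 0 :=
      Polynomial.map_ne_zero (minpoly.ne_zero hint)
    have hroot : (((minpoly k a).map (algebraMap k L)).map j).IsRoot (i (algebraMap k' κ a)) := by
      rw [Polynomial.map_map]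
      have hcomp : j.comp (algebraMap k L) = (i.comp (algebraMap k' κ)).comp (algebraMap k k') := by
        ext c
        simp only [RingHom.comp_apply]
        rw [← hik]
        rfl
      have : ((minpoly k a).map (algebraMap k k')).eval a = 0 := by
        rw [Polynomial.eval_map, ← Polynomial.aeval_def, minpoly.aeval]
      rw [hcomp, IsRoot.def, ← Polynomial.map_map, Polynomial.eval_map,
        ← RingHom.comp_apply, Polynomial.eval₂_hom, this, map_zero]
    obtain ⟨b, hb⟩ := (hsplit a).mem_range_of_isRoot hne hroot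
    exact ⟨b, hb⟩
  choose σf hσf using h1
  have hjinj : Function.Injective j := j.injective
  let σ : k' →+* L :=
    { toFun := σf
      map_one' := hjinj (by rw [hσf, map_one, map_one, map_one])
      map_mul' := fun a b => hjinj (by rw [hσf, map_mul, map_mul, map_mul, hσf, hσf])
      map_zero' := hjinj (by rw [hσf, map_zero, map_zero, map_zero])
      map_add' := fun a b => hjinj (by rw [hσf, map_add, map_add, map_add, hσf, hσf]) }
  have hσ : ∀ a : k', j (σ a) = i (algebraMap k' κ a) := hσf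
  refine ⟨{ σ with commutes' := fun c => hjinj (by
    change j (σ (algebraMap k k' c)) = j (algebraMap k L c)
    rw [hσ, ← hik]
    rfl) }, ?_⟩
  intro a
  rw [← Ideal.Quotient.eq]
  exact (hσ a).symm

/-- `k' := separableClosure k κ` is separably closed in `κ`. -/
theorem relSepClosed_separableClosure :
    ∀ a : κ, IsSeparable (separableClosure k κ) a →
      a ∈ Set.range (algebraMap (separableClosure k κ) κ) := by
  intro a ha
  have h2 : a ∈ separableClosure (separableClosure k κ) κ := mem_separableClosure_iff.mpr ha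
  rw [separableClosure.separableClosure_eq_bot] at h2
  exact IntermediateField.mem_bot.mp h2

/-- Two primes of `κ ⊗[k] L` inducing the same embedding of the separable closure are equal. -/
theorem prime_eq_of_algHom [Algebra.IsIntegral k L]
    (σ : separableClosure k κ →ₐ[k] L) (𝔭 𝔮 : Ideal (κ ⊗[k] L)) [h𝔭p : 𝔭.IsPrime] [h𝔮p : 𝔮.IsPrime]
    (h𝔭 : ∀ a : separableClosure k κ, (a : κ) ⊗ₜ[k] (1 : L) - (1 : κ) ⊗ₜ[k] σ a ∈ 𝔭)
    (h𝔮 : ∀ a : separableClosure k κ, (a : κ) ⊗ₜ[k] (1 : L) - (1 : κ) ⊗ₜ[k] σ a ∈ 𝔮) :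
    𝔭 = 𝔮 := by
  classical
  letI algk'L : Algebra (separableClosure k κ) L := σ.toRingHom.toAlgebra
  haveI tower1 : IsScalarTower k (separableClosure k κ) L := IsScalarTower.of_algebraMap_eq (fun c => (σ.commutes c).symm)
  haveI : Algebra.IsIntegral (separableClosure k κ) L := Algebra.IsIntegral.tower_top (R := k) (S := (separableClosure k κ)) (T := L)
  -- the spectrum of `κ ⊗[(separableClosure k κ)] L` is a single point
  haveI hirr : IrreducibleSpace (PrimeSpectrum (κ ⊗[(separableClosure k κ)] L)) := by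
    haveI h1 : IrreducibleSpace (PrimeSpectrum (L ⊗[(separableClosure k κ)] κ)) :=
      (Groth.Agent.S2150.result (k := (separableClosure k κ)) (K := κ)).mpr relSepClosed_separableClosure L
    exact (PrimeSpectrum.homeomorphOfRingEquiv
      (Algebra.TensorProduct.comm (separableClosure k κ) L κ).toRingEquiv).irreducibleSpace_iff.mp h1
  haveI : Algebra.IsIntegral κ (κ ⊗[(separableClosure k κ)] L) := inferInstance
  have hsub : Subsingleton (PrimeSpectrum (κ ⊗[(separableClosure k κ)] L)) :=
    subsingleton_primeSpectrum_of_isIntegral_of_irreducibleSpace κ (κ ⊗[(separableClosure k κ)] L)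
  -- the canonical surjection
  let ρ : κ ⊗[k] L →ₐ[k] κ ⊗[(separableClosure k κ)] L :=
    Algebra.TensorProduct.productMap
      ((Algebra.TensorProduct.includeLeft : κ →ₐ[(separableClosure k κ)] κ ⊗[(separableClosure k κ)] L).restrictScalars k)
      ((Algebra.TensorProduct.includeRight : L →ₐ[(separableClosure k κ)] κ ⊗[(separableClosure k κ)] L).restrictScalars k)
  have hρ : ∀ (a : κ) (l : L), ρ (a ⊗ₜ[k] l) = a ⊗ₜ[(separableClosure k κ)] l := by
    intro a l
    simp only [ρ, Algebra.TensorProduct.productMap_apply_tmul, AlgHom.restrictScalars_apply,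
      Algebra.TensorProduct.includeLeft_apply, Algebra.TensorProduct.includeRight_apply,
      Algebra.TensorProduct.tmul_mul_tmul, mul_one, one_mul]
  -- key: every prime with the property is the pullback of the unique prime
  have key : ∀ (P : Ideal (κ ⊗[k] L)) [P.IsPrime],
      (∀ a : (separableClosure k κ), (a : κ) ⊗ₜ[k] (1 : L) - (1 : κ) ⊗ₜ[k] σ a ∈ P) →
      ∃ Q : PrimeSpectrum (κ ⊗[(separableClosure k κ)] L), P = Q.asIdeal.comap (ρ : κ ⊗[k] L →+* κ ⊗[(separableClosure k κ)] L) := by
    intro P hP h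
    let q : κ ⊗[k] L →+* (κ ⊗[k] L) ⧸ P := Ideal.Quotient.mk P
    let i : κ →+* (κ ⊗[k] L) ⧸ P := q.comp (Algebra.TensorProduct.includeLeftRingHom)
    let j : L →+* (κ ⊗[k] L) ⧸ P :=
      q.comp (Algebra.TensorProduct.includeRight : L →ₐ[k] κ ⊗[k] L).toRingHom
    letI algM : Algebra (separableClosure k κ) ((κ ⊗[k] L) ⧸ P) := (i.comp (algebraMap (separableClosure k κ) κ)).toAlgebra
    let g₁ : κ →ₐ[(separableClosure k κ)] (κ ⊗[k] L) ⧸ P := { i with commutes' := fun a => rfl }
    let g₂ : L →ₐ[(separableClosure k κ)] (κ ⊗[k] L) ⧸ P :=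
      { j with
        commutes' := fun a => by
          change q ((1 : κ) ⊗ₜ[k] σ a) = q ((a : κ) ⊗ₜ[k] (1 : L))
          exact (Ideal.Quotient.eq.mpr (h a)).symm }
    let Φ : κ ⊗[(separableClosure k κ)] L →ₐ[(separableClosure k κ)] (κ ⊗[k] L) ⧸ P := Algebra.TensorProduct.productMap g₁ g₂
    have hΦ : ∀ (a : κ) (l : L), Φ (a ⊗ₜ[(separableClosure k κ)] l) = g₁ a * g₂ l :=
      fun a l => Algebra.TensorProduct.productMap_apply_tmul g₁ g₂ a l
    have hΦρ : ∀ z : κ ⊗[k] L, Φ (ρ z) = q z := by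
      intro z
      induction z using TensorProduct.induction_on with
      | zero => simp
      | tmul a l =>
        rw [hρ, hΦ]
        change q (a ⊗ₜ[k] 1) * q (1 ⊗ₜ[k] l) = q (a ⊗ₜ[k] l)
        rw [← map_mul, Algebra.TensorProduct.tmul_mul_tmul, mul_one, one_mul]
      | add x y hx hy => rw [map_add, map_add, hx, hy, map_add]
    haveI : (RingHom.ker (Φ : κ ⊗[(separableClosure k κ)] L →+* (κ ⊗[k] L) ⧸ P)).IsPrime := RingHom.ker_isPrime _
    refine ⟨⟨RingHom.ker (Φ : κ ⊗[(separableClosure k κ)] L →+* (κ ⊗[k] L) ⧸ P), inferInstance⟩, ?_⟩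
    ext z
    rw [Ideal.mem_comap, RingHom.mem_ker]
    change z ∈ P ↔ Φ (ρ z) = 0
    rw [hΦρ]
    exact (Ideal.Quotient.eq_zero_iff_mem).symm
  obtain ⟨Q₁, h₁⟩ := key 𝔭 h𝔭
  obtain ⟨Q₂, h₂⟩ := key 𝔮 h𝔮
  rw [h₁, h₂, Subsingleton.elim Q₁ Q₂]

/-- If `L/k` is algebraic and splits the (finite) separable closure `k'` of `k` in `κ`, then
`κ ⊗[k] L` has at most `[k' : k]` primes. -/
theorem card_primeSpectrum_tensor_le [FiniteDimensional k (separableClosure k κ)]
    [Algebra.IsIntegral k L]
    (hsplit : ∀ a : separableClosure k κ, ((minpoly k a).map (algebraMap k L)).Splits) :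
    Finite (PrimeSpectrum (κ ⊗[k] L)) ∧
      Nat.card (PrimeSpectrum (κ ⊗[k] L)) ≤ Module.finrank k (separableClosure k κ) := by
  classical
  have hex : ∀ P : PrimeSpectrum (κ ⊗[k] L), ∃ σ : separableClosure k κ →ₐ[k] L,
      ∀ a : separableClosure k κ, (a : κ) ⊗ₜ[k] (1 : L) - (1 : κ) ⊗ₜ[k] σ a ∈ P.asIdeal :=
    fun P => exists_algHom_of_prime hsplit P.asIdeal
  choose s hs using hex
  have hinj : Function.Injective s := by
    intro P Q hPQ
    apply PrimeSpectrum.ext
    exact prime_eq_of_algHom (s P) P.asIdeal Q.asIdeal (hs P) (by rw [hPQ]; exact hs Q)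
  haveI : Finite (separableClosure k κ →ₐ[k] L) := inferInstance
  refine ⟨Finite.of_injective s hinj, ?_⟩
  calc Nat.card (PrimeSpectrum (κ ⊗[k] L)) ≤ Nat.card (separableClosure k κ →ₐ[k] L) :=
        Nat.card_le_card_of_injective s hinj
    _ ≤ Module.finrank k (separableClosure k κ) := card_algHom_le_finrank k _ L

/-- Every embedding of the separable closure into `L` is induced by a prime of `κ ⊗[k] L`. -/
theorem exists_prime_of_algHom (σ : separableClosure k κ →ₐ[k] L) :
    ∃ P : PrimeSpectrum (κ ⊗[k] L), ∀ a : separableClosure k κ,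
      (a : κ) ⊗ₜ[k] (1 : L) - (1 : κ) ⊗ₜ[k] σ a ∈ P.asIdeal := by
  classical
  letI algk'L : Algebra (separableClosure k κ) L := σ.toRingHom.toAlgebra
  haveI tower1 : IsScalarTower k (separableClosure k κ) L :=
    IsScalarTower.of_algebraMap_eq (fun c => (σ.commutes c).symm)
  let ρ : κ ⊗[k] L →ₐ[k] κ ⊗[(separableClosure k κ)] L :=
    Algebra.TensorProduct.productMap
      ((Algebra.TensorProduct.includeLeft : κ →ₐ[(separableClosure k κ)] κ ⊗[(separableClosure k κ)] L).restrictScalars k)
      ((Algebra.TensorProduct.includeRight : L →ₐ[(separableClosure k κ)] κ ⊗[(separableClosure k κ)] L).restrictScalars k)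
  have hρ : ∀ (a : κ) (l : L), ρ (a ⊗ₜ[k] l) = a ⊗ₜ[(separableClosure k κ)] l := by
    intro a l
    simp only [ρ, Algebra.TensorProduct.productMap_apply_tmul, AlgHom.restrictScalars_apply,
      Algebra.TensorProduct.includeLeft_apply, Algebra.TensorProduct.includeRight_apply,
      Algebra.TensorProduct.tmul_mul_tmul, mul_one, one_mul]
  haveI : Nontrivial (κ ⊗[(separableClosure k κ)] L) := inferInstance
  obtain ⟨Q⟩ : Nonempty (PrimeSpectrum (κ ⊗[(separableClosure k κ)] L)) := inferInstance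
  refine ⟨⟨Q.asIdeal.comap (ρ : κ ⊗[k] L →+* κ ⊗[(separableClosure k κ)] L), inferInstance⟩, ?_⟩
  intro a
  rw [Ideal.mem_comap]
  have : (ρ : κ ⊗[k] L →+* κ ⊗[(separableClosure k κ)] L)
      ((a : κ) ⊗ₜ[k] (1 : L) - (1 : κ) ⊗ₜ[k] σ a) = 0 := by
    change ρ ((a : κ) ⊗ₜ[k] (1 : L) - (1 : κ) ⊗ₜ[k] σ a) = 0
    rw [map_sub, hρ, hρ, sub_eq_zero]
    have h1 : (a : κ) = a • (1 : κ) := by
      rw [Algebra.smul_def, mul_one]; rfl
    have h2 : σ a = a • (1 : L) := by
      rw [Algebra.smul_def, mul_one]; rfl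
    rw [h1, h2, TensorProduct.smul_tmul]
  rw [this]
  exact zero_mem _

/-- If `L/k` is algebraic and splits the (finite) separable closure `k'` of `k` in `κ`, then
`κ ⊗[k] L` has exactly `[k' : k]` primes. -/
theorem card_primeSpectrum_tensor_eq [FiniteDimensional k (separableClosure k κ)]
    [Algebra.IsIntegral k L]
    (hsplit : ∀ a : separableClosure k κ, ((minpoly k a).map (algebraMap k L)).Splits) :
    Nat.card (PrimeSpectrum (κ ⊗[k] L)) = Module.finrank k (separableClosure k κ) := by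
  classical
  have hex : ∀ P : PrimeSpectrum (κ ⊗[k] L), ∃ σ : separableClosure k κ →ₐ[k] L,
      ∀ a : separableClosure k κ, (a : κ) ⊗ₜ[k] (1 : L) - (1 : κ) ⊗ₜ[k] σ a ∈ P.asIdeal :=
    fun P => exists_algHom_of_prime hsplit P.asIdeal
  choose s hs using hex
  have hinj : Function.Injective s := by
    intro P Q hPQ
    apply PrimeSpectrum.ext
    exact prime_eq_of_algHom (s P) P.asIdeal Q.asIdeal (hs P) (by rw [hPQ]; exact hs Q)
  have hsurj : Function.Surjective s := by
    intro σ
    obtain ⟨P, hP⟩ := exists_prime_of_algHom (κ := κ) σ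
    refine ⟨P, ?_⟩
    apply AlgHom.ext
    intro a
    by_contra hne
    have h1 : (1 : κ) ⊗ₜ[k] (σ a - s P a) ∈ P.asIdeal := by
      have h2 := P.asIdeal.sub_mem (hs P a) (hP a)
      have h3 : (a : κ) ⊗ₜ[k] (1 : L) - (1 : κ) ⊗ₜ[k] (s P) a -
          ((a : κ) ⊗ₜ[k] (1 : L) - (1 : κ) ⊗ₜ[k] σ a) = (1 : κ) ⊗ₜ[k] (σ a - s P a) := by
        rw [TensorProduct.tmul_sub]; abel
      rwa [h3] at h2
    have hu : σ a - s P a ≠ 0 := fun h0 => hne (sub_eq_zero.mp h0).symm
    have h4 : (1 : κ ⊗[k] L) ∈ P.asIdeal := by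
      have := P.asIdeal.mul_mem_left ((1 : κ) ⊗ₜ[k] (σ a - s P a)⁻¹) h1
      rwa [Algebra.TensorProduct.tmul_mul_tmul, one_mul, inv_mul_cancel₀ hu] at this
    exact P.2.ne_top ((Ideal.eq_top_iff_one _).mpr h4)
  rw [Nat.card_congr (Equiv.ofBijective s ⟨hinj, hsurj⟩)]
  haveI : Algebra.IsSeparable k (separableClosure k κ) := inferInstance
  exact AlgHom.natCard_of_splits k (separableClosure k κ) L hsplit

end SepCount

end Groth.Agent.Lib.Helper51
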