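import Mathlib
import Groth.Agent.Lib.Helper51.StalkBC

/-!
# Common points of two base changes; local rings in towers (helper51)

* `injective_stalkMap_of_flat`
* `exists_common_point_aux`: points `z ∈ X_K`, `x' ∈ X_Ω` over the same point of `X` are dominated by a
  point `t ∈ (X_Ω)_E`, with `(X_Ω)_E ⟶ X_K` flat.
* `stalk_tower_transfer`: local rings of `(X_{k'})_E` are local rings of `X_E`.
-/

set_option autoImplicit false
universe u
open CategoryTheory CategoryTheory.Limits AlgebraicGeometry TensorProduct

namespace Groth.Agent.Lib.Helper51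

/-- A flat morphism induces injective maps on stalks. -/
theorem injective_stalkMap_of_flat {W Y : Scheme.{u}} (a : W ⟶ Y) [Flat a] (w : W) :
    Function.Injective (a.stalkMap w).hom := by
  have hflat : (a.stalkMap w).hom.Flat := Flat.stalkMap a w
  algebraize [(a.stalkMap w).hom]
  haveI : IsLocalHom (algebraMap (Y.presheaf.stalk (a w)) (W.presheaf.stalk w)) :=
    inferInstanceAs (IsLocalHom (a.stalkMap w).hom)
  haveI : Module.FaithfullyFlat (Y.presheaf.stalk (a w)) (W.presheaf.stalk w) :=
    Module.FaithfullyFlat.of_flat_of_isLocalHom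
  exact FaithfulSMul.algebraMap_injective _ _

/-- Two points of base changes `X_K`, `X_Ω` over the same point of `X` are dominated by a common point
of a base change `(X_Ω)_E`, which maps flatly to `X_K`. -/
theorem exists_common_point_aux {K Ω : Type u} [Field K] [Field Ω]
    {X S : Scheme.{u}} (f : X ⟶ S) (gK : Spec (CommRingCat.of K) ⟶ S) (gΩ : Spec (CommRingCat.of Ω) ⟶ S)
    (z : ↥(pullback f gK)) (x' : ↥(pullback f gΩ))
    (h : pullback.fst f gK z = pullback.fst f gΩ x') :
    ∃ (E : Type u) (_ : Field E) (_ : Algebra Ω E)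
      (a : pullback (pullback.snd f gΩ) (Spec.map (CommRingCat.ofHom (algebraMap Ω E))) ⟶
        pullback f gK)
      (t : ↥(pullback (pullback.snd f gΩ) (Spec.map (CommRingCat.ofHom (algebraMap Ω E))))),
      Flat a ∧ a t = z ∧
      (pullback.fst (pullback.snd f gΩ) (Spec.map (CommRingCat.ofHom (algebraMap Ω E)))) t = x' := by
  -- a point of the fibre product over `X`
  obtain ⟨p, hp1, hp2⟩ := Scheme.Pullback.exists_preimage_pullback
    (f := pullback.fst f gK) (g := pullback.fst f gΩ) z x' h
  let P := pullback (pullback.fst f gK) (pullback.fst f gΩ)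
  let E := P.residueField p
  let ι : Spec E ⟶ P := P.fromSpecResidueField p
  let uK : Spec E ⟶ pullback f gK := ι ≫ pullback.fst _ _
  let uΩ : Spec E ⟶ pullback f gΩ := ι ≫ pullback.snd _ _
  obtain ⟨β', hβ'⟩ := Spec.map_surjective (uΩ ≫ pullback.snd f gΩ)
  obtain ⟨α', hα'⟩ := Spec.map_surjective (uK ≫ pullback.snd f gK)
  letI algΩE : Algebra Ω E := β'.hom.toAlgebra
  have hβ : Spec.map (CommRingCat.ofHom (algebraMap Ω E)) = uΩ ≫ pullback.snd f gΩ := hβ'
  let sβ := Spec.map (CommRingCat.ofHom (algebraMap Ω E))
  let sα : Spec E ⟶ Spec (CommRingCat.of K) := Spec.map α'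
  have hcomp : sβ ≫ gΩ = sα ≫ gK := by
    simp only [sβ, sα]
    rw [hβ, hα']
    simp only [uΩ, uK, Category.assoc]
    rw [← pullback.condition, ← pullback.condition, ← Category.assoc ι, ← Category.assoc ι,
      Category.assoc, Category.assoc]
    congr 1
    rw [← Category.assoc, ← Category.assoc, pullback.condition]
  let Y := pullback (pullback.snd f gΩ) sβ
  let b : Y ⟶ pullback f gΩ := pullback.fst _ _
  let s : Y ⟶ Spec (CommRingCat.of E) := pullback.snd _ _
  have s1 : IsPullback b s (pullback.snd f gΩ) sβ := IsPullback.of_hasPullback _ _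
  have hW : IsPullback (pullback.fst f gΩ) (pullback.snd f gΩ) f gΩ := IsPullback.of_hasPullback _ _
  have big := s1.paste_horiz hW
  rw [hcomp] at big
  have sq : IsPullback (pullback.fst f gK) (pullback.snd f gK) f gK := IsPullback.of_hasPullback _ _
  let a : Y ⟶ pullback f gK :=
    sq.lift (b ≫ pullback.fst f gΩ) (s ≫ sα) (by have := big.w; simp only [Category.assoc] at this ⊢; exact this)
  have hl1 : a ≫ pullback.fst f gK = b ≫ pullback.fst f gΩ := sq.lift_fst _ _ _
  have hl2 : a ≫ pullback.snd f gK = s ≫ sα := sq.lift_snd _ _ _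
  rw [← hl1] at big
  have left := IsPullback.of_right big hl2 sq
  have hfα : Flat sα := inferInstance
  have hfa : Flat a := MorphismProperty.of_isPullback left.flip hfα
  -- the section
  let sec : Spec E ⟶ Y := pullback.lift uΩ (𝟙 _) (by rw [Category.id_comp]; exact hβ.symm)
  have hsec1 : sec ≫ b = uΩ := pullback.lift_fst _ _ _
  have hsec2 : sec ≫ s = 𝟙 _ := pullback.lift_snd _ _ _
  have hsec3 : sec ≫ a = uK := by
    apply pullback.hom_ext
    · rw [Category.assoc, hl1, ← Category.assoc, hsec1]
      simp only [uΩ, uK, Category.assoc]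
      rw [pullback.condition]
    · rw [Category.assoc, hl2, ← Category.assoc, hsec2, Category.id_comp]
      exact hα'
  let pt : Spec E := IsLocalRing.closedPoint E
  refine ⟨E, inferInstance, algΩE, a, sec pt, hfa, ?_, ?_⟩
  · rw [← Scheme.Hom.comp_apply, hsec3]
    simp only [uK, Scheme.Hom.comp_apply]
    rw [show ι pt = p from P.fromSpecResidueField_apply p pt]
    exact hp1
  · have : (pullback.fst (pullback.snd f gΩ) (Spec.map (CommRingCat.ofHom (algebraMap Ω E)))) (sec pt) =
        (sec ≫ b) pt := by
      rw [Scheme.Hom.comp_apply]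
    rw [this, hsec1]
    simp only [uΩ, Scheme.Hom.comp_apply]
    rw [show ι pt = p from P.fromSpecResidueField_apply p pt]
    exact hp2

/-- Transfer of a property of local rings between `X_E` and `(X_{k'})_E`. -/
theorem stalk_tower_transfer {k k' E : Type u} [Field k] [Field k'] [Field E] [Algebra k k']
    [Algebra k' E] [Algebra k E] [IsScalarTower k k' E]
    {X : Scheme.{u}} (f : X ⟶ Spec (CommRingCat.of k))
    (t : ↥(pullback (pullback.snd f (Spec.map (CommRingCat.ofHom (algebraMap k k'))))
      (Spec.map (CommRingCat.ofHom (algebraMap k' E))))) :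
    ∃ t' : ↥(pullback f (Spec.map (CommRingCat.ofHom (algebraMap k E)))),
      pullback.fst f (Spec.map (CommRingCat.ofHom (algebraMap k E))) t' =
        pullback.fst f (Spec.map (CommRingCat.ofHom (algebraMap k k')))
          (pullback.fst (pullback.snd f (Spec.map (CommRingCat.ofHom (algebraMap k k'))))
            (Spec.map (CommRingCat.ofHom (algebraMap k' E))) t) ∧
      Nonempty ((pullback f (Spec.map (CommRingCat.ofHom (algebraMap k E)))).presheaf.stalk t' ≃+*
        (pullback (pullback.snd f (Spec.map (CommRingCat.ofHom (algebraMap k k'))))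
          (Spec.map (CommRingCat.ofHom (algebraMap k' E)))).presheaf.stalk t) := by
  have sqT := isPullback_bcMap f k' E
  let iso := sqT.isoPullback
  refine ⟨iso.inv t, ?_, ?_⟩
  · rw [← bcMap_fst f k' E, Scheme.Hom.comp_apply, ← Scheme.Hom.comp_apply iso.inv,
      sqT.isoPullback_inv_fst]
  · exact ⟨RingEquiv.ofBijective (iso.inv.stalkMap t).hom (ConcreteCategory.bijective_of_isIso _)⟩

end Groth.Agent.Lib.Helper51
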