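import Mathlib

/-!
# A non-vanishing criterion in flat local algebras (helper51)

`not_mem_map_of_flat`: `A → D` flat with `D` local, `𝔭 ⊆ A` mapping to non-units of `D`, `I` an ideal
of `A` and `σ ∈ A` with `w σ ∉ I` for all `w ∉ 𝔭`.  Then `σ ∉ I D`.
-/

set_option autoImplicit false

namespace Groth.Agent.Lib.Helper51.MultiSecCrit

theorem not_mem_map_of_flat {A D : Type*} [CommRing A] [CommRing D] [Algebra A D]
    [Module.Flat A D] [IsLocalRing D] (p : Ideal A)
    (hp : ∀ a ∈ p, ¬ IsUnit (algebraMap A D a)) (I : Ideal A) (σ : A)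
    (hσ : ∀ w, w ∉ p → w * σ ∉ I) :
    algebraMap A D σ ∉ I.map (algebraMap A D) := by
  classical
  intro hmem
  rw [Ideal.map, Ideal.span, Submodule.mem_span_set'] at hmem
  obtain ⟨n, f, g, hsum⟩ := hmem
  choose a ha hga using fun i => (g i).2
  -- the relation `σ • 1 - ∑ a i • f i = 0`
  let c : Option (Fin n) → A := fun o => o.elim σ (fun i => - a i)
  let x : Option (Fin n) → D := fun o => o.elim 1 (fun i => f i)
  have hrel : ∑ o, c o • x o = 0 := by
    rw [Fintype.sum_option]
    show σ • (1 : D) + ∑ i, (-a i) • f i = 0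
    rw [Algebra.smul_def, mul_one, ← hsum, ← Finset.sum_add_distrib]
    refine Finset.sum_eq_zero fun i _ => ?_
    rw [← hga i, smul_eq_mul, Algebra.smul_def, map_neg]
    ring
  obtain ⟨k, a', y, hx, hc⟩ :=
    Module.Flat.isTrivialRelation_of_sum_smul_eq_zero (R := A) (M := D) (f := c) (x := x) hrel
  have h1 : (1 : D) = ∑ j, a' none j • y j := hx none
  -- some term is a unit
  have hex : ∃ j, IsUnit (a' none j • y j) := by
    by_contra hcon
    push_neg at hcon
    have : (∑ j, a' none j • y j) ∈ IsLocalRing.maximalIdeal D :=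
      Ideal.sum_mem _ fun j _ => (IsLocalRing.mem_maximalIdeal _).mpr (hcon j)
    rw [← h1] at this
    exact (IsLocalRing.mem_maximalIdeal _).mp this isUnit_one
  obtain ⟨j, hj⟩ := hex
  rw [Algebra.smul_def] at hj
  have hu : IsUnit (algebraMap A D (a' none j)) := isUnit_of_mul_isUnit_left hj
  have hw : a' none j ∉ p := fun h => hp _ h hu
  refine hσ _ hw ?_
  have := hc j
  rw [Fintype.sum_option] at this
  simp only [c, Option.elim_none, Option.elim_some] at this
  have h2 : a' none j * σ = ∑ i, a i * a' (some i) j := by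
    have h3 : σ * a' none j = - ∑ i, -a i * a' (some i) j := eq_neg_of_add_eq_zero_left this
    rw [mul_comm, h3]
    simp
  rw [h2]
  exact Ideal.sum_mem _ fun i _ => I.mul_mem_right _ (ha i)

end Groth.Agent.Lib.Helper51.MultiSecCrit
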