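import Mathlib
import Groth.Agent.Lib.Helper22.SmoothSepPts
import Groth.Agent.Lib.Helper30.SmoothReduced

/-!
# Separable closed points in fibres of standard smooth algebras (helper51)
-/

set_option autoImplicit false
universe u
open TensorProduct

namespace Groth.Agent.Lib.Helper51.MultiSecFibre

/-- `1 ⊗ x = 0` in `(A/p) ⊗ B` forces `x ∈ p B`. -/
theorem mem_map_of_one_tmul_eq_zero {A B : Type*} [CommRing A] [CommRing B] [Algebra A B]
    (p : Ideal A) (x : B) (hx : (1 : A ⧸ p) ⊗ₜ[A] x = 0) : x ∈ p.map (algebraMap A B) := by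
  have h1 := congrArg (TensorProduct.quotTensorEquivQuotSMul B p) hx
  rw [TensorProduct.quotTensorEquivQuotSMul_mk_one_tmul, map_zero,
    Submodule.Quotient.mk_eq_zero, Ideal.smul_top_eq_map] at h1
  exact h1

theorem exists_separable_maximal {A B : Type u} [CommRing A] [CommRing B] [Algebra A B]
    [Algebra.IsStandardSmooth A B] (p : Ideal A) [hp : p.IsMaximal] (h : B)
    (hh : h ∉ p.map (algebraMap A B)) :
    ∃ q' : Ideal B, q'.IsMaximal ∧ p.map (algebraMap A B) ≤ q' ∧ h ∉ q' ∧
      Algebra.FormallyUnramified A (B ⧸ q') := by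
  letI : Field (A ⧸ p) := Ideal.Quotient.field p
  let S := (A ⧸ p) ⊗[A] B
  let θ : B →ₐ[A] S := Algebra.TensorProduct.includeRight
  have hθsurj : Function.Surjective θ := by
    intro s
    induction s using TensorProduct.induction_on with
    | zero => exact ⟨0, map_zero _⟩
    | tmul x b =>
      obtain ⟨a, rfl⟩ := Ideal.Quotient.mk_surjective x
      refine ⟨a • b, ?_⟩
      show (1 : A ⧸ p) ⊗ₜ[A] (a • b) = Ideal.Quotient.mk p a ⊗ₜ[A] b
      rw [← TensorProduct.smul_tmul, Algebra.smul_def, mul_one]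
      rfl
    | add x y hx hy =>
      obtain ⟨x', rfl⟩ := hx
      obtain ⟨y', rfl⟩ := hy
      exact ⟨x' + y', map_add _ _ _⟩
  have hθh : θ h ≠ 0 := fun h0 => hh (mem_map_of_one_tmul_eq_zero p h h0)
  haveI : Algebra.Smooth (A ⧸ p) S := inferInstance
  haveI : IsReduced S := Groth.Agent.Lib.Helper30.SmoothReduced.isReduced_of_smooth (A ⧸ p) S
  have hne : (PrimeSpectrum.basicOpen (θ h) : Set (PrimeSpectrum S)).Nonempty := by
    rw [Set.nonempty_iff_ne_empty]
    intro hempty
    have h1 : PrimeSpectrum.basicOpen (θ h) = ⊥ := TopologicalSpace.Opens.ext hempty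
    rw [PrimeSpectrum.basicOpen_eq_bot_iff] at h1
    exact hθh (IsReduced.eq_zero _ h1)
  obtain ⟨q, hqO, hqmax, hfin, hsep⟩ :=
    Groth.Agent.Lib.Helper22.SmoothSepPts.exists_maximal_of_isStandardSmooth (A ⧸ p) S
      (RingHom.isStandardSmooth_algebraMap.mpr inferInstance) _
      (PrimeSpectrum.basicOpen (θ h)).2 hne
  haveI := hqmax
  letI : Field (S ⧸ q.asIdeal) := Ideal.Quotient.field q.asIdeal
  let f : B →ₐ[A] (S ⧸ q.asIdeal) := (Ideal.Quotient.mkₐ A q.asIdeal).comp θ
  have hf : Function.Surjective f := Ideal.Quotient.mk_surjective.comp hθsurj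
  refine ⟨RingHom.ker (f : B →+* S ⧸ q.asIdeal), RingHom.ker_isMaximal_of_surjective _ hf, ?_, ?_, ?_⟩
  · rw [Ideal.map_le_iff_le_comap]
    intro a ha
    rw [Ideal.mem_comap, RingHom.mem_ker]
    show f (algebraMap A B a) = 0
    rw [f.commutes, IsScalarTower.algebraMap_apply A (A ⧸ p) (S ⧸ q.asIdeal)]
    rw [Ideal.Quotient.algebraMap_eq, Ideal.Quotient.eq_zero_iff_mem.mpr ha, map_zero]
  · intro hmem
    rw [RingHom.mem_ker] at hmem
    have : θ h ∈ q.asIdeal := Ideal.Quotient.eq_zero_iff_mem.mp hmem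
    exact hqO this
  · haveI h1 : Algebra.FormallyUnramified A (A ⧸ p) :=
      Algebra.FormallyUnramified.of_surjective (Algebra.ofId A (A ⧸ p)) Ideal.Quotient.mk_surjective
    haveI h2 : Algebra.FormallyUnramified (A ⧸ p) (S ⧸ q.asIdeal) :=
      Algebra.FormallyUnramified.of_isSeparable _ _
    haveI h3 : Algebra.FormallyUnramified A (S ⧸ q.asIdeal) :=
      Algebra.FormallyUnramified.comp A (A ⧸ p) (S ⧸ q.asIdeal)
    exact Algebra.FormallyUnramified.of_equiv (Ideal.quotientKerAlgEquivOfSurjective hf).symm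

end Groth.Agent.Lib.Helper51.MultiSecFibre
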