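import Mathlib

/-!
# Leading-term data of a nonzero element of a Noetherian algebra (helper51)

For Noetherian `A → B` and `t ≠ 0` in `B` there are a maximal ideal `q` of `B` (lying over `p`), an ideal
`I` of `A`, `σ ∈ A` which is nonzero in `(A/I)_p`, and `u ∉ q`, `b ∈ B` with `u t ≡ σ b` modulo `I B`
and `u b ∉ p B`.
-/

set_option autoImplicit false

namespace Groth.Agent.Lib.Helper51.MultiSecSocle

theorem exists_socle_data {A B : Type*} [CommRing A] [CommRing B] [Algebra A B]
    [IsNoetherianRing A] [IsNoetherianRing B] (t : B) (ht : t ≠ 0) :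
    ∃ (q : Ideal B) (_ : q.IsMaximal) (I : Ideal A) (σ : A) (u b : B),
      u ∉ q ∧ (∀ w, w ∉ q.comap (algebraMap A B) → w * σ ∉ I) ∧
      u * t - algebraMap A B σ * b ∈ I.map (algebraMap A B) ∧
      u * b ∉ (q.comap (algebraMap A B)).map (algebraMap A B) := by
  classical
  -- a maximal ideal containing the annihilator of `t`
  let N : Ideal B := Submodule.annihilator (Ideal.span {t} : Ideal B)
  have hN : N ≠ ⊤ := by
    intro h
    have h1 : (1 : B) ∈ N := h ▸ Submodule.mem_top
    have h2 : (1 : B) • t = 0 := Submodule.mem_annihilator_span_singleton _ _ |>.mp h1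
    exact ht (by simpa using h2)
  obtain ⟨q, hq, hNq⟩ := Ideal.exists_le_maximal N hN
  haveI := hq
  haveI : q.IsPrime := hq.isPrime
  let M := Localization.AtPrime q
  let p : Ideal A := q.comap (algebraMap A B)
  let φ : A →+* M := algebraMap A M
  have hφ : φ = (algebraMap B M).comp (algebraMap A B) := IsScalarTower.algebraMap_eq A B M
  have hunitB : ∀ x : B, x ∉ q → IsUnit (algebraMap B M x) := fun x hx =>
    IsLocalization.map_units M (⟨x, hx⟩ : q.primeCompl)
  have hunitA : ∀ w : A, w ∉ p → IsUnit (φ w) := fun w hw => by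
    rw [hφ]; exact hunitB _ hw
  have ht1 : algebraMap B M t ≠ 0 := by
    intro h
    obtain ⟨m, hm⟩ := (IsLocalization.map_eq_zero_iff q.primeCompl M t).mp h
    have : (m : B) ∈ N := by
      rw [Submodule.mem_annihilator_span_singleton]
      exact hm
    exact m.2 (hNq this)
  -- Krull intersection
  have hpM : p.map φ ≤ IsLocalRing.maximalIdeal M := by
    rw [← Localization.AtPrime.map_eq_maximalIdeal, hφ, ← Ideal.map_map]
    exact Ideal.map_mono Ideal.map_comap_le
  have hpMne : p.map φ ≠ ⊤ := fun h => (IsLocalRing.maximalIdeal.isMaximal M).ne_top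
    (top_le_iff.mp (h ▸ hpM))
  have hkrull := Ideal.iInf_pow_eq_bot_of_isLocalRing (p.map φ) hpMne
  obtain ⟨N₀, hN₀⟩ : ∃ n, algebraMap B M t ∉ (p.map φ) ^ n := by
    by_contra hcon
    push_neg at hcon
    have : algebraMap B M t ∈ ⨅ n, (p.map φ) ^ n := (Ideal.mem_iInf).mpr hcon
    rw [hkrull] at this
    exact ht1 this
  -- a maximal ideal `I` with `t ∉ I M`
  let F : Set (Ideal A) := {I | p ^ N₀ ≤ I ∧ algebraMap B M t ∉ I.map φ}
  have hF : F.Nonempty := ⟨p ^ N₀, le_rfl, by rw [Ideal.map_pow]; exact hN₀⟩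
  obtain ⟨I, ⟨hpI, htI⟩, hmax⟩ := (wellFounded_gt (α := Ideal A)).has_min F hF
  have hmax' : ∀ J : Ideal A, I ≤ J → algebraMap B M t ∉ J.map φ → J = I := by
    intro J hIJ hJ
    by_contra hne
    exact hmax J ⟨hpI.trans hIJ, hJ⟩ (lt_of_le_of_ne hIJ (Ne.symm hne))
  -- saturation
  have hsat : ∀ w a, w ∉ p → w * a ∈ I → a ∈ I := by
    intro w a hw hwa
    have h1 : (I ⊔ Ideal.span {a}).map φ = I.map φ := by
      apply le_antisymm
      · rw [Ideal.map_sup, Ideal.map_span, Set.image_singleton]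
        refine sup_le le_rfl ?_
        rw [Ideal.span_singleton_le_iff_mem]
        obtain ⟨c, hc⟩ := (hunitA w hw).exists_left_inv
        have : φ a = c * φ (w * a) := by
          rw [map_mul, ← mul_assoc, hc, one_mul]
        rw [this]
        exact Ideal.mul_mem_left _ _ (Ideal.mem_map_of_mem _ hwa)
      · exact Ideal.map_mono le_sup_left
    have h2 := hmax' (I ⊔ Ideal.span {a}) le_sup_left (by rw [h1]; exact htI)
    rw [← h2]
    exact Ideal.mem_sup_right (Ideal.mem_span_singleton_self a)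
  have hItop : I ≠ ⊤ := by
    intro h
    apply htI
    rw [h, Ideal.map_top]
    exact Submodule.mem_top
  -- the socle element
  have hex : ∃ k, p ^ k ≤ I := ⟨N₀, hpI⟩
  have hk0 : Nat.find hex ≠ 0 := by
    intro h0
    have := Nat.find_spec hex
    rw [h0, pow_zero, Ideal.one_eq_top, top_le_iff] at this
    exact hItop this
  obtain ⟨k, hk⟩ := Nat.exists_eq_succ_of_ne_zero hk0
  have hk1 : ¬ p ^ k ≤ I := Nat.find_min hex (by omega)
  have hk2 : p ^ (k + 1) ≤ I := by
    have := Nat.find_spec hex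
    rwa [hk] at this
  obtain ⟨σ, hσk, hσI⟩ := Set.not_subset.mp hk1
  have hσp : Ideal.span {σ} * p ≤ I := by
    refine le_trans ?_ hk2
    rw [pow_succ]
    exact Ideal.mul_mono_left ((Ideal.span_singleton_le_iff_mem _).mpr hσk)
  -- `t ∈ (I + σ) M`
  have htJ : algebraMap B M t ∈ (I ⊔ Ideal.span {σ}).map φ := by
    by_contra hcon
    have := hmax' _ le_sup_left hcon
    apply hσI
    rw [← this]
    exact Ideal.mem_sup_right (Ideal.mem_span_singleton_self σ)
  rw [Ideal.map_sup, Ideal.map_span, Set.image_singleton] at htJ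
  obtain ⟨i, hi, z, hz, hiz⟩ := Submodule.mem_sup.mp htJ
  obtain ⟨bM, rfl⟩ := Ideal.mem_span_singleton'.mp hz
  have hbM : bM ∉ p.map φ := by
    intro hb
    apply htI
    rw [← hiz]
    refine Ideal.add_mem _ hi ?_
    have h1 : bM * φ σ ∈ (Ideal.span {σ} * p).map φ := by
      rw [Ideal.map_mul, Ideal.map_span, Set.image_singleton, mul_comm bM]
      exact Ideal.mul_mem_mul (Ideal.mem_span_singleton_self _) hb
    exact Ideal.map_mono hσp h1
  -- clear denominators
  have hi' : i ∈ (I.map (algebraMap A B)).map (algebraMap B M) := by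
    rw [Ideal.map_map, ← hφ]; exact hi
  obtain ⟨⟨x₁, w⟩, hx⟩ := (IsLocalization.mem_map_algebraMap_iff q.primeCompl M).mp hi'
  obtain ⟨b₀, u₁, rfl⟩ := IsLocalization.exists_mk'_eq q.primeCompl bM
  have hb₀ : IsLocalization.mk' M b₀ u₁ * algebraMap B M u₁ = algebraMap B M b₀ :=
    IsLocalization.mk'_spec M b₀ u₁
  have heq : algebraMap B M ((w : B) * u₁ * t) =
      algebraMap B M ((u₁ : B) * x₁ + algebraMap A B σ * (w * b₀)) := by
    simp only [map_mul, map_add, ← hiz, ← hb₀, ← hx]
    rw [hφ]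
    simp only [RingHom.comp_apply]
    ring
  obtain ⟨v, hv⟩ := (IsLocalization.eq_iff_exists q.primeCompl M).mp heq
  refine ⟨q, hq, I, σ, v * w * u₁, v * w * b₀, ?_, ?_, ?_, ?_⟩
  · exact ((v * w * u₁ : q.primeCompl)).2
  · intro w' hw' hmem
    exact hσI (hsat w' σ hw' hmem)
  · have : (v : B) * w * u₁ * t - algebraMap A B σ * (v * w * b₀) = v * u₁ * x₁ := by
      have h1 : (v : B) * ((w : B) * u₁ * t) = v * ((u₁ : B) * x₁ + algebraMap A B σ * (w * b₀)) := hv
      linear_combination h1
    rw [this]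
    exact Ideal.mul_mem_left _ _ x₁.2
  · intro hmem
    apply hbM
    have h1 : algebraMap B M ((v : B) * w * u₁ * ((v : B) * w * b₀)) ∈ p.map φ := by
      rw [hφ, ← Ideal.map_map]
      exact Ideal.mem_map_of_mem _ hmem
    have hu : IsUnit (algebraMap B M ((v : B) * w * u₁ * ((v : B) * w))) := by
      apply hunitB
      exact ((v * w * u₁ * (v * w) : q.primeCompl)).2
    have h2 : algebraMap B M ((v : B) * w * u₁ * ((v : B) * w * b₀)) =
        algebraMap B M ((v : B) * w * u₁ * ((v : B) * w)) * algebraMap B M u₁ *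
          IsLocalization.mk' M b₀ u₁ := by
      have h3 : algebraMap B M ((v : B) * w * u₁ * ((v : B) * w * b₀)) =
          algebraMap B M ((v : B) * w * u₁ * ((v : B) * w)) * algebraMap B M b₀ := by
        rw [← map_mul]; congr 1; ring
      rw [h3, ← hb₀]; ring
    rw [h2] at h1
    have hu' : IsUnit (algebraMap B M ((v : B) * w * u₁ * ((v : B) * w)) * algebraMap B M u₁) :=
      hu.mul (hunitB _ u₁.2)
    obtain ⟨c, hc⟩ := hu'.exists_left_inv
    have : IsLocalization.mk' M b₀ u₁ = c * (algebraMap B M ((v : B) * w * u₁ * ((v : B) * w)) *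
        algebraMap B M u₁ * IsLocalization.mk' M b₀ u₁) := by
      rw [← mul_assoc, hc, one_mul]
    rw [this]
    exact Ideal.mul_mem_left _ _ h1

end Groth.Agent.Lib.Helper51.MultiSecSocle
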