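import Mathlib
import Groth.Agent.Lib.Helper51.MultiSecCrit
import Groth.Agent.Lib.Helper51.MultiSecSocle
import Groth.Agent.Lib.Helper51.MultiSecFibre
import Groth.Agent.Lib.Helper51.EtaleSlice

/-!
# Étale slices detect nonzero functions: Noetherian Jacobson base (helper51)
-/

set_option autoImplicit false
set_option linter.style.haveILetI false
universe u
open TensorProduct KaehlerDifferential

namespace Groth.Agent.Lib.Helper51.MultiSecNoeth

open Groth.Agent.Lib.Helper51.MultiSecCrit Groth.Agent.Lib.Helper51.MultiSecSocle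
  Groth.Agent.Lib.Helper51.MultiSecFibre Groth.Agent.Lib.Helper51.EtaleSlice

theorem comap_isMaximal_of_isJacobsonRing {A B : Type*} [CommRing A] [CommRing B] [Algebra A B]
    [IsJacobsonRing A] [Algebra.FiniteType A B] (q : Ideal B) [hq : q.IsMaximal] :
    (q.comap (algebraMap A B)).IsMaximal := by
  letI : Field (B ⧸ q) := Ideal.Quotient.field q
  haveI : Algebra.FiniteType A (B ⧸ q) :=
    Algebra.FiniteType.of_surjective (Ideal.Quotient.mkₐ A q) Ideal.Quotient.mk_surjective
  haveI : Module.Finite A (B ⧸ q) := finite_of_finite_type_of_isJacobsonRing A (B ⧸ q)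
  haveI : Algebra.IsIntegral A (B ⧸ q) := Algebra.IsIntegral.of_finite A (B ⧸ q)
  have h1 := Ideal.isMaximal_comap_of_isIntegral_of_isMaximal (R := A) (⊥ : Ideal (B ⧸ q))
  have h2 : (⊥ : Ideal (B ⧸ q)).comap (algebraMap A (B ⧸ q)) = q.comap (algebraMap A B) := by
    ext a
    rw [Ideal.mem_comap, Ideal.mem_bot, Ideal.mem_comap,
      IsScalarTower.algebraMap_apply A B (B ⧸ q), Ideal.Quotient.algebraMap_eq,
      Ideal.Quotient.eq_zero_iff_mem]
  rwa [h2] at h1

theorem exists_etale_slice_nonvanishing {A B : Type u} [CommRing A] [CommRing B] [Algebra A B]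
    [IsNoetherianRing A] [IsJacobsonRing A] [Algebra.IsStandardSmooth A B] (t : B) (ht : t ≠ 0) :
    ∃ (I₀ : Ideal B) (f : B),
      Algebra.Etale A (Localization.Away f ⧸ I₀.map (algebraMap B (Localization.Away f))) ∧
      algebraMap B (Localization.Away f ⧸ I₀.map (algebraMap B (Localization.Away f))) t ≠ 0 := by
  haveI : Algebra.Smooth A B := inferInstance
  haveI : Algebra.FiniteType A B := inferInstance
  haveI : IsNoetherianRing B := Algebra.FiniteType.isNoetherianRing A B
  obtain ⟨q, hq, I, σ, u, b, huq, hσ, hrel, hub⟩ := exists_socle_data (A := A) t ht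
  haveI := hq
  haveI hpmax : (q.comap (algebraMap A B)).IsMaximal := comap_isMaximal_of_isJacobsonRing q
  obtain ⟨q', hq'max, hpq', hq'h, hunr⟩ :=
    exists_separable_maximal (q.comap (algebraMap A B)) (u * b) hub
  haveI := hq'max
  haveI : q'.IsPrime := hq'max.isPrime
  letI : Field (B ⧸ q') := Ideal.Quotient.field q'
  -- the slice
  let P := Localization.AtPrime q'
  haveI : IsLocalization (Algebra.algebraMapSubmonoid (B ⧸ q') q'.primeCompl)
      (P ⧸ q'.map (algebraMap B P)) := inferInstance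
  haveI : Algebra.FormallyUnramified (B ⧸ q') (P ⧸ q'.map (algebraMap B P)) :=
    Algebra.FormallyUnramified.of_isLocalization
      (Algebra.algebraMapSubmonoid (B ⧸ q') q'.primeCompl)
  haveI : Algebra.FormallyUnramified A (P ⧸ q'.map (algebraMap B P)) :=
    Algebra.FormallyUnramified.comp A (B ⧸ q') _
  haveI : Subsingleton Ω[(P ⧸ q'.map (algebraMap B P))⁄A] :=
    Algebra.FormallyUnramified.subsingleton_kaehlerDifferential
  obtain ⟨I₀, hI₀, -, f, hf, hEt⟩ := exists_etale_away_quotient (R := A) q' q' le_rfl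
  refine ⟨I₀, f, hEt, ?_⟩
  intro ht0
  -- the local ring `D`
  let Lf := Localization.Away f
  let Q := Lf ⧸ I₀.map (algebraMap B Lf)
  have hfunit : IsUnit (Ideal.Quotient.mk q' f) := by
    rw [isUnit_iff_ne_zero, Ne, Ideal.Quotient.eq_zero_iff_mem]
    exact hf
  let ρ₀ : Lf →+* B ⧸ q' := IsLocalization.Away.lift f hfunit
  have hρ₀ : ∀ x : B, ρ₀ (algebraMap B Lf x) = Ideal.Quotient.mk q' x := fun x =>
    IsLocalization.Away.lift_eq f hfunit x
  have hρker : ∀ x ∈ I₀.map (algebraMap B Lf), ρ₀ x = 0 := by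
    intro x hx
    have hle : I₀.map (algebraMap B Lf) ≤ RingHom.ker ρ₀ := by
      rw [Ideal.map_le_iff_le_comap]
      intro y hy
      rw [Ideal.mem_comap, RingHom.mem_ker, hρ₀, Ideal.Quotient.eq_zero_iff_mem]
      exact hI₀ hy
    exact hle hx
  let ρ : Q →+* B ⧸ q' := Ideal.Quotient.lift _ ρ₀ hρker
  have hρ : ∀ x : B, ρ (algebraMap B Q x) = Ideal.Quotient.mk q' x := by
    intro x
    rw [IsScalarTower.algebraMap_apply B Lf Q, Ideal.Quotient.algebraMap_eq]
    show ρ₀ _ = _
    exact hρ₀ x
  haveI : (RingHom.ker ρ).IsPrime := RingHom.ker_isPrime ρ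
  let D := Localization.AtPrime (RingHom.ker ρ)
  haveI : Module.Flat A Q := inferInstance
  haveI : Module.Flat A D := Module.Flat.trans A Q D
  let ψ : B →+* D := (algebraMap Q D).comp (algebraMap B Q)
  have hψA : ∀ a : A, ψ (algebraMap A B a) = algebraMap A D a := by
    intro a
    show algebraMap Q D (algebraMap B Q (algebraMap A B a)) = _
    rw [← IsScalarTower.algebraMap_apply A B Q, ← IsScalarTower.algebraMap_apply A Q D]
  have hunit : ∀ x : B, x ∉ q' → IsUnit (ψ x) := by
    intro x hx
    have : algebraMap B Q x ∈ (RingHom.ker ρ).primeCompl := by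
      show algebraMap B Q x ∉ RingHom.ker ρ
      rw [RingHom.mem_ker, hρ, Ideal.Quotient.eq_zero_iff_mem]
      exact hx
    exact IsLocalization.map_units D ⟨_, this⟩
  have hnonunit : ∀ a ∈ q.comap (algebraMap A B), ¬ IsUnit (algebraMap A D a) := by
    intro a ha hu
    rw [← hψA] at hu
    have hmem : algebraMap B Q (algebraMap A B a) ∈ RingHom.ker ρ := by
      rw [RingHom.mem_ker, hρ, Ideal.Quotient.eq_zero_iff_mem]
      exact hpq' (Ideal.mem_map_of_mem _ ha)
    have := (IsLocalization.AtPrime.isUnit_to_map_iff D (RingHom.ker ρ) _).mp hu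
    exact this hmem
  have hcrit := not_mem_map_of_flat (A := A) (D := D) (q.comap (algebraMap A B)) hnonunit I σ hσ
  apply hcrit
  -- map the relation to `D`
  have h1 : ψ (u * t - algebraMap A B σ * b) ∈ I.map (algebraMap A D) := by
    have hIle : (I.map (algebraMap A B)).map ψ = I.map (algebraMap A D) := by
      rw [Ideal.map_map]
      congr 1
    rw [← hIle]
    exact Ideal.mem_map_of_mem _ hrel
  have ht0' : ψ t = 0 := by
    show algebraMap Q D (algebraMap B Q t) = 0
    rw [ht0, map_zero]
  rw [map_sub, map_mul, map_mul, ht0', mul_zero, hψA] at h1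
  have h1' : -(algebraMap A D σ * ψ b) ∈ I.map (algebraMap A D) := by
    have : -(algebraMap A D σ * ψ b) = 0 - algebraMap A D σ * ψ b := by ring
    rw [this]
    exact h1
  have hb : b ∉ q' := fun hb => hq'h (Ideal.mul_mem_left _ _ hb)
  obtain ⟨c, hc⟩ := (hunit b hb).exists_left_inv
  have h2 : algebraMap A D σ = - c * -(algebraMap A D σ * ψ b) := by
    have h3 : - c * -(algebraMap A D σ * ψ b) = (c * ψ b) * algebraMap A D σ := by ring
    rw [h3, hc, one_mul]
  rw [h2]
  exact Ideal.mul_mem_left _ _ h1'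

end Groth.Agent.Lib.Helper51.MultiSecNoeth
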