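import Mathlib
import Groth.Agent.Lib.Helper51.MultiSecNoeth
import Groth.Agent.Lib.Helper80.FinTypeZ

/-!
# Étale slices detect nonzero functions: general base, by Noetherian descent (helper51)
-/

set_option autoImplicit false
set_option linter.style.haveILetI false
universe u
open TensorProduct

namespace Groth.Agent.Lib.Helper51.MultiSecDescent

open Groth.Agent.Lib.Helper51.MultiSecNoeth

/-- `φ : B → Q` is "a localisation at one element followed by a quotient". -/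
def IsLocQuotHom {B Q : Type*} [CommRing B] [CommRing Q] (φ : B →+* Q) : Prop :=
  ∃ f : B, IsUnit (φ f) ∧ ∀ x : Q, ∃ (b : B) (n : ℕ), x * (φ f) ^ n = φ b

theorem isLocQuotHom_away_quotient {B : Type*} [CommRing B] (f : B)
    (J : Ideal (Localization.Away f)) :
    IsLocQuotHom (algebraMap B (Localization.Away f ⧸ J)) := by
  refine ⟨f, ?_, ?_⟩
  · rw [IsScalarTower.algebraMap_apply B (Localization.Away f) (Localization.Away f ⧸ J)]
    exact (IsLocalization.Away.algebraMap_isUnit f).map _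
  · intro x
    obtain ⟨y, rfl⟩ := Ideal.Quotient.mk_surjective x
    obtain ⟨n, b, hb⟩ := IsLocalization.Away.surj f y
    refine ⟨b, n, ?_⟩
    rw [IsScalarTower.algebraMap_apply B (Localization.Away f) (Localization.Away f ⧸ J),
      IsScalarTower.algebraMap_apply B (Localization.Away f) (Localization.Away f ⧸ J),
      Ideal.Quotient.algebraMap_eq, ← map_pow, ← map_mul, hb]

/-- Base change of `IsLocQuotHom`. -/
theorem isLocQuotHom_baseChange {A₁ A B₁ Q₁ : Type*} [CommRing A₁] [CommRing A] [CommRing B₁]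
    [CommRing Q₁] [Algebra A₁ A] [Algebra A₁ B₁] [Algebra A₁ Q₁] (ψ : B₁ →ₐ[A₁] Q₁)
    (h : IsLocQuotHom ψ.toRingHom) :
    IsLocQuotHom (Algebra.TensorProduct.map (AlgHom.id A A) ψ).toRingHom := by
  obtain ⟨f, hf, hsurj⟩ := h
  refine ⟨1 ⊗ₜ f, ?_, ?_⟩
  · show IsUnit (Algebra.TensorProduct.map (AlgHom.id A A) ψ (1 ⊗ₜ f))
    rw [Algebra.TensorProduct.map_tmul]
    have : ((AlgHom.id A A) 1 ⊗ₜ[A₁] ψ f : A ⊗[A₁] Q₁) =
        (Algebra.TensorProduct.includeRight : Q₁ →ₐ[A₁] A ⊗[A₁] Q₁) (ψ f) := by simp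
    rw [this]
    exact hf.map _
  · intro x
    induction x using TensorProduct.induction_on with
    | zero => exact ⟨0, 0, by simp⟩
    | tmul a y =>
      obtain ⟨b, n, hb⟩ := hsurj y
      refine ⟨a ⊗ₜ b, n, ?_⟩
      show a ⊗ₜ y * (Algebra.TensorProduct.map (AlgHom.id A A) ψ (1 ⊗ₜ f)) ^ n =
        Algebra.TensorProduct.map (AlgHom.id A A) ψ (a ⊗ₜ b)
      rw [Algebra.TensorProduct.map_tmul, Algebra.TensorProduct.map_tmul,
        Algebra.TensorProduct.tmul_pow, Algebra.TensorProduct.tmul_mul_tmul]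
      simp only [AlgHom.coe_id, id_eq, one_pow, mul_one]
      congr 1
    | add x y hx hy =>
      obtain ⟨b, n, hb⟩ := hx
      obtain ⟨c, m, hc⟩ := hy
      set F := (Algebra.TensorProduct.map (AlgHom.id A A) ψ).toRingHom with hF
      refine ⟨b * (1 ⊗ₜ f) ^ m + c * (1 ⊗ₜ f) ^ n, n + m, ?_⟩
      rw [map_add, map_mul, map_mul, map_pow, map_pow, ← hb, ← hc]
      ring

open MvPolynomial in
set_option backward.isDefEq.respectTransparency false in
theorem exists_etale_slice_nonvanishing_aux {A B : Type u} [CommRing A] [CommRing B]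
    [Algebra A B] {ι σ : Type} [Finite ι] [Finite σ]
    (P : Algebra.SubmersivePresentation A B ι σ) (A₁ : Type u) [CommRing A₁] [Algebra A₁ A]
    [Algebra A₁ B] [IsScalarTower A₁ A B] [FaithfulSMul A₁ A] [P.HasCoeffs A₁]
    [IsNoetherianRing A₁] [IsJacobsonRing A₁] (τ₁ : MvPolynomial ι A₁)
    (ht : MvPolynomial.aeval P.val τ₁ ≠ 0) :
    ∃ (Q : Type u) (_ : CommRing Q) (φ : B →+* Q),
      (φ.comp (algebraMap A B)).Etale ∧ IsLocQuotHom φ ∧ φ (MvPolynomial.aeval P.val τ₁) ≠ 0 := by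
  let B₁ := P.ModelOfHasCoeffs A₁
  haveI : Algebra.IsStandardSmooth A₁ B₁ := (P.ofHasCoeffs A₁).isStandardSmooth
  let t₁ : B₁ := Ideal.Quotient.mk _ τ₁
  let e : A ⊗[A₁] B₁ ≃ₐ[A] B := P.tensorModelOfHasCoeffsEquiv A₁
  have het : e (1 ⊗ₜ t₁) = MvPolynomial.aeval P.val τ₁ := by
    show P.tensorModelOfHasCoeffsEquiv A₁ (1 ⊗ₜ (Ideal.Quotient.mk _ τ₁)) = _
    rw [Algebra.Presentation.tensorModelOfHasCoeffsEquiv_tmul, map_one, one_mul]
  have ht₁ : t₁ ≠ 0 := by
    intro h0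
    apply ht
    rw [← het, h0, tmul_zero, map_zero]
  obtain ⟨I₀, f₁, hEt, hne⟩ := exists_etale_slice_nonvanishing (A := A₁) (B := B₁) t₁ ht₁
  let Q₁ := Localization.Away f₁ ⧸ I₀.map (algebraMap B₁ (Localization.Away f₁))
  let ψ : B₁ →ₐ[A₁] Q₁ := IsScalarTower.toAlgHom A₁ B₁ Q₁
  let Φ : B →ₐ[A] A ⊗[A₁] Q₁ :=
    (Algebra.TensorProduct.map (AlgHom.id A A) ψ).comp e.symm.toAlgHom
  refine ⟨A ⊗[A₁] Q₁, inferInstance, Φ.toRingHom, ?_, ?_, ?_⟩
  · have : Φ.toRingHom.comp (algebraMap A B) = algebraMap A (A ⊗[A₁] Q₁) := Φ.comp_algebraMap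
    rw [this, RingHom.etale_algebraMap]
    infer_instance
  · have h1 : IsLocQuotHom ψ.toRingHom := isLocQuotHom_away_quotient f₁ _
    obtain ⟨f, hf, hsurj⟩ := isLocQuotHom_baseChange (A := A) ψ h1
    refine ⟨e f, ?_, ?_⟩
    · show IsUnit ((Algebra.TensorProduct.map (AlgHom.id A A) ψ) (e.symm (e f)))
      rw [AlgEquiv.symm_apply_apply]
      exact hf
    · intro x
      obtain ⟨b, n, hb⟩ := hsurj x
      refine ⟨e b, n, ?_⟩
      show x * ((Algebra.TensorProduct.map (AlgHom.id A A) ψ) (e.symm (e f))) ^ n =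
        (Algebra.TensorProduct.map (AlgHom.id A A) ψ) (e.symm (e b))
      rw [AlgEquiv.symm_apply_apply, AlgEquiv.symm_apply_apply]
      exact hb
  · show (Algebra.TensorProduct.map (AlgHom.id A A) ψ) (e.symm _) ≠ 0
    rw [← het, AlgEquiv.symm_apply_apply, Algebra.TensorProduct.map_tmul]
    have hinj : Function.Injective
        (Algebra.TensorProduct.includeRight : Q₁ →ₐ[A₁] A ⊗[A₁] Q₁) :=
      Algebra.TensorProduct.includeRight_injective
        (FaithfulSMul.algebraMap_injective A₁ A)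
    intro h0
    apply hne
    apply hinj
    rw [map_zero]
    exact h0

/-- **Étale slices detect nonzero functions.** If `B` is standard smooth over an arbitrary ring `A`
and `t ≠ 0` in `B`, there is a ring map `φ : B → Q`, a localisation at one element followed by a
quotient, with `Q` étale over `A` and `φ t ≠ 0`. -/
theorem exists_etale_slice_nonvanishing_general {A B : Type u} [CommRing A] [CommRing B]
    [Algebra A B] [Algebra.IsStandardSmooth A B] (t : B) (ht : t ≠ 0) :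
    ∃ (Q : Type u) (_ : CommRing Q) (φ : B →+* Q),
      (φ.comp (algebraMap A B)).Etale ∧ IsLocQuotHom φ ∧ φ t ≠ 0 := by
  obtain ⟨ι, σ, _, _, ⟨P⟩⟩ := Algebra.IsStandardSmooth.out (R := A) (S := B)
  obtain ⟨τ, hτ⟩ := P.aeval_val_surjective t
  have hfin : (P.coeffs ∪ (τ.coeffs : Set A)).Finite :=
    P.finite_coeffs.union (Finset.finite_toSet _)
  haveI : P.HasCoeffs (Algebra.adjoin ℤ (P.coeffs ∪ (τ.coeffs : Set A))) := ⟨by
    intro x hx
    exact ⟨⟨x, Algebra.subset_adjoin (Or.inl hx)⟩, rfl⟩⟩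
  haveI : Algebra.FiniteType ℤ (Algebra.adjoin ℤ (P.coeffs ∪ (τ.coeffs : Set A))) :=
    Algebra.FiniteType.adjoin_of_finite hfin
  haveI : IsNoetherianRing (Algebra.adjoin ℤ (P.coeffs ∪ (τ.coeffs : Set A))) :=
    Algebra.FiniteType.isNoetherianRing ℤ _
  haveI : IsJacobsonRing ℤ := Groth.Agent.Lib.Helper80.int_isJacobsonRing
  haveI : IsJacobsonRing (Algebra.adjoin ℤ (P.coeffs ∪ (τ.coeffs : Set A))) :=
    isJacobsonRing_of_finiteType (A := ℤ)
  obtain ⟨τ₁, hτ₁⟩ : ∃ τ₁ : MvPolynomial ι (Algebra.adjoin ℤ (P.coeffs ∪ (τ.coeffs : Set A))),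
      MvPolynomial.map (algebraMap (Algebra.adjoin ℤ (P.coeffs ∪ (τ.coeffs : Set A))) A) τ₁ = τ := by
    rw [← Set.mem_range, MvPolynomial.mem_range_map_iff_coeffs_subset]
    intro x hx
    exact ⟨⟨x, Algebra.subset_adjoin (Or.inr hx)⟩, rfl⟩
  have ht' : MvPolynomial.aeval P.val τ₁ = t := by
    have h1 := MvPolynomial.aeval_map_algebraMap A P.val τ₁
    rw [hτ₁, hτ] at h1
    exact h1.symm
  have := exists_etale_slice_nonvanishing_aux P
    (Algebra.adjoin ℤ (P.coeffs ∪ (τ.coeffs : Set A))) τ₁ (ht' ▸ ht)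
  rwa [ht'] at this

end Groth.Agent.Lib.Helper51.MultiSecDescent
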