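import Mathlib
import Groth.Agent.Lib.Helper51.MultiSecDescent

/-!
# S14068 (helper51 leads): conclusion predicate for the flat-base-change version of S14067
-/

set_option autoImplicit false
universe u

namespace Groth.Agent.Lib.Helper51.MS2

open Groth.Agent.Lib.Helper51.MultiSecDescent

/-- `A → B → C`, `t : C`.  There is an étale slice `φ : B → Q` (a localisation at one element followed
by a quotient, `Q` étale over `A`) and a commutative square `B → Q → R`, `B → C → R` with `R` flat
over `A` and `t ↦ ≠ 0` in `R` (think `R = Q ⊗[B] C`). -/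
def Concl (A B C : Type u) [CommRing A] [CommRing B] [CommRing C] [Algebra A B] [Algebra B C]
    (t : C) : Prop :=
  ∃ (Q : Type u) (_ : CommRing Q) (φ : B →+* Q),
    (φ.comp (algebraMap A B)).Etale ∧ IsLocQuotHom φ ∧
    ∃ (R : Type u) (_ : CommRing R) (ψQ : Q →+* R) (ψC : C →+* R),
      ψQ.comp φ = ψC.comp (algebraMap B C) ∧
      (ψQ.comp (φ.comp (algebraMap A B))).Flat ∧ ψC t ≠ 0

end Groth.Agent.Lib.Helper51.MS2
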