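import Mathlib
import Groth.Agent.Lib.Helper56.GeomRegExt
import Groth.Agent.Lib.Helper56.NormalLimit
import Groth.Agent.Lib.Helper56.FormalDescent
import Groth.Agent.Lib.Helper56.NormalReduced
import Groth.Agent.Lib.Helper57.NormalRing

/-!
# Geometric normality: ring-level statements without Noetherian hypotheses (helper51)

* `isNormalRing_of_forall_maximal`: normality can be checked at maximal ideals.
* `isNormalRing_tensor_of_forall_purelyInseparable'`: if `k' ⊗[k] S` is normal for all finite purely
  inseparable `k'/k`, then `K ⊗[k] S` is normal for every field extension `K/k` (no Noetherian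
  hypothesis; built on helper56's `exists_univRegular_ext`, `isNormalRing_tensor_of_sepGen`,
  `isNormalRing_tensor_of_forall_fg'`).
-/

set_option autoImplicit false
universe u
open TensorProduct

namespace Groth.Agent.Lib.Helper51

open Groth.Agent.Lib.Helper56 Groth.Agent.Lib.Helper57

theorem isNormalRing_of_forall_maximal (R : Type u) [CommRing R]
    (h : ∀ (m : Ideal R) [m.IsMaximal],
      IsDomain (Localization.AtPrime m) ∧ IsIntegrallyClosed (Localization.AtPrime m)) :
    EGA4.IsNormalRing R := by
  apply isNormalRing_of_forall_exists_isLocalization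
  intro q hq
  obtain ⟨m, hm, hqm⟩ := Ideal.exists_le_maximal q hq.ne_top
  obtain ⟨hd, hic⟩ := h m
  refine ⟨m.primeCompl, Localization.AtPrime m, inferInstance, inferInstance, inferInstance, ?_, ?_⟩
  · rw [Set.disjoint_left]
    intro a ha haq
    exact ha (hqm haq)
  · exact isNormalRing_of_isIntegrallyClosed _

theorem isGeometricallyReduced_of_univRegular (k K : Type u) [Field k] [Field K] [Algebra k K]
    (h : UnivRegular k K) : Algebra.IsGeometricallyReduced k K := by
  rw [Algebra.isGeometricallyReduced_field_iff]
  haveI := h (AlgebraicClosure k)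
  exact isReduced_of_isNormalRing _ (isNormalRing_of_isRegularRing _)

section

variable (k S : Type u) [Field k] [CommRing S] [Algebra k S]

theorem isNormalRing_tensor_of_forall_purelyInseparable_essFiniteType
    (h : ∀ (k' : Type u) [Field k'] [Algebra k k'], Module.Finite k k' → IsPurelyInseparable k k' →
      EGA4.IsNormalRing (k' ⊗[k] S))
    (K : Type u) [Field K] [Algebra k K] [Algebra.EssFiniteType k K] :
    EGA4.IsNormalRing (K ⊗[k] S) := by
  obtain ⟨k', K', _, _, _, _, _, _, ht1, ht2, hfin, hpi, hess, hUR⟩ := exists_univRegular_ext k K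
  have h1 := h k' hfin hpi
  haveI := isGeometricallyReduced_of_univRegular k' K' hUR
  have hsg : SepGen k' K' := sepGen_of_isGeometricallyReduced k' K'
  have h2 : EGA4.IsNormalRing (K' ⊗[k'] (k' ⊗[k] S)) :=
    isNormalRing_tensor_of_sepGen k' K' _ hsg h1
  have h3 : EGA4.IsNormalRing (K' ⊗[k] S) :=
    Groth.Agent.Lib.Helper57.isNormalRing_of_ringEquiv
      (Algebra.TensorProduct.cancelBaseChange k k' k' K' S).toRingEquiv h2
  exact isNormalRing_tensor_descent k K K' S h3

theorem isNormalRing_tensor_of_forall_purelyInseparable'
    (h : ∀ (k' : Type u) [Field k'] [Algebra k k'], Module.Finite k k' → IsPurelyInseparable k k' →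
      EGA4.IsNormalRing (k' ⊗[k] S))
    (K : Type u) [Field K] [Algebra k K] :
    EGA4.IsNormalRing (K ⊗[k] S) := by
  apply isNormalRing_tensor_of_forall_fg'
  intro E
  haveI : Algebra.EssFiniteType k (IntermediateField.adjoin k (E : Set K)) :=
    IntermediateField.essFiniteType_iff.mpr ⟨E, rfl⟩
  exact isNormalRing_tensor_of_forall_purelyInseparable_essFiniteType k S h _

end

end Groth.Agent.Lib.Helper51
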