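import Mathlib

/-!
# Morphisms to affine space on affine charts (helper51)

* `smooth_over`: `𝔸(n; S) ⟶ S` is smooth for finite `n` (same proof as helper87's `AffineSpaceSmooth`).
* `affineSpaceChart`, `chartVector`, `chart_square`: dictionary between `homOfVector` and ring maps out
  of polynomial rings on affine charts (after helper73's `AffineSpaceQF`, reproduced here to keep the
  import closure small).
* `etale_homOfVector_chart`, `etale_homOfVector_resLE`: étaleness of `homOfVector` from the ring map,
  and its restriction to smaller opens.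
-/

set_option autoImplicit false
universe u
open CategoryTheory CategoryTheory.Limits AlgebraicGeometry TopologicalSpace

namespace Groth.Agent.Lib.Helper51.AffineSpaceChart

open AlgebraicGeometry.AffineSpace

set_option backward.isDefEq.respectTransparency.types false in
instance smooth_over (n : Type u) [Finite n] (S : Scheme.{u}) : Smooth (𝔸(n; S) ↘ S) :=
  MorphismProperty.pullback_fst _ _ <| by
  have := isIso_of_isTerminal specULiftZIsTerminal.{u} terminalIsTerminal (terminal.from _)
  rw [← terminal.comp_from (Spec.map (CommRingCat.ofHom MvPolynomial.C)),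
    MorphismProperty.cancel_right_of_respectsIso (P := @Smooth),
    HasRingHomProperty.Spec_iff (P := @Smooth), RingHom.Smooth]
  have hs : Algebra.Smooth (ULift.{u} ℤ) (MvPolynomial n (ULift.{u} ℤ)) :=
    ⟨inferInstance, inferInstance⟩
  convert! hs
  exact Algebra.algebra_ext _ _ fun _ ↦ rfl

section Square

variable {X Y : Scheme.{u}} (f : X ⟶ Y) {U : X.Opens} (hU : IsAffineOpen U) {V : Y.Opens}
  (hV : IsAffineOpen V) (hUV : U ≤ f ⁻¹ᵁ V) (n : Type u)

/-- The chart of the affine space over `Y` lying over an affine open of `Y`. -/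
noncomputable def affineSpaceChart : Spec (.of (MvPolynomial n Γ(Y, V))) ⟶ 𝔸(n; Y) :=
  (AffineSpace.SpecIso n Γ(Y, V)).inv ≫ AffineSpace.map n hV.fromSpec

instance isOpenImmersion_map {S T : Scheme.{u}} (j : S ⟶ T) [IsOpenImmersion j] :
    IsOpenImmersion (AffineSpace.map n j) :=
  MorphismProperty.of_isPullback (P := @IsOpenImmersion)
    (AffineSpace.isPullback_map (n := n) j).flip inferInstance

instance isOpenImmersion_affineSpaceChart : IsOpenImmersion (affineSpaceChart hV n) := by
  unfold affineSpaceChart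
  infer_instance

lemma affineSpaceChart_over :
    affineSpaceChart hV n ≫ (𝔸(n; Y) ↘ Y) =
      Spec.map (CommRingCat.ofHom MvPolynomial.C) ≫ hV.fromSpec := by
  unfold affineSpaceChart
  rw [Category.assoc, AffineSpace.map_over, AffineSpace.SpecIso_inv_over_assoc]

lemma affineSpaceChart_appTop_coord (i : n) :
    (affineSpaceChart hV n).appTop (AffineSpace.coord Y i) =
      (Scheme.ΓSpecIso (.of (MvPolynomial n Γ(Y, V)))).inv (MvPolynomial.X i) := by
  unfold affineSpaceChart
  rw [Scheme.Hom.comp_appTop, CommRingCat.comp_apply, AffineSpace.map_appTop_coord,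
    AffineSpace.SpecIso_inv_appTop_coord]

/-- The vector of global sections of an affine open defined by a ring homomorphism from a
polynomial ring. -/
noncomputable def chartVector (ψ : MvPolynomial n Γ(Y, V) →+* Γ(X, U)) :
    n → Γ(U.toScheme, ⊤) :=
  fun i => hU.isoSpec.hom.appTop ((Scheme.ΓSpecIso Γ(X, U)).inv (ψ (MvPolynomial.X i)))

lemma chartVector_eq (ψ : MvPolynomial n Γ(Y, V) →+* Γ(X, U)) (i : n) :
    chartVector hU n ψ i = U.topIso.inv (ψ (MvPolynomial.X i)) := by
  unfold chartVector
  rw [IsAffineOpen.isoSpec_hom_appTop, CommRingCat.comp_apply]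
  congr 1
  exact congrArg (fun φ => φ.hom (ψ (MvPolynomial.X i))) (Scheme.ΓSpecIso Γ(X, U)).inv_hom_id

theorem chart_square (ψ : MvPolynomial n Γ(Y, V) →+* Γ(X, U))
    (hψ : ψ.comp MvPolynomial.C = (f.appLE V U hUV).hom) :
    hU.isoSpec.inv ≫ AffineSpace.homOfVector (U.ι ≫ f) (chartVector hU n ψ) =
      Spec.map (CommRingCat.ofHom ψ) ≫ affineSpaceChart hV n := by
  apply AffineSpace.hom_ext
  · rw [Category.assoc, AffineSpace.homOfVector_over, Category.assoc, affineSpaceChart_over,
      ← Spec.map_comp_assoc, ← CommRingCat.ofHom_comp, hψ]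
    have := IsAffineOpen.SpecMap_appLE_fromSpec f hV hU hUV
    rw [CommRingCat.ofHom_hom, this]
    rfl
  · intro i
    rw [Scheme.Hom.comp_appTop, CommRingCat.comp_apply, AffineSpace.homOfVector_appTop_coord,
      Scheme.Hom.comp_appTop, CommRingCat.comp_apply, affineSpaceChart_appTop_coord]
    unfold chartVector
    rw [← CommRingCat.comp_apply, ← Scheme.Hom.comp_appTop, Iso.inv_hom_id]
    have h1 := Scheme.ΓSpecIso_inv_naturality (CommRingCat.ofHom ψ)
    have h2 := congrArg (fun φ => φ.hom (MvPolynomial.X i)) h1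
    have h3 : (Scheme.Hom.appTop (𝟙 (Spec Γ(X, U)))) = 𝟙 _ := by simp
    rw [h3]
    exact h2

include hV in
/-- An étale ring map out of a polynomial ring on affine charts gives an étale morphism to affine
space. -/
theorem etale_homOfVector_chart (ψ : MvPolynomial n Γ(Y, V) →+* Γ(X, U))
    (hψ : ψ.comp MvPolynomial.C = (f.appLE V U hUV).hom) (hψe : ψ.Etale) :
    Etale (AffineSpace.homOfVector (U.ι ≫ f) (chartVector hU n ψ)) := by
  have h1 : Etale (Spec.map (CommRingCat.ofHom ψ)) :=
    HasRingHomProperty.Spec_iff.mpr hψe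
  have h2 : Etale (hU.isoSpec.inv ≫
      AffineSpace.homOfVector (U.ι ≫ f) (chartVector hU n ψ)) := by
    rw [chart_square f hU hV hUV n ψ hψ]
    infer_instance
  exact (MorphismProperty.cancel_left_of_respectsIso (P := @Etale) hU.isoSpec.inv _).mp h2

end Square

section Restrict

variable {X Y : Scheme.{u}} (f : X ⟶ Y) {n : Type u}

theorem homOfVector_resLE_comp_map (U : Y.Opens) (V V₂ : X.Opens) (e : V ≤ f ⁻¹ᵁ U)
    (hVV₂ : V ≤ V₂) (v₂ : n → Γ(V₂.toScheme, ⊤)) :
    AffineSpace.homOfVector (f.resLE U V e) (fun j => (X.homOfLE hVV₂).appTop (v₂ j)) ≫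
        AffineSpace.map n U.ι =
      X.homOfLE hVV₂ ≫ AffineSpace.homOfVector (V₂.ι ≫ f) v₂ := by
  apply AffineSpace.hom_ext
  · rw [Category.assoc, AffineSpace.map_over, AffineSpace.homOfVector_over_assoc,
      Scheme.Hom.resLE_comp_ι, Category.assoc, AffineSpace.homOfVector_over,
      Scheme.homOfLE_ι_assoc]
  · intro i
    rw [Scheme.Hom.comp_appTop, CommRingCat.comp_apply, AffineSpace.map_appTop_coord,
      AffineSpace.homOfVector_appTop_coord, Scheme.Hom.comp_appTop, CommRingCat.comp_apply,
      AffineSpace.homOfVector_appTop_coord]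

theorem etale_homOfVector_resLE (U : Y.Opens) (V V₂ : X.Opens) (e : V ≤ f ⁻¹ᵁ U)
    (hVV₂ : V ≤ V₂) (v₂ : n → Γ(V₂.toScheme, ⊤))
    (h : Etale (AffineSpace.homOfVector (V₂.ι ≫ f) v₂)) :
    Etale (AffineSpace.homOfVector (f.resLE U V e)
      (fun j => (X.homOfLE hVV₂).appTop (v₂ j))) := by
  have h1 : Etale (AffineSpace.homOfVector (f.resLE U V e)
      (fun j => (X.homOfLE hVV₂).appTop (v₂ j)) ≫ AffineSpace.map n U.ι) := by
    rw [homOfVector_resLE_comp_map]
    infer_instance
  exact MorphismProperty.of_postcomp (W := @Etale) (W' := @Etale) _ (AffineSpace.map n U.ι)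
    inferInstance h1

end Restrict

end Groth.Agent.Lib.Helper51.AffineSpaceChart
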