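import Mathlib

/-!
# The Artinian local subring `C₀ = C ×_K F`

For an Artinian local ring `C`, a surjection `ρ : C → K` onto a field and a subfield `F ≤ K`
with `K` finite over `F`, the subring `C₀ = ρ⁻¹(F)` is again an Artinian local ring and the
inclusion `C₀ → C` is a local homomorphism.
-/

universe u

namespace Groth.Agent.Lib.Helper51.ArtinSubring

open IsLocalRing

variable {C K : Type*} [CommRing C] [Field K] (ρ : C →+* K) (F : Subfield K)

/-- The subring `ρ⁻¹(F)`. -/
def sub : Subring C := F.toSubring.comap ρ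

lemma mem_sub {x : C} : x ∈ sub ρ F ↔ ρ x ∈ F := Iff.rfl

variable {ρ F}

lemma ker_eq [IsLocalRing C] (hρ : Function.Surjective ρ) : RingHom.ker ρ = maximalIdeal C := by
  have : (RingHom.ker ρ).IsMaximal := RingHom.ker_isMaximal_of_surjective ρ hρ
  exact IsLocalRing.eq_maximalIdeal this

lemma mem_sub_of_mem_maximalIdeal [IsLocalRing C] (hρ : Function.Surjective ρ) {x : C}
    (hx : x ∈ maximalIdeal C) : x ∈ sub ρ F := by
  rw [← ker_eq hρ, RingHom.mem_ker] at hx
  rw [mem_sub, hx]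
  exact zero_mem F

lemma isUnit_sub_iff (x : sub ρ F) :
    IsUnit x ↔ IsUnit (x : C) := by
  constructor
  · intro h
    exact h.map (sub ρ F).subtype
  · intro h
    obtain ⟨v, hv⟩ := h
    have hv' : ρ (↑v⁻¹ : C) ∈ F := by
      have h1 : ρ (x : C) * ρ (↑v⁻¹ : C) = 1 := by
        rw [← map_mul, ← hv, Units.mul_inv, map_one]
      have h2 : ρ (↑v⁻¹ : C) = (ρ (x : C))⁻¹ := by
        exact eq_inv_of_mul_eq_one_right h1
      rw [h2]
      exact inv_mem x.2
    refine ⟨⟨x, ⟨(↑v⁻¹ : C), hv'⟩, ?_, ?_⟩, rfl⟩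
    · ext
      simp [← hv]
    · ext
      simp [← hv]

lemma isLocalHom_subtype : IsLocalHom (sub ρ F).subtype :=
  ⟨fun x hx => (isUnit_sub_iff x).mpr hx⟩

lemma isLocalRing_sub [IsLocalRing C] : IsLocalRing (sub ρ F) := by
  have : Nontrivial (sub ρ F) := inferInstance
  refine IsLocalRing.of_isUnit_or_isUnit_one_sub_self fun x => ?_
  rcases IsLocalRing.isUnit_or_isUnit_one_sub_self (x : C) with h | h
  · exact Or.inl ((isUnit_sub_iff x).mpr h)
  · exact Or.inr ((isUnit_sub_iff (1 - x)).mpr (by simpa using h))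

section artinian

variable [IsLocalRing C] (hρ : Function.Surjective ρ)

lemma maximalIdeal_sub_eq :
    haveI := isLocalRing_sub (ρ := ρ) (F := F)
    maximalIdeal (sub ρ F) = (maximalIdeal C).comap (sub ρ F).subtype := by
  have h1 := isLocalRing_sub (ρ := ρ) (F := F)
  have h2 := isLocalHom_subtype (ρ := ρ) (F := F)
  have h3 := ((IsLocalRing.local_hom_TFAE (sub ρ F).subtype).out 0 4 rfl rfl).mp h2
  exact h3.symm

include hρ in
/-- `C` is generated as a `C₀`-module by lifts of an `F`-basis of `K`, modulo `𝔪`. -/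
lemma exists_finset_span_sup [Module.Finite F K] :
    ∃ s : Finset C, ∀ x : C, ∃ n ∈ Submodule.span (sub ρ F) (s : Set C),
      x - n ∈ maximalIdeal C := by
  obtain ⟨t, ht⟩ := (Module.Finite.fg_top : (⊤ : Submodule F K).FG)
  classical
  have hρ' := hρ
  choose! lift hlift using hρ
  refine ⟨t.image lift, fun x => ?_⟩
  have hx : ρ x ∈ Submodule.span F (t : Set K) := by rw [ht]; trivial
  -- induction on the span
  have key : ∀ k ∈ Submodule.span F (t : Set K), ∃ n ∈ Submodule.span (sub ρ F)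
      ((t.image lift : Finset C) : Set C), ρ n = k := by
    intro k hk
    induction hk using Submodule.span_induction with
    | mem k hk =>
      exact ⟨lift k, Submodule.subset_span (by
        simp only [Finset.coe_image, Set.mem_image, Finset.mem_coe]
        exact ⟨k, hk, rfl⟩), hlift k⟩
    | zero => exact ⟨0, zero_mem _, map_zero _⟩
    | add a b _ _ ha hb =>
      obtain ⟨na, hna, rfl⟩ := ha
      obtain ⟨nb, hnb, rfl⟩ := hb
      exact ⟨na + nb, add_mem hna hnb, map_add _ _ _⟩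
    | smul f a _ ha =>
      obtain ⟨na, hna, rfl⟩ := ha
      have hf : lift (f : K) ∈ sub ρ F := by rw [mem_sub, hlift]; exact f.2
      refine ⟨(⟨lift (f : K), hf⟩ : sub ρ F) • na, Submodule.smul_mem _ _ hna, ?_⟩
      change ρ (lift (f : K) * na) = _
      rw [map_mul, hlift]
      rfl
  obtain ⟨n, hn, hn'⟩ := key _ hx
  refine ⟨n, hn, ?_⟩
  rw [← ker_eq hρ', RingHom.mem_ker, map_sub, hn', sub_self]

include hρ in
lemma exists_sub_mem_pow_succ (N : Submodule (sub ρ F) C)
    (h1 : ∀ x : C, ∃ n ∈ N, x - n ∈ maximalIdeal C) (k : ℕ) (hk : 1 ≤ k) (z : C)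
    (hz : z ∈ maximalIdeal C ^ k) : ∃ n ∈ N, z - n ∈ maximalIdeal C ^ (k + 1) := by
  obtain ⟨n₁, hn₁, hμ⟩ := h1 1
  have hzm : z ∈ maximalIdeal C := Ideal.pow_le_self (by omega) hz
  have hz0 : z ∈ sub ρ F := mem_sub_of_mem_maximalIdeal hρ hzm
  refine ⟨(⟨z, hz0⟩ : sub ρ F) • n₁, N.smul_mem _ hn₁, ?_⟩
  have : z - (⟨z, hz0⟩ : sub ρ F) • n₁ = z * (1 - n₁) := by
    change z - z * n₁ = _
    ring
  rw [this, pow_succ]
  exact Ideal.mul_mem_mul hz hμ

include hρ in
lemma exists_sub_mem_pow (N : Submodule (sub ρ F) C)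
    (h1 : ∀ x : C, ∃ n ∈ N, x - n ∈ maximalIdeal C) (k : ℕ) (hk : 1 ≤ k) (x : C) :
    ∃ n ∈ N, x - n ∈ maximalIdeal C ^ k := by
  induction k, hk using Nat.le_induction with
  | base => simpa using h1 x
  | succ k hk ih =>
    obtain ⟨n, hn, hxn⟩ := ih
    obtain ⟨n', hn', h'⟩ := exists_sub_mem_pow_succ hρ N h1 k hk _ hxn
    exact ⟨n + n', add_mem hn hn', by rwa [← sub_sub]⟩

include hρ in
lemma finite_sub [IsArtinianRing C] [Module.Finite F K] : Module.Finite (sub ρ F) C := by
  obtain ⟨s, hs⟩ := exists_finset_span_sup (F := F) hρ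
  obtain ⟨n, hn⟩ := IsArtinianRing.isNilpotent_jacobson_bot (R := C)
  rw [IsLocalRing.jacobson_eq_maximalIdeal ⊥ bot_ne_top] at hn
  refine ⟨⟨s, ?_⟩⟩
  rw [eq_top_iff]
  intro x _
  obtain ⟨m, hm, hxm⟩ := exists_sub_mem_pow hρ _ hs (n + 1) (by omega) x
  rw [pow_succ, hn] at hxm
  simp only [Ideal.zero_eq_bot, Ideal.bot_mul, Ideal.mem_bot, sub_eq_zero] at hxm
  rw [hxm]
  exact hm

include hρ in
lemma isNilpotent_maximalIdeal_sub [IsArtinianRing C] :
    haveI := isLocalRing_sub (ρ := ρ) (F := F)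
    IsNilpotent (maximalIdeal (sub ρ F)) := by
  have h1 := isLocalRing_sub (ρ := ρ) (F := F)
  obtain ⟨n, hn⟩ := IsArtinianRing.isNilpotent_jacobson_bot (R := C)
  rw [IsLocalRing.jacobson_eq_maximalIdeal ⊥ bot_ne_top] at hn
  refine ⟨n, ?_⟩
  rw [maximalIdeal_sub_eq, Ideal.zero_eq_bot, eq_bot_iff]
  refine (Ideal.le_comap_pow _ n).trans ?_
  rw [hn, Ideal.zero_eq_bot]
  intro x hx
  rw [Ideal.mem_comap, Ideal.mem_bot] at hx
  rw [Ideal.mem_bot]
  exact Subtype.ext hx

include hρ in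
lemma fg_maximalIdeal_sub [IsArtinianRing C] [Module.Finite F K] :
    haveI := isLocalRing_sub (ρ := ρ) (F := F)
    (maximalIdeal (sub ρ F)).FG := by
  have h1 := isLocalRing_sub (ρ := ρ) (F := F)
  have h2 : Module.Finite (sub ρ F) C := finite_sub hρ
  have h3 : Module.Finite C (maximalIdeal C) :=
    Module.Finite.of_fg (IsNoetherian.noetherian (maximalIdeal C))
  have h4 : Module.Finite (sub ρ F) (maximalIdeal C) := Module.Finite.trans C _
  let L : (maximalIdeal C) →ₗ[sub ρ F] (sub ρ F) :=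
    { toFun := fun z => ⟨z.1, mem_sub_of_mem_maximalIdeal hρ z.2⟩
      map_add' := fun _ _ => rfl
      map_smul' := fun _ _ => rfl }
  have hL : LinearMap.range L = maximalIdeal (sub ρ F) := by
    rw [maximalIdeal_sub_eq]
    ext x
    simp only [LinearMap.mem_range, Ideal.mem_comap, Subring.subtype_apply]
    constructor
    · rintro ⟨z, rfl⟩
      exact z.2
    · intro hx
      exact ⟨⟨x.1, hx⟩, rfl⟩
  rw [← hL, LinearMap.range_eq_map]
  exact (Module.Finite.fg_top).map L

include hρ in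
/-- The subring `ρ⁻¹(F)` of an Artinian local ring is Artinian when `K/F` is finite. -/
lemma isArtinianRing_sub [IsArtinianRing C] [Module.Finite F K] :
    IsArtinianRing (sub ρ F) := by
  have h1 := isLocalRing_sub (ρ := ρ) (F := F)
  have hnil := isNilpotent_maximalIdeal_sub (F := F) hρ
  have hN : IsNoetherianRing (sub ρ F) := by
    refine IsNoetherianRing.of_prime fun P hP => ?_
    have : P = maximalIdeal (sub ρ F) := by
      refine le_antisymm (IsLocalRing.le_maximalIdeal hP.ne_top) ?_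
      obtain ⟨n, hn⟩ := hnil
      refine hP.le_of_pow_le (n := n) ?_
      rw [hn]
      exact bot_le
    rw [this]
    exact fg_maximalIdeal_sub hρ
  exact (isArtinianRing_iff_isNilpotent_maximalIdeal (sub ρ F)).mpr hnil

end artinian

end Groth.Agent.Lib.Helper51.ArtinSubring
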