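import Mathlib
import Groth.Agent.Lib.Helper51.ArtinSubring

/-!
# Formal versality: from trivial residue field extensions to finite ones, and along étale maps
-/

set_option autoImplicit false
set_option linter.style.haveILetI false

universe u

namespace Groth.Agent.Lib.Helper51.ArtinVersal

open AlgebraicGeometry CategoryTheory IsLocalRing
open Groth.Agent.Lib.Helper51.ArtinSubring

set_option backward.isDefEq.respectTransparency.types false in
/-- A morphism `Spec C ⟶ T` from a local ring sending the closed point to `t` comes from a local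
homomorphism out of the stalk at `t`. -/
lemma exists_localHom {T : Scheme.{u}} (C : Type u) [CommRing C] [IsLocalRing C]
    (a : Spec (CommRingCat.of C) ⟶ T) (t : T) (h : a (closedPoint C) = t) :
    ∃ (φ : T.presheaf.stalk t ⟶ CommRingCat.of C) (_ : IsLocalHom φ.hom),
      Spec.map φ ≫ T.fromSpecStalk t = a ∧
      ((a.residueFieldMap (closedPoint C)).hom.Finite → (ResidueField.map φ.hom).Finite) := by
  subst h
  refine ⟨Scheme.stalkClosedPointTo a, inferInstance,
    Scheme.Spec_stalkClosedPointTo_fromSpecStalk a, fun hfin => ?_⟩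
  haveI : IsLocalRing ((Spec (CommRingCat.of C)).presheaf.stalk (closedPoint (CommRingCat.of C))) :=
    inferInstanceAs (IsLocalRing ((Spec (CommRingCat.of C)).presheaf.stalk
      (show ↥(Spec (CommRingCat.of C)) from closedPoint C)))
  haveI : IsLocalHom (stalkClosedPointIso (CommRingCat.of C)).hom.hom := isLocalHom_of_iso _
  have h1 : (Scheme.stalkClosedPointTo a).hom =
      ((stalkClosedPointIso (CommRingCat.of C)).hom.hom).comp (a.stalkMap (closedPoint C)).hom := rfl
  have h2 : ResidueField.map (Scheme.stalkClosedPointTo a).hom =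
      (ResidueField.map (stalkClosedPointIso (CommRingCat.of C)).hom.hom).comp
        (ResidueField.map (a.stalkMap (closedPoint C)).hom) := by
    rw [← ResidueField.map_comp]
    rfl
  rw [h2]
  refine RingHom.Finite.comp ?_ hfin
  refine RingHom.Finite.of_surjective _ ?_
  exact (ResidueField.mapEquiv
    (stalkClosedPointIso (CommRingCat.of C)).commRingCatIsoToRingEquiv).surjective

/-- Local homomorphisms out of a stalk are determined by the induced morphism of schemes. -/
lemma localHom_ext {X : Scheme.{u}} {x : X} {R : CommRingCat.{u}} [IsLocalRing R]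
    (α β : X.presheaf.stalk x ⟶ R) [IsLocalHom α.hom] [IsLocalHom β.hom]
    (h : Spec.map α ≫ X.fromSpecStalk x = Spec.map β ≫ X.fromSpecStalk x) : α = β := by
  have h1 : (⟨x, α, inferInstance⟩ : Σ x, { f : X.presheaf.stalk x ⟶ R // IsLocalHom f.hom }) =
      ⟨x, β, inferInstance⟩ := (SpecToEquivOfLocalRing X R).symm.injective h
  obtain ⟨h₁, h₂⟩ := SpecToEquivOfLocalRing_eq_iff.mp h1
  simpa using h₂

set_option backward.isDefEq.respectTransparency.types false in
/-- The morphism attached to a local homomorphism `φ₀` sends the closed point to `t` and its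
residue field map is surjective as soon as that of `φ₀` is. -/
lemma hom_of_localHom {T : Scheme.{u}} (t : T) (C : Type u) [CommRing C] [IsLocalRing C]
    (φ : T.presheaf.stalk t ⟶ CommRingCat.of C) [IsLocalHom φ.hom] :
    (Spec.map φ ≫ T.fromSpecStalk t) (closedPoint C) = t ∧
    (Function.Surjective (ResidueField.map φ.hom) →
      Function.Surjective
        ((Spec.map φ ≫ T.fromSpecStalk t).residueFieldMap (closedPoint C)).hom) := by
  have h0 := (SpecToEquivOfLocalRing T (CommRingCat.of C)).right_inv ⟨t, φ, inferInstance⟩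
  obtain ⟨h₁', h₂⟩ := SpecToEquivOfLocalRing_eq_iff.mp h0
  set a := Spec.map φ ≫ T.fromSpecStalk t with ha
  have h₁ : a (closedPoint C) = t := h₁'
  refine ⟨h₁, fun hsurj => ?_⟩
  -- `stalkClosedPointTo a = stalkCongr ≫ φ`
  have h3 : Scheme.stalkClosedPointTo a =
      (T.presheaf.stalkCongr (.of_eq h₁)).hom ≫ φ := h₂
  have h4 : a.stalkMap (closedPoint C) =
      ((T.presheaf.stalkCongr (.of_eq h₁)).hom ≫ φ) ≫
        (stalkClosedPointIso (CommRingCat.of C)).inv := by
    rw [← h3, Scheme.stalkClosedPointTo, Category.assoc, Iso.hom_inv_id, Category.comp_id]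
  haveI : IsLocalHom (stalkClosedPointIso (CommRingCat.of C)).inv.hom :=
    isLocalHom_of_iso (stalkClosedPointIso (CommRingCat.of C)).symm
  haveI : IsLocalHom (T.presheaf.stalkCongr (.of_eq h₁)).hom.hom := isLocalHom_of_iso _
  have h5 : ResidueField.map (a.stalkMap (closedPoint C)).hom =
      ((ResidueField.map (stalkClosedPointIso (CommRingCat.of C)).inv.hom).comp
        (ResidueField.map φ.hom)).comp
        (ResidueField.map (T.presheaf.stalkCongr (.of_eq h₁)).hom.hom) := by
    rw [← ResidueField.map_comp, ← ResidueField.map_comp]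
    congr 1
    rw [h4]
    rfl
  change Function.Surjective (ResidueField.map (a.stalkMap (closedPoint C)).hom)
  rw [h5, RingHom.coe_comp, RingHom.coe_comp]
  refine Function.Surjective.comp (Function.Surjective.comp ?_ hsurj) ?_
  · exact (ResidueField.mapEquiv
      (stalkClosedPointIso (CommRingCat.of C)).symm.commRingCatIsoToRingEquiv).surjective
  · exact (ResidueField.mapEquiv
      (T.presheaf.stalkCongr (.of_eq h₁)).commRingCatIsoToRingEquiv).surjective

/-- Finiteness of a ring hom of fields gives finiteness over the field range. -/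
lemma finite_fieldRange {k K : Type*} [Field k] [Field K] (f : k →+* K) (hf : f.Finite) :
    Module.Finite f.fieldRange K := by
  letI := f.toAlgebra
  letI : Algebra k f.fieldRange := (f.rangeRestrictField).toAlgebra
  haveI : IsScalarTower k f.fieldRange K := IsScalarTower.of_algebraMap_eq (fun x => rfl)
  haveI : Module.Finite k K := hf
  exact Module.Finite.of_restrictScalars_finite k f.fieldRange K

set_option backward.isDefEq.respectTransparency.types false in
/-- **Core lemma**: formal versality at `t` for Artinian pairs with trivial residue field extension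
implies the lifting property for Artinian pairs with finite residue field extension. -/
theorem core {S T : Scheme.{u}} (g : T ⟶ S) (t : T)
    (hT : ∀ (C C' : Type u) [CommRing C] [CommRing C'] [IsLocalRing C] [IsLocalRing C']
        [IsArtinianRing C] [IsArtinianRing C'] (π : C' →+* C), Function.Surjective π →
        ∀ (a : Spec (CommRingCat.of C) ⟶ T) (b : Spec (CommRingCat.of C') ⟶ S),
          a (IsLocalRing.closedPoint C) = t →
          Function.Surjective (a.residueFieldMap (IsLocalRing.closedPoint C)).hom →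
          Spec.map (CommRingCat.ofHom π) ≫ b = a ≫ g →
          ∃ c : Spec (CommRingCat.of C') ⟶ T, Spec.map (CommRingCat.ofHom π) ≫ c = a ∧ c ≫ g = b)
    (C C' : Type u) [CommRing C] [CommRing C'] [IsLocalRing C] [IsLocalRing C']
    [IsArtinianRing C] [IsArtinianRing C'] (π : C' →+* C) (hπ : Function.Surjective π)
    (a : Spec (CommRingCat.of C) ⟶ T) (b : Spec (CommRingCat.of C') ⟶ S)
    (ha : a (closedPoint C) = t)
    (hfin : (a.residueFieldMap (closedPoint C)).hom.Finite)
    (hab : Spec.map (CommRingCat.ofHom π) ≫ b = a ≫ g) :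
    ∃ c : Spec (CommRingCat.of C') ⟶ T, Spec.map (CommRingCat.ofHom π) ≫ c = a ∧ c ≫ g = b := by
  haveI : IsLocalHom π := hπ.isLocalHom
  haveI : IsLocalHom (CommRingCat.ofHom π).hom := ‹IsLocalHom π›
  have hb : b (closedPoint C') = g t := by
    have h1 := congrArg (fun f : Spec (CommRingCat.of C) ⟶ S => f (closedPoint C)) hab
    simp only [Scheme.Hom.comp_apply] at h1
    rw [ha] at h1
    rw [← h1]
    congr 1
    exact (Spec_closedPoint (f := CommRingCat.ofHom π)).symm
  obtain ⟨φ, hφloc, hφ, hφfin⟩ := exists_localHom C a t ha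
  obtain ⟨ψ, hψloc, hψ, -⟩ := exists_localHom C' b (g t) hb
  have hφfin := hφfin hfin
  have hcomp : ψ ≫ CommRingCat.ofHom π = g.stalkMap t ≫ φ := by
    haveI : IsLocalHom (ψ ≫ CommRingCat.ofHom π).hom := CommRingCat.isLocalHom_comp _ _
    haveI : IsLocalHom (g.stalkMap t ≫ φ).hom := CommRingCat.isLocalHom_comp _ _
    apply localHom_ext
    rw [Spec.map_comp, Category.assoc, hψ, hab, ← hφ, Category.assoc,
      ← Scheme.SpecMap_stalkMap_fromSpecStalk, Spec.map_comp, Category.assoc]
  -- the algebra
  let K := ResidueField C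
  let ρ : C →+* K := residue C
  have hρ : Function.Surjective ρ := residue_surjective
  let F : Subfield K := (ResidueField.map φ.hom).fieldRange
  haveI : Module.Finite F K := finite_fieldRange _ hφfin
  have hρ' : Function.Surjective (ρ.comp π) := hρ.comp hπ
  haveI : IsLocalRing (sub ρ F) := isLocalRing_sub
  haveI : IsArtinianRing (sub ρ F) := isArtinianRing_sub hρ
  haveI : IsLocalRing (sub (ρ.comp π) F) := isLocalRing_sub
  haveI : IsArtinianRing (sub (ρ.comp π) F) := isArtinianRing_sub hρ'
  have hmemφ : ∀ y, φ.hom y ∈ sub ρ F := fun y => by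
    rw [mem_sub]
    exact ⟨residue _ y, ResidueField.map_residue _ _⟩
  have hmemψ : ∀ y, ψ.hom y ∈ sub (ρ.comp π) F := fun y => by
    rw [mem_sub]
    have h1 : π (ψ.hom y) = φ.hom ((g.stalkMap t).hom y) := congr($hcomp y)
    change ρ (π (ψ.hom y)) ∈ F
    rw [h1]
    exact hmemφ _
  let φ₀ : T.presheaf.stalk t ⟶ CommRingCat.of (sub ρ F) :=
    CommRingCat.ofHom (φ.hom.codRestrict (sub ρ F) hmemφ)
  let ψ₀ : S.presheaf.stalk (g t) ⟶ CommRingCat.of (sub (ρ.comp π) F) :=
    CommRingCat.ofHom (ψ.hom.codRestrict (sub (ρ.comp π) F) hmemψ)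
  let π₀ : sub (ρ.comp π) F →+* sub ρ F :=
    (π.comp (sub (ρ.comp π) F).subtype).codRestrict (sub ρ F) (fun x => x.2)
  have hπ₀ : Function.Surjective π₀ := by
    rintro ⟨x, hx⟩
    obtain ⟨x', rfl⟩ := hπ x
    exact ⟨⟨x', hx⟩, rfl⟩
  haveI : IsLocalHom φ₀.hom := ⟨fun y hy => by
    have h1 : IsUnit (φ.hom y) := hy.map (sub ρ F).subtype
    exact (isUnit_map_iff φ.hom y).mp h1⟩
  haveI : IsLocalHom ψ₀.hom := ⟨fun y hy => by
    have h1 : IsUnit (ψ.hom y) := hy.map (sub (ρ.comp π) F).subtype
    exact (isUnit_map_iff ψ.hom y).mp h1⟩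
  have hφ₀sub : φ₀ ≫ CommRingCat.ofHom (sub ρ F).subtype = φ := rfl
  have hψ₀sub : ψ₀ ≫ CommRingCat.ofHom (sub (ρ.comp π) F).subtype = ψ := rfl
  have hπ₀sub : CommRingCat.ofHom (sub (ρ.comp π) F).subtype ≫ CommRingCat.ofHom π =
      CommRingCat.ofHom π₀ ≫ CommRingCat.ofHom (sub ρ F).subtype := rfl
  have hcomp₀ : ψ₀ ≫ CommRingCat.ofHom π₀ = g.stalkMap t ≫ φ₀ := by
    ext y
    exact congr($hcomp y)
  -- surjectivity on residue fields
  have hsurj : Function.Surjective (ResidueField.map φ₀.hom) := by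
    intro z
    obtain ⟨x₀, rfl⟩ := residue_surjective z
    obtain ⟨w, hw⟩ := x₀.2
    obtain ⟨y, rfl⟩ := residue_surjective w
    refine ⟨residue _ y, ?_⟩
    rw [ResidueField.map_residue]
    rw [ResidueField.map_residue] at hw
    -- `φ y - x₀ ∈ 𝔪`
    have h1 : φ.hom y - (x₀ : C) ∈ maximalIdeal C := by
      rw [← Ideal.Quotient.eq]
      exact hw
    have h2 : φ₀.hom y - x₀ ∈ maximalIdeal (sub ρ F) := by
      rw [maximalIdeal_sub_eq]
      exact h1
    rw [← Ideal.Quotient.eq] at h2
    exact h2
  -- apply versality to the subrings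
  obtain ⟨ha₀, hsurj₀⟩ := hom_of_localHom t (sub ρ F) φ₀
  have hab₀ : Spec.map (CommRingCat.ofHom π₀) ≫ (Spec.map ψ₀ ≫ S.fromSpecStalk (g t)) =
      (Spec.map φ₀ ≫ T.fromSpecStalk t) ≫ g := by
    rw [← Category.assoc, ← Spec.map_comp, hcomp₀, Category.assoc,
      ← Scheme.SpecMap_stalkMap_fromSpecStalk, Spec.map_comp, Category.assoc]
  obtain ⟨c₀, hc₀, hc₀'⟩ := hT (sub ρ F) (sub (ρ.comp π) F) π₀ hπ₀ _ _ ha₀ (hsurj₀ hsurj) hab₀
  refine ⟨Spec.map (CommRingCat.ofHom (sub (ρ.comp π) F).subtype) ≫ c₀, ?_, ?_⟩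
  · rw [← Category.assoc, ← Spec.map_comp, hπ₀sub, Spec.map_comp, Category.assoc, hc₀,
      ← Category.assoc, ← Spec.map_comp, hφ₀sub, hφ]
  · rw [Category.assoc, hc₀', ← Category.assoc, ← Spec.map_comp, hψ₀sub, hψ]

/-- Residue field extensions of unramified morphisms locally of finite type are finite. -/
lemma finite_residueFieldMap {X Y : Scheme.{u}} (f : X ⟶ Y) [FormallyUnramified f]
    [LocallyOfFiniteType f] (x : X) : (f.residueFieldMap x).hom.Finite := by
  algebraize [(f.stalkMap x).hom]
  have : IsLocalHom (algebraMap (Y.presheaf.stalk (f x)) (X.presheaf.stalk x)) :=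
    inferInstanceAs <| IsLocalHom (f.stalkMap x).hom
  have : Algebra.EssFiniteType (Y.presheaf.stalk (f x)) (X.presheaf.stalk x) := by
    rw [← RingHom.essFiniteType_algebraMap, RingHom.algebraMap_toAlgebra]
    exact LocallyOfFiniteType.stalkMap f x
  have : Algebra.FormallyUnramified (Y.presheaf.stalk (f x)) (X.presheaf.stalk x) := by
    rw [← RingHom.formallyUnramified_algebraMap, RingHom.algebraMap_toAlgebra]
    exact FormallyUnramified.stalkMap f x
  have h : Module.Finite (ResidueField (Y.presheaf.stalk (f x)))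
      (ResidueField (X.presheaf.stalk x)) := inferInstance
  exact RingHom.finite_algebraMap.mpr h

set_option backward.isDefEq.respectTransparency.types false in
/-- Formal versality passes along étale morphisms. -/
theorem versal_of_etale {S T U : Scheme.{u}} (g : T ⟶ S) (e : U ⟶ T) [Etale e] (u : U)
    (hT : ∀ (C C' : Type u) [CommRing C] [CommRing C'] [IsLocalRing C] [IsLocalRing C']
        [IsArtinianRing C] [IsArtinianRing C'] (π : C' →+* C), Function.Surjective π →
        ∀ (a : Spec (CommRingCat.of C) ⟶ T) (b : Spec (CommRingCat.of C') ⟶ S),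
          a (IsLocalRing.closedPoint C) = e u →
          Function.Surjective (a.residueFieldMap (IsLocalRing.closedPoint C)).hom →
          Spec.map (CommRingCat.ofHom π) ≫ b = a ≫ g →
          ∃ c : Spec (CommRingCat.of C') ⟶ T, Spec.map (CommRingCat.ofHom π) ≫ c = a ∧ c ≫ g = b)
    (C C' : Type u) [CommRing C] [CommRing C'] [IsLocalRing C] [IsLocalRing C']
    [IsArtinianRing C] [IsArtinianRing C'] (π : C' →+* C) (hπ : Function.Surjective π)
    (a : Spec (CommRingCat.of C) ⟶ U) (b : Spec (CommRingCat.of C') ⟶ S)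
    (ha : a (closedPoint C) = u)
    (hsurj : Function.Surjective (a.residueFieldMap (closedPoint C)).hom)
    (hab : Spec.map (CommRingCat.ofHom π) ≫ b = a ≫ (e ≫ g)) :
    ∃ c : Spec (CommRingCat.of C') ⟶ U,
      Spec.map (CommRingCat.ofHom π) ≫ c = a ∧ c ≫ (e ≫ g) = b := by
  haveI : IsLocalHom π := hπ.isLocalHom
  haveI : IsLocalHom (CommRingCat.ofHom π).hom := ‹IsLocalHom π›
  have hfin : ((a ≫ e).residueFieldMap (closedPoint C)).hom.Finite := by
    rw [Scheme.residueFieldMap_comp]
    exact RingHom.Finite.comp (RingHom.Finite.of_surjective _ hsurj) (finite_residueFieldMap e _)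
  have ha₁ : (a ≫ e) (closedPoint C) = e u := by rw [Scheme.Hom.comp_apply, ha]
  obtain ⟨c₁, hc₁, hc₁'⟩ := core g (e u) hT C C' π hπ (a ≫ e) b ha₁ hfin
    (by rw [hab, Category.assoc])
  -- local homomorphisms
  obtain ⟨φU, hφUloc, hφU, -⟩ := exists_localHom C a u ha
  have hc₁pt : c₁ (closedPoint C') = e u := by
    have h1 := congrArg (fun f : Spec (CommRingCat.of C) ⟶ T => f (closedPoint C)) hc₁
    simp only [Scheme.Hom.comp_apply] at h1
    rw [ha] at h1
    rw [← h1]
    congr 1
    exact (Spec_closedPoint (f := CommRingCat.ofHom π)).symm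
  obtain ⟨γ₁, hγ₁loc, hγ₁, -⟩ := exists_localHom C' c₁ (e u) hc₁pt
  have hcompU : γ₁ ≫ CommRingCat.ofHom π = e.stalkMap u ≫ φU := by
    haveI : IsLocalHom (γ₁ ≫ CommRingCat.ofHom π).hom := CommRingCat.isLocalHom_comp _ _
    haveI : IsLocalHom (e.stalkMap u ≫ φU).hom := CommRingCat.isLocalHom_comp _ _
    apply localHom_ext
    rw [Spec.map_comp, Category.assoc, hγ₁, hc₁, ← hφU, Category.assoc,
      ← Scheme.SpecMap_stalkMap_fromSpecStalk, Spec.map_comp, Category.assoc]
  have hsm : (e.stalkMap u).hom.FormallySmooth := by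
    have h1 := e.smoothLocus_eq_top
    exact Scheme.Hom.mem_smoothLocus.mp (by rw [h1]; trivial)
  -- nilpotent kernel
  have hker : IsNilpotent (RingHom.ker π) := by
    obtain ⟨n, hn⟩ := IsArtinianRing.isNilpotent_jacobson_bot (R := C')
    rw [IsLocalRing.jacobson_eq_maximalIdeal ⊥ bot_ne_top] at hn
    refine ⟨n, ?_⟩
    rw [Ideal.zero_eq_bot, eq_bot_iff, ← Ideal.zero_eq_bot, ← hn]
    refine Ideal.pow_right_mono (IsLocalRing.le_maximalIdeal ?_) n
    exact RingHom.ker_ne_top π
  -- the lift
  letI : Algebra (T.presheaf.stalk (e u)) (U.presheaf.stalk u) := (e.stalkMap u).hom.toAlgebra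
  letI : Algebra (T.presheaf.stalk (e u)) C' := γ₁.hom.toAlgebra
  letI : Algebra (T.presheaf.stalk (e u)) C := (π.comp γ₁.hom).toAlgebra
  haveI : Algebra.FormallySmooth (T.presheaf.stalk (e u)) (U.presheaf.stalk u) := hsm
  let πa : C' →ₐ[T.presheaf.stalk (e u)] C := { π with commutes' := fun r => rfl }
  let fa : U.presheaf.stalk u →ₐ[T.presheaf.stalk (e u)] C :=
    { φU.hom with commutes' := fun r => (congr($hcompU r)).symm }
  let γ := Algebra.FormallySmooth.liftOfSurjective fa πa hπ hker
  have hγ : ∀ x, π (γ x) = φU.hom x :=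
    Algebra.FormallySmooth.liftOfSurjective_apply fa πa hπ hker
  have hγ' : ∀ r, γ ((e.stalkMap u).hom r) = γ₁.hom r := fun r => γ.commutes r
  have hγπ : CommRingCat.ofHom γ.toRingHom ≫ CommRingCat.ofHom π = φU := by
    ext x
    exact hγ x
  have hγe : e.stalkMap u ≫ CommRingCat.ofHom γ.toRingHom = γ₁ := by
    ext r
    exact hγ' r
  refine ⟨Spec.map (CommRingCat.ofHom γ.toRingHom) ≫ U.fromSpecStalk u, ?_, ?_⟩
  · rw [← Category.assoc, ← Spec.map_comp, hγπ, hφU]
  · rw [← hc₁', ← hγ₁, ← hγe, Spec.map_comp, Category.assoc, Category.assoc, Category.assoc,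
      Scheme.SpecMap_stalkMap_fromSpecStalk_assoc]
    rfl

end Groth.Agent.Lib.Helper51.ArtinVersal
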