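import Mathlib
import Groth.Agent.Lib.Helper20.BlowReg
import Groth.Agent.Lib.Helper94.RegImmPt
import Groth.Agent.Lib.Helper94.CILocal
import Groth.Agent.S2894

/-!
# The blow-up of a regular scheme along a regular closed subscheme is regular (helper51)

Assembled from helper20 (`S2894`, `BlowReg`), helper94 (`CILocal`, `RegImmPt`), helper30
(`SmoothRegular`), helper64 (`SubschemeStalk`), helper82 (`EffCartier`).
-/

set_option autoImplicit false
set_option linter.style.haveILetI false
universe u
open AlgebraicGeometry CategoryTheory Limits IsLocalRing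

namespace Groth.Agent.Lib.Helper51.BlowUpRegular

/-- The zero ideal is generated by the empty regular sequence. -/
theorem isRegularIdeal_bot (A : Type u) [CommRing A] [Nontrivial A] :
    CInt.IsRegularIdeal (⊥ : Ideal A) := by
  refine ⟨[], RingTheory.Sequence.IsRegular.nil A A, ?_⟩
  simp [Ideal.ofList]

/-- If `A` and `A ⧸ J` are regular local rings, then `J` is generated by a regular sequence. -/
theorem isRegularIdeal_of_regular_quotient (A : Type u) [CommRing A] [IsRegularLocalRing A]
    (J : Ideal A) (hJ : IsRegularLocalRing (A ⧸ J)) : CInt.IsRegularIdeal J := by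
  have hJm : J ≤ maximalIdeal A := by
    refine le_maximalIdeal ?_
    intro h
    haveI : Nontrivial (A ⧸ J) := inferInstance
    exact (Ideal.Quotient.nontrivial_iff.mp this) h
  rw [Groth.Agent.Lib.Helper94.CILocal.isRegularIdeal_iff_quotient A J J le_rfl hJm hJ]
  rw [Ideal.map_quotient_self]
  exact isRegularIdeal_bot _

/-- A closed immersion between regular schemes (locally Noetherian target) is a regular closed
immersion. -/
theorem isRegularClosedImmersion_of_regular {Y X : Scheme.{u}} [IsLocallyNoetherian X]
    (i : Y ⟶ X) [IsClosedImmersion i]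
    (hX : ∀ x : X, IsRegularLocalRing (X.presheaf.stalk x))
    (hY : ∀ y : Y, IsRegularLocalRing (Y.presheaf.stalk y)) :
    Mor2.IsRegularClosedImmersion i := by
  refine ⟨inferInstance, fun z => ?_⟩
  haveI := hX (i z)
  haveI := hY z
  have hsurj : Function.Surjective (i.stalkMap z).hom := i.stalkMap_surjective z
  have hq : IsRegularLocalRing (X.presheaf.stalk (i z) ⧸ RingHom.ker (i.stalkMap z).hom) :=
    IsRegularLocalRing.of_ringEquiv (R := Y.presheaf.stalk z)
      (RingHom.quotientKerEquivOfSurjective hsurj).symm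
  obtain ⟨rs, hrs, hof⟩ := isRegularIdeal_of_regular_quotient _ _ hq
  obtain ⟨V, hV, hzV, bs, hbs, hkV, -⟩ :=
    Groth.Agent.Lib.Helper94.RegImmPt.exists_affine_of_stalk i z rs hrs hof.symm
  exact ⟨V, hV, hzV, bs, hbs, by rw [Scheme.Hom.ker_apply]; exact hkV⟩

/-- The blow-up of a regular locally Noetherian scheme along a regular closed subscheme is
regular. -/
theorem regular_blowUp {X Y Xt : Scheme.{u}} [IsLocallyNoetherian X] (i : Y ⟶ X)
    [IsClosedImmersion i]
    (hX : ∀ x : X, IsRegularLocalRing (X.presheaf.stalk x))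
    (hY : ∀ y : Y, IsRegularLocalRing (Y.presheaf.stalk y))
    (π : Xt ⟶ X) (hπ : BlowUp.IsBlowUp π i.ker) (z : Xt) :
    IsRegularLocalRing (Xt.presheaf.stalk z) := by
  haveI : IsLocallyNoetherian Xt :=
    Groth.Agent.Lib.Helper20.BlowReg.isLocallyNoetherian_of_isBlowUp i.ker π hπ
  by_cases hz : z ∈ (BlowUp.exceptional π i.ker).support
  · obtain ⟨z'', rfl⟩ : ∃ z'' : (BlowUp.exceptional π i.ker).subscheme,
        (BlowUp.exceptional π i.ker).subschemeι z'' = z := by
      have : z ∈ Set.range (BlowUp.exceptional π i.ker).subschemeι := by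
        rw [Scheme.IdealSheafData.range_subschemeι]; exact hz
      exact this
    have hreg := isRegularClosedImmersion_of_regular i hX hY
    have hle : i.ker ≤ ((BlowUp.exceptional π i.ker).subschemeι ≫ π).ker :=
      Scheme.IdealSheafData.le_map_comap i.ker π
    let g : (BlowUp.exceptional π i.ker).subscheme ⟶ Y :=
      IsClosedImmersion.lift i ((BlowUp.exceptional π i.ker).subschemeι ≫ π) hle
    have hg : g ≫ i = (BlowUp.exceptional π i.ker).subschemeι ≫ π :=
      IsClosedImmersion.lift_fac _ _ _
    haveI : Smooth g := Groth.Agent.S2894.result i hreg π hπ g hg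
    have hreg1 : IsRegularLocalRing
        ((BlowUp.exceptional π i.ker).subscheme.presheaf.stalk z'') := by
      rw [Groth.Agent.Lib.Helper30.SmoothRegular.stalk_regular_iff_of_smooth g z'']
      exact hY _
    obtain ⟨V', hyV', t, ht, htE⟩ := hπ.1 ((BlowUp.exceptional π i.ker).subschemeι z'')
    have hreg2 : IsRegularLocalRing
        (Xt.presheaf.stalk ((BlowUp.exceptional π i.ker).subschemeι z'') ⧸
          Ideal.span {(Xt.presheaf.germ V'.1 ((BlowUp.exceptional π i.ker).subschemeι z'')
            hyV').hom t}) :=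
      IsRegularLocalRing.of_ringEquiv
        (Groth.Agent.Lib.Helper64.SubschemeStalk.stalkEquivSpan (BlowUp.exceptional π i.ker) V' z''
          hyV' t htE).symm
    exact Groth.Agent.Lib.Helper20.BlowReg.regular_of_quotient_nzd _ _
      (Groth.Agent.Lib.Helper64.SubschemeStalk.germ_mem_nonZeroDivisors V'.2 _ hyV' t ht) hreg2
  · haveI hiso : IsIso (π ∣_ i.ker.support.compl) :=
      Groth.Agent.Lib.Helper82.isIso_morphismRestrict_of_isBlowUp i.ker π hπ
    have hz' : z ∈ π ⁻¹ᵁ i.ker.support.compl := by
      intro h
      apply hz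
      show z ∈ (i.ker.comap π).support
      rw [Scheme.IdealSheafData.support_comap]
      exact h
    let p : ↥((π ⁻¹ᵁ i.ker.support.compl : Xt.Opens) : Scheme.{u}) := ⟨z, hz'⟩
    have h1 : IsIso ((π ∣_ i.ker.support.compl).stalkMap p) := inferInstance
    have h2 : IsIso (π.stalkMap z) :=
      ((MorphismProperty.isomorphisms CommRingCat).arrow_mk_iso_iff
        (morphismRestrictStalkMap π i.ker.support.compl p)).1 h1
    haveI := hX (π z)
    exact IsRegularLocalRing.of_ringEquiv (R := X.presheaf.stalk (π z))
      (asIso (π.stalkMap z)).commRingCatIsoToRingEquiv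

end Groth.Agent.Lib.Helper51.BlowUpRegular
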