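import Mathlib
import Groth.Agent.Lib.Helper51.StalkBC

/-!
# Transfer of ring-theoretic properties between `𝒪_{X,x} ⊗[k] K` and local rings of `X_K` (helper51)

For an isomorphism-invariant property `P` of rings:
* `stalk_of_forall_prime`: if `P` holds for all localisations of `𝒪_{X,x} ⊗[k] K` at primes, it
  holds for the local rings of `X_K` at points over (generisations of) `x`.
* `atPrime_of_forall_stalk`: if `P` holds at all points of `X_K` over `x`, it holds for the localisation
  of `𝒪_{X,x} ⊗[k] K` at every prime lying over the maximal ideal of `𝒪_{X,x}`.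
* `atMaximal_of_forall_stalk`: for `K/k` algebraic, this covers all maximal ideals.
-/

set_option autoImplicit false
universe u
open CategoryTheory CategoryTheory.Limits AlgebraicGeometry TensorProduct

namespace Groth.Agent.Lib.Helper51

section

variable {k : Type u} [Field k] {X : Scheme.{u}} (f : X ⟶ Spec (CommRingCat.of k)) (x : X)
  [Algebra k (X.presheaf.stalk x)]
  (hψ : Spec.map (CommRingCat.ofHom (algebraMap k (X.presheaf.stalk x))) = X.fromSpecStalk x ≫ f)
  (K : Type u) [Field K] [Algebra k K]
  (P : ∀ (R : Type u) [CommRing R], Prop)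
  (hP : ∀ (R S : Type u) [CommRing R] [CommRing S], (R ≃+* S) → P R → P S)

include hψ hP

theorem stalk_of_forall_prime_of_specializes
    (h : ∀ (q : Ideal (X.presheaf.stalk x ⊗[k] K)) [q.IsPrime], P (Localization.AtPrime q))
    (y : ↥(pullback f (Spec.map (CommRingCat.ofHom (algebraMap k K)))))
    (hy : pullback.fst f (Spec.map (CommRingCat.ofHom (algebraMap k K))) y ⤳ x) :
    P ((pullback f (Spec.map (CommRingCat.ofHom (algebraMap k K)))).presheaf.stalk y) := by
  obtain ⟨w, rfl⟩ := exists_stalkBcMap_eq_of_specializes f x hψ K y hy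
  have E := stalkBcRingEquiv f x hψ K w
  exact hP _ _ E.symm (h (stalkBcPrime x K w).asIdeal)

theorem stalk_of_forall_prime
    (h : ∀ (q : Ideal (X.presheaf.stalk x ⊗[k] K)) [q.IsPrime],
      q.comap (Algebra.TensorProduct.includeLeftRingHom) =
        IsLocalRing.maximalIdeal (X.presheaf.stalk x) → P (Localization.AtPrime q))
    (y : ↥(pullback f (Spec.map (CommRingCat.ofHom (algebraMap k K)))))
    (hy : pullback.fst f (Spec.map (CommRingCat.ofHom (algebraMap k K))) y = x) :
    P ((pullback f (Spec.map (CommRingCat.ofHom (algebraMap k K)))).presheaf.stalk y) := by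
  obtain ⟨w, rfl⟩ := exists_stalkBcMap_eq f x hψ K y hy
  have E := stalkBcRingEquiv f x hψ K w
  exact hP _ _ E.symm (h (stalkBcPrime x K w).asIdeal ((fst_stalkBcMap_eq_iff f x hψ K w).mp hy))

theorem atPrime_of_forall_stalk
    (h : ∀ y : ↥(pullback f (Spec.map (CommRingCat.ofHom (algebraMap k K)))),
      pullback.fst f (Spec.map (CommRingCat.ofHom (algebraMap k K))) y = x →
      P ((pullback f (Spec.map (CommRingCat.ofHom (algebraMap k K)))).presheaf.stalk y))
    (q : Ideal (X.presheaf.stalk x ⊗[k] K)) [hq : q.IsPrime]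
    (hcomap : q.comap (Algebra.TensorProduct.includeLeftRingHom) =
      IsLocalRing.maximalIdeal (X.presheaf.stalk x)) :
    P (Localization.AtPrime q) := by
  obtain ⟨w, hw⟩ := exists_stalkBcPrime_eq x K ⟨q, hq⟩
  have hy := (fst_stalkBcMap_eq_iff f x hψ K w).mpr (by rw [hw]; exact hcomap)
  have h1 := h _ hy
  have E := stalkBcRingEquiv f x hψ K w
  have hq' : (stalkBcPrime x K w).asIdeal = q := by rw [hw]
  have E' : Localization.AtPrime q ≃+* Localization.AtPrime (stalkBcPrime x K w).asIdeal := by
    have := hq'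
    subst this
    exact RingEquiv.refl _
  exact hP _ _ (E.trans E'.symm) h1

theorem atMaximal_of_forall_stalk [Algebra.IsIntegral k K]
    (h : ∀ y : ↥(pullback f (Spec.map (CommRingCat.ofHom (algebraMap k K)))),
      pullback.fst f (Spec.map (CommRingCat.ofHom (algebraMap k K))) y = x →
      P ((pullback f (Spec.map (CommRingCat.ofHom (algebraMap k K)))).presheaf.stalk y))
    (𝔐 : Ideal (X.presheaf.stalk x ⊗[k] K)) [h𝔐 : 𝔐.IsMaximal] :
    P (Localization.AtPrime 𝔐) := by
  haveI : Algebra.IsIntegral (X.presheaf.stalk x) (X.presheaf.stalk x ⊗[k] K) := inferInstance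
  have hmax : (𝔐.comap (algebraMap (X.presheaf.stalk x) (X.presheaf.stalk x ⊗[k] K))).IsMaximal :=
    Ideal.isMaximal_comap_of_isIntegral_of_isMaximal 𝔐
  have hcomap : 𝔐.comap (Algebra.TensorProduct.includeLeftRingHom) =
      IsLocalRing.maximalIdeal (X.presheaf.stalk x) := IsLocalRing.eq_maximalIdeal hmax
  exact atPrime_of_forall_stalk f x hψ K P hP h 𝔐 hcomap

end

end Groth.Agent.Lib.Helper51
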