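import Mathlib
import Groth.Agent.Lib.Helper51.StalkBCProp
import Groth.Agent.Lib.Helper56.CMTensor

/-!
# Cohen–Macaulay local rings under base field extension (helper51)

* `exists_prime_ringEquiv_stalk`: the local ring of `X_K` at a point over `x` is the localisation of
  `𝒪_{X,x} ⊗[k] K` at a prime over the maximal ideal.
* `isCM_atPrime_tensor_iff`: for a Noetherian local `k`-algebra `A`, with `A ⊗[k] K` Noetherian and
  `κ ⊗[k] K` Cohen–Macaulay for the residue field `κ`: `(A ⊗[k] K)_q` is CM iff `A` is, for `q` over `𝔪_A`.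
-/

set_option autoImplicit false
universe u
open CategoryTheory CategoryTheory.Limits AlgebraicGeometry TensorProduct

namespace Groth.Agent.Lib.Helper51

section

variable {k : Type u} [Field k] {X : Scheme.{u}} (f : X ⟶ Spec (CommRingCat.of k)) (x : X)
  [Algebra k (X.presheaf.stalk x)]
  (hψ : Spec.map (CommRingCat.ofHom (algebraMap k (X.presheaf.stalk x))) = X.fromSpecStalk x ≫ f)
  (K : Type u) [Field K] [Algebra k K]

include hψ in
theorem exists_prime_ringEquiv_stalk
    (y : ↥(pullback f (Spec.map (CommRingCat.ofHom (algebraMap k K)))))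
    (hy : pullback.fst f (Spec.map (CommRingCat.ofHom (algebraMap k K))) y = x) :
    ∃ (q : Ideal (X.presheaf.stalk x ⊗[k] K)) (_ : q.IsPrime),
      q.comap (Algebra.TensorProduct.includeLeftRingHom) =
        IsLocalRing.maximalIdeal (X.presheaf.stalk x) ∧
      Nonempty ((pullback f (Spec.map (CommRingCat.ofHom (algebraMap k K)))).presheaf.stalk y ≃+*
        Localization.AtPrime q) := by
  obtain ⟨w, rfl⟩ := exists_stalkBcMap_eq f x hψ K y hy
  exact ⟨(stalkBcPrime x K w).asIdeal, inferInstance,
    (fst_stalkBcMap_eq_iff f x hψ K w).mp hy, ⟨stalkBcRingEquiv f x hψ K w⟩⟩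

end

section Ring

open LocCoh Groth.Agent.Lib.Helper56

theorem isCM_atPrime_tensor_iff (k A K : Type u) [Field k] [CommRing A] [Algebra k A] [IsLocalRing A]
    [IsNoetherianRing A] [Field K] [Algebra k K] [IsNoetherianRing (A ⊗[k] K)]
    (hfib : ∀ (L : Type u) [Field L] [Algebra k L] [Algebra A L] [IsScalarTower k A L],
      Algebra.EssFiniteType A L → IsCohenMacaulayRing (L ⊗[k] K))
    (q : Ideal (A ⊗[k] K)) [q.IsPrime]
    (hq : q.comap (Algebra.TensorProduct.includeLeftRingHom) = IsLocalRing.maximalIdeal A) :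
    IsCohenMacaulayLocalRing (Localization.AtPrime q) ↔ IsCohenMacaulayLocalRing A := by
  obtain ⟨-, -, h3⟩ := Groth.Agent.Lib.Helper77.FlatDepth.loc_formulas A (A ⊗[k] K) q
  have hq' : q.comap (algebraMap A (A ⊗[k] K)) = IsLocalRing.maximalIdeal A := hq
  -- the fibre local ring is CM
  have hF : IsCohenMacaulayLocalRing (EGA4.FibLocRing A (A ⊗[k] K) q) := by
    apply isCM_fibLocRing_of_fiber A (A ⊗[k] K) q
    set p := q.comap (algebraMap A (A ⊗[k] K)) with hp
    have h1 : IsCohenMacaulayRing (p.ResidueField ⊗[k] K) :=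
      hfib p.ResidueField inferInstance
    exact isCohenMacaulayRing_of_ringEquiv
      (Algebra.TensorProduct.cancelBaseChange k A A p.ResidueField K).symm.toRingEquiv h1
  -- A_p ≃ A
  have hA : IsCohenMacaulayLocalRing
      (Localization.AtPrime (q.comap (algebraMap A (A ⊗[k] K)))) ↔ IsCohenMacaulayLocalRing A := by
    have hu : ∀ a ∈ (q.comap (algebraMap A (A ⊗[k] K))).primeCompl, IsUnit a := by
      intro a ha
      by_contra hna
      apply ha
      show a ∈ q.comap (algebraMap A (A ⊗[k] K))
      rw [hq']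
      exact (IsLocalRing.mem_maximalIdeal a).mpr hna
    have e : A ≃ₐ[A] Localization.AtPrime (q.comap (algebraMap A (A ⊗[k] K))) :=
      IsLocalization.atUnits A _ hu
    exact ⟨fun h => isCohenMacaulayLocalRing_of_ringEquiv e.symm.toRingEquiv h,
      fun h => isCohenMacaulayLocalRing_of_ringEquiv e.toRingEquiv h⟩
  rw [h3, hA]
  exact ⟨fun h => h.1, fun h => ⟨h, hF⟩⟩

end Ring

end Groth.Agent.Lib.Helper51
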