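import Mathlib
import Groth.Agent.Lib.Helper51.StalkBC
import Groth.Agent.Lib.Helper6.LocalFlat2

/-!
# Flatness at a point and base change (helper51)

* `flat_stalkMap_of_isPullback`: in a cartesian square, if `f` is flat at `g' x'` then `f'` is flat at `x'`.
* `flat_stalkMap_of_isPullback_descent`: if `g` is flat at `f' x'` and `f'` is flat at `x'`, then `f`
  is flat at `g' x'`.
-/

set_option autoImplicit false
set_option linter.style.haveILetI false
universe u
open CategoryTheory CategoryTheory.Limits AlgebraicGeometry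

namespace Groth.Agent.Lib.Helper51

section PointFlatBC

variable {X Y X' Y' : Scheme.{u}} {f : X ⟶ Y} {f' : X' ⟶ Y'} {g' : X' ⟶ X} {g : Y' ⟶ Y}

theorem flat_stalkMap_of_isPullback_aux (hc : IsPullback g' f' f g) (x : X) (y' : Y') (x' : X')
    (hx : g' x' = x) (hy : f' x' = y')
    (hflat : (f.stalkMap x).hom.Flat) : (f'.stalkMap x').hom.Flat := by
  let j₁ := X.fromSpecStalk x
  let j₂ := Y'.fromSpecStalk y'
  let a₀ : pullback (j₁ ≫ f) (j₂ ≫ g) ⟶ pullback f g :=
    pullback.map (j₁ ≫ f) (j₂ ≫ g) f g j₁ j₂ (𝟙 _) ((Category.comp_id _).trans rfl)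
      ((Category.comp_id _).trans rfl)
  haveI ha₀flat : Flat a₀ :=
    MorphismProperty.pullbackMap (P := @Flat) (inferInstance : Flat j₁) (inferInstance : Flat j₂)
      rfl rfl
  haveI ha₀pre : IsPreimmersion a₀ :=
    MorphismProperty.pullbackMap (P := @IsPreimmersion) (inferInstance : IsPreimmersion j₁)
      (inferInstance : IsPreimmersion j₂) rfl rfl
  let a : pullback (j₁ ≫ f) (j₂ ≫ g) ⟶ X' := a₀ ≫ hc.isoPullback.inv
  haveI : Flat a := inferInstance
  haveI : IsPreimmersion a := inferInstance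
  let b : pullback (j₁ ≫ f) (j₂ ≫ g) ⟶ Spec (Y'.presheaf.stalk y') := pullback.snd _ _
  have hab : a ≫ f' = b ≫ j₂ := by
    simp only [a, a₀, b, Category.assoc, IsPullback.isoPullback_inv_snd, pullback.map,
      pullback.lift_snd]
  haveI hj₁f : Flat (j₁ ≫ f) := by
    have h1 : Spec.map (f.stalkMap x) ≫ Y.fromSpecStalk (f x) = j₁ ≫ f :=
      Scheme.SpecMap_stalkMap_fromSpecStalk f
    rw [← h1]
    haveI : Flat (Spec.map (f.stalkMap x)) := Flat.SpecMap_iff.mpr hflat
    infer_instance
  haveI : Flat b := MorphismProperty.pullback_snd (P := @Flat) _ _ hj₁f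
  have hx' : x' ∈ Set.range a := by
    have : hc.isoPullback.hom x' ∈ Set.range a₀ := by
      rw [Scheme.Pullback.range_map]
      constructor
      · rw [Set.mem_preimage, ← Scheme.Hom.comp_apply, hc.isoPullback_hom_fst,
          Scheme.range_fromSpecStalk, hx]
        exact specializes_rfl
      · rw [Set.mem_preimage, ← Scheme.Hom.comp_apply, hc.isoPullback_hom_snd,
          Scheme.range_fromSpecStalk, hy]
        exact specializes_rfl
    obtain ⟨t, ht⟩ := this
    refine ⟨t, ?_⟩
    show hc.isoPullback.inv (a₀ t) = x'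
    rw [ht, ← Scheme.Hom.comp_apply, Iso.hom_inv_id]
    rfl
  obtain ⟨t, rfl⟩ := hx'
  have e1 := Scheme.Hom.stalkMap_congr_hom _ _ hab t
  have hR : ((a ≫ f').stalkMap t).hom.Flat := by
    rw [e1, CommRingCat.hom_comp]
    haveI : Flat (b ≫ j₂) := inferInstance
    exact RingHom.Flat.comp (RingHom.Flat.of_bijective
      (ConcreteCategory.bijective_of_isIso _)) (Flat.stalkMap (b ≫ j₂) t)
  rw [Scheme.Hom.stalkMap_comp] at hR
  replace hR : ((a.stalkMap t).hom.comp (f'.stalkMap (a t)).hom).Flat := hR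
  have hb := bijective_stalkMap_of_flat_of_isPreimmersion a t
  let E := RingEquiv.ofBijective _ hb
  have h2 : (f'.stalkMap (a t)).hom =
      E.symm.toRingHom.comp ((a.stalkMap t).hom.comp (f'.stalkMap (a t)).hom) := by
    ext z
    simp only [RingHom.comp_apply, RingEquiv.toRingHom_eq_coe, RingHom.coe_coe]
    exact (E.symm_apply_apply _).symm
  rw [h2]
  exact RingHom.Flat.comp hR (RingHom.Flat.of_bijective E.symm.bijective)

/-- Flatness at a point is stable under base change. -/
theorem flat_stalkMap_of_isPullback (hc : IsPullback g' f' f g) (x' : X')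
    (hflat : (f.stalkMap (g' x')).hom.Flat) : (f'.stalkMap x').hom.Flat :=
  flat_stalkMap_of_isPullback_aux hc (g' x') (f' x') x' rfl rfl hflat

/-- Descent of flatness at a point along a base change which is flat at the point. -/
theorem flat_stalkMap_of_isPullback_descent (hc : IsPullback g' f' f g) (x' : X')
    (hg : (g.stalkMap (f' x')).hom.Flat) (hf' : (f'.stalkMap x').hom.Flat) :
    (f.stalkMap (g' x')).hom.Flat := by
  have hg' : (g'.stalkMap x').hom.Flat := flat_stalkMap_of_isPullback hc.flip x' hg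
  have e1 := Scheme.Hom.stalkMap_congr_hom _ _ hc.w x'
  have h1 : ((f' ≫ g).stalkMap x').hom.Flat := by
    rw [Scheme.Hom.stalkMap_comp]
    exact RingHom.Flat.comp hg hf'
  have hcomp : ((g' ≫ f).stalkMap x').hom.Flat := by
    rw [e1, CommRingCat.hom_comp]
    exact RingHom.Flat.comp (RingHom.Flat.of_bijective
      (ConcreteCategory.bijective_of_isIso _)) h1
  rw [Scheme.Hom.stalkMap_comp] at hcomp
  replace hcomp : ((g'.stalkMap x').hom.comp (f.stalkMap (g' x')).hom).Flat := hcomp
  letI algAB : Algebra (Y.presheaf.stalk (f (g' x'))) (X.presheaf.stalk (g' x')) :=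
    (f.stalkMap (g' x')).hom.toAlgebra
  letI algBC : Algebra (X.presheaf.stalk (g' x')) (X'.presheaf.stalk x') :=
    (g'.stalkMap x').hom.toAlgebra
  letI algAC : Algebra (Y.presheaf.stalk (f (g' x'))) (X'.presheaf.stalk x') :=
    ((g'.stalkMap x').hom.comp (f.stalkMap (g' x')).hom).toAlgebra
  haveI : IsScalarTower (Y.presheaf.stalk (f (g' x'))) (X.presheaf.stalk (g' x'))
      (X'.presheaf.stalk x') := IsScalarTower.of_algebraMap_eq (fun _ => rfl)
  haveI : Module.Flat (Y.presheaf.stalk (f (g' x'))) (X'.presheaf.stalk x') := hcomp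
  haveI : Module.Flat (X.presheaf.stalk (g' x')) (X'.presheaf.stalk x') := hg'
  haveI : IsLocalHom (algebraMap (X.presheaf.stalk (g' x')) (X'.presheaf.stalk x')) :=
    inferInstanceAs (IsLocalHom (g'.stalkMap x').hom)
  haveI : Module.FaithfullyFlat (X.presheaf.stalk (g' x')) (X'.presheaf.stalk x') :=
    Module.FaithfullyFlat.of_flat_of_isLocalHom
  exact Groth.Agent.Lib.Helper6.LocalFlat.flat_of_faithfullyFlat_of_flat
    (R := Y.presheaf.stalk (f (g' x'))) (S := X.presheaf.stalk (g' x'))
    (M := X'.presheaf.stalk x')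

end PointFlatBC

end Groth.Agent.Lib.Helper51
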