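import Mathlib
import Groth.Agent.Lib.Helper51.GenFibre

/-!
# Finitely generated field extensions: the algebraic closure of the base is finite (helper51)

* `finiteDimensional_algebraicClosure_of_essFiniteType`: if `F/k` is a finitely generated field
  extension, the algebraic closure of `k` in `F` is finite over `k`.
* `essFiniteType_resMapOf`: residue fields of a scheme locally of finite type over a field `k` are
  finitely generated field extensions of `k`.
* `finiteDimensional_separableClosure_residueField`: hence the separable closure of `k` in `κ(x)`
  is finite over `k`.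
-/

set_option autoImplicit false
universe u
open CategoryTheory CategoryTheory.Limits AlgebraicGeometry
open scoped IntermediateField.algebraAdjoinAdjoin

namespace Groth.Agent.Lib.Helper51

theorem finiteDimensional_algebraicClosure_of_essFiniteType (k F : Type*) [Field k] [Field F]
    [Algebra k F] [Algebra.EssFiniteType k F] :
    FiniteDimensional k (algebraicClosure k F) := by
  classical
  -- a finite transcendence basis
  obtain ⟨s, hs⟩ : ∃ s : Finset F, IsTranscendenceBasis k ((↑) : s → F) := by
    have ⟨s, hs⟩ := IntermediateField.fg_top k F
    have : Algebra.IsAlgebraic (Algebra.adjoin k (s : Set F)) F := by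
      rw [← IntermediateField.isAlgebraic_adjoin_iff_top, hs, Algebra.isAlgebraic_iff_isIntegral]
      exact Algebra.isIntegral_of_surjective IntermediateField.topEquiv.surjective
    have ⟨t, hts, ht⟩ := exists_isTranscendenceBasis_subset (R := k) (s : Set F)
    lift t to Finset F using s.finite_toSet.subset hts
    exact ⟨t, ht⟩
  have hfin : Module.Finite (IntermediateField.adjoin k (Set.range ((↑) : s → F))) F := by
    haveI := hs.isAlgebraic_field
    haveI : Algebra.EssFiniteType (IntermediateField.adjoin k (Set.range ((↑) : s → F))) F :=
      .of_comp k _ _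
    exact Algebra.finite_of_essFiniteType_of_isAlgebraic
  have hindA : AlgebraicIndependent (algebraicClosure k F) ((↑) : s → F) := hs.1.algebraicClosure
  -- the monomial basis of `k[s]`
  let b : Module.Basis (s →₀ ℕ) k (Algebra.adjoin k (Set.range ((↑) : s → F))) :=
    (MvPolynomial.basisMonomials s k).map hs.1.aevalEquiv.toLinearEquiv
  have hb : ∀ i, ((b i : Algebra.adjoin k (Set.range ((↑) : s → F))) : F) =
      MvPolynomial.aeval ((↑) : s → F) (MvPolynomial.monomial i (1 : algebraicClosure k F)) := by
    intro i
    simp [b, MvPolynomial.aeval_monomial]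
  have hli : LinearIndependent (algebraicClosure k F)
      (fun i => MvPolynomial.aeval ((↑) : s → F) (MvPolynomial.monomial i (1 : algebraicClosure k F))) := by
    have h1 := (MvPolynomial.basisMonomials s (algebraicClosure k F)).linearIndependent
    have h2 := h1.map' (MvPolynomial.aeval ((↑) : s → F) :
      MvPolynomial s (algebraicClosure k F) →ₐ[algebraicClosure k F] F).toLinearMap
      (LinearMap.ker_eq_bot.mpr hindA)
    exact h2
  have hdisj : (algebraicClosure k F).toSubalgebra.LinearDisjoint
      (Algebra.adjoin k (Set.range ((↑) : s → F))) := by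
    refine Subalgebra.LinearDisjoint.of_basis_right _ _ b ?_
    have : ((Algebra.adjoin k (Set.range ((↑) : s → F))).val ∘ b) =
        (fun i => MvPolynomial.aeval ((↑) : s → F)
          (MvPolynomial.monomial i (1 : algebraicClosure k F))) := by
      ext i
      exact hb i
    rw [this]
    exact hli
  have hrank : Module.rank k (algebraicClosure k F) ≤
      (Module.finrank (IntermediateField.adjoin k (Set.range ((↑) : s → F))) F : ℕ) := by
    refine rank_le fun t ht => ?_
    have h1 := hdisj.linearIndependent_left_of_flat ht
    have h2 := h1.cardinal_le_rank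
    have h3 := IsLocalization.rank_eq (IntermediateField.adjoin k (Set.range ((↑) : s → F)))
      (nonZeroDivisors (Algebra.adjoin k (Set.range ((↑) : s → F)))) le_rfl (N := F)
    rw [← h3, ← Module.finrank_eq_rank] at h2
    rw [Cardinal.mk_coe_finset] at h2
    exact_mod_cast h2
  exact Module.rank_lt_aleph0_iff.mp (lt_of_le_of_lt hrank (Cardinal.natCast_lt_aleph0))

theorem finiteDimensional_separableClosure_of_essFiniteType (k F : Type*) [Field k] [Field F]
    [Algebra k F] [Algebra.EssFiniteType k F] :
    FiniteDimensional k (separableClosure k F) := by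
  haveI := finiteDimensional_algebraicClosure_of_essFiniteType k F
  have hle : separableClosure k F ≤ algebraicClosure k F := le_algebraicClosure k F (separableClosure k F)
  exact FiniteDimensional.of_injective (IntermediateField.inclusion hle).toLinearMap
    (IntermediateField.inclusion hle).injective

theorem essFiniteType_germ_top_Spec (R : CommRingCat.{u}) (y : Spec R) :
    ((Spec R).presheaf.germ ⊤ y trivial).hom.EssFiniteType := by
  have hU : IsAffineOpen (⊤ : (Spec R).Opens) := isAffineOpen_top (Spec R)
  letI alg := (Spec R).presheaf.algebra_section_stalk (⟨y, trivial⟩ : (⊤ : (Spec R).Opens))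
  haveI loc := hU.isLocalization_stalk ⟨y, trivial⟩
  have : Algebra.EssFiniteType Γ(Spec R, ⊤) ((Spec R).presheaf.stalk y) :=
    Algebra.EssFiniteType.of_isLocalization _ (hU.primeIdealOf ⟨y, trivial⟩).asIdeal.primeCompl
  rw [← RingHom.essFiniteType_algebraMap] at this
  exact this

/-- Residue fields of a scheme locally of finite type over a field are finitely generated field
extensions. -/
theorem essFiniteType_resMapOf {k : Type u} [Field k] {X : Scheme.{u}}
    (f : X ⟶ Spec (CommRingCat.of k)) [LocallyOfFiniteType f] (x : X) :
    ((X.residue x).hom.comp ((X.presheaf.germ ⊤ x trivial).hom.comp (Coh.toGlobal f))).EssFiniteType := by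
  have h1 : (X.residue x).hom.EssFiniteType :=
    (RingHom.FiniteType.of_surjective _ (X.residue_surjective x)).essFiniteType
  have h2 : (f.stalkMap x).hom.EssFiniteType := LocallyOfFiniteType.stalkMap f x
  have h3 := essFiniteType_germ_top_Spec (CommRingCat.of k) (f x)
  have h4 : (Scheme.ΓSpecIso (CommRingCat.of k)).inv.hom.EssFiniteType :=
    (RingHom.FiniteType.of_surjective _
      (ConcreteCategory.bijective_of_isIso (Scheme.ΓSpecIso (CommRingCat.of k)).inv).2).essFiniteType
  have heq : (X.presheaf.germ ⊤ x trivial).hom.comp (Coh.toGlobal f) =
      (f.stalkMap x).hom.comp ((((Spec (CommRingCat.of k)).presheaf.germ ⊤ (f x) trivial).hom).comp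
        (Scheme.ΓSpecIso (CommRingCat.of k)).inv.hom) := by
    have h5 := Scheme.Hom.germ_stalkMap f (⊤ : (Spec (CommRingCat.of k)).Opens) x trivial
    have h6 : (X.presheaf.germ ⊤ x trivial).hom.comp (f.appTop).hom =
        (f.stalkMap x).hom.comp (((Spec (CommRingCat.of k)).presheaf.germ ⊤ (f x) trivial).hom) := by
      have := congrArg CommRingCat.Hom.hom h5
      simp only [CommRingCat.hom_comp] at this
      exact this.symm
    unfold Coh.toGlobal
    rw [← RingHom.comp_assoc, h6, RingHom.comp_assoc]
  rw [heq]
  exact (h4.comp h3).comp h2 |>.comp h1

/-- For `X` locally of finite type over `k`, `κ(x)` is a finitely generated field extension of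
`k`, for any algebra structure compatible with the structure morphism. -/
theorem essFiniteType_residueField {k : Type u} [Field k] {X : Scheme.{u}}
    (f : X ⟶ Spec (CommRingCat.of k)) [LocallyOfFiniteType f] (x : X)
    [Algebra k (X.residueField x)]
    (hφ : Spec.map (CommRingCat.ofHom (algebraMap k (X.residueField x))) =
      X.fromSpecResidueField x ≫ f) :
    Algebra.EssFiniteType k (X.residueField x) := by
  have h1 := specMap_resMapOf f x
  have h2 : CommRingCat.ofHom (algebraMap k (X.residueField x)) =
      CommRingCat.ofHom ((X.residue x).hom.comp ((X.presheaf.germ ⊤ x trivial).hom.comp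
        (Coh.toGlobal f))) := Spec.map_injective (hφ.trans h1.symm)
  have h3 : algebraMap k (X.residueField x) =
      (X.residue x).hom.comp ((X.presheaf.germ ⊤ x trivial).hom.comp (Coh.toGlobal f)) :=
    congrArg CommRingCat.Hom.hom h2
  rw [← RingHom.essFiniteType_algebraMap, h3]
  exact essFiniteType_resMapOf f x

theorem finiteDimensional_separableClosure_residueField {k : Type u} [Field k] {X : Scheme.{u}}
    (f : X ⟶ Spec (CommRingCat.of k)) [LocallyOfFiniteType f] (x : X)
    [Algebra k (X.residueField x)]
    (hφ : Spec.map (CommRingCat.ofHom (algebraMap k (X.residueField x))) =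
      X.fromSpecResidueField x ≫ f) :
    FiniteDimensional k (separableClosure k (X.residueField x)) := by
  haveI := essFiniteType_residueField f x hφ
  exact finiteDimensional_separableClosure_of_essFiniteType k _

end Groth.Agent.Lib.Helper51
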