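import Mathlib
import Groth.Agent.Lib.Helper51.FgField
import Groth.Agent.Lib.Helper51.GenericRed
import Groth.Agent.Lib.Helper65.RegularSmooth

/-!
# The smooth locus of a scheme over a field via local rings (helper51)

For `f : X ⟶ Spec k` and `x : X`, with `stalkAlg f x : Algebra k 𝒪_{X,x}`:
* `algebraMap_stalkAlg_eq`: `k → 𝒪_{X,x}` is `k → 𝒪_{Spec k, f x} → 𝒪_{X,x}`.
* `essFiniteType_stalk`: `𝒪_{X,x}` is essentially of finite type over `k` (`f` locally of finite type).
* `mem_smoothLocus_iff_formallySmooth_stalk`: `x ∈ f.smoothLocus ↔ 𝒪_{X,x}` formally smooth over `k`.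
* `isRegularLocalRing_stalk_of_mem_smoothLocus`, `mem_smoothLocus_of_isRegularLocalRing_stalk` (the
  latter when `κ(x)` is formally smooth over `k`, e.g. `k` perfect).
-/

set_option autoImplicit false
set_option linter.style.haveILetI false
universe u
open CategoryTheory CategoryTheory.Limits AlgebraicGeometry

namespace Groth.Agent.Lib.Helper51

variable {k : Type u} [Field k] {X : Scheme.{u}} (f : X ⟶ Spec (CommRingCat.of k)) (x : X)

theorem algebraMap_stalkAlg_eq :
    @algebraMap k (X.presheaf.stalk x) _ _ (stalkAlg f x) =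
      (f.stalkMap x).hom.comp (StructureSheaf.toStalk k (f x)).hom := by
  have h2 := Scheme.Hom.germ_stalkMap f ⊤ x trivial
  change _ = (((Scheme.ΓSpecIso (CommRingCat.of k)).inv ≫
    (Spec (CommRingCat.of k)).presheaf.germ ⊤ (f x) trivial) ≫ f.stalkMap x).hom
  rw [Category.assoc, h2]
  rfl

theorem formallySmooth_toStalk : (StructureSheaf.toStalk k (f x)).hom.FormallySmooth := by
  letI := StructureSheaf.stalkAlgebra k (f x)
  haveI : IsLocalization.AtPrime ((Spec.structureSheaf k).presheaf.stalk (f x))
    (f x).asIdeal := StructureSheaf.IsLocalization.to_stalk k (f x)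
  have : Algebra.FormallySmooth k ((Spec.structureSheaf k).presheaf.stalk (f x)) :=
    Algebra.FormallySmooth.of_isLocalization (f x).asIdeal.primeCompl
  exact (RingHom.formallySmooth_algebraMap).mpr this

theorem essFiniteType_stalk [LocallyOfFiniteType f] :
    @Algebra.EssFiniteType k (X.presheaf.stalk x) _ _ (stalkAlg f x) := by
  letI := stalkAlg f x
  rw [← RingHom.essFiniteType_algebraMap, algebraMap_stalkAlg_eq]
  have h2 : (f.stalkMap x).hom.EssFiniteType := LocallyOfFiniteType.stalkMap f x
  have h3 := essFiniteType_germ_top_Spec (CommRingCat.of k) (f x)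
  have h4 : (Scheme.ΓSpecIso (CommRingCat.of k)).inv.hom.EssFiniteType :=
    (RingHom.FiniteType.of_surjective _
      (ConcreteCategory.bijective_of_isIso (Scheme.ΓSpecIso (CommRingCat.of k)).inv).2).essFiniteType
  exact (h4.comp h3).comp h2

theorem mem_smoothLocus_iff_formallySmooth_stalk [LocallyOfFinitePresentation f] :
    x ∈ f.smoothLocus ↔ @Algebra.FormallySmooth k (X.presheaf.stalk x) _ _ (stalkAlg f x) := by
  letI := stalkAlg f x
  rw [Scheme.Hom.mem_smoothLocus]
  constructor
  · intro hsm
    rw [← RingHom.formallySmooth_algebraMap, algebraMap_stalkAlg_eq]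
    exact RingHom.FormallySmooth.stableUnderComposition _ _ (formallySmooth_toStalk f x) hsm
  · intro hfs
    letI a1 := StructureSheaf.stalkAlgebra k (f x)
    haveI : IsLocalization.AtPrime ((Spec.structureSheaf k).presheaf.stalk (f x))
      (f x).asIdeal := StructureSheaf.IsLocalization.to_stalk k (f x)
    letI a2 : Algebra ((Spec.structureSheaf k).presheaf.stalk (f x)) (X.presheaf.stalk x) :=
      (f.stalkMap x).hom.toAlgebra
    haveI : IsScalarTower k ((Spec.structureSheaf k).presheaf.stalk (f x)) (X.presheaf.stalk x) :=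
      IsScalarTower.of_algebraMap_eq' (algebraMap_stalkAlg_eq f x)
    have := Algebra.FormallySmooth.localization_base (R := k)
      (Rₘ := (Spec.structureSheaf k).presheaf.stalk (f x)) (Sₘ := X.presheaf.stalk x)
      (f x).asIdeal.primeCompl
    exact (RingHom.formallySmooth_algebraMap).mpr this

theorem isRegularLocalRing_stalk_of_mem_smoothLocus [LocallyOfFinitePresentation f]
    (hx : x ∈ f.smoothLocus) : IsRegularLocalRing (X.presheaf.stalk x) := by
  letI := stalkAlg f x
  haveI := (mem_smoothLocus_iff_formallySmooth_stalk f x).mp hx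
  haveI := essFiniteType_stalk f x
  exact Groth.Agent.Lib.Helper65.RegularSmooth.isRegularLocalRing_of_formallySmooth k _

theorem mem_smoothLocus_of_isRegularLocalRing_stalk [LocallyOfFinitePresentation f]
    [IsRegularLocalRing (X.presheaf.stalk x)]
    (hres : letI := stalkAlg f x
      Algebra.FormallySmooth k (IsLocalRing.ResidueField (X.presheaf.stalk x))) :
    x ∈ f.smoothLocus := by
  letI := stalkAlg f x
  haveI := essFiniteType_stalk f x
  haveI := hres
  rw [mem_smoothLocus_iff_formallySmooth_stalk]
  exact Groth.Agent.Lib.Helper65.RegularSmooth.formallySmooth_of_isRegularLocalRing k _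

theorem mem_smoothLocus_iff_isRegularLocalRing_stalk_of_perfectField [PerfectField k]
    [LocallyOfFinitePresentation f] :
    x ∈ f.smoothLocus ↔ IsRegularLocalRing (X.presheaf.stalk x) := by
  refine ⟨isRegularLocalRing_stalk_of_mem_smoothLocus f x, fun h => ?_⟩
  haveI := h
  refine mem_smoothLocus_of_isRegularLocalRing_stalk f x ?_
  letI := stalkAlg f x
  haveI := essFiniteType_stalk f x
  haveI : Algebra.EssFiniteType k (IsLocalRing.ResidueField (X.presheaf.stalk x)) :=
    Algebra.EssFiniteType.comp k (X.presheaf.stalk x) _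
  exact Algebra.FormallySmooth.of_perfectField

end Groth.Agent.Lib.Helper51
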