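import Mathlib
import Groth.Prelude.Def_MoreMor
import Groth.Agent.Lib.Helper51.CMBaseChange
import Groth.Agent.Lib.Helper51.GeomFibreBC
import Groth.Agent.Lib.Helper51.PointFlatBC
import Groth.Agent.Lib.Helper51.GenericRed
import Groth.Agent.Lib.Helper51.SmoothStalk

/-!
# Cohen–Macaulay morphisms at a point and base change (helper51)
-/

set_option autoImplicit false
set_option linter.style.haveILetI false
universe u
open CategoryTheory CategoryTheory.Limits AlgebraicGeometry TensorProduct

namespace Groth.Agent.Lib.Helper51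

/-- `IsCMAt f x` may be tested on any presentation of the fibre through `x`. -/
theorem isCMAt_iff_of_fiber {X S : Scheme.{u}} (f : X ⟶ S) (x : X) (y : S) (w : f.fiber y)
    (hw : f.fiberι y w = x) :
    MoreMor.IsCMAt f x ↔ (f.stalkMap x).hom.Flat ∧
      LocCoh.IsCohenMacaulayLocalRing ((f.fiber y).presheaf.stalk w) := by
  have hy : f x = y := by
    have : f.fiberι y w ∈ f ⁻¹' {y} := by rw [← f.range_fiberι]; exact ⟨w, rfl⟩
    rw [hw] at this
    exact this
  subst hy
  have : w = f.asFiber x :=
    (f.fiberι _).isEmbedding.injective (hw.trans (f.fiberι_asFiber x).symm)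
  subst this
  rfl

/-- Cohen–Macaulayness of local rings of a base change `F' = F_K` (general cartesian square). -/
theorem isCM_stalk_iff_of_isPullback {k K : Type u} [Field k] [Field K] [Algebra k K]
    {F F' : Scheme.{u}} (φ : F ⟶ Spec (CommRingCat.of k)) {m : F' ⟶ F}
    {snd : F' ⟶ Spec (CommRingCat.of K)}
    (hP : IsPullback m snd φ (Spec.map (CommRingCat.ofHom (algebraMap k K)))) (w' : F')
    (hA : IsNoetherianRing (F.presheaf.stalk (m w')))
    (hAK : letI := stalkAlg φ (m w'); IsNoetherianRing (F.presheaf.stalk (m w') ⊗[k] K))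
    (hfib : letI := stalkAlg φ (m w');
      ∀ (L : Type u) [Field L] [Algebra k L] [Algebra (F.presheaf.stalk (m w')) L]
      [IsScalarTower k (F.presheaf.stalk (m w')) L],
      Algebra.EssFiniteType (F.presheaf.stalk (m w')) L → LocCoh.IsCohenMacaulayRing (L ⊗[k] K)) :
    LocCoh.IsCohenMacaulayLocalRing (F'.presheaf.stalk w') ↔
      LocCoh.IsCohenMacaulayLocalRing (F.presheaf.stalk (m w')) := by
  letI := stalkAlg φ (m w')
  have hψ := specMap_stalkMapOf φ (m w')
  have hy : pullback.fst φ (Spec.map (CommRingCat.ofHom (algebraMap k K)))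
      (hP.isoPullback.hom w') = m w' := by
    rw [← Scheme.Hom.comp_apply, hP.isoPullback_hom_fst]
  obtain ⟨q, hqp, hq, ⟨E⟩⟩ := exists_prime_ringEquiv_stalk φ (m w') hψ K _ hy
  have key := isCM_atPrime_tensor_iff k (F.presheaf.stalk (m w')) K hfib q hq
  rw [← key]
  let E' : F'.presheaf.stalk w' ≃+* Localization.AtPrime q :=
    ((asIso (hP.isoPullback.hom.stalkMap w')).commRingCatIsoToRingEquiv.symm).trans E
  exact ⟨fun h => Groth.Agent.Lib.Helper56.isCohenMacaulayLocalRing_of_ringEquiv E' h,
    fun h => Groth.Agent.Lib.Helper56.isCohenMacaulayLocalRing_of_ringEquiv E'.symm h⟩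

/-- Variant: `F` locally of finite type over `k`, `K / k` arbitrary. -/
theorem isCM_stalk_iff_of_isPullback_of_lft {k K : Type u} [Field k] [Field K] [Algebra k K]
    {F F' : Scheme.{u}} (φ : F ⟶ Spec (CommRingCat.of k)) [LocallyOfFiniteType φ] {m : F' ⟶ F}
    {snd : F' ⟶ Spec (CommRingCat.of K)}
    (hP : IsPullback m snd φ (Spec.map (CommRingCat.ofHom (algebraMap k K)))) (w' : F') :
    LocCoh.IsCohenMacaulayLocalRing (F'.presheaf.stalk w') ↔
      LocCoh.IsCohenMacaulayLocalRing (F.presheaf.stalk (m w')) := by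
  letI := stalkAlg φ (m w')
  haveI hess : Algebra.EssFiniteType k (F.presheaf.stalk (m w')) := essFiniteType_stalk φ (m w')
  haveI hN : IsNoetherianRing (F.presheaf.stalk (m w')) :=
    Algebra.EssFiniteType.isNoetherianRing k _
  refine isCM_stalk_iff_of_isPullback φ hP w' hN ?_ ?_
  · haveI : IsNoetherianRing (K ⊗[k] (F.presheaf.stalk (m w'))) :=
      Algebra.EssFiniteType.isNoetherianRing K _
    exact isNoetherianRing_of_ringEquiv _
      (Algebra.TensorProduct.comm k K (F.presheaf.stalk (m w'))).toRingEquiv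
  · intro L _ _ _ _ hL
    haveI : Algebra.EssFiniteType k L :=
      Algebra.EssFiniteType.comp k (F.presheaf.stalk (m w')) L
    exact Groth.Agent.Lib.Helper56.isCM_tensor_of_essFiniteType k L K

/-- Variant: `K / k` a finitely generated field extension, local ring of `F` Noetherian. -/
theorem isCM_stalk_iff_of_isPullback_of_essFiniteType {k K : Type u} [Field k] [Field K]
    [Algebra k K] [Algebra.EssFiniteType k K]
    {F F' : Scheme.{u}} (φ : F ⟶ Spec (CommRingCat.of k)) {m : F' ⟶ F}
    {snd : F' ⟶ Spec (CommRingCat.of K)}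
    (hP : IsPullback m snd φ (Spec.map (CommRingCat.ofHom (algebraMap k K)))) (w' : F')
    (hN : IsNoetherianRing (F.presheaf.stalk (m w'))) :
    LocCoh.IsCohenMacaulayLocalRing (F'.presheaf.stalk w') ↔
      LocCoh.IsCohenMacaulayLocalRing (F.presheaf.stalk (m w')) := by
  letI := stalkAlg φ (m w')
  refine isCM_stalk_iff_of_isPullback φ hP w' hN ?_ ?_
  · exact Algebra.EssFiniteType.isNoetherianRing (F.presheaf.stalk (m w')) _
  · intro L _ _ _ _ hL
    have h1 := Groth.Agent.Lib.Helper56.isCM_tensor_of_essFiniteType k K L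
    exact Groth.Agent.Lib.Helper56.isCohenMacaulayRing_of_ringEquiv
      (Algebra.TensorProduct.comm k K L).toRingEquiv h1

theorem essFiniteType_residueField_map {A B : Type u} [CommRing A] [CommRing B] [IsLocalRing A]
    [IsLocalRing B] (ψ : A →+* B) [IsLocalHom ψ] (h : ψ.EssFiniteType) :
    (IsLocalRing.ResidueField.map ψ).EssFiniteType := by
  have h1 : (IsLocalRing.residue B).EssFiniteType :=
    (RingHom.FiniteType.of_surjective _ IsLocalRing.residue_surjective).essFiniteType
  have h2 : ((IsLocalRing.residue B).comp ψ).EssFiniteType := h.comp h1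
  have h3 : (IsLocalRing.residue B).comp ψ =
      (IsLocalRing.ResidueField.map ψ).comp (IsLocalRing.residue A) := by
    ext a
    rfl
  rw [h3] at h2
  algebraize [IsLocalRing.residue A, IsLocalRing.ResidueField.map ψ,
    (IsLocalRing.ResidueField.map ψ).comp (IsLocalRing.residue A)]
  exact Algebra.EssFiniteType.of_comp A (IsLocalRing.ResidueField A) (IsLocalRing.ResidueField B)

section Fibre

variable {X Y X' Y' : Scheme.{u}} {f : X ⟶ Y} {f' : X' ⟶ Y'} {g' : X' ⟶ X} {g : Y' ⟶ Y}

theorem essFiniteType_residueFieldMap (g : Y' ⟶ Y) [LocallyOfFiniteType g] (y' : Y') :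
    (g.residueFieldMap y').hom.EssFiniteType :=
  essFiniteType_residueField_map (g.stalkMap y').hom (LocallyOfFiniteType.stalkMap g y')

theorem isCM_fiber_stalk_iff_of_lft (hc : IsPullback g' f' f g) [LocallyOfFiniteType f] (y' : Y')
    (w' : f'.fiber y') :
    LocCoh.IsCohenMacaulayLocalRing ((f'.fiber y').presheaf.stalk w') ↔
      LocCoh.IsCohenMacaulayLocalRing
        ((f.fiber (g y')).presheaf.stalk (fiberMapOfIsPullback hc y' w')) := by
  letI algkK : Algebra ↑(Y.residueField (g y')) ↑(Y'.residueField y') :=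
    (g.residueFieldMap y').hom.toAlgebra
  have hP : IsPullback (fiberMapOfIsPullback hc y') (f'.fiberToSpecResidueField y')
      (f.fiberToSpecResidueField (g y'))
      (Spec.map (CommRingCat.ofHom (algebraMap ↑(Y.residueField (g y')) ↑(Y'.residueField y')))) :=
    isPullback_fiberMapOfIsPullback hc y'
  haveI : LocallyOfFiniteType (f.fiberToSpecResidueField (g y')) :=
    MorphismProperty.pullback_snd (P := @LocallyOfFiniteType) _ _ inferInstance
  exact isCM_stalk_iff_of_isPullback_of_lft (k := ↑(Y.residueField (g y')))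
    (K := ↑(Y'.residueField y')) (f.fiberToSpecResidueField (g y')) hP w'

theorem isCM_fiber_stalk_iff_of_lft_base (hc : IsPullback g' f' f g) [LocallyOfFiniteType g]
    (y' : Y') (w' : f'.fiber y')
    (hN : IsNoetherianRing ((f.fiber (g y')).presheaf.stalk (fiberMapOfIsPullback hc y' w'))) :
    LocCoh.IsCohenMacaulayLocalRing ((f'.fiber y').presheaf.stalk w') ↔
      LocCoh.IsCohenMacaulayLocalRing
        ((f.fiber (g y')).presheaf.stalk (fiberMapOfIsPullback hc y' w')) := by
  letI algkK : Algebra ↑(Y.residueField (g y')) ↑(Y'.residueField y') :=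
    (g.residueFieldMap y').hom.toAlgebra
  have hP : IsPullback (fiberMapOfIsPullback hc y') (f'.fiberToSpecResidueField y')
      (f.fiberToSpecResidueField (g y'))
      (Spec.map (CommRingCat.ofHom (algebraMap ↑(Y.residueField (g y')) ↑(Y'.residueField y')))) :=
    isPullback_fiberMapOfIsPullback hc y'
  haveI : Algebra.EssFiniteType ↑(Y.residueField (g y')) ↑(Y'.residueField y') :=
    essFiniteType_residueFieldMap g y'
  exact isCM_stalk_iff_of_isPullback_of_essFiniteType (k := ↑(Y.residueField (g y')))
    (K := ↑(Y'.residueField y')) (f.fiberToSpecResidueField (g y')) hP w' hN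

theorem fiberMapOfIsPullback_fiberι (hc : IsPullback g' f' f g) (y' : Y') (w' : f'.fiber y') :
    f.fiberι (g y') (fiberMapOfIsPullback hc y' w') = g' (f'.fiberι y' w') := by
  have hmι : fiberMapOfIsPullback hc y' ≫ f.fiberι (g y') = f'.fiberι y' ≫ g' :=
    pullback.lift_fst _ _ _
  have := congrArg (fun φ : f'.fiber y' ⟶ X => φ w') hmι
  simpa only [Scheme.Hom.comp_apply] using this

end Fibre

end Groth.Agent.Lib.Helper51
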