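import Mathlib
import Groth.Agent.Lib.Helper51.ClosedCoord
import Groth.Agent.Lib.Helper51.AffineSpaceChart

/-!
# Étale coordinates adapted to a closed immersion of smooth schemes (helper51)
-/

set_option autoImplicit false
universe u
open CategoryTheory CategoryTheory.Limits AlgebraicGeometry TopologicalSpace

namespace Groth.Agent.Lib.Helper51.ClosedCoordSch

open Groth.Agent.Lib.Helper51.AffineSpaceChart Groth.Agent.Lib.Helper51.ClosedCoord

/-- A commutative square with monomorphic legs `ι`, `ζ` is a pullback as soon as every compatible pair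
lifts through `ι`. -/
theorem isPullback_of_mono_of_exists_lift {C : Type*} [Category C] {Z U T' T : C} (ρ : Z ⟶ T')
    (ι : Z ⟶ U) (ζ : T' ⟶ T) (π : U ⟶ T) [Mono ι] [Mono ζ] (w : ρ ≫ ζ = ι ≫ π)
    (H : ∀ {W : C} (a : W ⟶ T') (b : W ⟶ U), a ≫ ζ = b ≫ π → ∃ c : W ⟶ Z, c ≫ ι = b) :
    IsPullback ρ ι ζ π := by
  refine ⟨⟨w⟩, ⟨PullbackCone.IsLimit.mk _
    (fun s => (H s.fst s.snd s.condition).choose) ?_ ?_ ?_⟩⟩
  · intro s
    have h := (H s.fst s.snd s.condition).choose_spec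
    rw [← cancel_mono ζ, Category.assoc, w, ← Category.assoc, h, s.condition]
  · intro s
    exact (H s.fst s.snd s.condition).choose_spec
  · intro s m _ h2
    have h := (H s.fst s.snd s.condition).choose_spec
    rw [← cancel_mono ι, h2, h]

section ZeroEmb

variable (S : Scheme.{u}) (m n : ℕ)

/-- The embedding `𝔸ᵐ ⟶ 𝔸ᵐ⁺ⁿ` onto the vanishing locus of the last `n` coordinates. -/
noncomputable abbrev zeroEmb : 𝔸(ULift.{u} (Fin m); S) ⟶ 𝔸(ULift.{u} (Fin m ⊕ Fin n); S) :=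
  AffineSpace.homOfVector (𝔸(ULift.{u} (Fin m); S) ↘ S)
    (fun j : ULift.{u} (Fin m ⊕ Fin n) =>
      Sum.elim (fun a => AffineSpace.coord S (ULift.up a)) (fun _ => 0) j.down)

lemma zeroEmb_comp_reindex :
    zeroEmb S m n ≫ AffineSpace.reindex
      (fun a : ULift.{u} (Fin m) => (ULift.up (Sum.inl a.down) : ULift.{u} (Fin m ⊕ Fin n))) S =
      𝟙 _ := by
  apply AffineSpace.hom_ext
  · rw [Category.assoc, AffineSpace.reindex_over, AffineSpace.homOfVector_over, Category.id_comp]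
  · intro j
    rw [Scheme.Hom.comp_appTop, CommRingCat.comp_apply, AffineSpace.reindex_appTop_coord,
      AffineSpace.homOfVector_appTop_coord]
    simp

instance mono_zeroEmb : Mono (zeroEmb S m n) :=
  mono_of_mono_fac (zeroEmb_comp_reindex S m n)

end ZeroEmb

section Main

variable {S X Y : Scheme.{u}}

lemma appLE_eq_of_eq (g h : Y ⟶ S) (hgh : g = h) (V : S.Opens) (W : Y.Opens) (e : W ≤ g ⁻¹ᵁ V)
    (e' : W ≤ h ⁻¹ᵁ V) : g.appLE V W e = h.appLE V W e' := by
  subst hgh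
  rfl

/-- **Étale coordinates adapted to a closed immersion of smooth `S`-schemes.** -/
theorem exists_adapted_chart (pX : X ⟶ S) (pY : Y ⟶ S) [Smooth pX] [Smooth pY]
    (i : Y ⟶ X) [IsClosedImmersion i] (w : i ≫ pX = pY) (y : Y) :
    ∃ (U : X.Opens) (m n : ℕ) (π : (U : Scheme.{u}) ⟶ 𝔸(ULift.{u} (Fin m ⊕ Fin n); S))
      (ρ : (↑(i ⁻¹ᵁ U) : Scheme.{u}) ⟶ 𝔸(ULift.{u} (Fin m); S)),
      i y ∈ U ∧ Etale π ∧ π ≫ (𝔸(ULift.{u} (Fin m ⊕ Fin n); S) ↘ S) = U.ι ≫ pX ∧
      IsPullback ρ (i ∣_ U)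
        (AffineSpace.homOfVector (𝔸(ULift.{u} (Fin m); S) ↘ S)
          (fun j : ULift.{u} (Fin m ⊕ Fin n) =>
            Sum.elim (fun a => AffineSpace.coord S (ULift.up a)) (fun _ => 0) j.down))
        π := by
  have hpY : ∀ z : Y, pY z = pX (i z) := fun z => by
    rw [← w]
    rfl
  -- charts
  obtain ⟨_, ⟨V, hV, rfl⟩, hxV, -⟩ :=
    S.isBasis_affineOpens.exists_subset_of_mem_open (Set.mem_univ (pX (i y))) isOpen_univ
  obtain ⟨_, ⟨U₀, hU₀, rfl⟩, hxU₀, hU₀V⟩ :=
    X.isBasis_affineOpens.exists_subset_of_mem_open (show i y ∈ pX ⁻¹ᵁ V from hxV) (pX ⁻¹ᵁ V).2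
  have e₀ : U₀ ≤ pX ⁻¹ᵁ V := hU₀V
  set Y₀ : Y.Opens := i ⁻¹ᵁ U₀ with hY₀def
  have hY₀ : IsAffineOpen Y₀ := hU₀.preimage i
  have eY : Y₀ ≤ pY ⁻¹ᵁ V := by
    intro z hz
    change pY z ∈ V
    rw [hpY]
    exact e₀ hz
  have hsmX := pX.smooth_appLE hV hU₀ e₀
  have hsmY := pY.smooth_appLE hV hY₀ eY
  have hfac : pX.appLE V U₀ e₀ ≫ i.app U₀ = pY.appLE V Y₀ eY := by
    rw [Scheme.Hom.app_eq_appLE, Scheme.Hom.appLE_comp_appLE]
    exact appLE_eq_of_eq _ _ w _ _ _ _
  algebraize [(pX.appLE V U₀ e₀).hom, (pY.appLE V Y₀ eY).hom]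
  let ι : Γ(X, U₀) →ₐ[Γ(S, V)] Γ(Y, Y₀) :=
    { (i.app U₀).hom with
      commutes' := fun r => by
        have := congrArg (fun φ => φ.hom r) hfac
        exact this }
  have hι : Function.Surjective ι := i.app_surjective U₀ hU₀
  let q : Ideal Γ(X, U₀) := (hU₀.primeIdealOf ⟨i y, hxU₀⟩).asIdeal
  have hq : RingHom.ker ι ≤ q := by
    have h1 := IsAffineOpen.comap_primeIdealOf_appLE (f := i) (x := y) U₀ hU₀ Y₀ hY₀ le_rfl hxU₀
    have h2 := congrArg PrimeSpectrum.asIdeal h1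
    intro b hb
    have hb0 : (i.appLE U₀ Y₀ le_rfl).hom b = 0 := by
      rw [← Scheme.Hom.app_eq_appLE]
      exact hb
    have h3 : b ∈ Ideal.comap (i.appLE U₀ Y₀ le_rfl).hom
        (hY₀.primeIdealOf ⟨y, hxU₀⟩).asIdeal := by
      rw [Ideal.mem_comap, hb0]
      exact Ideal.zero_mem _
    have h4 : b ∈ (PrimeSpectrum.comap (i.appLE U₀ Y₀ le_rfl).hom
        (hY₀.primeIdealOf ⟨y, hxU₀⟩)).asIdeal := h3
    rw [h2] at h4
    exact h4
  haveI : Algebra.IsSmoothAt Γ(S, V) q := inferInstanceAs (Algebra.IsSmoothAt _ _)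
  obtain ⟨m, n, f, g, hf, hg, hB'⟩ := exists_adapted_coordinates ι hι q hq
  set U : X.Opens := X.basicOpen f with hUdef
  have hU : IsAffineOpen U := hU₀.basicOpen f
  have hUU₀ : U ≤ U₀ := X.basicOpen_le f
  have hxU : i y ∈ U := by
    letI algBS : Algebra Γ(X, U₀) (X.presheaf.stalk (i y)) :=
      X.presheaf.algebra_section_stalk ⟨i y, hxU₀⟩
    have hloc : IsLocalization.AtPrime (X.presheaf.stalk (i y)) q :=
      hU₀.isLocalization_stalk ⟨i y, hxU₀⟩
    rw [hUdef, Scheme.mem_basicOpen X f (i y) hxU₀]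
    exact IsLocalization.map_units (X.presheaf.stalk (i y)) (⟨f, hf⟩ : q.primeCompl)
  have eU : U ≤ pX ⁻¹ᵁ V := hUU₀.trans e₀
  have hlocB : IsLocalization.Away f Γ(X, U) := hU₀.isLocalization_basicOpen f
  obtain ⟨ψ, hψe, hψC, hψX, hker⟩ := hB' Γ(X, U)
  have hψC' : ψ.comp MvPolynomial.C = (pX.appLE V U eU).hom := by
    rw [hψC, ← Scheme.Hom.appLE_map pX e₀ (homOfLE hUU₀).op]
    rfl
  set vπ := chartVector hU (ULift.{u} (Fin m ⊕ Fin n)) ψ with hvπ
  have hπe := etale_homOfVector_chart pX hU hV eU _ ψ hψC' hψe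
  have hvπr : ∀ j : Fin n, vπ (ULift.up (Sum.inr j)) =
      U.topIso.inv (X.presheaf.map (homOfLE hUU₀).op (g j)) := by
    intro j
    rw [hvπ, chartVector_eq, hψX]
    rfl
  have hres : (i ∣_ U).appTop =
      U.topIso.hom ≫ i.appLE U (i ⁻¹ᵁ U) le_rfl ≫ (i ⁻¹ᵁ U).topIso.inv := by
    rw [← Scheme.Hom.resLE_eq_morphismRestrict]
    exact Scheme.Hom.resLE_app_top i le_rfl
  have hgU : ∀ j : Fin n, i.appLE U (i ⁻¹ᵁ U) le_rfl (X.presheaf.map (homOfLE hUU₀).op (g j)) = 0 := by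
    intro j
    have hle : i ⁻¹ᵁ U ≤ Y₀ := fun z hz => hUU₀ hz
    have h1 : X.presheaf.map (homOfLE hUU₀).op ≫ i.appLE U (i ⁻¹ᵁ U) le_rfl =
        i.appLE U₀ Y₀ le_rfl ≫ Y.presheaf.map (homOfLE hle).op := by
      rw [Scheme.Hom.map_appLE, Scheme.Hom.appLE_map]
    have h2 := congrArg (fun φ => φ.hom (g j)) h1
    simp only [CommRingCat.hom_comp, RingHom.comp_apply] at h2
    rw [h2]
    have h3 : (i.appLE U₀ Y₀ le_rfl).hom (g j) = 0 := by
      rw [← Scheme.Hom.app_eq_appLE]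
      exact hg j
    rw [h3, map_zero]
  have hvan : ∀ j : Fin n, (i ∣_ U).appTop (vπ (ULift.up (Sum.inr j))) = 0 := by
    intro j
    rw [hvπr, hres, CommRingCat.comp_apply, CommRingCat.comp_apply]
    have h3 : U.topIso.hom (U.topIso.inv (X.presheaf.map (homOfLE hUU₀).op (g j))) =
        X.presheaf.map (homOfLE hUU₀).op (g j) :=
      congrArg (fun φ => φ.hom (X.presheaf.map (homOfLE hUU₀).op (g j))) U.topIso.inv_hom_id
    rw [h3, hgU, map_zero]
  set π := AffineSpace.homOfVector (U.ι ≫ pX) vπ with hπdef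
  let ρ : (↑(i ⁻¹ᵁ U) : Scheme.{u}) ⟶ 𝔸(ULift.{u} (Fin m); S) :=
    AffineSpace.homOfVector ((i ⁻¹ᵁ U).ι ≫ pY)
      (fun k : ULift.{u} (Fin m) => (i ∣_ U).appTop (vπ (ULift.up (Sum.inl k.down))))
  refine ⟨U, m, n, π, ρ, hxU, hπe, AffineSpace.homOfVector_over _ _, ?_⟩
  -- commutativity
  have hw : ρ ≫ zeroEmb S m n = (i ∣_ U) ≫ π := by
    apply AffineSpace.hom_ext
    · rw [Category.assoc, AffineSpace.homOfVector_over, AffineSpace.homOfVector_over,
        Category.assoc, AffineSpace.homOfVector_over, ← Category.assoc, morphismRestrict_ι,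
        Category.assoc, w]
    · rintro ⟨k | j⟩
      · rw [Scheme.Hom.comp_appTop, CommRingCat.comp_apply, AffineSpace.homOfVector_appTop_coord,
          Scheme.Hom.comp_appTop, CommRingCat.comp_apply, AffineSpace.homOfVector_appTop_coord]
        change ρ.appTop (AffineSpace.coord S (ULift.up k)) = _
        rw [AffineSpace.homOfVector_appTop_coord]
      · rw [Scheme.Hom.comp_appTop, CommRingCat.comp_apply, AffineSpace.homOfVector_appTop_coord,
          Scheme.Hom.comp_appTop, CommRingCat.comp_apply, AffineSpace.homOfVector_appTop_coord,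
          hvan]
        change ρ.appTop 0 = 0
        rw [map_zero]
  haveI : IsAffine U.toScheme := hU
  apply isPullback_of_mono_of_exists_lift ρ (i ∣_ U) (zeroEmb S m n) π hw
  intro W a b hab
  have hbv : ∀ j : Fin n, b.appTop (vπ (ULift.up (Sum.inr j))) = 0 := by
    intro j
    have h1 : b.appTop (vπ (ULift.up (Sum.inr j))) =
        (b ≫ π).appTop (AffineSpace.coord S (ULift.up (Sum.inr j))) := by
      rw [Scheme.Hom.comp_appTop, CommRingCat.comp_apply, AffineSpace.homOfVector_appTop_coord]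
    rw [h1, ← hab, Scheme.Hom.comp_appTop, CommRingCat.comp_apply,
      AffineSpace.homOfVector_appTop_coord]
    change a.appTop 0 = 0
    rw [map_zero]
  have hK : RingHom.ker (i ∣_ U).appTop.hom ≤ RingHom.ker b.appTop.hom := by
    intro t ht
    rw [RingHom.mem_ker] at ht ⊢
    -- `τ t ∈ ker (i.app U) = span (res g)`
    have h1 : i.appLE U (i ⁻¹ᵁ U) le_rfl (U.topIso.hom t) = 0 := by
      have h2 : (i ⁻¹ᵁ U).topIso.inv (i.appLE U (i ⁻¹ᵁ U) le_rfl (U.topIso.hom t)) = 0 := by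
        have := ht
        rw [hres] at this
        exact this
      have hinj : Function.Injective (i ⁻¹ᵁ U).topIso.inv :=
        (ConcreteCategory.bijective_of_isIso (i ⁻¹ᵁ U).topIso.inv).1
      exact hinj (by rw [h2, map_zero])
    have h3 : U.topIso.hom t ∈ RingHom.ker (i.app U).hom := by
      rw [RingHom.mem_ker, Scheme.Hom.app_eq_appLE]
      exact h1
    have h4 : RingHom.ker (i.app U).hom =
        Ideal.span (Set.range fun j : Fin n => X.presheaf.map (homOfLE hUU₀).op (g j)) := by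
      have h5 := i.ker.map_ideal_basicOpen ⟨U₀, hU₀⟩ f
      rw [Scheme.Hom.ker_apply, Scheme.Hom.ker_apply] at h5
      exact h5.symm.trans hker
    rw [h4] at h3
    have h7 : t = U.topIso.inv (U.topIso.hom t) :=
      (congrArg (fun φ => φ.hom t) U.topIso.hom_inv_id).symm
    rw [h7]
    have h8 : ∀ s ∈ Ideal.span (Set.range fun j : Fin n =>
        X.presheaf.map (homOfLE hUU₀).op (g j)), b.appTop (U.topIso.inv s) = 0 := by
      intro s hs
      induction hs using Submodule.span_induction with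
      | mem x hx =>
        obtain ⟨j, rfl⟩ := hx
        rw [← hvπr]
        exact hbv j
      | zero => rw [map_zero, map_zero]
      | add x y _ _ hx hy => rw [map_add, map_add, hx, hy, add_zero]
      | smul c x _ hx => rw [smul_eq_mul, map_mul, map_mul, hx, mul_zero]
    exact h8 _ h3
  have hle : (i ∣_ U).ker ≤ b.ker := by
    rw [Scheme.ker_of_isAffine (i ∣_ U), Scheme.ker_of_isAffine b]
    exact (Scheme.IdealSheafData.equivOfIsAffine (X := U.toScheme)).symm.toOrderIso.monotone hK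
  exact ⟨IsClosedImmersion.lift (i ∣_ U) b hle, IsClosedImmersion.lift_fac _ _ _⟩

end Main

end Groth.Agent.Lib.Helper51.ClosedCoordSch
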