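import Mathlib
import Groth.Agent.Lib.Helper51.CommonPoint

/-!
# Common points of two base changes, with a small field (helper51)

`exists_common_point_fg`: as `exists_common_point_aux`, but the field `E` is generated over `Ω` by the
image of `K`; in particular it is a finitely generated extension of `Ω` when `K/k` is
(`fg_top_of_adjoin_range_eq_top`).
-/

set_option autoImplicit false
universe u
open CategoryTheory CategoryTheory.Limits AlgebraicGeometry TensorProduct

namespace Groth.Agent.Lib.Helper51

theorem adjoin_preimage_val_eq_top {F E₀ : Type*} [Field F] [Field E₀] [Algebra F E₀] (S : Set E₀) :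
    IntermediateField.adjoin F
      (((↑) : IntermediateField.adjoin F S → E₀) ⁻¹' S) = ⊤ := by
  apply IntermediateField.map_injective (IntermediateField.adjoin F S).val
  rw [IntermediateField.adjoin_map]
  have h1 : (IntermediateField.adjoin F S).val '' (((↑) : IntermediateField.adjoin F S → E₀) ⁻¹' S) = S := by
    ext y
    constructor
    · rintro ⟨x, hx, rfl⟩
      exact hx
    · intro hy
      exact ⟨⟨y, IntermediateField.subset_adjoin F S hy⟩, hy, rfl⟩
  rw [h1, ← AlgHom.fieldRange_eq_map, IntermediateField.fieldRange_val]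

theorem fg_top_of_adjoin_range_eq_top {k K Ω E : Type*} [Field k] [Field K] [Field Ω] [Field E]
    [Algebra k K] [Algebra k Ω] [Algebra Ω E] (φ : K →+* E)
    (hφ : φ.comp (algebraMap k K) = (algebraMap Ω E).comp (algebraMap k Ω))
    (hgen : IntermediateField.adjoin Ω (Set.range φ) = ⊤)
    (hfg : (⊤ : IntermediateField k K).FG) : (⊤ : IntermediateField Ω E).FG := by
  classical
  obtain ⟨T, hT⟩ := hfg
  refine ⟨T.image φ, ?_⟩
  rw [eq_top_iff, ← hgen, IntermediateField.adjoin_le_iff]
  rintro _ ⟨x, rfl⟩
  have hx : x ∈ IntermediateField.adjoin k (T : Set K) := by rw [hT]; trivial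
  induction hx using IntermediateField.adjoin_induction with
  | mem z hz =>
    exact IntermediateField.subset_adjoin _ _ (Finset.mem_coe.mpr (Finset.mem_image_of_mem _ hz))
  | algebraMap c =>
    have : φ (algebraMap k K c) = algebraMap Ω E (algebraMap k Ω c) := RingHom.congr_fun hφ c
    rw [SetLike.mem_coe, this]
    exact IntermediateField.algebraMap_mem _ _
  | add z w hz hw h1 h2 => rw [map_add]; exact add_mem h1 h2
  | inv z hz h1 => rw [map_inv₀]; exact inv_mem h1
  | mul z w hz hw h1 h2 => rw [map_mul]; exact mul_mem h1 h2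

/-- Two points of base changes `X_K`, `X_Ω` over the same point of `X` are dominated by a common point
of a base change `(X_Ω)_E`, which maps flatly to `X_K`, where `E` is generated over `Ω` by the image of
`K`. -/
theorem exists_common_point_fg {K Ω : Type u} [Field K] [Field Ω]
    {X S : Scheme.{u}} (f : X ⟶ S) (gK : Spec (CommRingCat.of K) ⟶ S) (gΩ : Spec (CommRingCat.of Ω) ⟶ S)
    (z : ↥(pullback f gK)) (x' : ↥(pullback f gΩ))
    (h : pullback.fst f gK z = pullback.fst f gΩ x') :
    ∃ (E : Type u) (_ : Field E) (_ : Algebra Ω E) (φ : K →+* E)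
      (a : pullback (pullback.snd f gΩ) (Spec.map (CommRingCat.ofHom (algebraMap Ω E))) ⟶
        pullback f gK)
      (t : ↥(pullback (pullback.snd f gΩ) (Spec.map (CommRingCat.ofHom (algebraMap Ω E))))),
      Flat a ∧ a t = z ∧
      (pullback.fst (pullback.snd f gΩ) (Spec.map (CommRingCat.ofHom (algebraMap Ω E)))) t = x' ∧
      Spec.map (CommRingCat.ofHom (algebraMap Ω E)) ≫ gΩ = Spec.map (CommRingCat.ofHom φ) ≫ gK ∧
      IntermediateField.adjoin Ω (Set.range φ) = ⊤ := by
  -- a point of the fibre product over `X`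
  obtain ⟨p, hp1, hp2⟩ := Scheme.Pullback.exists_preimage_pullback
    (f := pullback.fst f gK) (g := pullback.fst f gΩ) z x' h
  let P := pullback (pullback.fst f gK) (pullback.fst f gΩ)
  let E₀ := P.residueField p
  let ι : Spec E₀ ⟶ P := P.fromSpecResidueField p
  let uK : Spec E₀ ⟶ pullback f gK := ι ≫ pullback.fst _ _
  let uΩ : Spec E₀ ⟶ pullback f gΩ := ι ≫ pullback.snd _ _
  obtain ⟨β', hβ'⟩ := Spec.map_surjective (uΩ ≫ pullback.snd f gΩ)
  obtain ⟨α', hα'⟩ := Spec.map_surjective (uK ≫ pullback.snd f gK)
  letI algΩE₀ : Algebra Ω E₀ := β'.hom.toAlgebra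
  let E : IntermediateField Ω E₀ := IntermediateField.adjoin Ω (Set.range α'.hom)
  let φ : K →+* E := α'.hom.codRestrict E.toSubalgebra.toSubring
    (fun x => IntermediateField.subset_adjoin Ω _ ⟨x, rfl⟩)
  let j : Spec E₀ ⟶ Spec (CommRingCat.of E) := Spec.map (CommRingCat.ofHom (algebraMap E E₀))
  let sβ : Spec (CommRingCat.of E) ⟶ Spec (CommRingCat.of Ω) :=
    Spec.map (CommRingCat.ofHom (algebraMap Ω E))
  let sα : Spec (CommRingCat.of E) ⟶ Spec (CommRingCat.of K) := Spec.map (CommRingCat.ofHom φ)
  have hjβ : j ≫ sβ = uΩ ≫ pullback.snd f gΩ := by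
    rw [← hβ']
    simp only [j, sβ]
    rw [← Spec.map_comp]
    rfl
  have hjα : j ≫ sα = uK ≫ pullback.snd f gK := by
    rw [← hα']
    simp only [j, sα]
    rw [← Spec.map_comp]
    rfl
  haveI : Flat j := inferInstance
  haveI : Surjective j := by
    refine ⟨fun y => ⟨IsLocalRing.closedPoint E₀, Subsingleton.elim _ _⟩⟩
  haveI : Epi j := Flat.epi_of_flat_of_surjective j
  have hcomp : sβ ≫ gΩ = sα ≫ gK := by
    rw [← cancel_epi j, ← Category.assoc, ← Category.assoc, hjβ, hjα]
    simp only [uΩ, uK, Category.assoc]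
    rw [← pullback.condition, ← pullback.condition, ← Category.assoc ι, ← Category.assoc ι,
      Category.assoc, Category.assoc]
    congr 1
    rw [← Category.assoc, ← Category.assoc, pullback.condition]
  let Y := pullback (pullback.snd f gΩ) sβ
  let b : Y ⟶ pullback f gΩ := pullback.fst _ _
  let s : Y ⟶ Spec (CommRingCat.of E) := pullback.snd _ _
  have s1 : IsPullback b s (pullback.snd f gΩ) sβ := IsPullback.of_hasPullback _ _
  have hW : IsPullback (pullback.fst f gΩ) (pullback.snd f gΩ) f gΩ := IsPullback.of_hasPullback _ _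
  have big := s1.paste_horiz hW
  rw [hcomp] at big
  have sq : IsPullback (pullback.fst f gK) (pullback.snd f gK) f gK := IsPullback.of_hasPullback _ _
  let a : Y ⟶ pullback f gK :=
    sq.lift (b ≫ pullback.fst f gΩ) (s ≫ sα) (by have := big.w; simp only [Category.assoc] at this ⊢; exact this)
  have hl1 : a ≫ pullback.fst f gK = b ≫ pullback.fst f gΩ := sq.lift_fst _ _ _
  have hl2 : a ≫ pullback.snd f gK = s ≫ sα := sq.lift_snd _ _ _
  rw [← hl1] at big
  have left := IsPullback.of_right big hl2 sq
  have hfα : Flat sα := inferInstance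
  have hfa : Flat a := MorphismProperty.of_isPullback left.flip hfα
  -- the section
  let sec : Spec E₀ ⟶ Y := pullback.lift uΩ j hjβ.symm
  have hsec1 : sec ≫ b = uΩ := pullback.lift_fst _ _ _
  have hsec2 : sec ≫ s = j := pullback.lift_snd _ _ _
  have hsec3 : sec ≫ a = uK := by
    apply pullback.hom_ext
    · rw [Category.assoc, hl1, ← Category.assoc, hsec1]
      simp only [uΩ, uK, Category.assoc]
      rw [pullback.condition]
    · rw [Category.assoc, hl2, ← Category.assoc, hsec2]
      exact hjα
  let pt : Spec E₀ := IsLocalRing.closedPoint E₀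
  refine ⟨E, inferInstance, inferInstance, φ, a, sec pt, hfa, ?_, ?_, hcomp, ?_⟩
  · rw [← Scheme.Hom.comp_apply, hsec3]
    simp only [uK, Scheme.Hom.comp_apply]
    rw [show ι pt = p from P.fromSpecResidueField_apply p pt]
    exact hp1
  · have : (pullback.fst (pullback.snd f gΩ) (Spec.map (CommRingCat.ofHom (algebraMap Ω E)))) (sec pt) =
        (sec ≫ b) pt := by
      rw [Scheme.Hom.comp_apply]
    rw [this, hsec1]
    simp only [uΩ, Scheme.Hom.comp_apply]
    rw [show ι pt = p from P.fromSpecResidueField_apply p pt]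
    exact hp2
  · have h1 := adjoin_preimage_val_eq_top (F := Ω) (Set.range α'.hom)
    have h2 : (((↑) : IntermediateField.adjoin Ω (Set.range α'.hom) → E₀) ⁻¹' (Set.range α'.hom)) =
        Set.range φ := by
      ext y
      constructor
      · rintro ⟨x, hx⟩
        exact ⟨x, Subtype.ext hx⟩
      · rintro ⟨x, rfl⟩
        exact ⟨x, rfl⟩
    rw [h2] at h1
    exact h1

end Groth.Agent.Lib.Helper51
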