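import Mathlib

/-!
# Generic smoothness in characteristic zero with relative dimension = transcendence degree
-/

set_option autoImplicit false
set_option linter.style.haveILetI false
universe u

namespace Groth.Agent.Lib.Helper51.GenericSmooth

open CategoryTheory AlgebraicGeometry

section Algebra

/-- An étale algebra over a domain is algebraic. -/
theorem isAlgebraic_of_etale (P B : Type u) [CommRing P] [CommRing B] [IsDomain P]
    [Algebra P B] [Algebra.Etale P B] : Algebra.IsAlgebraic P B := by
  let E := FractionRing P
  have : Algebra.QuasiFinite P B := inferInstance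
  have : Algebra.QuasiFinite E (TensorProduct P E B) := inferInstance
  have : Module.Finite E (TensorProduct P E B) := Module.Finite.of_quasiFinite
  have h1 : Algebra.IsAlgebraic E (TensorProduct P E B) := inferInstance
  have h2 : Algebra.IsAlgebraic P (TensorProduct P E B) :=
    (IsFractionRing.comap_isAlgebraic_iff (A := P) (K := E)).mpr h1
  have : Module.Flat P B := inferInstance
  exact Algebra.IsAlgebraic.of_injective
    (Algebra.TensorProduct.includeRight : B →ₐ[P] TensorProduct P E B)
    (Algebra.TensorProduct.includeRight_injective (IsFractionRing.injective P E))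

/-- A standard smooth algebra of relative dimension `m` between domains has transcendence
degree `m`. -/
theorem trdeg_eq_of_isStandardSmoothOfRelativeDimension (A B : Type u) [CommRing A] [CommRing B]
    [IsDomain A] [IsDomain B] [Algebra A B] (m : ℕ)
    [Algebra.IsStandardSmoothOfRelativeDimension m A B] :
    Algebra.trdeg A B = m := by
  obtain ⟨g, hg⟩ := Algebra.IsStandardSmoothOfRelativeDimension.exists_etale_mvPolynomial m A B
  algebraize [g.toRingHom]
  have : IsScalarTower A (MvPolynomial (Fin m) A) B := .of_algebraMap_eq' g.comp_algebraMap.symm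
  have : Algebra.Etale (MvPolynomial (Fin m) A) B := hg
  have : Algebra.IsAlgebraic (MvPolynomial (Fin m) A) B := isAlgebraic_of_etale _ B
  have : Module.Flat (MvPolynomial (Fin m) A) B := inferInstance
  have : FaithfulSMul (MvPolynomial (Fin m) A) B := inferInstance
  have := trdeg_add_eq A (MvPolynomial (Fin m) A) (A := B)
  rw [MvPolynomial.trdeg_of_isDomain, _root_.trdeg_eq_zero] at this
  simpa using this.symm

/-- Transcendence degree is insensitive to passing to algebraic overrings on both sides. -/
theorem trdeg_eq_trdeg (A B K L : Type u) [CommRing A] [CommRing B] [IsDomain A] [IsDomain B]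
    [Algebra A B] [FaithfulSMul A B] [CommRing K] [CommRing L] [IsDomain K] [IsDomain L]
    [Algebra A K] [Algebra K L] [Algebra B L] [Algebra A L] [IsScalarTower A K L]
    [IsScalarTower A B L] [Algebra.IsAlgebraic A K] [Algebra.IsAlgebraic B L]
    [FaithfulSMul A K] [FaithfulSMul K L] [FaithfulSMul B L] :
    Algebra.trdeg A B = Algebra.trdeg K L := by
  have h1 := trdeg_add_eq A K (A := L)
  have h2 := trdeg_add_eq A B (A := L)
  rw [_root_.trdeg_eq_zero (R := A) (A := K), zero_add] at h1
  rw [_root_.trdeg_eq_zero (R := B) (A := L), add_zero] at h2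
  rw [h1, ← h2]

/-- A smooth algebra which is a domain is standard smooth of some relative dimension on a
nonempty basic open. -/
theorem exists_isStandardSmoothOfRelativeDimension_away (A B : Type u) [CommRing A] [CommRing B]
    [IsDomain B] [Algebra A B] [Algebra.Smooth A B] :
    ∃ g : B, g ≠ 0 ∧ ∃ m : ℕ,
      Algebra.IsStandardSmoothOfRelativeDimension m A (Localization.Away g) := by
  have : (⊥ : Ideal B).IsPrime := Ideal.isPrime_bot
  obtain ⟨g, hg, hstd⟩ := Algebra.IsSmoothAt.exists_notMem_isStandardSmooth A (⊥ : Ideal B)
  refine ⟨g, by simpa using hg, ?_⟩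
  obtain ⟨ι, σ, _, _, ⟨P⟩⟩ := hstd
  exact ⟨P.dimension, ⟨_, _, _, ‹_›, ⟨P, rfl⟩⟩⟩

end Algebra

section Scheme

variable {X Y : Scheme.{u}}

/-- The stalk map at the generic point is formally smooth in characteristic zero. -/
theorem formallySmooth_stalkMap_genericPoint [IsIntegral X] [IsIntegral Y]
    (π : X ⟶ Y) [LocallyOfFiniteType π]
    (hdom : π.base (genericPoint X) = genericPoint Y) [CharZero Y.functionField] :
    (π.stalkMap (genericPoint X)).hom.FormallySmooth := by
  have hF : IsField (Y.presheaf.stalk (π.base (genericPoint X))) := by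
    rw [hdom]; exact Field.toIsField Y.functionField
  have hC : CharZero (Y.presheaf.stalk (π.base (genericPoint X))) := by
    rw [hdom]; exact ‹CharZero Y.functionField›
  have := LocallyOfFiniteType.stalkMap π (genericPoint X)
  algebraize [(π.stalkMap (genericPoint X)).hom]
  let : Field (Y.presheaf.stalk (π.base (genericPoint X))) := hF.toField
  let : Field (X.presheaf.stalk (genericPoint X)) := inferInstanceAs (Field X.functionField)
  have : PerfectField (Y.presheaf.stalk (π.base (genericPoint X))) := inferInstance
  exact Algebra.FormallySmooth.of_perfectField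

/-- The transcendence degree of an affine chart through the generic points agrees with the
transcendence degree of the function field over the stalk at the image of the generic point. -/
theorem trdeg_appLE_eq [IsIntegral X] [IsIntegral Y] (π : X ⟶ Y)
    (hdom : π.base (genericPoint X) = genericPoint Y)
    (U : Y.Opens) (hU : IsAffineOpen U) (V : X.Opens) (hV : IsAffineOpen V) (hVU : V ≤ π ⁻¹ᵁ U)
    (hxV : genericPoint X ∈ V) :
    @Algebra.trdeg Γ(Y, U) Γ(X, V) _ _ (π.appLE U V hVU).hom.toAlgebra =
      @Algebra.trdeg (Y.presheaf.stalk (π.base (genericPoint X))) X.functionField _ _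
        (π.stalkMap (genericPoint X)).hom.toAlgebra := by
  have hF : IsField (Y.presheaf.stalk (π.base (genericPoint X))) := by
    rw [hdom]; exact Field.toIsField Y.functionField
  haveI : Nonempty U := ⟨⟨π.base (genericPoint X), hVU hxV⟩⟩
  haveI : Nonempty V := ⟨⟨genericPoint X, hxV⟩⟩
  letI : Algebra Γ(Y, U) Γ(X, V) := (π.appLE U V hVU).hom.toAlgebra
  letI : Algebra Γ(Y, U) (Y.presheaf.stalk (π.base (genericPoint X))) :=
    Y.presheaf.algebra_section_stalk ⟨π.base (genericPoint X), hVU hxV⟩
  letI : Algebra (Y.presheaf.stalk (π.base (genericPoint X))) X.functionField :=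
    (π.stalkMap (genericPoint X)).hom.toAlgebra
  letI : Algebra Γ(Y, U) X.functionField :=
    ((algebraMap (Y.presheaf.stalk (π.base (genericPoint X))) X.functionField).comp
      (algebraMap Γ(Y, U) (Y.presheaf.stalk (π.base (genericPoint X))))).toAlgebra
  haveI : IsScalarTower Γ(Y, U) (Y.presheaf.stalk (π.base (genericPoint X))) X.functionField :=
    IsScalarTower.of_algebraMap_eq' rfl
  have hsq : Y.presheaf.germ U (π.base (genericPoint X)) (hVU hxV) ≫ π.stalkMap (genericPoint X) =
      π.appLE U V hVU ≫ X.presheaf.germ V (genericPoint X) hxV := by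
    have := Scheme.Hom.germ_stalkMap π U (genericPoint X) (hVU hxV)
    rw [Scheme.Hom.appLE, Category.assoc, X.presheaf.germ_res]
    exact this
  haveI : IsScalarTower Γ(Y, U) Γ(X, V) X.functionField := by
    refine IsScalarTower.of_algebraMap_eq' ?_
    exact congrArg CommRingCat.Hom.hom hsq
  haveI := hU.isLocalization_stalk ⟨π.base (genericPoint X), hVU hxV⟩
  haveI : Algebra.IsAlgebraic Γ(Y, U) (Y.presheaf.stalk (π.base (genericPoint X))) :=
    IsLocalization.isAlgebraic _ (hU.primeIdealOf ⟨π.base (genericPoint X), hVU hxV⟩).asIdeal.primeCompl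
  haveI := functionField_isFractionRing_of_isAffineOpen X V hV
  haveI : Algebra.IsAlgebraic Γ(X, V) X.functionField :=
    IsLocalization.isAlgebraic _ (nonZeroDivisors Γ(X, V))
  haveI : FaithfulSMul Γ(Y, U) (Y.presheaf.stalk (π.base (genericPoint X))) :=
    (faithfulSMul_iff_algebraMap_injective _ _).mpr (germ_injective_of_isIntegral Y _ _)
  haveI : FaithfulSMul (Y.presheaf.stalk (π.base (genericPoint X))) X.functionField := by
    letI : Field (Y.presheaf.stalk (π.base (genericPoint X))) := hF.toField
    exact (faithfulSMul_iff_algebraMap_injective _ _).mpr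
      (algebraMap (Y.presheaf.stalk (π.base (genericPoint X))) X.functionField).injective
  haveI : FaithfulSMul Γ(X, V) X.functionField :=
    (faithfulSMul_iff_algebraMap_injective _ _).mpr (IsFractionRing.injective _ _)
  haveI : FaithfulSMul Γ(Y, U) Γ(X, V) := by
    rw [faithfulSMul_iff_algebraMap_injective]
    have h1 : Function.Injective (algebraMap Γ(Y, U) X.functionField) := by
      rw [IsScalarTower.algebraMap_eq Γ(Y, U) (Y.presheaf.stalk (π.base (genericPoint X)))
        X.functionField]
      exact (FaithfulSMul.algebraMap_injective (Y.presheaf.stalk (π.base (genericPoint X)))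
        X.functionField).comp (FaithfulSMul.algebraMap_injective Γ(Y, U)
          (Y.presheaf.stalk (π.base (genericPoint X))))
    rw [IsScalarTower.algebraMap_eq Γ(Y, U) Γ(X, V) X.functionField] at h1
    exact Function.Injective.of_comp h1
  exact trdeg_eq_trdeg Γ(Y, U) Γ(X, V) (Y.presheaf.stalk (π.base (genericPoint X)))
    X.functionField

/-- A standard smooth chart of relative dimension `n` on affine opens gives a smooth morphism of
relative dimension `n` out of the source open. -/
theorem smoothOfRelativeDimension_of_appLE (π : X ⟶ Y) (n : ℕ) (U : Y.Opens)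
    (hU : IsAffineOpen U) (V : X.Opens) (hV : IsAffineOpen V) (hVU : V ≤ π ⁻¹ᵁ U)
    (h : (π.appLE U V hVU).hom.IsStandardSmoothOfRelativeDimension n) :
    SmoothOfRelativeDimension n (V.ι ≫ π) := by
  have : IsAffine U := hU
  have : IsAffine V := hV
  have h1 : SmoothOfRelativeDimension n (π.resLE U V hVU) := by
    rw [HasRingHomProperty.iff_of_isAffine (P := @SmoothOfRelativeDimension n)]
    refine RingHom.locally_of RingHom.isStandardSmoothOfRelativeDimension_respectsIso _ ?_
    exact (RingHom.isStandardSmoothOfRelativeDimension_respectsIso.arrow_mk_iso_iff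
      (arrowResLEAppIso π U V hVU)).mpr h
  have := smoothOfRelativeDimension_comp n 0 (π.resLE U V hVU) U.ι
  rw [Scheme.Hom.resLE_comp_ι, add_zero] at this
  exact this

/-- Generic smoothness in characteristic zero, with relative dimension the transcendence degree
of the function field extension. -/
theorem exists_open_smoothOfRelativeDimension_trdeg [IsIntegral X] [IsIntegral Y]
    [IsLocallyNoetherian Y] (π : X ⟶ Y) [LocallyOfFiniteType π]
    (hdom : π.base (genericPoint X) = genericPoint Y) [CharZero Y.functionField]
    (n : ℕ) (hn : @Algebra.trdeg (Y.presheaf.stalk (π.base (genericPoint X))) X.functionField _ _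
      (π.stalkMap (genericPoint X)).hom.toAlgebra = n) :
    ∃ U : X.Opens, (U : Set X).Nonempty ∧ SmoothOfRelativeDimension n (U.ι ≫ π) := by
  have hsm := formallySmooth_stalkMap_genericPoint π hdom
  obtain ⟨U, hU, V, hV, hVU, hxV, H⟩ := exists_smooth_of_formallySmooth_stalk π _ hsm
  haveI : Nonempty V := ⟨⟨genericPoint X, hxV⟩⟩
  haveI : Nonempty U := ⟨⟨π.base (genericPoint X), hVU hxV⟩⟩
  algebraize [(π.appLE U V hVU).hom]
  obtain ⟨g, hg, m, hm⟩ := exists_isStandardSmoothOfRelativeDimension_away Γ(Y, U) Γ(X, V)
  have hV' := hV.basicOpen g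
  have hη' : genericPoint X ∈ X.basicOpen g := by
    rw [← SetLike.mem_coe, (genericPoint_spec X).mem_open_set_iff (X.basicOpen g).isOpen,
      Set.univ_inter, Set.nonempty_iff_ne_empty]
    intro h
    apply hg
    rw [← basicOpen_eq_bot_iff]
    exact TopologicalSpace.Opens.ext h
  have hle : X.basicOpen g ≤ π ⁻¹ᵁ U := (X.basicOpen_le g).trans hVU
  have hstd : (π.appLE U (X.basicOpen g) hle).hom.IsStandardSmoothOfRelativeDimension m := by
    have := hV.isLocalization_basicOpen g
    rw [← RingHom.isStandardSmoothOfRelativeDimension_algebraMap] at hm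
    convert!
      RingHom.isStandardSmoothOfRelativeDimension_respectsIso.1 _
        (IsLocalization.algEquiv (.powers g) _ Γ(X, X.basicOpen g)).toRingEquiv hm
    ext
    dsimp
    rw [IsScalarTower.algebraMap_apply Γ(Y, U) Γ(X, V) (Localization.Away g), AlgEquiv.commutes]
    simp only [RingHom.algebraMap_toAlgebra, ← CommRingCat.comp_apply, Scheme.Hom.appLE_map]
  have hmn : m = n := by
    have h1 := trdeg_appLE_eq π hdom U hU (X.basicOpen g) hV' hle hη'
    rw [hn] at h1
    letI := (π.appLE U (X.basicOpen g) hle).hom.toAlgebra
    haveI : Algebra.IsStandardSmoothOfRelativeDimension m Γ(Y, U) Γ(X, X.basicOpen g) := hstd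
    haveI : Nonempty (X.basicOpen g) := ⟨⟨genericPoint X, hη'⟩⟩
    have h2 := trdeg_eq_of_isStandardSmoothOfRelativeDimension Γ(Y, U) Γ(X, X.basicOpen g) m
    exact_mod_cast h2.symm.trans h1
  subst hmn
  exact ⟨X.basicOpen g, ⟨genericPoint X, hη'⟩,
    smoothOfRelativeDimension_of_appLE π m U hU (X.basicOpen g) hV' hle hstd⟩

end Scheme

end Groth.Agent.Lib.Helper51.GenericSmooth
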