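import Mathlib
import Groth.Agent.Lib.Helper51.CotangentDominant
import Groth.Agent.Lib.Helper51.GenericSmooth
import Groth.Agent.Lib.Helper51.SmoothStalk

/-!
# Dominance and cotangent maps at regular closed points (char 0, algebraically closed)
-/

set_option autoImplicit false
set_option linter.style.haveILetI false
universe u

namespace Groth.Agent.Lib.Helper51.CotangentDominantSch

open CategoryTheory AlgebraicGeometry IsLocalRing

variable {K : Type u} [Field K] {X Y : Scheme.{u}}

/-- The structure map `K → 𝒪_{X,x}` of a `K`-scheme. -/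
noncomputable def stalkStr (f : X ⟶ Spec (.of K)) (x : X) :
    CommRingCat.of K ⟶ X.presheaf.stalk x :=
  Spec.preimage (X.fromSpecStalk x ≫ f)

theorem stalkStr_comp (u : X ⟶ Y) (sY : Y ⟶ Spec (.of K)) (x : X) :
    stalkStr (u ≫ sY) x = stalkStr sY (u x) ≫ u.stalkMap x := by
  apply Spec.map_injective
  simp only [stalkStr, Spec.map_preimage, Spec.map_comp]
  rw [Scheme.SpecMap_stalkMap_fromSpecStalk_assoc]

theorem exists_sub_mem_maximalIdeal [IsAlgClosed K] (f : X ⟶ Spec (.of K)) [LocallyOfFiniteType f]
    (x : X) (hx : IsClosed ({x} : Set X)) (b : X.presheaf.stalk x) :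
    ∃ c : K, b - (stalkStr f x).hom c ∈ maximalIdeal (X.presheaf.stalk x) := by
  have h : stalkStr f x ≫ X.residue x = (residueFieldIsoBase f x hx).inv := by
    apply Spec.map_injective
    rw [Spec.map_comp, SpecMap_residueFieldIsoBase_inv, stalkStr, Spec.map_preimage]
    rfl
  have hbij : Function.Bijective (residueFieldIsoBase f x hx).inv :=
    ConcreteCategory.bijective_of_isIso _
  obtain ⟨c, hc⟩ := hbij.2 (X.residue x b)
  refine ⟨c, ?_⟩
  rw [← h] at hc
  have h2 : X.residue x (b - (stalkStr f x).hom c) = 0 := by
    rw [map_sub, sub_eq_zero]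
    exact hc.symm
  exact (residue_eq_zero_iff _).mp h2

theorem exists_stalkMap_sub_mem [IsAlgClosed K] (sX : X ⟶ Spec (.of K)) (sY : Y ⟶ Spec (.of K))
    [LocallyOfFiniteType sX] (u : X ⟶ Y) (hu : u ≫ sY = sX) (P : X)
    (hP : IsClosed ({P} : Set X)) (b : X.presheaf.stalk P) :
    ∃ a : Y.presheaf.stalk (u P), b - (u.stalkMap P).hom a ∈ maximalIdeal (X.presheaf.stalk P) := by
  obtain ⟨c, hc⟩ := exists_sub_mem_maximalIdeal sX P hP b
  refine ⟨(stalkStr sY (u P)).hom c, ?_⟩
  have h := stalkStr_comp u sY P
  rw [hu] at h
  rw [h] at hc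
  exact hc

/-- If `u` is injective on cotangent spaces at a closed point where `X` is regular, then `u` is
dominant. -/
theorem isDominant_of_cotangent_injective [IsAlgClosed K] (sX : X ⟶ Spec (.of K))
    (sY : Y ⟶ Spec (.of K)) [LocallyOfFiniteType sX] [LocallyOfFiniteType sY] [IsIntegral Y]
    (u : X ⟶ Y) (hu : u ≫ sY = sX) (P : X) (hP : IsClosed ({P} : Set X))
    [IsRegularLocalRing (X.presheaf.stalk P)]
    (hcot : ∀ a ∈ maximalIdeal (Y.presheaf.stalk (u P)),
      (u.stalkMap P).hom a ∈ maximalIdeal (X.presheaf.stalk P) ^ 2 →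
        a ∈ maximalIdeal (Y.presheaf.stalk (u P)) ^ 2) :
    IsDominant u := by
  haveI : IsLocallyNoetherian Y := LocallyOfFiniteType.isLocallyNoetherian sY
  have hinj : Function.Injective (u.stalkMap P).hom :=
    CotangentDominant.injective_of_cotangent_injective (u.stalkMap P).hom
      (exists_stalkMap_sub_mem sX sY u hu P hP) hcot
  -- `Spec` of the stalk map is dominant
  have hdense : DenseRange (Spec.map (u.stalkMap P)).base := by
    have : RingHom.ker (u.stalkMap P).hom ≤ nilradical _ := by
      rw [(RingHom.injective_iff_ker_eq_bot _).mp hinj]; exact bot_le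
    exact (PrimeSpectrum.denseRange_comap_iff_ker_le_nilRadical _).mpr this
  have hsq := Scheme.SpecMap_stalkMap_fromSpecStalk u (x := P)
  refine ⟨?_⟩
  -- the generic point of `Y` lies in the closure of the range
  have hgen : genericPoint Y ∈ closure (Set.range u.base) := by
    have h1 : genericPoint Y ∈ Set.range (Y.fromSpecStalk (u P)).base := by
      rw [Scheme.range_fromSpecStalk]
      exact genericPoint_specializes _
    obtain ⟨q, hq⟩ := h1
    have h2 : q ∈ closure (Set.range (Spec.map (u.stalkMap P)).base) := hdense q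
    have h3 := image_closure_subset_closure_image (Y.fromSpecStalk (u P)).continuous
      (Set.mem_image_of_mem _ h2)
    rw [hq, ← Set.range_comp] at h3
    refine closure_mono ?_ h3
    rintro _ ⟨z, rfl⟩
    refine ⟨(X.fromSpecStalk P).base z, ?_⟩
    change (X.fromSpecStalk P ≫ u).base z = (Spec.map (u.stalkMap P) ≫ Y.fromSpecStalk (u P)).base z
    rw [hsq]
  rw [DenseRange, dense_iff_closure_eq, ← Set.univ_subset_iff, ← (genericPoint_spec Y).def]
  exact closure_minimal (Set.singleton_subset_iff.mpr hgen) isClosed_closure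

/-- A dominant morphism from a reduced Noetherian scheme to an integral scheme restricts to an
integral open subscheme whose generic point maps to the generic point of the target. -/
theorem exists_integral_open_genericPoint [IsReduced X] [TopologicalSpace.NoetherianSpace X]
    [IsIntegral Y] (u : X ⟶ Y) [IsDominant u] :
    ∃ (U : X.Opens) (_ : IsIntegral U), (U.ι ≫ u).base (genericPoint U) = genericPoint Y := by
  have hfin : (irreducibleComponents X).Finite :=
    TopologicalSpace.NoetherianSpace.finite_irreducibleComponents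
  -- some component dominates
  have hC : IsClosed (⋃ Z ∈ irreducibleComponents X, closure (u.base '' Z)) :=
    hfin.isClosed_biUnion fun Z _ => isClosed_closure
  have hsub : Set.range u.base ⊆ ⋃ Z ∈ irreducibleComponents X, closure (u.base '' Z) := by
    rintro _ ⟨x, rfl⟩
    refine Set.mem_biUnion (irreducibleComponent_mem_irreducibleComponents x) ?_
    exact subset_closure (Set.mem_image_of_mem _ mem_irreducibleComponent)
  have huniv : genericPoint Y ∈ ⋃ Z ∈ irreducibleComponents X, closure (u.base '' Z) := by
    have := closure_minimal hsub hC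
    rw [u.denseRange.closure_range] at this
    exact this (Set.mem_univ _)
  obtain ⟨Z, hZ, hηZ⟩ := Set.mem_iUnion₂.mp huniv
  have hZirr : IsIrreducible Z := hZ.1
  have hZcl : IsClosed Z := isClosed_of_mem_irreducibleComponents Z hZ
  have ht : IsGenericPoint (IsIrreducible.genericPoint hZirr) Z :=
    IsIrreducible.isGenericPoint_genericPoint hZirr hZcl
  set t := IsIrreducible.genericPoint hZirr with htdef
  have hut : u.base t = genericPoint Y := by
    have h1 : u.base t ⤳ genericPoint Y := (ht.image u.continuous).specializes hηZ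
    have h2 : genericPoint Y ⤳ u.base t := genericPoint_specializes _
    exact (h1.antisymm h2).eq
  let U : X.Opens :=
    ⟨(⋃₀ (irreducibleComponents X \ {Z}))ᶜ, by
      rw [Set.sUnion_eq_biUnion, isOpen_compl_iff]
      exact hfin.sdiff.isClosed_biUnion fun W hW ↦ isClosed_of_mem_irreducibleComponents W hW.1⟩
  have hU : closure (U : Set X) = Z :=
    closure_sUnion_irreducibleComponents_sdiff_singleton hfin _ hZ
  have : AlgebraicGeometry.IsIntegral U :=
    have : IrreducibleSpace U := isIrreducible_iff_irreducibleSpace.mp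
      (isIrreducible_iff_closure.mp (hU ▸ hZirr))
    isIntegral_of_irreducibleSpace_of_isReduced _
  refine ⟨U, this, ?_⟩
  have h3 : IsGenericPoint (U.ι.base (genericPoint U)) Z := by
    have := (genericPoint_spec U).image U.ι.continuous
    rwa [Set.image_univ, U.range_ι, hU] at this
  rw [Scheme.Hom.comp_base, TopCat.comp_app, h3.eq ht]
  exact hut

theorem charZero_functionField [CharZero K] [IsIntegral Y] (sY : Y ⟶ Spec (.of K)) :
    CharZero Y.functionField := by
  let φ : K →+* Y.functionField := (stalkStr sY (genericPoint Y)).hom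
  exact charZero_of_injective_ringHom φ.injective

/-- A dominant `K`-morphism (`K` algebraically closed of characteristic zero) from a reduced scheme
of finite type to an integral scheme of finite type is injective on cotangent spaces at some
regular closed point. -/
theorem exists_closedPoint_of_isDominant [IsAlgClosed K] [CharZero K] (sX : X ⟶ Spec (.of K))
    (sY : Y ⟶ Spec (.of K)) [LocallyOfFiniteType sX] [QuasiCompact sX] [LocallyOfFiniteType sY]
    [IsReduced X] [IsIntegral Y] (u : X ⟶ Y) (hu : u ≫ sY = sX) [IsDominant u] :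
    ∃ P : X, IsClosed ({P} : Set X) ∧ IsRegularLocalRing (X.presheaf.stalk P) ∧
      ∀ a ∈ maximalIdeal (Y.presheaf.stalk (u P)),
        (u.stalkMap P).hom a ∈ maximalIdeal (X.presheaf.stalk P) ^ 2 →
          a ∈ maximalIdeal (Y.presheaf.stalk (u P)) ^ 2 := by
  haveI : IsLocallyNoetherian X := LocallyOfFiniteType.isLocallyNoetherian sX
  haveI : IsLocallyNoetherian Y := LocallyOfFiniteType.isLocallyNoetherian sY
  haveI : CompactSpace X := QuasiCompact.compactSpace_of_compactSpace sX
  haveI : IsNoetherian X := {}
  haveI : JacobsonSpace X := LocallyOfFiniteType.jacobsonSpace sX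
  haveI : LocallyOfFiniteType u := by
    haveI : LocallyOfFiniteType (u ≫ sY) := hu ▸ inferInstance
    exact locallyOfFiniteType_of_comp u sY
  haveI : CharZero Y.functionField := charZero_functionField sY
  haveI : PerfectField K := inferInstance
  obtain ⟨U, hUint, hUgen⟩ := exists_integral_open_genericPoint u
  haveI := hUint
  have h1 : genericPoint U ∈ (U.ι ≫ u).smoothLocus :=
    GenericSmooth.formallySmooth_stalkMap_genericPoint (U.ι ≫ u) hUgen
  have h2 : genericPoint Y ∈ sY.smoothLocus := sY.genericPoint_mem_smoothLocus_of_perfectField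
  -- open set of good points
  let W : X.Opens := u.smoothLocus ⊓ u ⁻¹ᵁ sY.smoothLocus
  have hWne : (W : Set X).Nonempty := by
    refine ⟨U.ι (genericPoint U), ?_, ?_⟩
    · have := h1
      rwa [← Scheme.Hom.preimage_smoothLocus_eq] at this
    · change u (U.ι (genericPoint U)) ∈ sY.smoothLocus
      have h3 : u (U.ι (genericPoint U)) = genericPoint Y := hUgen
      rw [h3]
      exact h2
  obtain ⟨P, hPW, hPcl⟩ := nonempty_inter_closedPoints hWne W.2.isLocallyClosed
  have hPu : (u.stalkMap P).hom.FormallySmooth := hPW.1
  have hPY : (sY.stalkMap (u P)).hom.FormallySmooth := hPW.2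
  have hPX : P ∈ sX.smoothLocus := by
    rw [Scheme.Hom.mem_smoothLocus]
    subst hu
    rw [Scheme.Hom.stalkMap_comp]
    exact RingHom.FormallySmooth.stableUnderComposition _ _ hPY hPu
  refine ⟨P, hPcl, Groth.Agent.Lib.Helper51.isRegularLocalRing_stalk_of_mem_smoothLocus sX P hPX,
    fun a _ h => ?_⟩
  exact CotangentDominant.mem_sq_of_formallySmooth (u.stalkMap P).hom hPu
    (exists_stalkMap_sub_mem sX sY u hu P hPcl) a h

end Groth.Agent.Lib.Helper51.CotangentDominantSch
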