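import Mathlib

/-!
# Formal smoothness from injectivity on cotangent spaces (helper51)

* `formallySmooth_of_retraction`: for a tower `R → S → T` with `T` formally smooth over `R`, a
  retraction of `T ⊗[S] Ω[S⁄R] → Ω[T⁄R]` makes `T` formally smooth over `S`.
* `formallySmooth_of_cotangent_injective`: `A → B` a local homomorphism of local `k`-algebras
  essentially of finite type, `B` formally smooth over `k` with residue field `k`; if
  `m_A/m_A² → m_B/m_B²` is injective then `B` is formally smooth over `A`.
-/

set_option autoImplicit false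
set_option linter.style.haveILetI false
universe u

namespace Groth.Agent.Lib.Helper51.CotangentSmooth

open TensorProduct KaehlerDifferential IsLocalRing

section Retraction

variable (R S T : Type u) [CommRing R] [CommRing S] [CommRing T]
variable [Algebra R S] [Algebra R T] [Algebra S T] [IsScalarTower R S T]

theorem formallySmooth_of_retraction [Algebra.FormallySmooth R T]
    (l' : Ω[T⁄R] →ₗ[T] T ⊗[S] Ω[S⁄R]) (hl : l' ∘ₗ mapBaseChange R S T = LinearMap.id) :
    Algebra.FormallySmooth S T := by
  have hinj : Function.Injective (mapBaseChange R S T) := by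
    intro x y hxy
    have := congrArg l' hxy
    rwa [← LinearMap.comp_apply, ← LinearMap.comp_apply, hl] at this
  refine ⟨?_, ?_⟩
  · -- projectivity of `Ω[T⁄S]`
    have hex := KaehlerDifferential.exact_mapBaseChange_map R S T
    have hsurj : Function.Surjective (KaehlerDifferential.map R S T T) :=
      KaehlerDifferential.map_surjective R S T
    obtain ⟨-, s, hs⟩ := ((hex.split_tfae' (g := KaehlerDifferential.map R S T T)).out 1 0 rfl rfl).mp
      ⟨hsurj, l', hl⟩
    exact Module.Projective.of_split s (KaehlerDifferential.map R S T T) hs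
  · -- vanishing of `H¹(L_{T/S})`
    refine ⟨fun x y => ?_⟩
    suffices h : ∀ z : Algebra.H1Cotangent S T, z = 0 by rw [h x, h y]
    intro z
    have h1 : Algebra.H1Cotangent.δ R S T z = 0 := by
      apply hinj
      rw [map_zero]
      exact (Algebra.H1Cotangent.exact_δ_mapBaseChange R S T _).mpr ⟨z, rfl⟩
    obtain ⟨w, rfl⟩ := (Algebra.H1Cotangent.exact_map_δ R S T z).mp h1
    rw [Subsingleton.elim w 0, map_zero]

end Retraction

section Local

variable (k A B : Type u) [Field k] [CommRing A] [CommRing B] [IsLocalRing A] [IsLocalRing B]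
  [Algebra k A] [Algebra k B] [Algebra A B] [IsScalarTower k A B] [IsLocalHom (algebraMap A B)]

theorem ker_algebraMap_residueField_self :
    RingHom.ker (algebraMap B (ResidueField B)) = maximalIdeal B :=
  IsLocalRing.ker_residue

theorem ker_algebraMap_residueField_eq :
    RingHom.ker (algebraMap A (ResidueField B)) = maximalIdeal A := by
  ext a
  rw [RingHom.mem_ker, IsScalarTower.algebraMap_apply A B (ResidueField B)]
  change residue B (algebraMap A B a) = 0 ↔ _
  rw [residue_eq_zero_iff, mem_maximalIdeal, mem_maximalIdeal, map_mem_nonunits_iff]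

theorem injective_lTensor_mapBaseChange [Algebra.FormallySmooth k B]
    (hB : ∀ b : B, ∃ c : k, b - algebraMap k B c ∈ maximalIdeal B)
    (hcot : ∀ a ∈ maximalIdeal A,
      algebraMap A B a ∈ maximalIdeal B ^ 2 → a ∈ maximalIdeal A ^ 2) :
    Function.Injective ((mapBaseChange k A B).lTensor (ResidueField B)) := by
  have hkK : Function.Surjective (algebraMap k (ResidueField B)) := by
    intro x
    obtain ⟨b, rfl⟩ := residue_surjective x
    obtain ⟨c, hc⟩ := hB b
    refine ⟨c, ?_⟩
    rw [IsScalarTower.algebraMap_apply k B (ResidueField B)]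
    change residue B _ = residue B b
    rw [eq_comm, ← sub_eq_zero, ← map_sub, residue_eq_zero_iff]
    exact hc
  have hAK : Function.Surjective (algebraMap A (ResidueField B)) := by
    intro x
    obtain ⟨c, rfl⟩ := hkK x
    exact ⟨algebraMap k A c, by rw [← IsScalarTower.algebraMap_apply]⟩
  have hBK : Function.Surjective (algebraMap B (ResidueField B)) := residue_surjective
  haveI : Subsingleton Ω[ResidueField B⁄k] :=
    KaehlerDifferential.subsingleton_of_surjective _ _ hkK
  have hsurjA : Function.Surjective (kerCotangentToTensor k A (ResidueField B)) := by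
    intro x
    exact (exact_kerCotangentToTensor_mapBaseChange k A (ResidueField B) hAK x).mp
      (Subsingleton.elim _ _)
  haveI : Algebra.FormallySmooth k (ResidueField B) :=
    Algebra.FormallySmooth.of_equiv
      (AlgEquiv.ofBijective (Algebra.ofId k (ResidueField B))
        ⟨(algebraMap k (ResidueField B)).injective, hkK⟩)
  have hinjB : Function.Injective (kerCotangentToTensor k B (ResidueField B)) :=
    (Algebra.FormallySmooth.kerCotangentToTensor_injective_iff hBK).mpr inferInstance
  rw [injective_iff_map_eq_zero]
  intro ξ hξ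
  let e := AlgebraTensorModule.cancelBaseChange A B (ResidueField B) (ResidueField B) Ω[A⁄k]
  obtain ⟨y, hy⟩ := hsurjA (e ξ)
  obtain ⟨a, rfl⟩ := Ideal.toCotangent_surjective _ y
  rw [kerCotangentToTensor_toCotangent] at hy
  have hξ' : ξ = (1 : ResidueField B) ⊗ₜ[B] ((1 : B) ⊗ₜ[A] D k A a.1) := by
    apply e.injective
    rw [← hy]
    simp [e]
  have ha : a.1 ∈ maximalIdeal A := by
    rw [← ker_algebraMap_residueField_eq A B]
    exact a.2
  have hφa : algebraMap A B a.1 ∈ RingHom.ker (algebraMap B (ResidueField B)) := by
    rw [ker_algebraMap_residueField_self, mem_maximalIdeal, map_mem_nonunits_iff,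
      ← mem_maximalIdeal]
    exact ha
  have h3 : kerCotangentToTensor k B (ResidueField B)
      (Ideal.toCotangent _ ⟨algebraMap A B a.1, hφa⟩) = 0 := by
    rw [kerCotangentToTensor_toCotangent]
    rw [hξ'] at hξ
    simpa using hξ
  have h4 := hinjB (h3.trans (map_zero _).symm)
  rw [Ideal.toCotangent_eq_zero] at h4
  have h4' : algebraMap A B a.1 ∈ RingHom.ker (algebraMap B (ResidueField B)) ^ 2 := h4
  rw [ker_algebraMap_residueField_self] at h4'
  have h6 := hcot a.1 ha h4'
  have h7 : Ideal.toCotangent _ a = 0 := by
    rw [Ideal.toCotangent_eq_zero]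
    have hsq : RingHom.ker (algebraMap A (ResidueField B)) ^ 2 = maximalIdeal A ^ 2 := by
      rw [ker_algebraMap_residueField_eq]
    exact hsq.ge h6
  rw [hξ']
  have h8 : (1 : ResidueField B) ⊗ₜ[A] D k A a.1 = 0 := by
    rw [← kerCotangentToTensor_toCotangent, h7, map_zero]
  have : e ((1 : ResidueField B) ⊗ₜ[B] ((1 : B) ⊗ₜ[A] D k A a.1)) = 0 := by
    simp only [e, AlgebraTensorModule.cancelBaseChange_tmul, one_smul]
    exact h8
  exact e.injective (this.trans (map_zero _).symm)

/-- A local homomorphism `A → B` of local `k`-algebras essentially of finite type, with `B` formally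
smooth over `k` and with residue field `k`, which is injective on cotangent spaces, is formally
smooth. -/
theorem formallySmooth_of_cotangent_injective [Algebra.FormallySmooth k B]
    [Algebra.EssFiniteType k A] [Algebra.EssFiniteType k B]
    (hB : ∀ b : B, ∃ c : k, b - algebraMap k B c ∈ maximalIdeal B)
    (hcot : ∀ a ∈ maximalIdeal A,
      algebraMap A B a ∈ maximalIdeal B ^ 2 → a ∈ maximalIdeal A ^ 2) :
    Algebra.FormallySmooth A B := by
  haveI : Module.Free B Ω[B⁄k] := Module.free_of_flat_of_isLocalRing
  obtain ⟨l', hl⟩ := (IsLocalRing.split_injective_iff_lTensor_residueField_injective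
    (mapBaseChange k A B)).mpr (injective_lTensor_mapBaseChange k A B hB hcot)
  exact formallySmooth_of_retraction k A B l' hl

end Local

end Groth.Agent.Lib.Helper51.CotangentSmooth
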