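import Mathlib
import Groth.Agent.Lib.Helper67.FiberStalk2
import Groth.Agent.Lib.Helper72.DimLFT

/-!
# Fibre dimension of flat morphisms between irreducible schemes of finite type over a field
(helper51; built on helper67 `FiberStalk2`, helper72 `DimLFT`, helper73 `DimFT`)
-/

set_option autoImplicit false
set_option linter.style.haveILetI false
universe u

namespace Groth.Agent.Lib.Helper51.CotangentSmoothDim

open AlgebraicGeometry CategoryTheory Groth.Agent.Lib.Helper73

/-- On an irreducible scheme locally of finite type over a field, the local ring at a closed point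
has the dimension of the scheme. -/
theorem ringKrullDim_stalk_eq_dim_of_isClosed {k : Type u} [Field k] {X : Scheme.{u}}
    (q : X ⟶ Spec (CommRingCat.of k)) [LocallyOfFiniteType q] [IrreducibleSpace X] {x : X}
    (hx : IsClosed ({x} : Set X)) :
    ringKrullDim (X.presheaf.stalk x) = topologicalKrullDim X := by
  have hδ := isDimFun_trdegNat q
  have h0 : trdegNat q x = 0 := trdegNat_eq_zero_of_isClosed q hx
  have hdim : topologicalKrullDim X = ((trdegNat q (genericPoint X) : ℕ∞) : WithBot ℕ∞) := by
    rw [topologicalKrullDim_eq_iSup_trdegNat q]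
    apply le_antisymm
    · refine iSup_le fun y => ?_
      exact_mod_cast hδ.le_of_specializes (genericPoint_specializes y)
    · exact le_iSup (fun y => ((trdegNat q y : ℕ∞) : WithBot ℕ∞)) (genericPoint X)
  have h1 : (trdegNat q (genericPoint X) : ℕ∞) ≤ Order.coheight x + (trdegNat q x : ℕ∞) :=
    hδ.le_coheight_add (genericPoint_specializes x)
  have h2 : Order.coheight x + (trdegNat q x : ℕ∞) ≤ (trdegNat q (genericPoint X) : ℕ∞) :=
    hδ.coheight_add_le (fun η _ => by
      exact_mod_cast hδ.le_of_specializes (genericPoint_specializes η))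
  rw [ringKrullDim_stalk_eq_coheight, hdim]
  rw [h0] at h1 h2
  simp only [Nat.cast_zero, add_zero] at h1 h2
  exact_mod_cast le_antisymm h2 h1

/-- The local ring of a fibre at a point, in terms of `CInt.fiberStalk`. -/
theorem ringKrullDim_fiber_stalk_eq {X Y : Scheme.{u}} (f : X ⟶ Y) (y : Y) (z : f.fiber y) :
    ∃ x : X, f.fiberι y z = x ∧ f x = y ∧
      ringKrullDim ((f.fiber y).presheaf.stalk z) = ringKrullDim (CInt.fiberStalk f x) := by
  have hmem : f.fiberι y z ∈ f ⁻¹' {y} := by
    rw [← f.range_fiberι]
    exact ⟨z, rfl⟩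
  obtain ⟨x, hx⟩ : ∃ x, f.fiberι y z = x := ⟨_, rfl⟩
  have hy : f x = y := by
    rw [← hx]
    exact hmem
  subst hy
  have hz : z = f.asFiber x :=
    (f.fiberι (f x)).isEmbedding.injective (by rw [hx, f.fiberι_asFiber])
  subst hz
  exact ⟨x, hx, rfl, rfl⟩

set_option backward.isDefEq.respectTransparency.types false in
theorem locallyOfFiniteType_fiberToSpecResidueField {X Y : Scheme.{u}} (f : X ⟶ Y)
    [LocallyOfFiniteType f] (y : Y) : LocallyOfFiniteType (f.fiberToSpecResidueField y) :=
  MorphismProperty.pullback_snd _ _ inferInstance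

set_option backward.isDefEq.respectTransparency.types false in
theorem smooth_fiberToSpecResidueField {X Y : Scheme.{u}} (f : X ⟶ Y)
    [Smooth f] (y : Y) : Smooth (f.fiberToSpecResidueField y) :=
  MorphismProperty.pullback_snd _ _ inferInstance

/-- Fibres of a flat morphism between irreducible schemes locally of finite type over a field, over
closed points, are equidimensional of dimension `dim X - dim Y`. -/
theorem dim_fibre {k : Type u} [Field k] {X Y : Scheme.{u}} (qX : X ⟶ Spec (CommRingCat.of k))
    (qY : Y ⟶ Spec (CommRingCat.of k)) [LocallyOfFiniteType qX] [LocallyOfFiniteType qY]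
    [IrreducibleSpace X] [IrreducibleSpace Y] (f : X ⟶ Y) [Flat f] [LocallyOfFiniteType f]
    (dX dY : ℕ) (hX : topologicalKrullDim X = dX) (hY : topologicalKrullDim Y = dY)
    (y : Y) (hy : IsClosed ({y} : Set Y)) :
    (Nonempty (f.fiber y) → dY ≤ dX) ∧
      ∀ Z ∈ irreducibleComponents (f.fiber y),
        topologicalKrullDim Z = ((dX - dY : ℕ) : WithBot ℕ∞) := by
  haveI : IsLocallyNoetherian X := LocallyOfFiniteType.isLocallyNoetherian qX
  haveI : IsLocallyNoetherian Y := LocallyOfFiniteType.isLocallyNoetherian qY
  haveI : LocallyOfFiniteType (f.fiberToSpecResidueField y) :=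
    locallyOfFiniteType_fiberToSpecResidueField f y
  have key : ∀ z : f.fiber y, IsClosed ({z} : Set (f.fiber y)) →
      (dX : WithBot ℕ∞) = dY + ringKrullDim ((f.fiber y).presheaf.stalk z) := by
    intro z hz
    obtain ⟨x, hx, hfx, hdim⟩ := ringKrullDim_fiber_stalk_eq f y z
    have hxcl : IsClosed ({x} : Set X) := by
      have hce : Topology.IsClosedEmbedding (f.fiberι y) :=
        ⟨(f.fiberι y).isEmbedding, by rw [f.range_fiberι]; exact hy.preimage f.continuous⟩
      have := hce.isClosedMap _ hz
      rwa [Set.image_singleton, hx] at this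
    have h1 := Groth.Agent.Lib.Helper67.FiberStalk.ringKrullDim_stalk_eq_add f x
      (Flat.stalkMap f x)
    have hfxcl : IsClosed ({f x} : Set Y) := hfx ▸ hy
    rw [ringKrullDim_stalk_eq_dim_of_isClosed qX hxcl, hX,
      ringKrullDim_stalk_eq_dim_of_isClosed qY hfxcl, hY, ← hdim] at h1
    exact h1
  have key2 : ∀ z : f.fiber y, IsClosed ({z} : Set (f.fiber y)) →
      dY ≤ dX ∧ ringKrullDim ((f.fiber y).presheaf.stalk z) = ((dX - dY : ℕ) : WithBot ℕ∞) := by
    intro z hz
    have h := key z hz
    generalize ringKrullDim ((f.fiber y).presheaf.stalk z) = v at h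
    induction v using WithBot.recBotCoe with
    | bot => simp at h
    | coe v =>
      induction v using ENat.recTopCoe with
      | top =>
        exfalso
        have h'' : (dX : ℕ∞) = dY + ⊤ := by exact_mod_cast h
        rw [add_top] at h''
        exact ENat.natCast_ne_top _ h''
      | coe n =>
        have h' : dX = dY + n := by exact_mod_cast h
        refine ⟨by omega, ?_⟩
        have : n = dX - dY := by omega
        rw [this]
        norm_cast
  constructor
  · rintro ⟨z⟩
    obtain ⟨w, -, -, hw⟩ := Groth.Agent.Lib.Helper72.DimLFT.exists_specializes_isClosed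
      (k := Y.residueField y) (f.fiberToSpecResidueField y) isOpen_univ (Set.mem_univ z)
    exact (key2 w hw).1
  · intro Z hZ
    refine Groth.Agent.Lib.Helper72.DimLFT.dim_component_eq_of_forall_closed
      (k := Y.residueField y) (f.fiberToSpecResidueField y) _ ?_ hZ
    intro r hr
    rw [← Groth.Agent.Lib.Helper72.DimLFT.ringKrullDim_stalk_eq_localDim
      (k := Y.residueField y) (f.fiberToSpecResidueField y) hr]
    exact (key2 r hr).2

end Groth.Agent.Lib.Helper51.CotangentSmoothDim
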