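import Mathlib
import Groth.Prelude.Def_FixPt
import Groth.Agent.Lib.Helper51.CotangentSmooth
import Groth.Agent.Lib.Helper51.CotangentDominantSch

/-!
# Smoothness from injectivity on cotangent spaces at closed points (helper51)
-/

set_option autoImplicit false
set_option linter.style.haveILetI false
universe u

namespace Groth.Agent.Lib.Helper51.CotangentSmoothSch

open CategoryTheory AlgebraicGeometry IsLocalRing
open Groth.Agent.Lib.Helper51.CotangentDominantSch

variable {K : Type u} [Field K] {X Y : Scheme.{u}}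

theorem stalkStr_eq (f : X ⟶ Spec (.of K)) (x : X) :
    stalkStr f x =
      (Scheme.ΓSpecIso (CommRingCat.of K)).inv ≫ f.appTop ≫ X.presheaf.germ ⊤ x trivial := by
  apply Spec.map_injective
  rw [stalkStr, Spec.map_preimage, Spec.map_comp, Spec.map_comp, Category.assoc,
    ← Scheme.fromSpecStalk_toSpecΓ, Category.assoc, ← Scheme.toSpecΓ_naturality_assoc,
    toSpecΓ_SpecMap_ΓSpecIso_inv, Category.comp_id]

theorem stalkStr_hom_eq_algebraMap (f : X ⟶ Spec (.of K)) (x : X) :
    (stalkStr f x).hom = @algebraMap K (X.presheaf.stalk x) _ _ (stalkAlg f x) := by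
  rw [stalkStr_eq]
  rfl

/-- The transported stalk map at a point with its tautological image is the stalk map. -/
theorem stalkMapAt_rfl (f : X ⟶ Y) (x : X) :
    FixPt.stalkMapAt f x (f x) rfl = (f.stalkMap x).hom := by
  unfold FixPt.stalkMapAt
  have : (Y.presheaf.stalkCongr (Inseparable.of_eq (rfl : f x = f x))).inv = 𝟙 _ :=
    Y.presheaf.stalkSpecializes_refl (f x)
  rw [this, Category.id_comp]

/-- Injectivity of the cotangent map in elementwise form. -/
theorem mem_sq_of_injective_cotangentMapAt (f : X ⟶ Y) (x : X)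
    (h : Function.Injective (FixPt.cotangentMapAt f x (f x) rfl))
    (a : Y.presheaf.stalk (f x)) (ha : a ∈ maximalIdeal (Y.presheaf.stalk (f x)))
    (h2 : (f.stalkMap x).hom a ∈ maximalIdeal (X.presheaf.stalk x) ^ 2) :
    a ∈ maximalIdeal (Y.presheaf.stalk (f x)) ^ 2 := by
  have h3' : FixPt.cotangentMapAt f x (f x) rfl (Ideal.toCotangent _ ⟨a, ha⟩) =
      Ideal.toCotangent _ ⟨FixPt.stalkMapAt f x (f x) rfl a,
        FixPt.maximalIdeal_le_comap_stalkMapAt f x (f x) rfl ha⟩ := rfl
  have h3 : FixPt.cotangentMapAt f x (f x) rfl (Ideal.toCotangent _ ⟨a, ha⟩) = 0 := by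
    rw [h3', Ideal.toCotangent_eq_zero]
    have : FixPt.stalkMapAt f x (f x) rfl a = (f.stalkMap x).hom a := by rw [stalkMapAt_rfl]
    change FixPt.stalkMapAt f x (f x) rfl a ∈ _
    rw [this]
    exact h2
  have h4 := h (h3.trans (map_zero _).symm)
  rwa [Ideal.toCotangent_eq_zero] at h4

/-- At a closed point of a smooth `K`-scheme (`K` algebraically closed), a `K`-morphism which is
injective on cotangent spaces is formally smooth on stalks. -/
theorem formallySmooth_stalkMap_of_cotangent_injective [IsAlgClosed K]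
    (qX : X ⟶ Spec (.of K)) (qY : Y ⟶ Spec (.of K)) [LocallyOfFiniteType qX]
    [LocallyOfFiniteType qY] [Smooth qX] (f : X ⟶ Y) (hf : f ≫ qY = qX) (x : X)
    (hx : IsClosed ({x} : Set X))
    (hcot : ∀ a ∈ maximalIdeal (Y.presheaf.stalk (f x)),
      (f.stalkMap x).hom a ∈ maximalIdeal (X.presheaf.stalk x) ^ 2 →
        a ∈ maximalIdeal (Y.presheaf.stalk (f x)) ^ 2) :
    (f.stalkMap x).hom.FormallySmooth := by
  letI algA := stalkAlg qY (f x)
  letI algB := stalkAlg qX x
  letI algAB : Algebra (Y.presheaf.stalk (f x)) (X.presheaf.stalk x) :=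
    (f.stalkMap x).hom.toAlgebra
  haveI : IsScalarTower K (Y.presheaf.stalk (f x)) (X.presheaf.stalk x) := by
    refine IsScalarTower.of_algebraMap_eq' ?_
    rw [← stalkStr_hom_eq_algebraMap, ← stalkStr_hom_eq_algebraMap]
    have := stalkStr_comp f qY x
    rw [hf] at this
    rw [this]
    rfl
  haveI : IsLocalHom (algebraMap (Y.presheaf.stalk (f x)) (X.presheaf.stalk x)) :=
    inferInstanceAs (IsLocalHom (f.stalkMap x).hom)
  haveI : Algebra.FormallySmooth K (X.presheaf.stalk x) :=
    (mem_smoothLocus_iff_formallySmooth_stalk qX x).mp (by rw [qX.smoothLocus_eq_top]; trivial)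
  haveI : Algebra.EssFiniteType K (Y.presheaf.stalk (f x)) := essFiniteType_stalk qY (f x)
  haveI : Algebra.EssFiniteType K (X.presheaf.stalk x) := essFiniteType_stalk qX x
  have hB : ∀ b : X.presheaf.stalk x,
      ∃ c : K, b - algebraMap K (X.presheaf.stalk x) c ∈ maximalIdeal (X.presheaf.stalk x) := by
    intro b
    obtain ⟨c, hc⟩ := exists_sub_mem_maximalIdeal qX x hx b
    rw [stalkStr_hom_eq_algebraMap] at hc
    exact ⟨c, hc⟩
  exact CotangentSmooth.formallySmooth_of_cotangent_injective K _ _ hB hcot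

/-- A `K`-morphism between schemes locally of finite type over an algebraically closed field `K`,
with smooth source, which is injective on cotangent spaces at all closed points, is smooth. -/
theorem smooth_of_cotangent_injective [IsAlgClosed K]
    (qX : X ⟶ Spec (.of K)) (qY : Y ⟶ Spec (.of K)) [LocallyOfFiniteType qX]
    [LocallyOfFiniteType qY] [Smooth qX] (f : X ⟶ Y) (hf : f ≫ qY = qX)
    (hcot : ∀ x : X, IsClosed ({x} : Set X) → ∀ a ∈ maximalIdeal (Y.presheaf.stalk (f x)),
      (f.stalkMap x).hom a ∈ maximalIdeal (X.presheaf.stalk x) ^ 2 →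
        a ∈ maximalIdeal (Y.presheaf.stalk (f x)) ^ 2) :
    Smooth f := by
  haveI : IsLocallyNoetherian Y := LocallyOfFiniteType.isLocallyNoetherian qY
  haveI : JacobsonSpace X := LocallyOfFiniteType.jacobsonSpace qX
  haveI : LocallyOfFiniteType f := by
    haveI : LocallyOfFiniteType (f ≫ qY) := hf ▸ inferInstance
    exact locallyOfFiniteType_of_comp f qY
  rw [← Scheme.Hom.smoothLocus_eq_top_iff, ← TopologicalSpace.Opens.coe_eq_univ,
    ← not_ne_iff, ← Set.nonempty_compl]
  intro H
  obtain ⟨c, hc, hcc⟩ :=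
    nonempty_inter_closedPoints H f.smoothLocus.2.isClosed_compl.isLocallyClosed
  exact hc (formallySmooth_stalkMap_of_cotangent_injective qX qY f hf c hcc (hcot c hcc))

end Groth.Agent.Lib.Helper51.CotangentSmoothSch
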