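import Mathlib
import Groth.Prelude.Def_Curv2
import Groth.Agent.Lib.Helper67.FiberStalk
import Groth.Agent.Lib.Helper77.RegularCompletion
import Groth.Agent.Lib.Helper77.RegularLocalization
import Groth.Agent.S0565
import Groth.Agent.S0543

/-!
# Regularity of local rings under base change to the completion (helper51)

`A` Noetherian local, `X` over `Spec A`, `Y = X ×_A Spec Â`.  At a point `y` of `Y` over the closed
point, `𝒪_{X,x} → 𝒪_{Y,y}` is flat local with `𝔪_x 𝒪_{Y,y} = 𝔪_y`; hence `𝒪_{Y,y}` is regular iff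
`𝒪_{X,x}` is.
-/

set_option autoImplicit false
universe u
open CategoryTheory CategoryTheory.Limits AlgebraicGeometry IsLocalRing TensorProduct

namespace Groth.Agent.Lib.Helper51.CplRegular

section Ring

variable (A : Type u) [CommRing A] [IsLocalRing A] [IsNoetherianRing A]

/-- `κ ⊗_A Â = κ` for a field `κ` over the residue field of `A`. -/
theorem bijective_includeLeft (κ : Type u) [Field κ] [Algebra A κ]
    (hκ : maximalIdeal A ≤ RingHom.ker (algebraMap A κ)) :
    Function.Bijective (Algebra.TensorProduct.includeLeftRingHom :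
      κ →+* κ ⊗[A] AdicCompletion (maximalIdeal A) A) := by
  -- the retraction
  let φ₀ : A ⧸ maximalIdeal A →ₐ[A] κ := Ideal.Quotient.liftₐ (maximalIdeal A) (Algebra.ofId A κ)
    (fun a ha => hκ ha)
  let φ : AdicCompletion (maximalIdeal A) A →ₐ[A] κ :=
    φ₀.comp (AdicCompletion.evalOneₐ (maximalIdeal A))
  let ρ : κ ⊗[A] AdicCompletion (maximalIdeal A) A →ₐ[A] κ :=
    Algebra.TensorProduct.lift (AlgHom.id A κ) φ (fun _ _ => Commute.all _ _)
  have hρ : ∀ a : κ, ρ (Algebra.TensorProduct.includeLeftRingHom a) = a := by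
    intro a
    change ρ (a ⊗ₜ 1) = a
    rw [Algebra.TensorProduct.lift_tmul, map_one, mul_one]
    rfl
  refine ⟨Function.LeftInverse.injective hρ, ?_⟩
  -- surjectivity
  have hkill : ∀ n ∈ (maximalIdeal A).map (algebraMap A (AdicCompletion (maximalIdeal A) A)),
      (1 : κ) ⊗ₜ[A] n = 0 := by
    intro n hn
    induction hn using Submodule.span_induction with
    | mem x hx =>
      obtain ⟨m₀, hm₀, rfl⟩ := hx
      have h1 : algebraMap A (AdicCompletion (maximalIdeal A) A) m₀ = m₀ • 1 :=
        (Algebra.algebraMap_eq_smul_one m₀)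
      rw [h1, ← TensorProduct.smul_tmul, Algebra.smul_def, mul_one,
        (RingHom.mem_ker).mp (hκ hm₀), TensorProduct.zero_tmul]
    | zero => exact TensorProduct.tmul_zero _ _
    | add x y _ _ hx hy => rw [TensorProduct.tmul_add, hx, hy, add_zero]
    | smul a x _ hx =>
      have : (1 : κ) ⊗ₜ[A] (a • x) = ((1 : κ) ⊗ₜ[A] a) * ((1 : κ) ⊗ₜ[A] x) := by
        rw [Algebra.TensorProduct.tmul_mul_tmul, one_mul, smul_eq_mul]
      rw [this, hx, mul_zero]
  have hone : ∀ b : AdicCompletion (maximalIdeal A) A, ∃ a : κ, (1 : κ) ⊗ₜ[A] b = a ⊗ₜ 1 := by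
    intro b
    obtain ⟨a, ha⟩ := Ideal.Quotient.mk_surjective
      (AdicCompletion.evalOneₐ (maximalIdeal A) b)
    have hmem : b - algebraMap A _ a ∈
        (maximalIdeal A).map (algebraMap A (AdicCompletion (maximalIdeal A) A)) := by
      rw [← AdicCompletion.ker_evalOneₐ_eq_map (maximalIdeal A)
        (maximalIdeal A).fg_of_isNoetherianRing, RingHom.mem_ker, map_sub]
      change AdicCompletion.evalOneₐ (maximalIdeal A) b -
        AdicCompletion.evalOneₐ (maximalIdeal A) (algebraMap A _ a) = 0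
      rw [AlgHom.commutes, ← ha]
      exact sub_self _
    refine ⟨algebraMap A κ a, ?_⟩
    have h2 := hkill _ hmem
    rw [TensorProduct.tmul_sub, sub_eq_zero] at h2
    rw [h2, Algebra.algebraMap_eq_smul_one a, Algebra.algebraMap_eq_smul_one (A := κ) a,
      TensorProduct.smul_tmul]
  intro t
  induction t using TensorProduct.induction_on with
  | zero => exact ⟨0, map_zero _⟩
  | tmul a b =>
    obtain ⟨a', ha'⟩ := hone b
    refine ⟨a * a', ?_⟩
    change (a * a') ⊗ₜ[A] (1 : AdicCompletion (maximalIdeal A) A) = a ⊗ₜ b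
    have : a ⊗ₜ[A] b = (a ⊗ₜ[A] (1 : AdicCompletion (maximalIdeal A) A)) * ((1 : κ) ⊗ₜ[A] b) := by
      rw [Algebra.TensorProduct.tmul_mul_tmul, mul_one, one_mul]
    rw [this, ha', Algebra.TensorProduct.tmul_mul_tmul, mul_one]
  | add x y hx hy =>
    obtain ⟨a, ha⟩ := hx
    obtain ⟨b, hb⟩ := hy
    exact ⟨a + b, by rw [map_add, ha, hb]⟩

end Ring

section Sch

/-- The local rings of a scheme isomorphic to the spectrum of a field are fields. -/
theorem maximalIdeal_stalk_eq_bot_of_iso {Z : Scheme.{u}} {F : Type u} [Field F]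
    (e : Z ≅ Spec (CommRingCat.of F)) (z : Z) : maximalIdeal (Z.presheaf.stalk z) = ⊥ := by
  rw [eq_bot_iff]
  intro t ht
  rw [Ideal.mem_bot]
  have hbij : Function.Bijective (e.hom.stalkMap z).hom :=
    ConcreteCategory.bijective_of_isIso (e.hom.stalkMap z)
  obtain ⟨s, rfl⟩ := hbij.2 t
  have hs : ¬ IsUnit s := fun h => ((mem_maximalIdeal _).mp ht) (h.map _)
  rw [Groth.Agent.Lib.Helper67.FiberStalk.eq_zero_of_not_isUnit_stalk_field F _ s hs, map_zero]

variable (A : Type u) [CommRing A] [IsLocalRing A] [IsNoetherianRing A]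
  {X : Scheme.{u}} (f : X ⟶ Spec (CommRingCat.of A))

/-- The fibres of `X_Â → X` over points of the closed fibre are spectra of fields. -/
theorem maximalIdeal_fiber_stalk_eq_bot (x : X) (hx : f x = closedPoint A)
    (z : (Curv2.bcCplFst A f).fiber x) :
    maximalIdeal (((Curv2.bcCplFst A f).fiber x).presheaf.stalk z) = ⊥ := by
  obtain ⟨ψ, hψ⟩ : ∃ ψ : CommRingCat.of A ⟶ X.residueField x,
      Spec.map ψ = X.fromSpecResidueField x ≫ f :=
    ⟨Spec.preimage (X.fromSpecResidueField x ≫ f), Spec.map_preimage _⟩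
  letI : Algebra A (X.residueField x) := ψ.hom.toAlgebra
  have hκ : maximalIdeal A ≤ RingHom.ker (algebraMap A (X.residueField x)) := by
    intro a ha
    rw [RingHom.mem_ker]
    let pt : Spec (X.residueField x) := ⟨⊥, Ideal.bot_prime⟩
    have h1 : (Spec.map ψ) pt = closedPoint A := by
      rw [hψ, Scheme.Hom.comp_apply]
      have : (X.fromSpecResidueField x) pt = x := by
        have hr : (X.fromSpecResidueField x) pt ∈ Set.range (X.fromSpecResidueField x) := ⟨pt, rfl⟩
        rw [Scheme.range_fromSpecResidueField] at hr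
        exact hr
      rw [this, hx]
    have h2 : a ∈ ((Spec.map ψ) pt).asIdeal := by
      rw [h1]
      exact ha
    exact h2
  -- the field `κ ⊗ Â`
  have hbij := bijective_includeLeft A (X.residueField x) hκ
  have hF : IsField (X.residueField x ⊗[A] AdicCompletion (maximalIdeal A) A) :=
    (RingEquiv.ofBijective _ hbij).symm.toMulEquiv.isField (Field.toIsField _)
  letI : Field (X.residueField x ⊗[A] AdicCompletion (maximalIdeal A) A) := hF.toField
  -- the isomorphism of the fibre with its spectrum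
  have hψ' : Spec.map (CommRingCat.ofHom (algebraMap A (X.residueField x))) =
      X.fromSpecResidueField x ≫ f := hψ
  let e : (Curv2.bcCplFst A f).fiber x ≅
      Spec (CommRingCat.of (X.residueField x ⊗[A] AdicCompletion (maximalIdeal A) A)) :=
    pullbackSymmetry _ _ ≪≫
      pullbackRightPullbackFstIso f
        (Spec.map (CommRingCat.ofHom (algebraMap A (Curv2.cpl A)))) (X.fromSpecResidueField x) ≪≫
      pullback.congrHom hψ'.symm rfl ≪≫
      pullbackSpecIso A (X.residueField x) (AdicCompletion (maximalIdeal A) A)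
  exact maximalIdeal_stalk_eq_bot_of_iso e z

open Groth.Agent.Lib.Helper67.FiberStalk in
/-- At points over the closed point, `𝔪_x 𝒪_{Y,y} = 𝔪_y`. -/
theorem map_maximalIdeal_stalkMap (y : Curv2.bcCpl A f)
    (hy : (Curv2.bcCplSnd A f) y = closedPoint (Curv2.cpl A)) :
    (maximalIdeal (X.presheaf.stalk ((Curv2.bcCplFst A f) y))).map
      ((Curv2.bcCplFst A f).stalkMap y).hom =
      maximalIdeal ((Curv2.bcCpl A f).presheaf.stalk y) := by
  have hx : f ((Curv2.bcCplFst A f) y) = closedPoint A := by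
    have h1 : (Curv2.bcCplFst A f ≫ f) y =
        (Curv2.bcCplSnd A f ≫ Spec.map (CommRingCat.ofHom (algebraMap A (Curv2.cpl A)))) y :=
      congrArg (fun φ : Curv2.bcCpl A f ⟶ Spec (CommRingCat.of A) => φ y) pullback.condition
    rw [Scheme.Hom.comp_apply, Scheme.Hom.comp_apply, hy] at h1
    rw [h1]
    exact IsLocalRing.comap_closedPoint (algebraMap A (Curv2.cpl A))
  apply le_antisymm (fibIdeal_le (Curv2.bcCplFst A f) y)
  intro t ht
  have h0 := maximalIdeal_fiber_stalk_eq_bot A f _ hx ((Curv2.bcCplFst A f).asFiber y)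
  let e := fiberStalkEquiv (Curv2.bcCplFst A f) y
  have hq : ¬ IsUnit (e.symm (Ideal.Quotient.mk (fibIdeal (Curv2.bcCplFst A f) y) t)) := by
    intro hu
    have hu2 : IsUnit (Ideal.Quotient.mk (fibIdeal (Curv2.bcCplFst A f) y) t) := by
      have := hu.map e
      rwa [RingEquiv.apply_symm_apply] at this
    have hu3 : IsUnit t :=
      (isUnit_map_iff (qmap (Curv2.bcCplFst A f) y).hom t).mp hu2
    exact ((mem_maximalIdeal _).mp ht) hu3
  have hq2 : e.symm (Ideal.Quotient.mk (fibIdeal (Curv2.bcCplFst A f) y) t) ∈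
      maximalIdeal _ := (mem_maximalIdeal _).mpr hq
  rw [h0, Ideal.mem_bot] at hq2
  have hq3 : Ideal.Quotient.mk (fibIdeal (Curv2.bcCplFst A f) y) t = 0 := by
    have := congrArg e hq2
    rwa [RingEquiv.apply_symm_apply, map_zero] at this
  exact Ideal.Quotient.eq_zero_iff_mem.mp hq3

instance flat_bcCplFst : Flat (Curv2.bcCplFst A f) := by
  haveI : Flat (Spec.map (CommRingCat.ofHom (algebraMap A (Curv2.cpl A)))) := by
    rw [Flat.SpecMap_iff]
    exact (RingHom.flat_algebraMap_iff).mpr inferInstance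
  exact MorphismProperty.pullback_fst _ _ inferInstance

/-- **Regularity at points of the closed fibre is insensitive to completion of the base.** -/
theorem isRegularLocalRing_stalk_iff [LocallyOfFiniteType f] (y : Curv2.bcCpl A f)
    (hy : (Curv2.bcCplSnd A f) y = closedPoint (Curv2.cpl A)) :
    IsRegularLocalRing ((Curv2.bcCpl A f).presheaf.stalk y) ↔
      IsRegularLocalRing (X.presheaf.stalk ((Curv2.bcCplFst A f) y)) := by
  haveI : IsLocallyNoetherian X := LocallyOfFiniteType.isLocallyNoetherian f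
  haveI : IsNoetherianRing (Curv2.cpl A) := Groth.Agent.S0543.result A (maximalIdeal A)
  haveI : IsLocallyNoetherian (Curv2.bcCpl A f) :=
    LocallyOfFiniteType.isLocallyNoetherian (Curv2.bcCplSnd A f)
  have hflat : ((Curv2.bcCplFst A f).stalkMap y).hom.Flat := Flat.stalkMap _ y
  have hmax := map_maximalIdeal_stalkMap A f y hy
  algebraize [((Curv2.bcCplFst A f).stalkMap y).hom]
  haveI : IsLocalHom (algebraMap (X.presheaf.stalk ((Curv2.bcCplFst A f) y))
      ((Curv2.bcCpl A f).presheaf.stalk y)) :=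
    inferInstanceAs (IsLocalHom ((Curv2.bcCplFst A f).stalkMap y).hom)
  constructor
  · intro h
    exact Groth.Agent.S0565.result (X.presheaf.stalk ((Curv2.bcCplFst A f) y))
      ((Curv2.bcCpl A f).presheaf.stalk y)
  · intro h
    exact Groth.Agent.Lib.Helper77.RegularCompletion.regular_of_flat_of_map_maximalIdeal
      (X.presheaf.stalk ((Curv2.bcCplFst A f) y)) ((Curv2.bcCpl A f).presheaf.stalk y) hmax

end Sch

end Groth.Agent.Lib.Helper51.CplRegular
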