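import Mathlib
import Groth.Agent.Lib.Helper51.CplRegular
import Groth.Agent.Lib.Helper77.RegularScheme

/-!
# Regularity of proper schemes over a local ring vs over its completion (helper51)
-/

set_option autoImplicit false
universe u
open CategoryTheory CategoryTheory.Limits AlgebraicGeometry IsLocalRing

namespace Groth.Agent.Lib.Helper51.CplRegular

/-- Regularity of local rings is stable under generization. -/
theorem isRegularLocalRing_stalk_of_specializes {Y : Scheme.{u}} {y y₀ : Y} (h : y ⤳ y₀)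
    (hreg : IsRegularLocalRing (Y.presheaf.stalk y₀)) : IsRegularLocalRing (Y.presheaf.stalk y) := by
  obtain ⟨_, ⟨U, hU, rfl⟩, hy₀U, -⟩ :=
    Y.isBasis_affineOpens.exists_subset_of_mem_open (Set.mem_univ y₀) isOpen_univ
  have hyU : y ∈ U := h.mem_open U.2 hy₀U
  rw [Groth.Agent.Lib.Helper77.RegularScheme.stalk_regular_iff hU y₀ hy₀U] at hreg
  rw [Groth.Agent.Lib.Helper77.RegularScheme.stalk_regular_iff hU y hyU]
  have hsp : (⟨y, hyU⟩ : U) ⤳ ⟨y₀, hy₀U⟩ := (subtype_specializes_iff _ _).mpr h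
  have hsp2 : hU.primeIdealOf ⟨y, hyU⟩ ⤳ hU.primeIdealOf ⟨y₀, hy₀U⟩ :=
    hsp.map hU.isoSpec.hom.continuous
  have hle : (hU.primeIdealOf ⟨y, hyU⟩).asIdeal ≤ (hU.primeIdealOf ⟨y₀, hy₀U⟩).asIdeal :=
    (PrimeSpectrum.le_iff_specializes _ _).mpr hsp2
  exact Groth.Agent.Lib.Helper77.RegularLocalization.isRegularLocalRing_atPrime_of_le _
    (hU.primeIdealOf ⟨y₀, hy₀U⟩).asIdeal (hU.primeIdealOf ⟨y, hyU⟩).asIdeal hle

/-- A nonempty closed subset of the spectrum of a local ring contains the closed point. -/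
theorem closedPoint_mem_of_isClosed {R : Type u} [CommRing R] [IsLocalRing R]
    {Z : Set (PrimeSpectrum R)} (hZ : IsClosed Z) (hne : Z.Nonempty) : closedPoint R ∈ Z := by
  obtain ⟨z, hz⟩ := hne
  exact (IsLocalRing.specializes_closedPoint z).mem_closed hZ hz

/-- Over a local base, every point of a universally closed scheme specializes to a point of the
closed fibre. -/
theorem exists_specializes_closedFibre {R : Type u} [CommRing R] [IsLocalRing R] {Y : Scheme.{u}}
    (h : Y ⟶ Spec (CommRingCat.of R)) [UniversallyClosed h] (y : Y) :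
    ∃ y₀ : Y, y ⤳ y₀ ∧ h y₀ = closedPoint R := by
  have hcl : IsClosed (h '' closure {y}) := h.isClosedMap _ isClosed_closure
  have hne : (h '' closure {y}).Nonempty := ⟨h y, y, subset_closure rfl, rfl⟩
  obtain ⟨y₀, hy₀, hy₀'⟩ := closedPoint_mem_of_isClosed hcl hne
  exact ⟨y₀, specializes_iff_mem_closure.mpr hy₀, hy₀'⟩

variable (A : Type u) [CommRing A] [IsLocalRing A] [IsNoetherianRing A]
  {X : Scheme.{u}} (f : X ⟶ Spec (CommRingCat.of A))

theorem forall_isRegularLocalRing_stalk_iff [IsProper f] :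
    (∀ x : X, IsRegularLocalRing (X.presheaf.stalk x)) ↔
      ∀ y : Curv2.bcCpl A f, IsRegularLocalRing ((Curv2.bcCpl A f).presheaf.stalk y) := by
  constructor
  · intro hX y
    obtain ⟨y₀, hsp, hy₀⟩ := exists_specializes_closedFibre (Curv2.bcCplSnd A f) y
    exact isRegularLocalRing_stalk_of_specializes hsp
      ((isRegularLocalRing_stalk_iff A f y₀ hy₀).mpr (hX _))
  · intro hY x
    obtain ⟨x₀, hsp, hx₀⟩ := exists_specializes_closedFibre f x
    have hcl : f x₀ = (Spec.map (CommRingCat.ofHom (algebraMap A (Curv2.cpl A))))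
        (closedPoint (Curv2.cpl A)) := by
      rw [hx₀]
      exact (IsLocalRing.comap_closedPoint (algebraMap A (Curv2.cpl A))).symm
    obtain ⟨y₀, hy₀1, hy₀2⟩ := Scheme.Pullback.exists_preimage_pullback x₀ _ hcl
    have h1 := (isRegularLocalRing_stalk_iff A f y₀ hy₀2).mp (hY y₀)
    have hsp' : x ⤳ (Curv2.bcCplFst A f) y₀ := by
      rw [show (Curv2.bcCplFst A f) y₀ = x₀ from hy₀1]
      exact hsp
    exact isRegularLocalRing_stalk_of_specializes hsp' h1

end Groth.Agent.Lib.Helper51.CplRegular
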