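import Mathlib
import Groth.Prelude.Def_StCurv2

/-!
# Geometric fibres of the classifying object of a scheme over a field (helper51)

`geomFib_toSpFam_iff`: for `p : X ⟶ Spec k` and `t : Spec k ⟶ S`, the condition `CurvSt.GeomFib P` on the
family of sheaves attached to `(X, p)` is equivalent to `P` for all cartesian squares of schemes
`X' = X ×_k Spec Ω` with `Ω` algebraically closed.
-/

set_option autoImplicit false
universe u
open CategoryTheory CategoryTheory.Limits AlgebraicGeometry

namespace Groth.Agent.Lib.Helper51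

open CurvSt in
theorem geomFib_toSpFam_iff (S : Scheme.{u}) (k : Type u) [Field k]
    (t : Spec (CommRingCat.of k) ⟶ S) (X : Scheme.{u}) (p : X ⟶ Spec (CommRingCat.of k))
    (P : ∀ (Ω : Type u) [Field Ω] [IsAlgClosed Ω] (X' : Scheme.{u}),
      (X' ⟶ Spec (CommRingCat.of Ω)) → (Fin 0 → ↥X') → Prop) :
    CurvSt.GeomFib P ((CurvSt.toSpFam S 0).obj ⟨Over.mk t, X, p, Fin.elim0, fun i => i.elim0⟩) ↔
      ∀ (Ω : Type u) [Field Ω] [IsAlgClosed Ω] (s : Spec (CommRingCat.of Ω) ⟶ Spec (CommRingCat.of k))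
        (X' : Scheme.{u}) (q : X' ⟶ Spec (CommRingCat.of Ω)) (i₀ : X' ⟶ X),
        IsPullback i₀ q p s → ∀ m : Fin 0 → ↥X', P Ω X' q m := by
  set A₀ : PtFamObj S 0 := ⟨Over.mk t, X, p, Fin.elim0, fun i => i.elim0⟩ with hA₀
  set A : SpFamObj S 0 := (CurvSt.toSpFam S 0).obj A₀ with hA
  constructor
  · intro H Ω _ _ s X' q i₀ sq m
    let iO : A.ptOver (q ≫ s) ⟶ A₀.totOver :=
      Over.homMk i₀ (by
        show i₀ ≫ (p ≫ t) = (q ≫ s) ≫ t
        rw [← Category.assoc, sq.w, Category.assoc])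
    have hO : IsPullback iO (A.fibHom s q) A₀.fOver (A.ptHom s) :=
      IsPullback.of_map (Over.forget S) (Over.OverMorphism.ext sq.w) sq
    have hP := hO.map (AlgSp.yon S)
    have := H Ω s X' q ((AlgSp.yon S).map iO) hP
    rwa [Subsingleton.elim (A.spMarkedPt hP) m] at this
  · intro H Ω _ _ s X' q i hP
    let iO : A.ptOver (q ≫ s) ⟶ A₀.totOver := (AlgSp.yon S).preimage i
    have hiO : (AlgSp.yon S).map iO = i := (AlgSp.yon S).map_preimage _
    have hO : IsPullback iO (A.fibHom s q) A₀.fOver (A.ptHom s) := by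
      refine IsPullback.of_map (AlgSp.yon S) ?_ ?_
      · apply (AlgSp.yon S).map_injective
        rw [Functor.map_comp, Functor.map_comp, hiO]
        exact hP.w
      · rw [hiO]; exact hP
    have sq := hO.map (Over.forget S)
    exact H Ω s X' q iO.left sq _

end Groth.Agent.Lib.Helper51
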