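import Mathlib

/-!
# Étale locus of a morphism locally of finite presentation (helper51)

* `formallyUnramified_stalkMap_iff`: the stalk map at `x` is formally unramified iff the prime of `x` lies in
  the unramified locus of an affine chart (analogue of Mathlib's `formallySmooth_stalkMap_iff`).
* `exists_etale_of_formallyEtale_stalk`: if `f` is locally of finite presentation and the stalk map at `x`
  is formally smooth and formally unramified, `f` is étale on an open neighbourhood of `x`.
-/

set_option autoImplicit false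
universe u
open CategoryTheory CategoryTheory.Limits AlgebraicGeometry

namespace Groth.Agent.Lib.Helper51

variable {X Y : Scheme.{u}}

theorem formallyUnramified_stalkMap_iff {f : X ⟶ Y} {x : X} (U : Y.Opens)
    (hU : IsAffineOpen U) (V : X.Opens) (hV : IsAffineOpen V) (hVU : V ≤ f ⁻¹ᵁ U)
    (hx : x ∈ V) :
    letI := (f.appLE U V hVU).hom.toAlgebra
    (f.stalkMap x).hom.FormallyUnramified ↔
      hV.primeIdealOf ⟨x, hx⟩ ∈ Algebra.unramifiedLocus Γ(Y, U) Γ(X, V) := by
  let := (f.appLE U V hVU).hom.toAlgebra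
  let p := (hU.primeIdealOf ⟨f x, hVU hx⟩).asIdeal
  let q := (hV.primeIdealOf ⟨x, hx⟩).asIdeal
  have : q.LiesOver p :=
    ⟨congr($(IsAffineOpen.comap_primeIdealOf_appLE U hU V hV hVU hx).1).symm⟩
  let := Localization.AtPrime.algebraOfLiesOver p q
  trans Algebra.FormallyUnramified (Localization.AtPrime p) (Localization.AtPrime q)
  · rw [← RingHom.formallyUnramified_algebraMap]
    exact RingHom.FormallyUnramified.respectsIso.arrow_mk_iso_iff
      (IsAffineOpen.arrowStalkMapIso f U hU V hV hVU hx)
  · constructor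
    · intro h
      exact Algebra.FormallyUnramified.comp Γ(Y, U) (Localization.AtPrime p) (Localization.AtPrime q)
    · intro h
      have : Algebra.FormallyUnramified Γ(Y, U) (Localization.AtPrime q) := h
      exact Algebra.FormallyUnramified.of_restrictScalars Γ(Y, U) _ _

set_option backward.defeqAttrib.useBackward true in
set_option backward.isDefEq.respectTransparency false in
theorem exists_etale_appLE_of_formallyEtale_stalk
    (f : X ⟶ Y) [LocallyOfFinitePresentation f]
    (x : X) (H1 : (f.stalkMap x).hom.FormallySmooth) (H2 : (f.stalkMap x).hom.FormallyUnramified) :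
    ∃ (U : Y.Opens) (_ : IsAffineOpen U) (V : X.Opens) (_ : IsAffineOpen V) (hVU : V ≤ f ⁻¹ᵁ U),
      x ∈ V ∧ (f.appLE U V hVU).hom.Etale := by
  obtain ⟨_, ⟨U, hU, rfl⟩, hxU, -⟩ :=
    Y.isBasis_affineOpens.exists_subset_of_mem_open (Set.mem_univ (f x)) isOpen_univ
  obtain ⟨_, ⟨V, hV, rfl⟩, hxV, hVU⟩ :=
    X.isBasis_affineOpens.exists_subset_of_mem_open hxU (U.2.preimage f.continuous)
  have := f.finitePresentation_appLE hU hV hVU
  algebraize [(f.appLE U V hVU).hom]
  have hs : hV.primeIdealOf ⟨x, hxV⟩ ∈ Algebra.smoothLocus Γ(Y, U) Γ(X, V) :=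
    (formallySmooth_stalkMap_iff U hU V hV hVU hxV).mp H1
  have hu : hV.primeIdealOf ⟨x, hxV⟩ ∈ Algebra.unramifiedLocus Γ(Y, U) Γ(X, V) :=
    (formallyUnramified_stalkMap_iff U hU V hV hVU hxV).mp H2
  have : Algebra.IsEtaleAt Γ(Y, U) (hV.primeIdealOf ⟨x, hxV⟩).asIdeal := by
    rw [← Algebra.mem_etaleLocus_iff, Algebra.etaleLocus_eq_unramfiedLocus_inter_smoothLocus]
    exact ⟨hu, hs⟩
  obtain ⟨r, hrx, hr⟩ := Algebra.exists_etale_of_isEtaleAt (R := Γ(Y, U))
    (hV.primeIdealOf ⟨x, hxV⟩).asIdeal
  refine ⟨_, hU, _, hV.basicOpen r, (X.basicOpen_le r).trans hVU, ?_, ?_⟩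
  · rwa [← PrimeSpectrum.mem_basicOpen, IsAffineOpen.primeIdealOf,
      ← hV.fromSpec_preimage_basicOpen, Scheme.Hom.mem_preimage, ← Scheme.Hom.comp_apply,
      IsAffineOpen.isoSpec_hom, IsAffineOpen.toSpecΓ_fromSpec] at hrx
  · have := hV.isLocalization_basicOpen r
    rw [← RingHom.etale_algebraMap] at hr
    convert!
      RingHom.Etale.propertyIsLocal.respectsIso.1 _
        (IsLocalization.algEquiv (.powers r) _ Γ(X, X.basicOpen r)).toRingEquiv hr
    ext
    dsimp
    simp only [IsScalarTower.algebraMap_apply Γ(Y, U) Γ(X, V) (Localization _),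
      IsLocalization.map_eq]
    simp only [RingHom.algebraMap_toAlgebra, RingHomCompTriple.comp_apply, ← ConcreteCategory.comp_apply,
      Scheme.Hom.appLE_map]

set_option backward.isDefEq.respectTransparency.types false in
/-- If `f` is locally of finite presentation and its stalk map at `x` is formally étale, then `f` is étale
on an open neighbourhood of `x`. -/
theorem exists_etale_of_formallyEtale_stalk
    (f : X ⟶ Y) [LocallyOfFinitePresentation f]
    (x : X) (H1 : (f.stalkMap x).hom.FormallySmooth) (H2 : (f.stalkMap x).hom.FormallyUnramified) :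
    ∃ W : X.Opens, x ∈ W ∧ Etale (W.ι ≫ f) := by
  obtain ⟨U, hU, V, hV, hVU, hxV, H⟩ := exists_etale_appLE_of_formallyEtale_stalk f x H1 H2
  refine ⟨V, hxV, ?_⟩
  rw [← Scheme.Hom.resLE_comp_ι f hVU]
  have : Etale (f.resLE U V hVU) := by
    have : IsAffine _ := hU
    have : IsAffine _ := hV
    rw [HasRingHomProperty.iff_of_isAffine (P := @Etale)]
    exact (RingHom.Etale.propertyIsLocal.respectsIso.arrow_mk_iso_iff
      (arrowResLEAppIso f U V hVU)).mpr H
  infer_instance

end Groth.Agent.Lib.Helper51
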