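import Mathlib
import Groth.Agent.Lib.Helper51.EtaleLocusSch

set_option autoImplicit false
universe u
open TensorProduct IsLocalRing

namespace Groth.Agent.Lib.Helper51.FlatUnramEtale

open Algebra in
/-- Local form of "flat + unramified + finitely presented ⇒ étale": if `S` is a finitely presented
`R`-algebra, `q` a prime over `p`, and `S_q` is flat and formally unramified over `R_p`, then `S_q`
is formally smooth over `R_p`. -/
theorem formallySmooth_atPrime_of_flat_of_unramified
    {R S : Type u} [CommRing R] [CommRing S] [Algebra R S] [Algebra.FinitePresentation R S]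
    (p : Ideal R) (q : Ideal S) [p.IsPrime] [q.IsPrime] [q.LiesOver p]
    (hflat : letI := Localization.AtPrime.algebraOfLiesOver p q
      Module.Flat (Localization.AtPrime p) (Localization.AtPrime q))
    (hunr : letI := Localization.AtPrime.algebraOfLiesOver p q
      Algebra.FormallyUnramified (Localization.AtPrime p) (Localization.AtPrime q)) :
    letI := Localization.AtPrime.algebraOfLiesOver p q
    Algebra.FormallySmooth (Localization.AtPrime p) (Localization.AtPrime q) := by
  let Rp := Localization.AtPrime p
  let Sp := Localization (algebraMapSubmonoid S p.primeCompl)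
  let Sq := Localization.AtPrime q
  let := Localization.AtPrime.algebraOfLiesOver p q
  let f : Sp →ₐ[S] Sq := IsLocalization.liftAlgHom (M := algebraMapSubmonoid S p.primeCompl)
        (f := Algebra.ofId _ _) (by
      rintro ⟨_, x, hx, rfl⟩
      simpa using! IsLocalization.map_units (M := q.primeCompl) Sq ⟨algebraMap _ _ x,
        by simp_all [q.over_def p]⟩)
  algebraize [f.toRingHom]
  have : IsScalarTower R Sp Sq := .to₁₃₄ _ S _ _
  have : IsScalarTower Rp Sp Sq := .of_algebraMap_eq' <| by
    apply IsLocalization.ringHom_ext p.primeCompl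
    simp only [RingHom.comp_assoc, ← IsScalarTower.algebraMap_eq]
  have : IsLocalization (algebraMapSubmonoid Sp q.primeCompl) Sq :=
    .isLocalization_of_submonoid_le _ _ (algebraMapSubmonoid S p.primeCompl) _
    (by rintro _ ⟨x, hx, rfl⟩; simp_all [q.over_def p])
  have : FinitePresentation Rp Sp := by
    have : Algebra.IsPushout R Rp S Sp :=
      .symm <| Algebra.isPushout_of_isLocalization p.primeCompl _ _ _
    exact .equiv (Algebra.IsPushout.equiv R Rp S Sp)
  have : Module.Flat Rp Sq := hflat
  have : Algebra.FormallyUnramified Rp Sq := hunr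
  have : Algebra.EssFiniteType Sp Sq :=
    Algebra.EssFiniteType.of_isLocalization Sq (algebraMapSubmonoid Sp q.primeCompl)
  have : Algebra.EssFiniteType Rp Sq := Algebra.EssFiniteType.comp Rp Sp Sq
  have : FormallySmooth (ResidueField Rp) (ResidueField Rp ⊗[Rp] Sq) := by
    have h1 : FormallyUnramified (ResidueField Rp) (ResidueField Rp ⊗[Rp] Sq) := inferInstance
    have h2 : EssFiniteType (ResidueField Rp) (ResidueField Rp ⊗[Rp] Sq) := inferInstance
    have := Algebra.FormallyEtale.of_formallyUnramified_of_field
      (K := ResidueField Rp) (A := ResidueField Rp ⊗[Rp] Sq)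
    infer_instance
  exact FormallySmooth.of_formallySmooth_residueField_tensor
    (R := Rp) (S := Sq) (P := Sp) (algebraMapSubmonoid _ q.primeCompl)

end Groth.Agent.Lib.Helper51.FlatUnramEtale

namespace Groth.Agent.Lib.Helper51.FlatUnramEtale

open CategoryTheory CategoryTheory.Limits AlgebraicGeometry

variable {X Y : Scheme.{u}}

/-- If `f` is locally of finite presentation and its stalk map at `x` is flat and formally
unramified, then the stalk map is formally smooth. -/
theorem formallySmooth_stalkMap_of_flat_of_unramified
    (f : X ⟶ Y) [LocallyOfFinitePresentation f] (x : X)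
    (H1 : (f.stalkMap x).hom.Flat) (H2 : (f.stalkMap x).hom.FormallyUnramified) :
    (f.stalkMap x).hom.FormallySmooth := by
  obtain ⟨_, ⟨U, hU, rfl⟩, hxU, -⟩ :=
    Y.isBasis_affineOpens.exists_subset_of_mem_open (Set.mem_univ (f x)) isOpen_univ
  obtain ⟨_, ⟨V, hV, rfl⟩, hxV, hVU⟩ :=
    X.isBasis_affineOpens.exists_subset_of_mem_open hxU (U.2.preimage f.continuous)
  have := f.finitePresentation_appLE hU hV hVU
  algebraize [(f.appLE U V hVU).hom]
  let p := (hU.primeIdealOf ⟨f x, hVU hxV⟩).asIdeal
  let q := (hV.primeIdealOf ⟨x, hxV⟩).asIdeal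
  have : q.LiesOver p :=
    ⟨congr($(IsAffineOpen.comap_primeIdealOf_appLE U hU V hV hVU hxV).1).symm⟩
  let := Localization.AtPrime.algebraOfLiesOver p q
  have e := IsAffineOpen.arrowStalkMapIso f U hU V hV hVU hxV
  have h1 : Module.Flat (Localization.AtPrime p) (Localization.AtPrime q) := by
    rw [← RingHom.flat_algebraMap_iff]
    exact (RingHom.Flat.respectsIso.arrow_mk_iso_iff e).mp H1
  have h2 : Algebra.FormallyUnramified (Localization.AtPrime p) (Localization.AtPrime q) := by
    rw [← RingHom.formallyUnramified_algebraMap]
    exact (RingHom.FormallyUnramified.respectsIso.arrow_mk_iso_iff e).mp H2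
  have h3 := formallySmooth_atPrime_of_flat_of_unramified p q h1 h2
  rw [← RingHom.formallySmooth_algebraMap] at h3
  exact (RingHom.FormallySmooth.respectsIso.arrow_mk_iso_iff e).mpr h3

/-- If `f` is locally of finite presentation and its stalk map at `x` is flat and formally
unramified, then `f` is étale on an open neighbourhood of `x`. -/
theorem exists_etale_of_flat_of_unramified_stalk
    (f : X ⟶ Y) [LocallyOfFinitePresentation f] (x : X)
    (H1 : (f.stalkMap x).hom.Flat) (H2 : (f.stalkMap x).hom.FormallyUnramified) :
    ∃ W : X.Opens, x ∈ W ∧ Etale (W.ι ≫ f) :=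
  Groth.Agent.Lib.Helper51.exists_etale_of_formallyEtale_stalk f x
    (formallySmooth_stalkMap_of_flat_of_unramified f x H1 H2) H2

end Groth.Agent.Lib.Helper51.FlatUnramEtale
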