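import Mathlib
import Groth.Agent.Lib.Helper51.FlatUnramEtale
import Groth.Agent.Lib.Helper30.SmoothRegular

/-!
# Étaleness at a closed point of a map of smooth curves over an algebraically closed field (helper51)
-/

set_option autoImplicit false
universe u
open CategoryTheory CategoryTheory.Limits AlgebraicGeometry IsLocalRing

namespace Groth.Agent.Lib.Helper51.CurveEtale

section Algebra

/-- A regular local domain of dimension at most one is a principal ideal ring (from helper22). -/
theorem isPrincipalIdealRing_of_regular_of_dim_le_one (R : Type*) [CommRing R] [IsDomain R]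
    [IsRegularLocalRing R] (h : ringKrullDim R ≤ 1) : IsPrincipalIdealRing R := by
  have h1 := (IsRegularLocalRing.iff_finrank_cotangentSpace R).mp inferInstance
  have h2 : Module.finrank (ResidueField R) (CotangentSpace R) ≤ 1 := by
    have : ((Module.finrank (ResidueField R) (CotangentSpace R) : ℕ) : WithBot ℕ∞) ≤ 1 := h1 ▸ h
    exact_mod_cast this
  exact ((tfae_of_isNoetherianRing_of_isLocalRing_of_isDomain R).out 5 0).mp h2

theorem flat_of_injective_of_pid {R S : Type*} [CommRing R] [IsDomain R] [IsPrincipalIdealRing R]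
    [CommRing S] [IsDomain S] [Algebra R S] (h : Function.Injective (algebraMap R S)) :
    Module.Flat R S := by
  rw [Module.Flat.flat_iff_torsion_eq_bot_of_isBezout, eq_bot_iff]
  intro x hx
  obtain ⟨a, ha⟩ := (Submodule.mem_torsion_iff x).mp hx
  rw [Submodule.mem_bot]
  have ha0 : algebraMap R S a ≠ 0 := by
    intro h0
    exact nonZeroDivisors.ne_zero a.2 (h (by rw [h0, map_zero]))
  rw [Submonoid.smul_def, Algebra.smul_def] at ha
  exact (mul_eq_zero.mp ha).resolve_left ha0

theorem injective_of_map_maximalIdeal {R S : Type*} [CommRing R] [IsDomain R]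
    [IsPrincipalIdealRing R] [IsLocalRing R] [CommRing S] [IsDomain S] [IsLocalRing S]
    [Algebra R S] (h : (maximalIdeal R).map (algebraMap R S) = maximalIdeal S)
    (hS : maximalIdeal S ≠ ⊥) : Function.Injective (algebraMap R S) := by
  rw [RingHom.injective_iff_ker_eq_bot]
  by_contra hne
  have hp : (RingHom.ker (algebraMap R S)).IsPrime := RingHom.ker_isPrime _
  have hm : (RingHom.ker (algebraMap R S)).IsMaximal := hp.isMaximal hne
  have hk : RingHom.ker (algebraMap R S) = maximalIdeal R := IsLocalRing.eq_maximalIdeal hm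
  apply hS
  rw [← h, ← hk, Ideal.map_eq_bot_iff_le_ker]

end Algebra

variable {X Y : Scheme.{u}}

theorem topologicalKrullDim_eq_krullDim (X : Scheme.{u}) :
    topologicalKrullDim ↥X = Order.krullDim ↥X := by
  unfold topologicalKrullDim
  exact Order.krullDim_eq_of_orderIso (irreducibleSetEquivPoints (α := ↥X))

theorem ringKrullDim_stalk_le (X : Scheme.{u}) (x : ↥X) :
    ringKrullDim ↥(X.presheaf.stalk x) ≤ topologicalKrullDim ↥X := by
  rw [topologicalKrullDim_eq_krullDim, AlgebraicGeometry.ringKrullDim_stalk_eq_coheight]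
  exact Order.coheight_le_krullDim x

/-- A closed point of an integral scheme of dimension one has a local ring that is not a field. -/
theorem maximalIdeal_stalk_ne_bot [IsIntegral X] (hd : topologicalKrullDim X = 1) (x : X)
    (hx : IsClosed ({x} : Set X)) : maximalIdeal (X.presheaf.stalk x) ≠ ⊥ := by
  intro h
  have hf : IsField (X.presheaf.stalk x) := IsLocalRing.isField_iff_maximalIdeal_eq.mpr h
  have h0 : ringKrullDim (X.presheaf.stalk x) = 0 := by
    letI := hf.toField
    exact ringKrullDim_eq_zero_of_field _
  rw [ringKrullDim_stalk_eq_coheight] at h0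
  have h0' : Order.coheight x = 0 := by exact_mod_cast h0
  have hmax : IsMax x := Order.coheight_eq_zero.mp h0'
  have h1 : x ⤳ genericPoint X := Scheme.le_iff_specializes.mp (hmax (genericPoint_specializes x))
  have h2 : genericPoint X ⤳ x := genericPoint_specializes x
  have hxe : x = genericPoint X := (h1.antisymm h2).eq
  have huniv : ({x} : Set X) = Set.univ := by
    rw [← hx.closure_eq, hxe]
    exact (genericPoint_spec X).def
  have hsub : Subsingleton X := by
    refine ⟨fun a b => ?_⟩
    have ha : a ∈ ({x} : Set X) := huniv ▸ Set.mem_univ a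
    have hb : b ∈ ({x} : Set X) := huniv ▸ Set.mem_univ b
    rw [Set.mem_singleton_iff] at ha hb
    rw [ha, hb]
  have : topologicalKrullDim X ≤ 0 := by
    rw [topologicalKrullDim_eq_krullDim]
    exact Order.krullDim_nonpos_of_subsingleton
  rw [hd] at this
  exact absurd this (by decide)

/-- The stalk map at a point where `f` is unramified on a neighbourhood carries the maximal ideal to a
generating set of the maximal ideal. -/
theorem map_maximalIdeal_of_unramified (φ : X ⟶ Y) [LocallyOfFiniteType φ] (x : X)
    (U : X.Opens) (hxU : x ∈ U) [FormallyUnramified (U.ι ≫ φ)] :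
    Ideal.map (φ.stalkMap x).hom (maximalIdeal (Y.presheaf.stalk (φ x))) =
      maximalIdeal (X.presheaf.stalk x) := by
  let u : U.toScheme := ⟨x, hxU⟩
  have h1' : (φ.stalkMap x).hom.FormallyUnramified := by
    have h1 := FormallyUnramified.stalkMap (U.ι ≫ φ) u
    rw [Scheme.Hom.stalkMap_comp] at h1
    exact (RingHom.FormallyUnramified.respectsIso.cancel_right_isIso
      (φ.stalkMap (U.ι u)) (U.ι.stalkMap u)).mp h1
  have h2 : (φ.stalkMap x).hom.EssFiniteType := LocallyOfFiniteType.stalkMap φ _
  algebraize [(φ.stalkMap x).hom]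
  have : IsLocalHom (algebraMap (Y.presheaf.stalk (φ x)) (X.presheaf.stalk x)) :=
    inferInstanceAs <| IsLocalHom (φ.stalkMap x).hom
  exact Algebra.FormallyUnramified.map_maximalIdeal

section Main

variable (k : Type u) [Field k] [IsAlgClosed k] (pX : X ⟶ Spec (CommRingCat.of k))
  (pY : Y ⟶ Spec (CommRingCat.of k)) (φ : X ⟶ Y) (w : φ ≫ pY = pX)

include w in
theorem residueFieldMap_surjective [LocallyOfFiniteType pX] (x : X)
    (hx : IsClosed ({x} : Set X)) : Function.Surjective (φ.residueFieldMap x).hom := by
  let ιx := (residueFieldIsoBase pX x hx).inv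
  let ιy : CommRingCat.of k ⟶ Y.residueField (φ x) :=
    Spec.preimage (Y.fromSpecResidueField (φ x) ≫ pY)
  have hcomp : ιx = ιy ≫ φ.residueFieldMap x := by
    apply Spec.map_injective
    rw [SpecMap_residueFieldIsoBase_inv, Spec.map_comp, Spec.map_preimage,
      Scheme.Hom.SpecMap_residueFieldMap_fromSpecResidueField_assoc, w]
  intro a
  obtain ⟨c, rfl⟩ : ∃ c, ιx.hom c = a :=
    ((ConcreteCategory.isIso_iff_bijective ιx).mp inferInstance).2 a
  exact ⟨ιy.hom c, by rw [hcomp]; rfl⟩

include w in
/-- A map of smooth integral curves over an algebraically closed field is étale near a closed point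
`x` as soon as the stalk map carries the maximal ideal onto generators of the maximal ideal. -/
theorem exists_etale_of_map_maximalIdeal [IsIntegral X] [Smooth pX]
    (hdX : topologicalKrullDim X = 1) [IsIntegral Y] [Smooth pY]
    (hdY : topologicalKrullDim Y = 1) (x : X) (hx : IsClosed ({x} : Set X))
    (h : Ideal.map (φ.stalkMap x).hom (maximalIdeal (Y.presheaf.stalk (φ x))) =
      maximalIdeal (X.presheaf.stalk x)) :
    ∃ U : X.Opens, x ∈ U ∧ Etale (U.ι ≫ φ) := by
  have hlft : LocallyOfFiniteType φ := by
    have : LocallyOfFiniteType (φ ≫ pY) := by rw [w]; infer_instance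
    exact locallyOfFiniteType_of_comp φ pY
  have hN : IsLocallyNoetherian Y := LocallyOfFiniteType.isLocallyNoetherian pY
  have hlfp : LocallyOfFinitePresentation φ := inferInstance
  algebraize [(φ.stalkMap x).hom]
  have : IsLocalHom (algebraMap (Y.presheaf.stalk (φ x)) (X.presheaf.stalk x)) :=
    inferInstanceAs <| IsLocalHom (φ.stalkMap x).hom
  have hreg : IsRegularLocalRing (Y.presheaf.stalk (φ x)) :=
    Groth.Agent.Lib.Helper30.SmoothRegular.stalk_regular_of_smooth_field k pY _
  have hdim : ringKrullDim (Y.presheaf.stalk (φ x)) ≤ 1 :=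
    (ringKrullDim_stalk_le Y _).trans hdY.le
  have : IsPrincipalIdealRing (Y.presheaf.stalk (φ x)) :=
    isPrincipalIdealRing_of_regular_of_dim_le_one _ hdim
  have hS := maximalIdeal_stalk_ne_bot hdX x hx
  have h' : (maximalIdeal (Y.presheaf.stalk (φ x))).map
      (algebraMap (Y.presheaf.stalk (φ x)) (X.presheaf.stalk x)) =
      maximalIdeal (X.presheaf.stalk x) := h
  have hinj := injective_of_map_maximalIdeal h' hS
  have hflat : Module.Flat (Y.presheaf.stalk (φ x)) (X.presheaf.stalk x) :=
    flat_of_injective_of_pid hinj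
  have hsurj := residueFieldMap_surjective k pX pY φ w x hx
  have hsep : Algebra.IsSeparable (ResidueField (Y.presheaf.stalk (φ x)))
      (ResidueField (X.presheaf.stalk x)) := by
    refine ⟨fun a => ?_⟩
    obtain ⟨b, rfl⟩ := hsurj a
    exact isSeparable_algebraMap (F := ResidueField (Y.presheaf.stalk (φ x)))
      (K := ResidueField (X.presheaf.stalk x)) b
  have hess : Algebra.EssFiniteType (Y.presheaf.stalk (φ x)) (X.presheaf.stalk x) := by
    rw [← RingHom.essFiniteType_algebraMap, RingHom.algebraMap_toAlgebra]
    exact LocallyOfFiniteType.stalkMap φ x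
  have hunr : Algebra.FormallyUnramified (Y.presheaf.stalk (φ x)) (X.presheaf.stalk x) :=
    Algebra.FormallyUnramified.of_map_maximalIdeal h'
  apply Groth.Agent.Lib.Helper51.FlatUnramEtale.exists_etale_of_flat_of_unramified_stalk φ x
  · exact hflat
  · rw [← RingHom.formallyUnramified_algebraMap, RingHom.algebraMap_toAlgebra] at hunr
    exact hunr

end Main

end Groth.Agent.Lib.Helper51.CurveEtale
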