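import Mathlib
import Groth.Agent.Lib.Helper35.Ample1
import Groth.Prelude.Def_RelProj

/-!
# Dense affine opens in Noetherian schemes; affine opens are quasi-projective over the base
-/

set_option autoImplicit false
universe u

open CategoryTheory AlgebraicGeometry TopologicalSpace Opposite

namespace Groth.Agent.Lib.Helper51.DenseAffine

variable {X : Scheme.{u}}

/-- In a Noetherian scheme, every affine open is contained in a dense affine open. -/
theorem exists_dense_affine_ge [NoetherianSpace X] (U : X.Opens) (hU : IsAffineOpen U) :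
    ∃ V : X.Opens, U ≤ V ∧ IsAffineOpen V ∧ Dense (V : Set X) := by
  have hwf : WellFoundedGT (Opens X) := inferInstanceAs (NoetherianSpace X)
  -- choose a maximal affine open containing `U`
  obtain ⟨V, ⟨hUV, hV⟩, hmax⟩ := hwf.wf.has_min {V : X.Opens | U ≤ V ∧ IsAffineOpen V}
    ⟨U, le_rfl, hU⟩
  refine ⟨V, hUV, hV, ?_⟩
  by_contra hnd
  -- the complement of the closure is a nonempty open
  have hne : ((closure (V : Set X))ᶜ : Set X).Nonempty := by
    rw [Set.nonempty_compl]
    intro h
    exact hnd (dense_iff_closure_eq.mpr h)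
  obtain ⟨y, hy⟩ := hne
  let T : X.Opens := ⟨(closure (V : Set X))ᶜ, isClosed_closure.isOpen_compl⟩
  obtain ⟨_, ⟨W, hW, rfl⟩, hyW, hWT⟩ :=
    (X.isBasis_affineOpens).exists_subset_of_mem_open (show y ∈ (T : Set X) from hy) T.2
  have hdisj : Disjoint V W := by
    rw [disjoint_iff]
    ext z
    simp only [Opens.coe_inf, Set.mem_inter_iff, SetLike.mem_coe, Opens.coe_bot,
      Set.mem_empty_iff_false, iff_false, not_and]
    intro hzV hzW
    exact hWT hzW (subset_closure hzV)
  have hVW : IsAffineOpen (V ⊔ W) := hV.sup_of_disjoint hW hdisj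
  have hlt : V < V ⊔ W := by
    refine lt_of_le_of_ne le_sup_left ?_
    intro h
    have : y ∈ V := by
      rw [h]
      exact Or.inr hyW
    exact hy (subset_closure this)
  exact hmax (V ⊔ W) ⟨hUV.trans le_sup_left, hVW⟩ hlt

/-- A Noetherian scheme is covered by finitely many dense affine opens. -/
theorem exists_finite_dense_affine_cover [NoetherianSpace X] :
    ∃ (n : ℕ) (U : Fin n → X.Opens), (⨆ i, U i) = ⊤ ∧
      ∀ i, IsAffineOpen (U i) ∧ Dense ((U i : Set X)) := by
  have hx : ∀ x : X, ∃ V : X.Opens, x ∈ V ∧ IsAffineOpen V ∧ Dense (V : Set X) := by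
    intro x
    obtain ⟨_, ⟨W, hW, rfl⟩, hxW, -⟩ :=
      (X.isBasis_affineOpens).exists_subset_of_mem_open (Set.mem_univ x) isOpen_univ
    obtain ⟨V, hWV, hV, hd⟩ := exists_dense_affine_ge W hW
    exact ⟨V, hWV hxW, hV, hd⟩
  choose V hxV hV hd using hx
  have hcomp : CompactSpace X := inferInstance
  obtain ⟨t, ht⟩ := isCompact_univ.elim_finite_subcover (fun x : X => (V x : Set X))
    (fun x => (V x).2) (fun x _ => Set.mem_iUnion.mpr ⟨x, hxV x⟩)
  refine ⟨t.card, fun i => V (t.equivFin.symm i).1, ?_, fun i => ⟨hV _, hd _⟩⟩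
  rw [eq_top_iff]
  intro x _
  obtain ⟨y, hy⟩ := Set.mem_iUnion.mp (ht (Set.mem_univ x))
  obtain ⟨hyt, hxy⟩ := Set.mem_iUnion.mp hy
  rw [Opens.mem_iSup]
  refine ⟨t.equivFin ⟨y, hyt⟩, ?_⟩
  simpa using hxy

end Groth.Agent.Lib.Helper51.DenseAffine

namespace Groth.Agent.Lib.Helper51.DenseAffine

open Groth.Agent.Lib.Helper35.Ample

/-- The structure sheaf of an affine scheme is relatively ample over any base, for a quasi-compact
structure morphism. -/
theorem isRelAmple_structureModule_of_isAffine {U S : Scheme.{u}} [IsAffine U] (g : U ⟶ S)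
    [QuasiCompact g] : RelAmple.IsRelAmple g (Coh.structureModule U) := by
  refine ⟨inferInstance, fun V => ?_⟩
  have hc : CompactSpace (g ⁻¹ᵁ V.1 : Scheme.{u}) :=
    isCompact_iff_compactSpace.mp (QuasiCompact.isCompact_preimage (f := g) _ V.1.2 V.2.isCompact)
  have hq : (g ⁻¹ᵁ V.1 : Scheme.{u}).IsQuasiAffine :=
    Scheme.IsQuasiAffine.of_isImmersion (g ⁻¹ᵁ V.1).ι
  exact isAmple_of_iso (Scheme.Modules.restrictUnitIso (g ⁻¹ᵁ V.1).ι).symm
    isAmple_structureModule_of_isQuasiAffine

theorem isQuasiProjective_of_isAffine {U S : Scheme.{u}} [IsAffine U] (g : U ⟶ S)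
    [QuasiCompact g] [LocallyOfFiniteType g] : RelProj.IsQuasiProjective g :=
  ⟨inferInstance, inferInstance, Coh.structureModule U, isRelAmple_structureModule_of_isAffine g⟩

end Groth.Agent.Lib.Helper51.DenseAffine
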