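import Groth.Agent.Lib.Helper83.Dk0
set_option autoImplicit false

/-!
# DK5: the reflection in an anisotropic vector (helper51, for helper83's S17007)
-/

namespace Groth.Agent.Lib.Helper51.Dickson5

open CliffordAlgebra Groth.Agent.Lib.Helper83.Cl2 Groth.Agent.Lib.Helper83.Cl5
  Groth.Agent.Lib.Helper83.Cl6 Groth.Agent.Lib.Helper83.Dk Groth.Agent.Lib.Helper75.OrthSplit

universe u v
variable {R : Type u} [CommRing R]

/-- the reflection `w ↦ w - (polar Q w v₀ * u) • v₀` as a linear map. -/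
noncomputable def reflLin {M : Type v} [AddCommGroup M] [Module R M] (Q : QuadraticForm R M)
    (v₀ : M) (u : R) : M →ₗ[R] M :=
  LinearMap.id - (u • (QuadraticMap.polarBilin Q).flip v₀).smulRight v₀

theorem reflLin_apply {M : Type v} [AddCommGroup M] [Module R M] (Q : QuadraticForm R M)
    (v₀ : M) (u : R) (w : M) :
    reflLin Q v₀ u w = w - (QuadraticMap.polar Q w v₀ * u) • v₀ := by
  simp [reflLin, mul_comm]

theorem polar_self' {M : Type v} [AddCommGroup M] [Module R M] (Q : QuadraticForm R M) (v : M) :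
    QuadraticMap.polar Q v v = 2 * Q v := by
  rw [QuadraticMap.polar_self]; simp [two_mul]

theorem exists_reflection {M : Type v} [AddCommGroup M] [Module R M] (Q : QuadraticForm R M)
    (v₀ : M) (h : IsUnit (Q v₀)) :
    ∃ (g : M ≃ₗ[R] M) (hg : g ∈ QuadGrp.O Q), ∀ x ∈ evenOdd Q 0,
      CliffordAlgebra.map (QuadGrp.isometryOfMem Q g hg) x * ι Q v₀ = ι Q v₀ * x := by
  obtain ⟨u, hu⟩ := h.exists_right_inv
  -- `hu : Q v₀ * u = 1`
  have hpol : ∀ w, QuadraticMap.polar Q (reflLin Q v₀ u w) v₀ = - QuadraticMap.polar Q w v₀ := by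
    intro w
    rw [reflLin_apply, QuadraticMap.polar_sub_left, QuadraticMap.polar_smul_left, polar_self']
    have : QuadraticMap.polar Q w v₀ * u * (2 * Q v₀) = 2 * QuadraticMap.polar Q w v₀ * (Q v₀ * u) := by
      ring
    rw [smul_eq_mul, this, hu]
    ring
  have hinv : Function.Involutive (reflLin Q v₀ u) := by
    intro w
    rw [reflLin_apply, hpol, reflLin_apply]
    simp only [neg_mul, neg_smul, sub_neg_eq_add, sub_add_cancel]
  let g : M ≃ₗ[R] M := LinearEquiv.ofInvolutive (reflLin Q v₀ u) hinv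
  have hgapp : ∀ w, g w = w - (QuadraticMap.polar Q w v₀ * u) • v₀ := fun w => reflLin_apply Q v₀ u w
  have hg : g ∈ QuadGrp.O Q := by
    intro w
    show Q (g w) = Q w
    rw [hgapp, sub_eq_add_neg, ← neg_smul]
    have h1 := QuadraticMap.polar Q w (-(QuadraticMap.polar Q w v₀ * u) • v₀)
    have h2 : Q (w + -(QuadraticMap.polar Q w v₀ * u) • v₀) =
        Q w + Q (-(QuadraticMap.polar Q w v₀ * u) • v₀) +
          QuadraticMap.polar Q w (-(QuadraticMap.polar Q w v₀ * u) • v₀) := by
      unfold QuadraticMap.polar; ring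
    rw [h2, QuadraticMap.map_smul, QuadraticMap.polar_smul_right, smul_eq_mul, smul_eq_mul]
    have : -(QuadraticMap.polar Q w v₀ * u) * -(QuadraticMap.polar Q w v₀ * u) * Q v₀ =
        QuadraticMap.polar Q w v₀ * QuadraticMap.polar Q w v₀ * u * (Q v₀ * u) := by ring
    rw [this, hu]
    ring
  refine ⟨g, hg, ?_⟩
  -- the key anticommutation
  have hkey : ∀ w, ι Q (g w) * ι Q v₀ = -(ι Q v₀ * ι Q w) := by
    intro w
    rw [hgapp, map_sub, map_smul, sub_mul, smul_mul_assoc, ι_sq_scalar]
    have hsw := ι_mul_ι_add_swap (Q := Q) w v₀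
    rw [eq_neg_iff_add_eq_zero]
    have : (QuadraticMap.polar Q w v₀ * u) • (algebraMap R (CliffordAlgebra Q)) (Q v₀) =
        algebraMap R _ (QuadraticMap.polar Q w v₀) := by
      rw [Algebra.smul_def, ← map_mul]
      congr 1
      rw [mul_assoc, mul_comm u, hu, mul_one]
    rw [this, ← hsw]
    abel
  intro x hx
  induction x, hx using CliffordAlgebra.even_induction with
  | algebraMap r =>
    rw [AlgHom.commutes, Algebra.commutes]
  | add x y hx hy ihx ihy =>
    rw [map_add, add_mul, mul_add, ihx, ihy]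
  | ι_mul_ι_mul m₁ m₂ x hx ih =>
    rw [map_mul, map_mul, CliffordAlgebra.map_apply_ι, CliffordAlgebra.map_apply_ι,
      QuadGrp.isometryOfMem_apply, QuadGrp.isometryOfMem_apply, mul_assoc, ih, ← mul_assoc,
      mul_assoc (ι Q (g m₁)), hkey m₂, mul_neg, ← mul_assoc, hkey m₁]
    simp only [neg_mul, neg_neg, mul_assoc]

end Groth.Agent.Lib.Helper51.Dickson5
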