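import Mathlib
import Groth.Prelude.Def_MoreMor
import Groth.Agent.Lib.Helper67.FlatDepth12
import Groth.Agent.Lib.Helper67.FiberStalk
import Groth.Agent.Lib.Helper56.FibreCM

/-!
# Cohen–Macaulay local rings and étale morphisms (helper51)

* `isCohenMacaulayLocalRing_of_isField`
* `isCM_iff_of_flat_of_formallyUnramified`: for a flat, formally unramified, essentially of finite type
  local homomorphism of noetherian local rings `R → S`, `S` is CM iff `R` is CM.
* `isCM_stalk_iff_of_etale`: for `α : U ⟶ X` étale with `X` locally noetherian, `O_{U,u}` is CM iff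
  `O_{X,α u}` is.
* `maximalIdeal_stalk_eq_bot_of_etale`: local rings of schemes étale over a field are fields.
* `isCMAt_iff_of_maximalIdeal_eq_bot`: if `O_{V,g u}` is a field then `g` is CM at `u` iff `O_{U,u}` is CM.
-/

set_option autoImplicit false
set_option linter.style.haveILetI false
universe u
open CategoryTheory CategoryTheory.Limits AlgebraicGeometry

namespace Groth.Agent.Lib.Helper51

open LocCoh IsLocalRing

theorem isCohenMacaulayLocalRing_of_isField (K : Type u) [CommRing K] (h : IsField K) :
    IsCohenMacaulayLocalRing K := by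
  letI := h.toField
  obtain ⟨k, d, hk, hd, hle⟩ := Groth.Agent.Lib.Helper67.exists_dim_depth_natCast K
  have h0 : ringKrullDim K = 0 := ringKrullDim_eq_zero_of_field K
  rw [h0] at hk
  have hk0 : k = 0 := by exact_mod_cast hk.symm
  rw [Groth.Agent.Lib.Helper67.isCohenMacaulayLocalRing_iff_natCast K k d (by rw [h0, hk]) hd]
  omega

theorem isCM_iff_of_flat_of_formallyUnramified {R S : Type u} [CommRing R] [CommRing S] [Algebra R S]
    [IsLocalRing R] [IsLocalRing S] [IsNoetherianRing R] [IsNoetherianRing S]
    [IsLocalHom (algebraMap R S)] [Module.Flat R S] [Algebra.FormallyUnramified R S]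
    [Algebra.EssFiniteType R S] :
    IsCohenMacaulayLocalRing S ↔ IsCohenMacaulayLocalRing R := by
  rw [Groth.Agent.Lib.Helper67.isCohenMacaulayLocalRing_iff_of_flat (R := R) (S := S)]
  have hF : IsField (S ⧸ (maximalIdeal R).map (algebraMap R S)) :=
    Algebra.FormallyUnramified.isField_quotient_map_maximalIdeal
  exact ⟨fun h => h.1, fun h => ⟨h, isCohenMacaulayLocalRing_of_isField _ hF⟩⟩

/-- Étale morphisms to a locally noetherian scheme preserve and reflect the Cohen–Macaulay property of
local rings. -/
theorem isCM_stalk_iff_of_etale {U X : Scheme.{u}} (α : U ⟶ X) [Etale α] [IsLocallyNoetherian X]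
    (u : U) :
    IsCohenMacaulayLocalRing (U.presheaf.stalk u) ↔
      IsCohenMacaulayLocalRing (X.presheaf.stalk (α u)) := by
  haveI : IsLocallyNoetherian U := LocallyOfFiniteType.isLocallyNoetherian α
  letI : Algebra (X.presheaf.stalk (α u)) (U.presheaf.stalk u) := (α.stalkMap u).hom.toAlgebra
  haveI : IsLocalHom (algebraMap (X.presheaf.stalk (α u)) (U.presheaf.stalk u)) :=
    inferInstanceAs <| IsLocalHom (α.stalkMap u).hom
  haveI : Module.Flat (X.presheaf.stalk (α u)) (U.presheaf.stalk u) := Flat.stalkMap α u
  haveI : Algebra.EssFiniteType (X.presheaf.stalk (α u)) (U.presheaf.stalk u) := by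
    rw [← RingHom.essFiniteType_algebraMap, RingHom.algebraMap_toAlgebra]
    exact LocallyOfFiniteType.stalkMap α u
  haveI : Algebra.FormallyUnramified (X.presheaf.stalk (α u)) (U.presheaf.stalk u) := by
    rw [← RingHom.formallyUnramified_algebraMap, RingHom.algebraMap_toAlgebra]
    exact FormallyUnramified.stalkMap α u
  exact isCM_iff_of_flat_of_formallyUnramified

/-- The local rings of a scheme étale over a field are fields. -/
theorem maximalIdeal_stalk_eq_bot_of_etale {k : Type u} [Field k] {V : Scheme.{u}}
    (β : V ⟶ Spec (CommRingCat.of k)) [Etale β] (v : V) :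
    maximalIdeal (V.presheaf.stalk v) = ⊥ := by
  letI : Algebra ((Spec (CommRingCat.of k)).presheaf.stalk (β v)) (V.presheaf.stalk v) :=
    (β.stalkMap v).hom.toAlgebra
  haveI : IsLocalHom (algebraMap ((Spec (CommRingCat.of k)).presheaf.stalk (β v))
      (V.presheaf.stalk v)) :=
    inferInstanceAs <| IsLocalHom (β.stalkMap v).hom
  haveI : Algebra.EssFiniteType ((Spec (CommRingCat.of k)).presheaf.stalk (β v))
      (V.presheaf.stalk v) := by
    rw [← RingHom.essFiniteType_algebraMap, RingHom.algebraMap_toAlgebra]
    exact LocallyOfFiniteType.stalkMap β v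
  haveI : Algebra.FormallyUnramified ((Spec (CommRingCat.of k)).presheaf.stalk (β v))
      (V.presheaf.stalk v) := by
    rw [← RingHom.formallyUnramified_algebraMap, RingHom.algebraMap_toAlgebra]
    exact FormallyUnramified.stalkMap β v
  have h0 : maximalIdeal ((Spec (CommRingCat.of k)).presheaf.stalk (β v)) = ⊥ := by
    rw [eq_bot_iff]
    intro t ht
    exact Groth.Agent.Lib.Helper67.FiberStalk.eq_zero_of_not_isUnit_stalk_field k (β v) t
      ((mem_maximalIdeal t).mp ht)
  rw [← Algebra.FormallyUnramified.map_maximalIdeal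
    (R := (Spec (CommRingCat.of k)).presheaf.stalk (β v)) (S := V.presheaf.stalk v), h0,
    Ideal.map_bot]

/-- If the local ring of the target at `g u` is a field, then `g` is Cohen–Macaulay at `u` iff the
local ring of the source at `u` is Cohen–Macaulay. -/
theorem isCMAt_iff_of_maximalIdeal_eq_bot {U V : Scheme.{u}} (g : U ⟶ V) (u : U)
    (hV : maximalIdeal (V.presheaf.stalk (g u)) = ⊥) :
    MoreMor.IsCMAt g u ↔ IsCohenMacaulayLocalRing (U.presheaf.stalk u) := by
  have hF : IsField (V.presheaf.stalk (g u)) := isField_iff_maximalIdeal_eq.mpr hV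
  have hflat : (g.stalkMap u).hom.Flat := by
    letI := hF.toField
    letI : Algebra (V.presheaf.stalk (g u)) (U.presheaf.stalk u) := (g.stalkMap u).hom.toAlgebra
    show Module.Flat (V.presheaf.stalk (g u)) (U.presheaf.stalk u)
    infer_instance
  have hbot : Groth.Agent.Lib.Helper67.FiberStalk.fibIdeal g u = ⊥ := by
    rw [Groth.Agent.Lib.Helper67.FiberStalk.fibIdeal, hV, Ideal.map_bot]
  let e : (g.fiber (g u)).presheaf.stalk (g.asFiber u) ≃+* U.presheaf.stalk u :=
    (Groth.Agent.Lib.Helper67.FiberStalk.fiberStalkEquiv g u).trans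
      ((Ideal.quotEquivOfEq hbot).trans (RingEquiv.quotientBot _))
  unfold MoreMor.IsCMAt
  exact ⟨fun h => Groth.Agent.Lib.Helper56.isCohenMacaulayLocalRing_of_ringEquiv e h.2,
    fun h => ⟨hflat, Groth.Agent.Lib.Helper56.isCohenMacaulayLocalRing_of_ringEquiv e.symm h⟩⟩

end Groth.Agent.Lib.Helper51
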