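import Mathlib
import Groth.Agent.Lib.Helper51.Tower
import Groth.Agent.Lib.Helper51.GeomIrr
import Groth.Agent.Lib.Helper51.GeomFibreBC
import Groth.Agent.Lib.Helper57.EtRes6

/-!
# Geometric connectedness of a fibre via étale neighbourhoods (helper51)

* `connectedSpace_fiber_of_geometricallyConnected`: if the fibre of `f` over `g u` is geometrically
  connected, the fibre of the base change of `f` along `g` over `u` is connected.
* `geometricallyConnected_fiber_of_forall_etale`: conversely, if for every étale `(U, u) ⟶ (S, s)` the fibre of
  `X_U` over `u` is connected, then the fibre of `f` over `s` is geometrically connected.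
-/

set_option autoImplicit false
set_option linter.style.haveILetI false
universe u
open CategoryTheory CategoryTheory.Limits AlgebraicGeometry

namespace Groth.Agent.Lib.Helper51

theorem connectedSpace_fiber_of_geometricallyConnected {X S U : Scheme.{u}} (f : X ⟶ S) (g : U ⟶ S)
    (u : U) [GeometricallyConnected (f.fiberToSpecResidueField (g u))] :
    ConnectedSpace ↥((pullback.snd f g).fiber u) :=
  GeometricallyConnected.geometrically_connectedSpace _ _ _
    (isPullback_fiberMapOfIsPullback (IsPullback.of_hasPullback f g) u)

theorem geometricallyConnected_fiber_of_forall_etale {X S : Scheme.{u}} (f : X ⟶ S) (s : S)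
    (H : ∀ (U : Scheme.{u}) (g : U ⟶ S) (u : U), Etale g → g u = s →
      ConnectedSpace ↥((pullback.snd f g).fiber u)) :
    GeometricallyConnected (f.fiberToSpecResidueField s) := by
  have hc : ConnectedSpace ↥(pullback (f.fiberToSpecResidueField s)
      (Spec.map (CommRingCat.ofHom (algebraMap ↑(S.residueField s)
        (SeparableClosure ↑(S.residueField s)))))) := by
    apply connectedSpace_pullback_of_forall_finite (k := ↑(S.residueField s))
      (f.fiberToSpecResidueField s) (SeparableClosure ↑(S.residueField s))
    intro K hK
    haveI : Algebra.IsSeparable ↑(S.residueField s) K :=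
      Algebra.isSeparable_tower_bot_of_isSeparable ↑(S.residueField s) K
        (SeparableClosure ↑(S.residueField s))
    obtain ⟨U, g, u, hu, hg, ⟨e⟩⟩ :=
      Groth.Agent.Lib.Helper57.EtRes.exists_etale_nbhd_residueField_equiv S s K
    have hconn := H U g u hg hu
    subst hu
    have sq := isPullback_fiberMapOfIsPullback (IsPullback.of_hasPullback f g) u
    letI : Algebra ↑(S.residueField (g u)) ↑(U.residueField u) :=
      ((S.residueFieldCongr rfl).inv ≫ g.residueFieldMap u).hom.toAlgebra
    let a : Spec (U.residueField u) ⟶ Spec (CommRingCat.of K) :=
      Spec.map (e.toRingEquiv.toCommRingCatIso).hom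
    have hcomm : Spec.map (g.residueFieldMap u) =
        a ≫ Spec.map (CommRingCat.ofHom (algebraMap ↑(S.residueField (g u)) ↥K)) := by
      rw [← Spec.map_comp]
      congr 1
      ext c
      exact (e.commutes c).symm
    have sq' : IsPullback (fiberMapOfIsPullback (IsPullback.of_hasPullback f g) u)
        ((pullback.snd f g).fiberToSpecResidueField u ≫ a)
        (f.fiberToSpecResidueField (g u))
        (Spec.map (CommRingCat.ofHom (algebraMap ↑(S.residueField (g u)) ↥K))) :=
      IsPullback.of_iso sq (Iso.refl _) (Iso.refl _) (asIso a) (Iso.refl _)
        (by simp) (by simp) (by simp)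
        (by rw [Iso.refl_hom, Category.comp_id, asIso_hom]; exact hcomm)
    exact sq'.isoPullback.hom.surjective.connectedSpace sq'.isoPullback.hom.continuous
  exact @geometricallyConnected_of_separableClosure ↑(S.residueField s) _ _
    (f.fiberToSpecResidueField s) hc

end Groth.Agent.Lib.Helper51
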