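import Mathlib
import Groth.Agent.Lib.Helper51.EtaleCM
import Groth.Agent.Lib.Helper85.GorFlat
import Groth.Agent.Lib.Helper85.GorRing
import Groth.Agent.Lib.Helper85.RegGor

/-!
# Gorenstein local rings and étale morphisms (helper51)

Analogue of `EtaleCM` for Gorenstein local rings, based on `Helper85.GorFlat.gor_iff`.
-/

set_option autoImplicit false
set_option linter.style.haveILetI false
universe u
open CategoryTheory CategoryTheory.Limits AlgebraicGeometry

namespace Groth.Agent.Lib.Helper51

open LocCoh IsLocalRing

theorem isGorensteinLocalRing_of_isField (K : Type u) [CommRing K] (h : IsField K) :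
    IsGorensteinLocalRing K := by
  letI := h.toField
  exact Groth.Agent.Lib.Helper85.FLCrit.isGorensteinLocalRing_of_regular K

theorem isGor_iff_of_flat_of_formallyUnramified {R S : Type u} [CommRing R] [CommRing S]
    [Algebra R S] [IsLocalRing R] [IsLocalRing S] [IsNoetherianRing R] [IsNoetherianRing S]
    [IsLocalHom (algebraMap R S)] [Module.Flat R S] [Algebra.FormallyUnramified R S]
    [Algebra.EssFiniteType R S] :
    IsGorensteinLocalRing S ↔ IsGorensteinLocalRing R := by
  rw [Groth.Agent.Lib.Helper85.GorFlat.gor_iff R S]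
  have hF : IsField (S ⧸ (maximalIdeal R).map (algebraMap R S)) :=
    Algebra.FormallyUnramified.isField_quotient_map_maximalIdeal
  exact ⟨fun h => h.1, fun h => ⟨h, isGorensteinLocalRing_of_isField _ hF⟩⟩

/-- Étale morphisms to a locally noetherian scheme preserve and reflect the Gorenstein property of
local rings. -/
theorem isGor_stalk_iff_of_etale {U X : Scheme.{u}} (α : U ⟶ X) [Etale α] [IsLocallyNoetherian X]
    (u : U) :
    IsGorensteinLocalRing (U.presheaf.stalk u) ↔
      IsGorensteinLocalRing (X.presheaf.stalk (α u)) := by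
  haveI : IsLocallyNoetherian U := LocallyOfFiniteType.isLocallyNoetherian α
  letI : Algebra (X.presheaf.stalk (α u)) (U.presheaf.stalk u) := (α.stalkMap u).hom.toAlgebra
  haveI : IsLocalHom (algebraMap (X.presheaf.stalk (α u)) (U.presheaf.stalk u)) :=
    inferInstanceAs <| IsLocalHom (α.stalkMap u).hom
  haveI : Module.Flat (X.presheaf.stalk (α u)) (U.presheaf.stalk u) := Flat.stalkMap α u
  haveI : Algebra.EssFiniteType (X.presheaf.stalk (α u)) (U.presheaf.stalk u) := by
    rw [← RingHom.essFiniteType_algebraMap, RingHom.algebraMap_toAlgebra]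
    exact LocallyOfFiniteType.stalkMap α u
  haveI : Algebra.FormallyUnramified (X.presheaf.stalk (α u)) (U.presheaf.stalk u) := by
    rw [← RingHom.formallyUnramified_algebraMap, RingHom.algebraMap_toAlgebra]
    exact FormallyUnramified.stalkMap α u
  exact isGor_iff_of_flat_of_formallyUnramified

/-- If the local ring of the target at `g u` is a field, then `g` is flat with Gorenstein fibre at `u`
iff the local ring of the source at `u` is Gorenstein. -/
theorem isGorAt_iff_of_maximalIdeal_eq_bot {U V : Scheme.{u}} (g : U ⟶ V) (u : U)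
    (hV : maximalIdeal (V.presheaf.stalk (g u)) = ⊥) :
    ((g.stalkMap u).hom.Flat ∧
      IsGorensteinLocalRing ((g.fiber (g u)).presheaf.stalk (g.asFiber u))) ↔
      IsGorensteinLocalRing (U.presheaf.stalk u) := by
  have hF : IsField (V.presheaf.stalk (g u)) := isField_iff_maximalIdeal_eq.mpr hV
  have hflat : (g.stalkMap u).hom.Flat := by
    letI := hF.toField
    letI : Algebra (V.presheaf.stalk (g u)) (U.presheaf.stalk u) := (g.stalkMap u).hom.toAlgebra
    show Module.Flat (V.presheaf.stalk (g u)) (U.presheaf.stalk u)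
    infer_instance
  have hbot : Groth.Agent.Lib.Helper67.FiberStalk.fibIdeal g u = ⊥ := by
    rw [Groth.Agent.Lib.Helper67.FiberStalk.fibIdeal, hV, Ideal.map_bot]
  let e : (g.fiber (g u)).presheaf.stalk (g.asFiber u) ≃+* U.presheaf.stalk u :=
    (Groth.Agent.Lib.Helper67.FiberStalk.fiberStalkEquiv g u).trans
      ((Ideal.quotEquivOfEq hbot).trans (RingEquiv.quotientBot _))
  exact ⟨fun h => haveI := h.2; Groth.Agent.Lib.Helper85.GorRing.gor_of_ringEquiv e,
    fun h => ⟨hflat, haveI := h; Groth.Agent.Lib.Helper85.GorRing.gor_of_ringEquiv e.symm⟩⟩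

end Groth.Agent.Lib.Helper51
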