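import Mathlib
import Groth.Agent.Lib.Helper51.JacobianSmooth

/-!
# A local algebra whose quotient by a regular sequence is formally smooth is formally smooth (helper51)

`P` a local `R`-algebra, formally smooth with `Ω[P/R]` finite free.  `J ⊆ 𝔪` a finitely generated ideal,
`G ∈ 𝔪` a nonzerodivisor modulo `J` with `P/(J + (G))` formally smooth over `R`.  Then `P/J` is formally
smooth over `R` (`formallySmooth_quotient_of_regular_step`).  By induction the same holds for a weakly
regular sequence (`formallySmooth_of_isWeaklyRegular`), and for localizations of finitely presented algebras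
(`formallySmooth_localization_of_isWeaklyRegular`).  This is EGA IV 17.12.1 c) ⇒ a), without Noetherian
hypotheses.
-/

set_option autoImplicit false
open TensorProduct IsLocalRing KaehlerDifferential

namespace Groth.Agent.Lib.Helper51.RegularQuotSmooth

open Groth.Agent.Lib.Helper51.JacobianSlice Groth.Agent.Lib.Helper51.JacobianSmooth

section Local

variable {R P : Type*} [CommRing R] [CommRing P] [Algebra R P] [IsLocalRing P]

lemma one_tmul_smul' {M : Type*} [AddCommGroup M] [Module P M] (a : P) (ω : M) :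
    (1 : ResidueField P) ⊗ₜ[P] (a • ω) = residue P a • ((1 : ResidueField P) ⊗ₜ[P] ω) := by
  rw [TensorProduct.tmul_smul, TensorProduct.smul_tmul', TensorProduct.smul_tmul', smul_eq_mul,
    mul_one, Algebra.smul_def, mul_one]
  rfl

/-- Nakayama: if the `1 ⊗ j i` span `κ ⊗ 𝔟` then the `j i` generate `𝔟`. -/
theorem span_eq_of_span_one_tmul_eq_top (𝔟 : Ideal P) (hfg : 𝔟.FG) {ι : Type*} (j : ι → 𝔟)
    (hsp : Submodule.span (ResidueField P)
      (Set.range fun i => (1 : ResidueField P) ⊗ₜ[P] (j i)) = ⊤) :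
    Ideal.span (Set.range fun i => ((j i : 𝔟) : P)) = 𝔟 := by
  haveI : Module.Finite P 𝔟 := Module.Finite.iff_fg.mpr hfg
  let N : Submodule P 𝔟 := Submodule.span P (Set.range j)
  have hN : N = ⊤ := by
    rw [← IsLocalRing.map_tensorProduct_mk_eq_top (N := N), eq_top_iff]
    rintro v -
    have hv : v ∈ Submodule.span (ResidueField P)
        (Set.range fun i => (1 : ResidueField P) ⊗ₜ[P] (j i)) := by rw [hsp]; trivial
    induction hv using Submodule.span_induction with
    | mem x hx =>
      obtain ⟨i, rfl⟩ := hx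
      exact ⟨j i, Submodule.subset_span ⟨i, rfl⟩, rfl⟩
    | zero => exact zero_mem _
    | add x y _ _ hx hy => exact add_mem hx hy
    | smul c x _ hx =>
      obtain ⟨p, rfl⟩ := residue_surjective c
      obtain ⟨n, hn, rfl⟩ := hx
      refine ⟨p • n, N.smul_mem p hn, ?_⟩
      change (1 : ResidueField P) ⊗ₜ[P] (p • n) = residue P p • ((1 : ResidueField P) ⊗ₜ[P] n)
      exact one_tmul_smul' p n
  have h1 : Submodule.map 𝔟.subtype N = Submodule.map 𝔟.subtype ⊤ := by rw [hN]
  rw [Submodule.map_span, Submodule.map_top, Submodule.range_subtype, ← Set.range_comp] at h1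
  exact h1

/-- **Step**: `G ∈ 𝔪` a nonzerodivisor modulo `J` with `P/(J + (G))` formally smooth gives `P/J` formally
smooth. -/
theorem formallySmooth_quotient_of_regular_step
    [Algebra.FormallySmooth R P] [Module.Free P Ω[P⁄R]] [Module.Finite P Ω[P⁄R]]
    (J : Ideal P) (hJ : J.FG) (hJm : J ≤ maximalIdeal P) (G : P) (hG : G ∈ maximalIdeal P)
    (hreg : ∀ p, G * p ∈ J → p ∈ J)
    (hsm : Algebra.FormallySmooth R (P ⧸ (J ⊔ Ideal.span {G}))) :
    Algebra.FormallySmooth R (P ⧸ J) := by
  classical
  set 𝔟 : Ideal P := J ⊔ Ideal.span {G} with h𝔟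
  have hGm : Ideal.span {G} ≤ maximalIdeal P := (Ideal.span_singleton_le_iff_mem _).mpr hG
  have h𝔟m : 𝔟 ≤ maximalIdeal P := sup_le hJm hGm
  have h𝔟fg : 𝔟.FG := Submodule.FG.sup hJ (Submodule.fg_span_singleton G)
  haveI : Module.Finite P 𝔟 := Module.Finite.iff_fg.mpr h𝔟fg
  let incl : J → 𝔟 := fun a => ⟨a.1, Ideal.mem_sup_left a.2⟩
  let G' : 𝔟 := ⟨G, Ideal.mem_sup_right (Ideal.mem_span_singleton_self G)⟩
  let S : Set (ResidueField P ⊗[P] 𝔟) := Set.range fun a : J => (1 : ResidueField P) ⊗ₜ[P] (incl a)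
  let vG : ResidueField P ⊗[P] 𝔟 := (1 : ResidueField P) ⊗ₜ[P] G'
  -- the vectors `1 ⊗ a` (`a ∈ J`) and `1 ⊗ G` span
  have hkey : ∀ x : 𝔟, (1 : ResidueField P) ⊗ₜ[P] x ∈
      Submodule.span (ResidueField P) (insert vG S) := by
    rintro ⟨b, hb⟩
    obtain ⟨a, ha, g', hg', rfl⟩ := Submodule.mem_sup.mp hb
    obtain ⟨p, rfl⟩ := Ideal.mem_span_singleton'.mp hg'
    have hx : (⟨a + p * G, hb⟩ : 𝔟) = incl ⟨a, ha⟩ + p • G' := Subtype.ext rfl
    rw [hx, TensorProduct.tmul_add, one_tmul_smul']
    refine add_mem (Submodule.subset_span (Set.mem_insert_of_mem _ ⟨⟨a, ha⟩, rfl⟩))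
      (Submodule.smul_mem _ _ (Submodule.subset_span (Set.mem_insert _ _)))
  have hspan : Submodule.span (ResidueField P) (insert vG S) = ⊤ := by
    rw [eq_top_iff]
    rintro t -
    induction t using TensorProduct.induction_on with
    | zero => exact zero_mem _
    | tmul c x =>
      have : c ⊗ₜ[P] x = c • ((1 : ResidueField P) ⊗ₜ[P] x) := by
        rw [TensorProduct.smul_tmul', smul_eq_mul, mul_one]
      rw [this]
      exact Submodule.smul_mem _ _ (hkey x)
    | add x y hx hy => exact add_mem hx hy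
  obtain ⟨b, hbS, hbspan, hbli⟩ := exists_linearIndependent (ResidueField P) S
  have hbfin : b.Finite := hbli.setFinite
  haveI : Finite b := hbfin.to_subtype
  -- preimages in `J`
  have hpre : ∀ v : b, ∃ a : J, (1 : ResidueField P) ⊗ₜ[P] (incl a) = v.1 := fun v => hbS v.2
  choose a ha using hpre
  by_cases hvG : vG ∈ Submodule.span (ResidueField P) b
  · -- then `J` already generates `𝔟`
    have hS : Submodule.span (ResidueField P) S = ⊤ := by
      rw [eq_top_iff, ← hspan, Submodule.span_le]
      rintro x (rfl | hx)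
      · rw [← hbspan]; exact hvG
      · exact Submodule.subset_span hx
    have h1 := span_eq_of_span_one_tmul_eq_top 𝔟 h𝔟fg incl hS
    have h2 : Ideal.span (Set.range fun a : J => ((incl a : 𝔟) : P)) = J := by
      apply le_antisymm
      · rw [Ideal.span_le]; rintro _ ⟨a, rfl⟩; exact a.2
      · intro x hx; exact Ideal.subset_span ⟨⟨x, hx⟩, rfl⟩
    have h3 : 𝔟 = J := h1.symm.trans h2
    rw [h3] at hsm
    exact hsm
  · -- the family `a v` (`v ∈ b`), `G` is a minimal system of generators of `𝔟`
    let j : Option b → 𝔟 := fun o => o.elim G' (fun v => incl (a v))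
    have hli : LinearIndependent (ResidueField P)
        (fun o => (1 : ResidueField P) ⊗ₜ[P] (j o)) := by
      rw [linearIndependent_option]
      constructor
      · have : ((fun o => (1 : ResidueField P) ⊗ₜ[P] (j o)) ∘ some) = (Subtype.val : b → _) := by
          funext v
          exact ha v
        rw [this]
        exact hbli
      · have : Set.range ((fun o => (1 : ResidueField P) ⊗ₜ[P] (j o)) ∘ some) = b := by
          ext x
          constructor
          · rintro ⟨v, rfl⟩
            change (1 : ResidueField P) ⊗ₜ[P] (incl (a v)) ∈ b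
            rw [ha v]; exact v.2
          · intro hx
            exact ⟨⟨x, hx⟩, ha ⟨x, hx⟩⟩
        rw [this]
        exact hvG
    have hD := linearIndependent_one_tmul_D_of_formallySmooth_quotient (R := R) 𝔟 h𝔟m h𝔟fg j hli
    have hD' : LinearIndependent (ResidueField P)
        (fun v : b => (1 : ResidueField P) ⊗ₜ[P] D R P ((a v : J) : P)) :=
      hD.comp some (Option.some_injective _)
    have hjm : ∀ v : b, ((a v : J) : P) ∈ maximalIdeal P := fun v => hJm (a v).2
    have hsm0 := formallySmooth_quotient_of_linearIndependent (R := R)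
      (fun v : b => ((a v : J) : P)) hjm hD'
    set J₀ : Ideal P := Ideal.span (Set.range fun v : b => ((a v : J) : P)) with hJ₀
    have hJ₀J : J₀ ≤ J := by
      rw [Ideal.span_le]; rintro _ ⟨v, rfl⟩; exact (a v).2
    have hsp : Submodule.span (ResidueField P)
        (Set.range fun o => (1 : ResidueField P) ⊗ₜ[P] (j o)) = ⊤ := by
      rw [eq_top_iff, ← hspan, Submodule.span_le]
      rintro x (rfl | hx)
      · exact Submodule.subset_span ⟨none, rfl⟩
      · have hx' : x ∈ Submodule.span (ResidueField P) b := by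
          rw [hbspan]; exact Submodule.subset_span hx
        refine Submodule.span_mono ?_ hx'
        intro y hy
        exact ⟨some ⟨y, hy⟩, ha ⟨y, hy⟩⟩
    have h𝔟gen := span_eq_of_span_one_tmul_eq_top 𝔟 h𝔟fg j hsp
    have h𝔟le : 𝔟 ≤ J₀ ⊔ Ideal.span {G} := by
      rw [← h𝔟gen, Ideal.span_le]
      rintro _ ⟨o, rfl⟩
      cases o with
      | none => exact Ideal.mem_sup_right (Ideal.mem_span_singleton_self G)
      | some v => exact Ideal.mem_sup_left (Ideal.subset_span ⟨v, rfl⟩)
    have hJle : J ≤ J₀ ⊔ maximalIdeal P • J := by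
      intro x hx
      have hx𝔟 : x ∈ 𝔟 := Ideal.mem_sup_left hx
      obtain ⟨a₀, ha₀, g', hg', rfl⟩ := Submodule.mem_sup.mp (h𝔟le hx𝔟)
      obtain ⟨p, rfl⟩ := Ideal.mem_span_singleton'.mp hg'
      have hp : p ∈ J := by
        apply hreg
        have : G * p = (a₀ + p * G) - a₀ := by ring
        rw [this]
        exact sub_mem hx (hJ₀J ha₀)
      refine Submodule.add_mem_sup ha₀ ?_
      rw [mul_comm]
      exact Submodule.smul_mem_smul hG hp
    have hJJ₀ : J ≤ J₀ :=
      Submodule.le_of_le_smul_of_le_jacobson_bot hJ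
        (by rw [IsLocalRing.jacobson_eq_maximalIdeal ⊥ bot_ne_top]) hJle
    have hEq : J₀ = J := le_antisymm hJ₀J hJJ₀
    rw [hEq] at hsm0
    exact hsm0

end Local

section Seq

variable {R P : Type*} [CommRing R] [CommRing P] [Algebra R P] [IsLocalRing P]

/-- `rs` is a (weakly) regular sequence modulo `J`, phrased inside `P`. -/
def RegOn (J : Ideal P) (rs : List P) : Prop :=
  ∀ (i : ℕ) (h : i < rs.length) (p : P),
    rs[i] * p ∈ J ⊔ Ideal.ofList (rs.take i) → p ∈ J ⊔ Ideal.ofList (rs.take i)

theorem formallySmooth_quotient_of_regOn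
    [Algebra.FormallySmooth R P] [Module.Free P Ω[P⁄R]] [Module.Finite P Ω[P⁄R]] :
    ∀ (rs : List P) (J : Ideal P), J.FG → J ≤ maximalIdeal P → (∀ r ∈ rs, r ∈ maximalIdeal P) →
      RegOn J rs → Algebra.FormallySmooth R (P ⧸ (J ⊔ Ideal.ofList rs)) →
      Algebra.FormallySmooth R (P ⧸ J)
  | [], J, _, _, _, _, hsm => by
    rw [Ideal.ofList_nil, sup_bot_eq] at hsm
    exact hsm
  | r :: rs, J, hJ, hJm, hrs, hreg, hsm => by
    have hr : r ∈ maximalIdeal P := hrs r (List.mem_cons_self)
    have hrm : Ideal.span {r} ≤ maximalIdeal P := (Ideal.span_singleton_le_iff_mem _).mpr hr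
    have h1 : RegOn (J ⊔ Ideal.span {r}) rs := by
      intro i hi p hp
      have h := hreg (i + 1) (by simpa using hi) p
      simp only [List.getElem_cons_succ, List.take_succ_cons, Ideal.ofList_cons, ← sup_assoc] at h
      exact h hp
    have hsm' : Algebra.FormallySmooth R (P ⧸ ((J ⊔ Ideal.span {r}) ⊔ Ideal.ofList rs)) := by
      rw [sup_assoc, ← Ideal.ofList_cons]
      exact hsm
    have h2 := formallySmooth_quotient_of_regOn rs (J ⊔ Ideal.span {r})
      (Submodule.FG.sup hJ (Submodule.fg_span_singleton r)) (sup_le hJm hrm)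
      (fun r' hr' => hrs r' (List.mem_cons_of_mem _ hr')) h1 hsm'
    refine formallySmooth_quotient_of_regular_step J hJ hJm r hr ?_ h2
    intro p hp
    have h := hreg 0 (by simp) p
    simp only [List.getElem_cons_zero, List.take_zero, Ideal.ofList_nil, sup_bot_eq] at h
    exact h hp

theorem regOn_of_isWeaklyRegular {B : Type*} [CommRing B] (π : P →+* B)
    (hπ : Function.Surjective π) (rs : List P)
    (h : RingTheory.Sequence.IsWeaklyRegular B (rs.map π)) : RegOn (RingHom.ker π) rs := by
  intro i hi p hp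
  have hi' : i < (rs.map π).length := by simpa using hi
  have hreg := h.regular_mod_prev i hi'
  set I' : Ideal B := Ideal.ofList ((rs.map π).take i) with hI'
  have hI'map : I' = Ideal.map π (Ideal.ofList (rs.take i)) := by
    rw [hI', Ideal.map_ofList, List.map_take]
  have htop : (I' • (⊤ : Submodule B B)) = I' := by
    rw [smul_eq_mul, Ideal.mul_top]
  have h1 : π (rs[i]) * π p ∈ I' := by
    have := Ideal.mem_map_of_mem π hp
    rw [Ideal.map_sup, (Ideal.map_eq_bot_iff_le_ker π).mpr le_rfl, bot_sup_eq, ← hI'map, map_mul]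
      at this
    exact this
  have h2 : (Submodule.Quotient.mk (π p) : B ⧸ (I' • (⊤ : Submodule B B))) = 0 := by
    apply hreg
    change (rs.map π)[i] • Submodule.Quotient.mk (π p) = (rs.map π)[i] • (0 : B ⧸ _)
    rw [smul_zero, ← Submodule.Quotient.mk_smul, Submodule.Quotient.mk_eq_zero, htop,
      List.getElem_map, smul_eq_mul]
    exact h1
  rw [Submodule.Quotient.mk_eq_zero, htop, hI'map] at h2
  obtain ⟨t, ht, htp⟩ := (Ideal.mem_map_iff_of_surjective π hπ).mp h2
  have : p = (p - t) + t := by ring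
  rw [this]
  refine Submodule.add_mem_sup ?_ ht
  rw [RingHom.mem_ker, map_sub, htp, sub_self]

end Seq

section Main

universe u

variable {R P B : Type u} [CommRing R] [CommRing P] [CommRing B] [Algebra R P] [Algebra R B]
  [IsLocalRing P] [IsLocalRing B]

/-- **EGA IV 17.12.1 c) ⇒ a), local algebra form.**  `B` a local quotient of a formally smooth local
`R`-algebra `P` (with `Ω[P/R]` finite free) by a finitely generated ideal.  If `B/(rs)` is formally smooth
over `R` for a weakly regular sequence `rs` of non-units of `B`, then `B` is formally smooth over `R`. -/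
theorem formallySmooth_of_isWeaklyRegular
    [Algebra.FormallySmooth R P] [Module.Free P Ω[P⁄R]] [Module.Finite P Ω[P⁄R]]
    (π : P →ₐ[R] B) (hπ : Function.Surjective π) (hker : (RingHom.ker π).FG)
    (rs : List B) (hrs : ∀ r ∈ rs, ¬ IsUnit r) (hreg : RingTheory.Sequence.IsWeaklyRegular B rs)
    (hsm : Algebra.FormallySmooth R (B ⧸ Ideal.ofList rs)) : Algebra.FormallySmooth R B := by
  obtain ⟨rs', rfl⟩ : ∃ rs' : List P, rs'.map π = rs :=
    (List.map_surjective_iff.mpr hπ) rs
  have hkm : RingHom.ker π ≤ maximalIdeal P :=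
    le_maximalIdeal (RingHom.ker_ne_top π.toRingHom)
  have hrs' : ∀ r ∈ rs', r ∈ maximalIdeal P := by
    intro r hr
    rw [mem_maximalIdeal, mem_nonunits_iff]
    intro hu
    exact hrs (π r) (List.mem_map_of_mem hr) (hu.map π)
  have hregOn : RegOn (RingHom.ker π) rs' :=
    regOn_of_isWeaklyRegular π.toRingHom hπ rs' hreg
  -- the quotient `P/(ker π + (rs'))` is `B/(rs)`
  let ψ : P →ₐ[R] (B ⧸ Ideal.ofList (rs'.map π)) :=
    (Ideal.Quotient.mkₐ R (Ideal.ofList (rs'.map π))).comp π
  have hψ : Function.Surjective ψ :=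
    (Ideal.Quotient.mkₐ_surjective R _).comp hπ
  have hkψ : RingHom.ker ψ = RingHom.ker π ⊔ Ideal.ofList rs' := by
    ext x
    rw [RingHom.mem_ker]
    change Ideal.Quotient.mk _ (π x) = 0 ↔ _
    rw [Ideal.Quotient.eq_zero_iff_mem]
    constructor
    · intro h
      have h' : x ∈ Ideal.comap π.toRingHom (Ideal.map π.toRingHom (Ideal.ofList rs')) := by
        rw [Ideal.mem_comap, Ideal.map_ofList]
        exact h
      rw [Ideal.comap_map_of_surjective π.toRingHom hπ] at h'
      rw [sup_comm]
      exact h'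
    · intro h
      rw [sup_comm] at h
      have h' : x ∈ Ideal.comap π.toRingHom (Ideal.map π.toRingHom (Ideal.ofList rs')) := by
        rw [Ideal.comap_map_of_surjective π.toRingHom hπ]
        exact h
      rw [Ideal.mem_comap, Ideal.map_ofList] at h'
      exact h'
  let e : (P ⧸ RingHom.ker ψ) ≃ₐ[R] (B ⧸ Ideal.ofList (rs'.map π)) :=
    Ideal.quotientKerAlgEquivOfSurjective hψ
  have hsm1 : Algebra.FormallySmooth R (P ⧸ RingHom.ker ψ) := Algebra.FormallySmooth.of_equiv e.symm
  rw [hkψ] at hsm1
  have hsm2 := formallySmooth_quotient_of_regOn (R := R) rs' (RingHom.ker π) hker hkm hrs' hregOn hsm1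
  exact Algebra.FormallySmooth.of_equiv (Ideal.quotientKerAlgEquivOfSurjective hπ)

end Main

section FP

universe u

/-- **EGA IV 17.12.1 c) ⇒ a), essentially finitely presented form.**  `B` a finitely presented
`R`-algebra, `Bq` its localization at a prime `q`.  If `Bq/(rs)` is formally smooth over `R` for a weakly
regular sequence `rs` of non-units of `Bq`, then `Bq` is formally smooth over `R`. -/
theorem formallySmooth_localization_of_isWeaklyRegular {R B : Type u} [CommRing R] [CommRing B]
    [Algebra R B] [Algebra.FinitePresentation R B] (q : Ideal B) [q.IsPrime]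
    (Bq : Type u) [CommRing Bq] [Algebra B Bq] [Algebra R Bq] [IsScalarTower R B Bq]
    [IsLocalization.AtPrime Bq q]
    (rs : List Bq) (hrs : ∀ r ∈ rs, ¬ IsUnit r) (hreg : RingTheory.Sequence.IsWeaklyRegular Bq rs)
    (hsm : Algebra.FormallySmooth R (Bq ⧸ Ideal.ofList rs)) : Algebra.FormallySmooth R Bq := by
  haveI : IsLocalRing Bq := IsLocalization.AtPrime.isLocalRing Bq q
  obtain ⟨n, f₀, hf₀, hker₀⟩ := Algebra.FinitePresentation.out (R := R) (A := B)
  let g : MvPolynomial (Fin n) R →ₐ[R] Bq := (IsScalarTower.toAlgHom R B Bq).comp f₀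
  have hg : ∀ a, g a = algebraMap B Bq (f₀ a) := fun a => rfl
  let Q : Ideal (MvPolynomial (Fin n) R) := (maximalIdeal Bq).comap g.toRingHom
  haveI hQ : Q.IsPrime := Ideal.comap_isPrime _ _
  let P := Localization.AtPrime Q
  have hunits : ∀ y : Q.primeCompl, IsUnit (g y) := by
    rintro ⟨y, hy⟩
    by_contra h
    exact hy ((mem_maximalIdeal _).mpr h)
  let fP : P →ₐ[R] Bq := IsLocalization.liftAlgHom (M := Q.primeCompl) (f := g) hunits
  have hfP : ∀ a, fP (algebraMap _ P a) = g a := fun a => IsLocalization.lift_eq hunits a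
  have hmemQ : ∀ m' : MvPolynomial (Fin n) R, f₀ m' ∈ q.primeCompl → m' ∈ Q.primeCompl := by
    intro m' hm' hQ'
    have h1 : g m' ∈ maximalIdeal Bq := hQ'
    rw [hg] at h1
    exact (mem_maximalIdeal _).mp h1 (IsLocalization.map_units Bq (⟨f₀ m', hm'⟩ : q.primeCompl))
  have hsurj : Function.Surjective fP := by
    intro s
    obtain ⟨c, u, rfl⟩ := IsLocalization.exists_mk'_eq q.primeCompl s
    obtain ⟨c', rfl⟩ := hf₀ c
    obtain ⟨u', hu'⟩ := hf₀ u
    have hu'Q : u' ∈ Q.primeCompl := hmemQ u' (by rw [hu']; exact u.2)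
    refine ⟨IsLocalization.mk' P c' ⟨u', hu'Q⟩, ?_⟩
    change IsLocalization.lift hunits (IsLocalization.mk' P c' ⟨u', hu'Q⟩) = _
    rw [IsLocalization.lift_mk'_spec]
    change g c' = g u' * _
    rw [hg, hg, hu', mul_comm]
    exact (IsLocalization.mk'_spec Bq (f₀ c') u).symm
  haveI : Algebra.FormallyEtale (MvPolynomial (Fin n) R) P := .of_isLocalization Q.primeCompl
  haveI : Algebra.FormallySmooth R P := .comp _ (MvPolynomial (Fin n) R) _
  haveI : Module.Free P Ω[P⁄R] :=
    .of_equiv (KaehlerDifferential.tensorKaehlerEquivOfFormallyEtale R (MvPolynomial (Fin n) R) P)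
  haveI : Module.Finite P Ω[P⁄R] :=
    Module.Finite.equiv
      (KaehlerDifferential.tensorKaehlerEquivOfFormallyEtale R (MvPolynomial (Fin n) R) P)
  have hkereq : RingHom.ker fP =
      (RingHom.ker f₀.toRingHom).map (algebraMap (MvPolynomial (Fin n) R) P) := by
    apply le_antisymm
    · intro z hz
      obtain ⟨a, s, rfl⟩ := IsLocalization.exists_mk'_eq Q.primeCompl z
      rw [IsLocalization.mk'_mem_map_algebraMap_iff]
      have h1 : g a = 0 := by
        have h2 : fP (IsLocalization.mk' P a s) * fP (algebraMap _ P (s : MvPolynomial (Fin n) R)) =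
            fP (algebraMap _ P a) := by
          rw [← map_mul, IsLocalization.mk'_spec]
        rw [(RingHom.mem_ker).mp hz, zero_mul, hfP] at h2
        exact h2.symm
      rw [hg] at h1
      obtain ⟨m, hm⟩ := (IsLocalization.map_eq_zero_iff q.primeCompl Bq (f₀ a)).mp h1
      obtain ⟨m', hm'⟩ := hf₀ m
      refine ⟨m', hmemQ m' (by rw [hm']; exact m.2), ?_⟩
      rw [RingHom.mem_ker]
      change f₀ (m' * a) = 0
      rw [map_mul, hm']
      exact hm
    · rw [Ideal.map_le_iff_le_comap]
      intro a ha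
      rw [Ideal.mem_comap, RingHom.mem_ker, hfP, hg]
      have : f₀ a = 0 := ha
      rw [this, map_zero]
  have hkerfg : (RingHom.ker fP).FG := by
    rw [hkereq]
    exact hker₀.map _
  exact formallySmooth_of_isWeaklyRegular fP hsurj hkerfg rs hrs hreg hsm

end FP

end Groth.Agent.Lib.Helper51.RegularQuotSmooth
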