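import Mathlib
import Groth.Agent.Lib.Helper51.RegularQuotSmooth

/-!
# EGA IV 17.12.1 c) ⇒ a) for schemes, stalk form (helper51)

`f : X ⟶ S` locally of finite presentation, `x ∈ X`.  If `O_{X,x}/(rs)` is formally smooth over `O_{S,f x}`
for a weakly regular sequence `rs` of non-units of `O_{X,x}`, then `f` is smooth at `x`.
-/

set_option autoImplicit false
universe u
open CategoryTheory AlgebraicGeometry IsLocalRing

namespace Groth.Agent.Lib.Helper51.RegularQuotSmooth

variable {X S : Scheme.{u}}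

theorem formallySmooth_stalkMap_of_isWeaklyRegular (f : X ⟶ S) [LocallyOfFinitePresentation f]
    (x : X) (rs : List (X.presheaf.stalk x)) (hrs : ∀ r ∈ rs, ¬ IsUnit r)
    (hreg : RingTheory.Sequence.IsWeaklyRegular (X.presheaf.stalk x) rs)
    (hsm : ((Ideal.Quotient.mk (Ideal.ofList rs)).comp (f.stalkMap x).hom).FormallySmooth) :
    (f.stalkMap x).hom.FormallySmooth := by
  obtain ⟨_, ⟨V, hV, rfl⟩, hxV, -⟩ :=
    S.isBasis_affineOpens.exists_subset_of_mem_open (Set.mem_univ (f x)) isOpen_univ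
  obtain ⟨_, ⟨U, hU, rfl⟩, hxU, e⟩ :=
    X.isBasis_affineOpens.exists_subset_of_mem_open hxV (V.2.preimage f.continuous)
  have hfp := f.finitePresentation_appLE hV hU e
  algebraize [(f.appLE V U e).hom]
  let q : Ideal Γ(X, U) := (hU.primeIdealOf ⟨x, hxU⟩).asIdeal
  letI algBS : Algebra Γ(X, U) (X.presheaf.stalk x) := X.presheaf.algebra_section_stalk ⟨x, hxU⟩
  have hloc : IsLocalization.AtPrime (X.presheaf.stalk x) q := hU.isLocalization_stalk ⟨x, hxU⟩
  letI algRS : Algebra Γ(S, V) (X.presheaf.stalk x) :=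
    ((algebraMap Γ(X, U) (X.presheaf.stalk x)).comp (algebraMap Γ(S, V) Γ(X, U))).toAlgebra
  haveI : IsScalarTower Γ(S, V) Γ(X, U) (X.presheaf.stalk x) := .of_algebraMap_eq' rfl
  letI algΛ : Algebra (S.presheaf.stalk (f x)) (X.presheaf.stalk x) := (f.stalkMap x).hom.toAlgebra
  letI algRΛ : Algebra Γ(S, V) (S.presheaf.stalk (f x)) :=
    S.presheaf.algebra_section_stalk ⟨f x, hxV⟩
  have hlocS : IsLocalization.AtPrime (S.presheaf.stalk (f x))
      (hV.primeIdealOf ⟨f x, hxV⟩).asIdeal := hV.isLocalization_stalk ⟨f x, hxV⟩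
  haveI : Algebra.FormallyEtale Γ(S, V) (S.presheaf.stalk (f x)) :=
    Algebra.FormallyEtale.of_isLocalization (hV.primeIdealOf ⟨f x, hxV⟩).asIdeal.primeCompl
  have h2 : S.presheaf.germ V (f x) hxV ≫ f.stalkMap x =
      f.appLE V U e ≫ X.presheaf.germ U x hxU := by
    rw [Scheme.Hom.germ_stalkMap, Scheme.Hom.appLE, Category.assoc]
    congr 1
    exact (X.presheaf.germ_res _ _ _).symm
  haveI : IsScalarTower Γ(S, V) (S.presheaf.stalk (f x)) (X.presheaf.stalk x) :=
    IsScalarTower.of_algebraMap_eq' (by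
      have := congrArg CommRingCat.Hom.hom h2
      simp only [CommRingCat.hom_comp] at this
      exact this.symm)
  have hsm1 : Algebra.FormallySmooth (S.presheaf.stalk (f x))
      (X.presheaf.stalk x ⧸ Ideal.ofList rs) := by
    rw [← RingHom.formallySmooth_algebraMap]
    exact hsm
  have hsm2 : Algebra.FormallySmooth Γ(S, V) (X.presheaf.stalk x ⧸ Ideal.ofList rs) :=
    Algebra.FormallySmooth.comp _ (S.presheaf.stalk (f x)) _
  have key := formallySmooth_localization_of_isWeaklyRegular (R := Γ(S, V)) q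
    (X.presheaf.stalk x) rs hrs hreg hsm2
  exact (Algebra.FormallySmooth.iff_restrictScalars (R := Γ(S, V))
    (A := S.presheaf.stalk (f x)) (B := X.presheaf.stalk x)).mp key

end Groth.Agent.Lib.Helper51.RegularQuotSmooth
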