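import Mathlib
import Groth.Agent.Lib.Helper51.RegularQuotSmoothSch

/-!
# EGA IV 17.12.1 c) ⇒ a): a regular closed immersion with smooth source has smooth target (helper51)

* `ker_stalkMap_eq_map_germ`: for a closed immersion `j : Y ⟶ X`, `y ∈ Y`, `U ∋ j y` affine, the kernel of
  `O_{X,j y} → O_{Y,y}` is generated by the germs of `j.ker.ideal U`.
* `mem_smoothLocus_of_regular_stalk`: if `h = j ≫ f` is smooth at `y` and the kernel of the stalk map of
  `j` at `y` is generated by a weakly regular sequence, then `f` is smooth at `j y`.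
* `exists_smooth_nhd_of_regular` (S3829).
-/

set_option autoImplicit false
universe u
open CategoryTheory AlgebraicGeometry IsLocalRing

namespace Groth.Agent.Lib.Helper51.RegularQuotSmooth

variable {X Y S : Scheme.{u}}

theorem ker_stalkMap_eq_map_germ (j : Y ⟶ X) [IsClosedImmersion j] (y : Y) (U : X.Opens)
    (hU : IsAffineOpen U) (hyU : j y ∈ U) :
    RingHom.ker (j.stalkMap y).hom =
      Ideal.map (X.presheaf.germ U (j y) hyU).hom (j.ker.ideal ⟨U, hU⟩) := by
  have hW : IsAffineOpen (j ⁻¹ᵁ U) := hU.preimage j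
  have hyW : y ∈ j ⁻¹ᵁ U := hyU
  set K : Ideal Γ(X, U) := j.ker.ideal ⟨U, hU⟩ with hK
  have hKker : K = RingHom.ker (j.app U).hom := Scheme.Hom.ker_apply j ⟨U, hU⟩
  let q : Ideal Γ(X, U) := (hU.primeIdealOf ⟨j y, hyU⟩).asIdeal
  let q' : Ideal Γ(Y, j ⁻¹ᵁ U) := (hW.primeIdealOf ⟨y, hyW⟩).asIdeal
  letI algX : Algebra Γ(X, U) (X.presheaf.stalk (j y)) :=
    X.presheaf.algebra_section_stalk ⟨j y, hyU⟩
  letI algY : Algebra Γ(Y, j ⁻¹ᵁ U) (Y.presheaf.stalk y) :=
    Y.presheaf.algebra_section_stalk ⟨y, hyW⟩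
  have hlocX : IsLocalization.AtPrime (X.presheaf.stalk (j y)) q := hU.isLocalization_stalk ⟨j y, hyU⟩
  have hlocY : IsLocalization.AtPrime (Y.presheaf.stalk y) q' := hW.isLocalization_stalk ⟨y, hyW⟩
  have hgermX : ∀ b : Γ(X, U), algebraMap Γ(X, U) (X.presheaf.stalk (j y)) b =
      (X.presheaf.germ U (j y) hyU).hom b := fun b => rfl
  have hgermY : ∀ b : Γ(Y, j ⁻¹ᵁ U), algebraMap Γ(Y, j ⁻¹ᵁ U) (Y.presheaf.stalk y) b =
      (Y.presheaf.germ (j ⁻¹ᵁ U) y hyW).hom b := fun b => rfl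
  have hcomm : ∀ b : Γ(X, U), (j.stalkMap y).hom (algebraMap Γ(X, U) (X.presheaf.stalk (j y)) b) =
      algebraMap Γ(Y, j ⁻¹ᵁ U) (Y.presheaf.stalk y) ((j.app U).hom b) := by
    intro b
    rw [hgermX, hgermY]
    exact Scheme.Hom.germ_stalkMap_apply j U y hyU b
  have hsurj : Function.Surjective (j.app U).hom := j.app_surjective U hU
  apply le_antisymm
  · intro a ha
    obtain ⟨b, s, rfl⟩ := IsLocalization.exists_mk'_eq q.primeCompl a
    change IsLocalization.mk' (X.presheaf.stalk (j y)) b s ∈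
      Ideal.map (algebraMap Γ(X, U) (X.presheaf.stalk (j y))) K
    rw [IsLocalization.mk'_mem_map_algebraMap_iff]
    have h1 : (j.stalkMap y).hom (algebraMap Γ(X, U) (X.presheaf.stalk (j y)) b) = 0 := by
      have h2 : (j.stalkMap y).hom (IsLocalization.mk' (X.presheaf.stalk (j y)) b s) *
          (j.stalkMap y).hom (algebraMap Γ(X, U) (X.presheaf.stalk (j y)) (s : Γ(X, U))) =
          (j.stalkMap y).hom (algebraMap Γ(X, U) (X.presheaf.stalk (j y)) b) := by
        rw [← map_mul, IsLocalization.mk'_spec]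
      rw [(RingHom.mem_ker).mp ha, zero_mul] at h2
      exact h2.symm
    rw [hcomm] at h1
    obtain ⟨m, hm⟩ := (IsLocalization.map_eq_zero_iff q'.primeCompl (Y.presheaf.stalk y)
      ((j.app U).hom b)).mp h1
    obtain ⟨t, ht⟩ := hsurj m
    refine ⟨t, ?_, ?_⟩
    · intro htq
      have h3 : algebraMap Γ(X, U) (X.presheaf.stalk (j y)) t ∈
          maximalIdeal (X.presheaf.stalk (j y)) :=
        (IsLocalization.AtPrime.to_map_mem_maximal_iff (X.presheaf.stalk (j y)) q t).mpr htq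
      have h4 : (j.stalkMap y).hom (algebraMap Γ(X, U) (X.presheaf.stalk (j y)) t) ∈
          maximalIdeal (Y.presheaf.stalk y) := by
        rw [mem_maximalIdeal, mem_nonunits_iff] at h3 ⊢
        intro hu
        exact h3 (isUnit_of_map_unit (j.stalkMap y).hom _ hu)
      rw [hcomm, ht, IsLocalization.AtPrime.to_map_mem_maximal_iff (Y.presheaf.stalk y) q'] at h4
      exact m.2 h4
    · rw [hKker, RingHom.mem_ker, map_mul, ht]
      exact hm
  · rw [Ideal.map_le_iff_le_comap]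
    intro b hb
    rw [Ideal.mem_comap, RingHom.mem_ker]
    have h1 := hcomm b
    rw [hgermX] at h1
    rw [h1]
    rw [hKker, RingHom.mem_ker] at hb
    rw [hb, map_zero]

lemma formallySmooth_mk_comp_of_ker_eq {A B C : Type u} [CommRing A] [CommRing B] [CommRing C]
    (α : A →+* B) (φ : B →+* C) (hφ : Function.Surjective φ) (I : Ideal B)
    (hI : RingHom.ker φ = I) (h : (φ.comp α).FormallySmooth) :
    ((Ideal.Quotient.mk I).comp α).FormallySmooth := by
  subst hI
  let e : (B ⧸ RingHom.ker φ) ≃+* C := RingHom.quotientKerEquivOfSurjective hφ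
  have he : (Ideal.Quotient.mk (RingHom.ker φ)).comp α = e.symm.toRingHom.comp (φ.comp α) := by
    ext a
    apply e.injective
    simp only [RingHom.comp_apply, RingEquiv.toRingHom_eq_coe, RingHom.coe_coe,
      RingEquiv.apply_symm_apply]
    rfl
  rw [he]
  exact RingHom.FormallySmooth.respectsIso.1 _ e.symm h

/-- If `j ≫ f` is smooth at `y` and the ideal of the closed immersion `j` at `y` is generated by a weakly
regular sequence, then `f` is smooth at `j y`. -/
theorem mem_smoothLocus_of_regular_stalk (f : X ⟶ S) [LocallyOfFinitePresentation f]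
    (j : Y ⟶ X) [IsClosedImmersion j] [LocallyOfFinitePresentation (j ≫ f)] (y : Y)
    (hy : y ∈ (j ≫ f).smoothLocus)
    (rs : List (X.presheaf.stalk (j y)))
    (hreg : RingTheory.Sequence.IsWeaklyRegular (X.presheaf.stalk (j y)) rs)
    (hker : RingHom.ker (j.stalkMap y).hom = Ideal.ofList rs) :
    j y ∈ f.smoothLocus := by
  rw [Scheme.Hom.mem_smoothLocus]
  have hsurj : Function.Surjective (j.stalkMap y).hom := j.stalkMap_surjective y
  have hrs : ∀ r ∈ rs, ¬ IsUnit r := by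
    intro r hr hu
    have h1 : r ∈ RingHom.ker (j.stalkMap y).hom := by
      rw [hker]
      exact Ideal.subset_span hr
    have h2 := hu.map (j.stalkMap y).hom
    rw [(RingHom.mem_ker).mp h1] at h2
    exact not_isUnit_zero h2
  apply formallySmooth_stalkMap_of_isWeaklyRegular f (j y) rs hrs hreg
  apply formallySmooth_mk_comp_of_ker_eq _ (j.stalkMap y).hom hsurj _ hker
  have h1 : (j ≫ f).stalkMap y = f.stalkMap (j y) ≫ j.stalkMap y := Scheme.Hom.stalkMap_comp j f y
  rw [Scheme.Hom.mem_smoothLocus, h1] at hy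
  exact hy

theorem mem_smoothLocus_of_smooth_restrict (h : Y ⟶ S) [LocallyOfFinitePresentation h] (y : Y)
    (hy : ∃ V : Y.Opens, y ∈ V ∧ Smooth (V.ι ≫ h)) : y ∈ h.smoothLocus := by
  obtain ⟨V, hyV, hsm⟩ := hy
  have h1 : V.ι ⁻¹ᵁ h.smoothLocus = ⊤ := by
    rw [Scheme.Hom.preimage_smoothLocus_eq, Scheme.Hom.smoothLocus_eq_top]
  have h2 : (⟨y, hyV⟩ : V) ∈ V.ι ⁻¹ᵁ h.smoothLocus := by rw [h1]; trivial
  exact h2

theorem exists_smooth_nhd_of_mem_smoothLocus (f : X ⟶ S) [LocallyOfFinitePresentation f] (x : X)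
    (hx : x ∈ f.smoothLocus) : ∃ U : X.Opens, x ∈ U ∧ Smooth (U.ι ≫ f) := by
  refine ⟨f.smoothLocus, hx, ?_⟩
  rw [← Scheme.Hom.smoothLocus_eq_top_iff, ← Scheme.Hom.preimage_smoothLocus_eq]
  exact Scheme.Opens.ι_preimage_self _

/-- **EGA IV 17.12.1 c) ⇒ a)** (S3829). -/
theorem exists_smooth_nhd_of_regular (f : X ⟶ S) (h : Y ⟶ S)
    [LocallyOfFinitePresentation f] [LocallyOfFinitePresentation h] (j : Y ⟶ X) [IsClosedImmersion j]
    (hj : j ≫ f = h) (y : ↥Y) (hy : ∃ V : Y.Opens, y ∈ V ∧ Smooth (V.ι ≫ h))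
    (hreg : ∃ (U : X.Opens) (hU : IsAffineOpen U), j y ∈ U ∧
      ∃ rs : List Γ(X, U), RingTheory.Sequence.IsRegular Γ(X, U) rs ∧
        j.ker.ideal ⟨U, hU⟩ = Ideal.ofList rs) :
    ∃ U : X.Opens, j y ∈ U ∧ Smooth (U.ι ≫ f) := by
  subst hj
  obtain ⟨U, hU, hyU, rs, hrs, hker⟩ := hreg
  apply exists_smooth_nhd_of_mem_smoothLocus
  have hy' := mem_smoothLocus_of_smooth_restrict (j ≫ f) y hy
  letI algX : Algebra Γ(X, U) (X.presheaf.stalk (j y)) :=
    X.presheaf.algebra_section_stalk ⟨j y, hyU⟩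
  have hlocX : IsLocalization.AtPrime (X.presheaf.stalk (j y))
      (hU.primeIdealOf ⟨j y, hyU⟩).asIdeal := hU.isLocalization_stalk ⟨j y, hyU⟩
  haveI : Module.Flat Γ(X, U) (X.presheaf.stalk (j y)) :=
    IsLocalization.flat _ (hU.primeIdealOf ⟨j y, hyU⟩).asIdeal.primeCompl
  have hw := hrs.toIsWeaklyRegular.of_flat (S := X.presheaf.stalk (j y))
  apply mem_smoothLocus_of_regular_stalk f j y hy' _ hw
  rw [ker_stalkMap_eq_map_germ j y U hU hyU, hker, ← Ideal.map_ofList]
  rfl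

end Groth.Agent.Lib.Helper51.RegularQuotSmooth
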