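import Mathlib
import Groth.Agent.Lib.Helper51.EtaleSlice
import Groth.Agent.Lib.Helper51.RegularImmSmooth

/-!
# Étale closed slices through a closed subscheme embedded in the base (helper51)

`f : X ⟶ Y` smooth, `i : Z ⟶ X` a closed immersion with `i ≫ f` again a closed immersion.  Then
locally on `X` around `i z` there is a closed subscheme `W` of an open `U` which is étale over `Y`
and contains `Z ∩ U`.
-/

set_option autoImplicit false
universe u
open CategoryTheory CategoryTheory.Limits AlgebraicGeometry IsLocalRing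

namespace Groth.Agent.Lib.Helper51.EtaleSliceClosed

/-- Transport of étaleness of `B_f / I₀ B_f` between two models of the localization `B_f`. -/
theorem etale_quotient_of_isLocalizationAway {R B : Type*} [CommRing R] [CommRing B] [Algebra R B]
    (I₀ : Ideal B) (f : B) (Bf Bf' : Type*) [CommRing Bf] [CommRing Bf'] [Algebra B Bf] [Algebra B Bf']
    [Algebra R Bf] [Algebra R Bf'] [IsScalarTower R B Bf] [IsScalarTower R B Bf']
    [IsLocalization.Away f Bf] [IsLocalization.Away f Bf']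
    (h : Algebra.Etale R (Bf ⧸ I₀.map (algebraMap B Bf))) :
    Algebra.Etale R (Bf' ⧸ I₀.map (algebraMap B Bf')) := by
  haveI h1 : IsLocalization (Algebra.algebraMapSubmonoid (B ⧸ I₀) (Submonoid.powers f))
      (Bf ⧸ I₀.map (algebraMap B Bf)) := inferInstance
  haveI h2 : IsLocalization (Algebra.algebraMapSubmonoid (B ⧸ I₀) (Submonoid.powers f))
      (Bf' ⧸ I₀.map (algebraMap B Bf')) := inferInstance
  let e : (Bf ⧸ I₀.map (algebraMap B Bf)) ≃ₐ[B ⧸ I₀] (Bf' ⧸ I₀.map (algebraMap B Bf')) :=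
    IsLocalization.algEquiv (Algebra.algebraMapSubmonoid (B ⧸ I₀) (Submonoid.powers f)) _ _
  exact Algebra.Etale.of_equiv (e.restrictScalars R)

variable {X Y Z : Scheme.{u}}

open Groth.Agent.Lib.Helper51.RegularQuotSmooth in
/-- The unramifiedness input: `Γ(Y,V) → 𝒪_{X,x}/J𝒪_{X,x}` is formally unramified when `Z → Y` is
surjective on the stalk at `z`. -/
theorem formallyUnramified_quotient_stalk (f : X ⟶ Y) (i : Z ⟶ X) [IsClosedImmersion i]
    [IsClosedImmersion (i ≫ f)] (z : Z)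
    {V : Y.Opens} (hV : IsAffineOpen V) {U : X.Opens} (hU : IsAffineOpen U) (hUV : U ≤ f ⁻¹ᵁ V)
    (hx : i z ∈ U) :
    ((Ideal.Quotient.mk ((i.ker.ideal ⟨U, hU⟩).map (X.presheaf.germ U (i z) hx).hom)).comp
      ((X.presheaf.germ U (i z) hx).hom.comp (f.appLE V U hUV).hom)).FormallyUnramified := by
  set K := (i.ker.ideal ⟨U, hU⟩).map (X.presheaf.germ U (i z) hx).hom with hK
  have hker : RingHom.ker (i.stalkMap z).hom = K := ker_stalkMap_eq_map_germ i z U hU hx
  have h2 : Y.presheaf.germ V (f (i z)) (hUV hx) ≫ f.stalkMap (i z) =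
      f.appLE V U hUV ≫ X.presheaf.germ U (i z) hx := by
    rw [Scheme.Hom.germ_stalkMap, Scheme.Hom.appLE, Category.assoc]
    congr 1
    exact (X.presheaf.germ_res _ _ _).symm
  have hcomm : (Ideal.Quotient.mk K).comp
      ((X.presheaf.germ U (i z) hx).hom.comp (f.appLE V U hUV).hom) =
      ((Ideal.Quotient.mk K).comp (f.stalkMap (i z)).hom).comp
        (Y.presheaf.germ V (f (i z)) (hUV hx)).hom := by
    have h4 := congrArg CommRingCat.Hom.hom h2
    simp only [CommRingCat.hom_comp] at h4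
    rw [RingHom.comp_assoc, h4]
  rw [hcomm]
  refine RingHom.FormallyUnramified.comp ?_ ?_
  · let alg := Y.presheaf.algebra_section_stalk ⟨f (i z), hUV hx⟩
    have := hV.isLocalization_stalk ⟨f (i z), hUV hx⟩
    have : Algebra.FormallyUnramified Γ(Y, V) (Y.presheaf.stalk (f (i z))) :=
      Algebra.FormallyUnramified.of_isLocalization
        (hV.primeIdealOf ⟨f (i z), hUV hx⟩).asIdeal.primeCompl
    exact (RingHom.formallyUnramified_algebraMap).mpr this
  · refine RingHom.FormallyUnramified.of_surjective ?_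
    intro p
    obtain ⟨p, rfl⟩ := Ideal.Quotient.mk_surjective p
    obtain ⟨a, ha⟩ := (i ≫ f).stalkMap_surjective z ((i.stalkMap z).hom p)
    refine ⟨a, ?_⟩
    rw [RingHom.comp_apply, Ideal.Quotient.eq, ← hker, RingHom.mem_ker, map_sub, sub_eq_zero]
    rw [← ha, Scheme.Hom.stalkMap_comp]
    rfl

open KaehlerDifferential in
/-- **Étale closed slice containing `Z`**. -/
theorem exists_etale_closed_slice (f : X ⟶ Y) [Smooth f] (i : Z ⟶ X) [IsClosedImmersion i]
    [IsClosedImmersion (i ≫ f)] (z : Z) :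
    ∃ (U : X.Opens) (_ : i.base z ∈ U) (W : Scheme.{u}) (j : W ⟶ (U : Scheme.{u}))
      (_ : IsClosedImmersion j) (_ : Etale (j ≫ U.ι ≫ f))
      (g : ((i ⁻¹ᵁ U : Z.Opens) : Scheme.{u}) ⟶ W), g ≫ j = i ∣_ U := by
  obtain ⟨_, ⟨V, hV, rfl⟩, hsV, -⟩ :=
    Y.isBasis_affineOpens.exists_subset_of_mem_open (Set.mem_univ (f (i z))) isOpen_univ
  obtain ⟨_, ⟨U₀, hU₀, rfl⟩, hxU₀, hUV⟩ :=
    X.isBasis_affineOpens.exists_subset_of_mem_open hsV (V.2.preimage f.continuous)
  have hsm := f.smooth_appLE hV hU₀ hUV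
  algebraize [(f.appLE V U₀ hUV).hom]
  let q : Ideal Γ(X, U₀) := (hU₀.primeIdealOf ⟨i z, hxU₀⟩).asIdeal
  let algBS : Algebra Γ(X, U₀) (X.presheaf.stalk (i z)) := X.presheaf.algebra_section_stalk ⟨i z, hxU₀⟩
  have hloc : IsLocalization.AtPrime (X.presheaf.stalk (i z)) q := hU₀.isLocalization_stalk ⟨i z, hxU₀⟩
  let algRS : Algebra Γ(Y, V) (X.presheaf.stalk (i z)) :=
    ((algebraMap Γ(X, U₀) (X.presheaf.stalk (i z))).comp (algebraMap Γ(Y, V) Γ(X, U₀))).toAlgebra
  have : IsScalarTower Γ(Y, V) Γ(X, U₀) (X.presheaf.stalk (i z)) := .of_algebraMap_eq' rfl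
  set J : Ideal Γ(X, U₀) := i.ker.ideal ⟨U₀, hU₀⟩ with hJ
  have hJker : J = RingHom.ker (i.app U₀).hom := Scheme.Hom.ker_apply i ⟨U₀, hU₀⟩
  -- `J ≤ q`
  have hJq : J ≤ q := by
    intro b hb
    have h0 : (i.stalkMap z).hom ((X.presheaf.germ U₀ (i z) hxU₀).hom b) = 0 := by
      rw [Scheme.Hom.germ_stalkMap_apply i U₀ z hxU₀ b]
      rw [hJker, RingHom.mem_ker] at hb
      rw [hb, map_zero]
    have hnu : ¬ IsUnit ((X.presheaf.germ U₀ (i z) hxU₀).hom b) := by
      intro hu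
      have := hu.map (i.stalkMap z).hom
      rw [h0] at this
      exact not_isUnit_zero this
    have hm : algebraMap Γ(X, U₀) (X.presheaf.stalk (i z)) b ∈ maximalIdeal (X.presheaf.stalk (i z)) :=
      (IsLocalRing.mem_maximalIdeal _).mpr hnu
    exact (IsLocalization.AtPrime.to_map_mem_maximal_iff (X.presheaf.stalk (i z)) q b).mp hm
  have hunr : Algebra.FormallyUnramified Γ(Y, V)
      (X.presheaf.stalk (i z) ⧸ J.map (algebraMap Γ(X, U₀) (X.presheaf.stalk (i z)))) := by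
    rw [← RingHom.formallyUnramified_algebraMap]
    exact formallyUnramified_quotient_stalk f i z hV hU₀ hUV hxU₀
  have hsub : Subsingleton
      Ω[(X.presheaf.stalk (i z) ⧸ J.map (algebraMap Γ(X, U₀) (X.presheaf.stalk (i z))))⁄Γ(Y, V)] :=
    inferInstance
  obtain ⟨I₀, hI₀J, hfg, g₀, hg₀, hEt⟩ :=
    Groth.Agent.Lib.Helper51.EtaleSlice.exists_etale_away_quotient_of_isLocalization
      (R := Γ(Y, V)) q (X.presheaf.stalk (i z)) J hJq
  -- the open `U = D(g₀)`
  let U : X.Opens := X.basicOpen g₀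
  have hU : IsAffineOpen U := hU₀.basicOpen g₀
  have hUle : U ≤ U₀ := X.basicOpen_le g₀
  have hxU : i z ∈ U := by
    rw [Scheme.mem_basicOpen X g₀ (i z) hxU₀]
    exact IsLocalization.map_units (X.presheaf.stalk (i z)) (⟨g₀, hg₀⟩ : q.primeCompl)
  have hUV' : U ≤ f ⁻¹ᵁ V := hUle.trans hUV
  have hlocU : IsLocalization.Away g₀ Γ(X, U) := hU₀.isLocalization_basicOpen g₀
  let algRU : Algebra Γ(Y, V) Γ(X, U) := (f.appLE V U hUV').hom.toAlgebra
  have htower : IsScalarTower Γ(Y, V) Γ(X, U₀) Γ(X, U) := by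
    refine .of_algebraMap_eq' ?_
    change (f.appLE V U hUV').hom = (X.presheaf.map (homOfLE hUle).op).hom.comp (f.appLE V U₀ hUV).hom
    rw [← CommRingCat.hom_comp, Scheme.Hom.appLE_map]
  set I₁ : Ideal Γ(X, U) := I₀.map (algebraMap Γ(X, U₀) Γ(X, U)) with hI₁
  have hEt' : Algebra.Etale Γ(Y, V) (Γ(X, U) ⧸ I₁) :=
    etale_quotient_of_isLocalizationAway I₀ g₀ (Localization.Away g₀) Γ(X, U) hEt
  -- `I₁` is killed by `i.app U`
  have hI₁ker : ∀ a ∈ I₁, (i.app U).hom a = 0 := by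
    intro a ha
    have hle : I₁ ≤ RingHom.ker (i.app U).hom := by
      rw [hI₁, Ideal.map_le_iff_le_comap]
      intro b hb
      rw [Ideal.mem_comap, RingHom.mem_ker]
      have hb' : (i.app U₀).hom b = 0 := by
        have := hI₀J hb
        rwa [hJker, RingHom.mem_ker] at this
      change (i.app U).hom ((X.presheaf.map (homOfLE hUle).op).hom b) = 0
      have hnat := i.naturality (homOfLE hUle).op
      have := congrArg (fun φ => φ.hom b) hnat
      simp only [CommRingCat.hom_comp, RingHom.comp_apply] at this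
      rw [this, hb', map_zero]
    exact hle ha
  let W : Scheme.{u} := Spec (.of (Γ(X, U) ⧸ I₁))
  let c : W ⟶ Spec Γ(X, U) := Spec.map (CommRingCat.ofHom (Ideal.Quotient.mk I₁))
  have hc : IsClosedImmersion c :=
    IsClosedImmersion.spec_of_surjective _ Ideal.Quotient.mk_surjective
  let j : W ⟶ (U : Scheme.{u}) := c ≫ hU.isoSpec.inv
  let φ : (Γ(X, U) ⧸ I₁) →+* Γ(Z, i ⁻¹ᵁ U) := Ideal.Quotient.lift I₁ (i.app U).hom hI₁ker
  let g : ((i ⁻¹ᵁ U : Z.Opens) : Scheme.{u}) ⟶ W :=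
    (i ⁻¹ᵁ U).toSpecΓ ≫ Spec.map (CommRingCat.ofHom φ)
  refine ⟨U, hxU, W, j, inferInstance, ?_, g, ?_⟩
  · -- étale
    have h1 : j ≫ U.ι ≫ f =
        Spec.map (CommRingCat.ofHom (algebraMap Γ(Y, V) (Γ(X, U) ⧸ I₁))) ≫ hV.fromSpec := by
      change (c ≫ hU.isoSpec.inv) ≫ U.ι ≫ f = _
      rw [Category.assoc, ← Category.assoc hU.isoSpec.inv, IsAffineOpen.isoSpec_inv_ι,
        ← IsAffineOpen.SpecMap_appLE_fromSpec f hV hU hUV']
      change Spec.map _ ≫ Spec.map _ ≫ _ = _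
      rw [← Spec.map_comp_assoc]
      congr 2
    rw [h1]
    have h2 : Etale (Spec.map (CommRingCat.ofHom (algebraMap Γ(Y, V) (Γ(X, U) ⧸ I₁)))) :=
      HasRingHomProperty.Spec_iff.mpr (RingHom.etale_algebraMap.mpr hEt')
    infer_instance
  · -- factorisation
    change ((i ⁻¹ᵁ U).toSpecΓ ≫ Spec.map (CommRingCat.ofHom φ)) ≫ c ≫ hU.isoSpec.inv = i ∣_ U
    have hφ : CommRingCat.ofHom (Ideal.Quotient.mk I₁) ≫ CommRingCat.ofHom φ = i.app U := by
      ext a
      rfl
    rw [Category.assoc, ← Category.assoc (Spec.map _), ← Spec.map_comp, hφ,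
      ← Category.assoc, Scheme.Opens.toSpecΓ_naturality, Category.assoc,
      ← IsAffineOpen.isoSpec_hom hU, Iso.hom_inv_id, Category.comp_id]

end Groth.Agent.Lib.Helper51.EtaleSliceClosed
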