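import Mathlib
import Groth.Agent.Lib.Helper51.EtaleSlice

/-!
# Étale slices of smooth morphisms through points with separable residue field (helper51)
-/

set_option autoImplicit false
universe u
open CategoryTheory CategoryTheory.Limits AlgebraicGeometry IsLocalRing

namespace Groth.Agent.Lib.Helper51.EtaleSliceSch

variable {X S : Scheme.{u}}

/-- The composite `Γ(S,V) → Γ(X,U) → 𝒪_{X,x} → κ(x)` is formally unramified if `κ(x)/κ(f x)` is
separable. -/
theorem formallyUnramified_to_residueField (f : X ⟶ S) (x : X)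
    (hsep : @Algebra.IsSeparable (S.residueField (f x)) (X.residueField x) _ _
      (f.residueFieldMap x).hom.toAlgebra)
    {V : S.Opens} (hV : IsAffineOpen V) {U : X.Opens} (hUV : U ≤ f ⁻¹ᵁ V) (hx : x ∈ U) :
    ((X.residue x).hom.comp ((X.presheaf.germ U x hx).hom.comp (f.appLE V U hUV).hom)).FormallyUnramified := by
  have hcomm : (X.residue x).hom.comp ((X.presheaf.germ U x hx).hom.comp (f.appLE V U hUV).hom) =
      (f.residueFieldMap x).hom.comp ((S.residue (f x)).hom.comp
        (S.presheaf.germ V (f x) (hUV hx)).hom) := by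
    have h1 := Scheme.residue_residueFieldMap f x
    have h2 : S.presheaf.germ V (f x) (hUV hx) ≫ f.stalkMap x =
        f.appLE V U hUV ≫ X.presheaf.germ U x hx := by
      rw [Scheme.Hom.germ_stalkMap, Scheme.Hom.appLE, Category.assoc]
      congr 1
      exact (X.presheaf.germ_res _ _ _).symm
    have h3 : S.presheaf.germ V (f x) (hUV hx) ≫ S.residue (f x) ≫ f.residueFieldMap x =
        f.appLE V U hUV ≫ X.presheaf.germ U x hx ≫ X.residue x := by
      rw [h1, ← Category.assoc, h2, Category.assoc]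
    have h4 := congrArg CommRingCat.Hom.hom h3
    simp only [CommRingCat.hom_comp] at h4
    exact h4.symm
  rw [hcomm]
  refine RingHom.FormallyUnramified.comp ?_ ?_
  · refine RingHom.FormallyUnramified.comp ?_ ?_
    · let alg := S.presheaf.algebra_section_stalk ⟨f x, hUV hx⟩
      have := hV.isLocalization_stalk ⟨f x, hUV hx⟩
      have : Algebra.FormallyUnramified Γ(S, V) (S.presheaf.stalk (f x)) :=
        Algebra.FormallyUnramified.of_isLocalization
          (hV.primeIdealOf ⟨f x, hUV hx⟩).asIdeal.primeCompl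
      exact (RingHom.formallyUnramified_algebraMap).mpr this
    · exact RingHom.FormallyUnramified.of_surjective IsLocalRing.residue_surjective
  · let alg := (f.residueFieldMap x).hom.toAlgebra
    have : Algebra.FormallyUnramified (S.residueField (f x)) (X.residueField x) :=
      Algebra.FormallyUnramified.of_isSeparable _ _
    exact this

open KaehlerDifferential in
/-- **Étale slice**: `f` smooth, `κ(x)/κ(f x)` separable. Then there is an immersion `i : Z → X` through
`x` with `Z` étale over `S`. -/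
theorem exists_etale_slice (f : X ⟶ S) [Smooth f] (x : X)
    (hsep : @Algebra.IsSeparable (S.residueField (f x)) (X.residueField x) _ _
      (f.residueFieldMap x).hom.toAlgebra) :
    ∃ (Z : Scheme.{u}) (i : Z ⟶ X) (z : Z), IsImmersion i ∧ Etale (i ≫ f) ∧ i z = x := by
  obtain ⟨_, ⟨V, hV, rfl⟩, hsV, -⟩ :=
    S.isBasis_affineOpens.exists_subset_of_mem_open (Set.mem_univ (f x)) isOpen_univ
  obtain ⟨_, ⟨U, hU, rfl⟩, hxU, hUV⟩ :=
    X.isBasis_affineOpens.exists_subset_of_mem_open hsV (V.2.preimage f.continuous)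
  have hsm := f.smooth_appLE hV hU hUV
  algebraize [(f.appLE V U hUV).hom]
  let q : Ideal Γ(X, U) := (hU.primeIdealOf ⟨x, hxU⟩).asIdeal
  let algBS : Algebra Γ(X, U) (X.presheaf.stalk x) := X.presheaf.algebra_section_stalk ⟨x, hxU⟩
  have hloc : IsLocalization.AtPrime (X.presheaf.stalk x) q := hU.isLocalization_stalk ⟨x, hxU⟩
  let algRS : Algebra Γ(S, V) (X.presheaf.stalk x) :=
    ((algebraMap Γ(X, U) (X.presheaf.stalk x)).comp (algebraMap Γ(S, V) Γ(X, U))).toAlgebra
  have : IsScalarTower Γ(S, V) Γ(X, U) (X.presheaf.stalk x) := .of_algebraMap_eq' rfl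
  have hunr : Algebra.FormallyUnramified Γ(S, V)
      (X.presheaf.stalk x ⧸ q.map (algebraMap Γ(X, U) (X.presheaf.stalk x))) := by
    rw [IsLocalization.AtPrime.map_eq_maximalIdeal q (X.presheaf.stalk x)]
    rw [← RingHom.formallyUnramified_algebraMap]
    exact formallyUnramified_to_residueField f x hsep hV hUV hxU
  have hsub : Subsingleton
      Ω[(X.presheaf.stalk x ⧸ q.map (algebraMap Γ(X, U) (X.presheaf.stalk x)))⁄Γ(S, V)] :=
    inferInstance
  obtain ⟨I₀, hI₀q, hfg, g, hg, hEt⟩ :=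
    Groth.Agent.Lib.Helper51.EtaleSlice.exists_etale_away_quotient_of_isLocalization
      (R := Γ(S, V)) q (X.presheaf.stalk x) q le_rfl
  -- the slice
  let Bg := Localization.Away g
  let α : Γ(X, U) →+* Bg := algebraMap Γ(X, U) Bg
  let A := Bg ⧸ I₀.map α
  let π : Bg →+* A := Ideal.Quotient.mk (I₀.map α)
  let a : Spec (.of Bg) ⟶ Spec Γ(X, U) := Spec.map (CommRingCat.ofHom α)
  let c : Spec (.of A) ⟶ Spec (.of Bg) := Spec.map (CommRingCat.ofHom π)
  have ha : IsOpenImmersion a := inferInstanceAs <| IsOpenImmersion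
    (Spec.map (CommRingCat.ofHom (algebraMap Γ(X, U) (Localization.Away g))))
  have hc : IsClosedImmersion c :=
    IsClosedImmersion.spec_of_surjective _ Ideal.Quotient.mk_surjective
  let i : Spec (.of A) ⟶ X := c ≫ a ≫ hU.fromSpec
  -- the point
  let Sx := X.presheaf.stalk x
  let ev : Γ(X, U) →+* ResidueField Sx := (residue Sx).comp (algebraMap Γ(X, U) Sx)
  have hker : ∀ b, ev b = 0 ↔ b ∈ q := by
    intro b
    change residue Sx (algebraMap Γ(X, U) Sx b) = 0 ↔ _
    rw [residue_eq_zero_iff]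
    exact IsLocalization.AtPrime.to_map_mem_maximal_iff Sx q b
  have hevg : IsUnit (ev g) := by
    have : IsUnit (algebraMap Γ(X, U) Sx g) := IsLocalization.map_units Sx (⟨g, hg⟩ : q.primeCompl)
    exact this.map (residue Sx)
  let χ₁ : Bg →+* ResidueField Sx := IsLocalization.Away.lift g hevg
  have hχ₁ : χ₁.comp α = ev := IsLocalization.Away.lift_comp g hevg
  have hχ₁I : ∀ y ∈ I₀.map α, χ₁ y = 0 := by
    intro y hy
    have hle : I₀.map α ≤ RingHom.ker χ₁ := by
      rw [Ideal.map_le_iff_le_comap]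
      intro b hb
      rw [Ideal.mem_comap, RingHom.mem_ker, ← RingHom.comp_apply, hχ₁]
      exact (hker b).mpr (hI₀q hb)
    exact hle hy
  let χ : A →+* ResidueField Sx := Ideal.Quotient.lift (I₀.map α) χ₁ hχ₁I
  let z : Spec (.of A) := ⟨RingHom.ker χ, RingHom.ker_isPrime χ⟩
  refine ⟨Spec (.of A), i, z, inferInstance, ?_, ?_⟩
  · -- étale
    have h1 : i ≫ f = Spec.map (CommRingCat.ofHom (algebraMap Γ(S, V) A)) ≫ hV.fromSpec := by
      change (c ≫ a ≫ hU.fromSpec) ≫ f = _
      rw [Category.assoc, Category.assoc, ← IsAffineOpen.SpecMap_appLE_fromSpec f hV hU hUV]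
      change Spec.map _ ≫ Spec.map _ ≫ Spec.map _ ≫ _ = _
      rw [← Spec.map_comp_assoc, ← Spec.map_comp_assoc]
      congr 2
    rw [h1]
    have h2 : Etale (Spec.map (CommRingCat.ofHom (algebraMap Γ(S, V) A))) :=
      HasRingHomProperty.Spec_iff.mpr (RingHom.etale_algebraMap.mpr hEt)
    infer_instance
  · -- the point
    change hU.fromSpec (a (c z)) = x
    have : a (c z) = hU.primeIdealOf ⟨x, hxU⟩ := by
      apply PrimeSpectrum.ext
      ext b
      change χ (π (α b)) = 0 ↔ b ∈ q
      rw [← hker b, ← hχ₁]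
      rfl
    rw [this]
    exact hU.fromSpec_primeIdealOf ⟨x, hxU⟩

/-- A point of an étale `S`-scheme is isolated in its fibre. -/
theorem exists_open_fibre_singleton {Z : Scheme.{u}} (g : Z ⟶ S) [Etale g] (z : Z) :
    ∃ W : Z.Opens, z ∈ W ∧ ∀ z' ∈ W, g z' = g z → z' = z := by
  have : LocallyQuasiFinite g := by
    refine ⟨fun {U} hU {V} hV e => ?_⟩
    have h := g.etale_appLE hU hV e
    algebraize [(g.appLE U V e).hom]
    have : Algebra.Etale Γ(S, U) Γ(Z, V) := h
    exact inferInstanceAs (Algebra.QuasiFinite Γ(S, U) Γ(Z, V))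
  have hd := g.isDiscrete_preimage_singleton (g z)
  have : DiscreteTopology ↥(g ⁻¹' {g z}) := hd.to_subtype
  have hopen : IsOpen ({⟨z, rfl⟩} : Set ↥(g ⁻¹' {g z})) := isOpen_discrete _
  obtain ⟨t, ht, hteq⟩ := isOpen_induced_iff.mp hopen
  refine ⟨⟨t, ht⟩, ?_, ?_⟩
  · have : (⟨z, rfl⟩ : ↥(g ⁻¹' {g z})) ∈ Subtype.val ⁻¹' t := by rw [hteq]; rfl
    exact this
  · intro z' hz' he
    have : (⟨z', he⟩ : ↥(g ⁻¹' {g z})) ∈ Subtype.val ⁻¹' t := hz'
    rw [hteq] at this
    exact congrArg Subtype.val this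

/-- **Étale slice meeting the fibre in one point**. -/
theorem exists_etale_slice_unique (f : X ⟶ S) [Smooth f] (x : X)
    (hsep : @Algebra.IsSeparable (S.residueField (f x)) (X.residueField x) _ _
      (f.residueFieldMap x).hom.toAlgebra) :
    ∃ (Z : Scheme.{u}) (i : Z ⟶ X) (z : Z), IsImmersion i ∧ Etale (i ≫ f) ∧ i z = x ∧
      ∀ z' : ↑Z, f (i z') = f x → z' = z := by
  obtain ⟨Z, i, z, hi, hE, hz⟩ := exists_etale_slice f x hsep
  obtain ⟨W, hzW, hW⟩ := exists_open_fibre_singleton (i ≫ f) z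
  refine ⟨W.toScheme, W.ι ≫ i, ⟨z, hzW⟩, inferInstance, ?_, ?_, ?_⟩
  · rw [Category.assoc]
    infer_instance
  · exact hz
  · intro z' hz'
    apply Subtype.ext
    refine hW z'.1 z'.2 ?_
    change f (i z'.1) = f (i z)
    rw [hz]
    exact hz'

end Groth.Agent.Lib.Helper51.EtaleSliceSch
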