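import Mathlib
import Groth.Agent.S7605
import Groth.Agent.Lib.Helper51.CMAtBC

/-!
# Locally Noetherian fibres under base change of finite type (helper51)
-/

set_option autoImplicit false
set_option linter.style.haveILetI false
universe u
open CategoryTheory CategoryTheory.Limits AlgebraicGeometry TensorProduct

namespace Groth.Agent.Lib.Helper51

theorem isLocallyNoetherian_iff_of_isPullback {k K : Type u} [Field k] [Field K] [Algebra k K]
    [Algebra.EssFiniteType k K] {F F' : Scheme.{u}} (φ : F ⟶ Spec (CommRingCat.of k)) {m : F' ⟶ F}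
    {snd : F' ⟶ Spec (CommRingCat.of K)}
    (hP : IsPullback m snd φ (Spec.map (CommRingCat.ofHom (algebraMap k K)))) :
    IsLocallyNoetherian F' ↔ IsLocallyNoetherian F := by
  letI : F.Over (Spec (CommRingCat.of k)) := ⟨φ⟩
  have hfg : (⊤ : IntermediateField k K).FG := IntermediateField.fg_top_iff.mpr inferInstance
  have h1 := Groth.Agent.S7605.result k F K hfg
  rw [h1]
  have e : F' ≅ Curv2.bc k F K := hP.isoPullback
  exact ⟨fun h => isLocallyNoetherian_of_isOpenImmersion e.inv,
    fun h => isLocallyNoetherian_of_isOpenImmersion e.hom⟩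

theorem isLocallyNoetherian_fiber_iff {X Y X' Y' : Scheme.{u}} {f : X ⟶ Y} {f' : X' ⟶ Y'}
    {g' : X' ⟶ X} {g : Y' ⟶ Y} (hc : IsPullback g' f' f g) [LocallyOfFiniteType g] (y' : Y') :
    IsLocallyNoetherian (f'.fiber y') ↔ IsLocallyNoetherian (f.fiber (g y')) := by
  letI algkK : Algebra ↑(Y.residueField (g y')) ↑(Y'.residueField y') :=
    (g.residueFieldMap y').hom.toAlgebra
  have hP : IsPullback (fiberMapOfIsPullback hc y') (f'.fiberToSpecResidueField y')
      (f.fiberToSpecResidueField (g y'))
      (Spec.map (CommRingCat.ofHom (algebraMap ↑(Y.residueField (g y')) ↑(Y'.residueField y')))) :=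
    isPullback_fiberMapOfIsPullback hc y'
  haveI : Algebra.EssFiniteType ↑(Y.residueField (g y')) ↑(Y'.residueField y') :=
    essFiniteType_residueFieldMap g y'
  exact isLocallyNoetherian_iff_of_isPullback (k := ↑(Y.residueField (g y')))
    (K := ↑(Y'.residueField y')) (f.fiberToSpecResidueField (g y')) hP

end Groth.Agent.Lib.Helper51
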