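import Mathlib

/-!
# The maximal ideal of the local ring of a fibre (helper51)

If `𝔪_{S,f x} 𝒪_{X,x} = 𝔪_{X,x}` then the local ring of the fibre at `x` is a field.
-/

set_option autoImplicit false
universe u
open CategoryTheory CategoryTheory.Limits AlgebraicGeometry IsLocalRing

namespace Groth.Agent.Lib.Helper51.FibreStalkMax

/-- The local ring of the spectrum of a field at its point is a field. -/
theorem maximalIdeal_stalk_Spec_field (K : Type u) [Field K] (p : Spec (CommRingCat.of K)) :
    maximalIdeal ((Spec (CommRingCat.of K)).presheaf.stalk p) = ⊥ := by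
  letI := StructureSheaf.stalkAlgebra K p
  haveI : IsLocalization.AtPrime ((Spec.structureSheaf K).presheaf.stalk p) p.asIdeal :=
    StructureSheaf.IsLocalization.to_stalk K p
  haveI : IsLocalRing ((Spec.structureSheaf K).presheaf.stalk p) :=
    inferInstanceAs (IsLocalRing ((Spec (CommRingCat.of K)).presheaf.stalk p))
  have h1 := IsLocalization.AtPrime.map_eq_maximalIdeal p.asIdeal
    ((Spec.structureSheaf K).presheaf.stalk p)
  have h2 : p.asIdeal = ⊥ := Ideal.eq_bot_of_prime p.asIdeal
  rw [h2, Ideal.map_bot] at h1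
  exact h1.symm

variable {X S : Scheme.{u}}

/-- The stalk map of `fibre → X → S` kills the maximal ideal. -/
theorem stalkMap_fiberι_comp_eq_zero (f : X ⟶ S) (s : S) (z : f.fiber s)
    (a : S.presheaf.stalk ((f.fiberι s ≫ f) z))
    (ha : a ∈ maximalIdeal (S.presheaf.stalk ((f.fiberι s ≫ f) z))) :
    (f.fiberι s ≫ f).stalkMap z a = 0 := by
  have h2 := Scheme.Hom.stalkMap_congr_hom (f.fiberι s ≫ f)
    (f.fiberToSpecResidueField s ≫ S.fromSpecResidueField s) (f.fiber_fac s) z
  have h2' := Scheme.Hom.stalkMap_comp (f.fiberToSpecResidueField s) (S.fromSpecResidueField s) z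
  rw [h2'] at h2
  set c := (S.presheaf.stalkCongr (.of_eq <| (f.fiber_fac s) ▸ rfl :
      Inseparable ((f.fiberι s ≫ f) z)
        ((f.fiberToSpecResidueField s ≫ S.fromSpecResidueField s) z))).hom with hc
  set b := (S.fromSpecResidueField s).stalkMap ((f.fiberToSpecResidueField s) z) (c a) with hb
  have h3 : (f.fiberι s ≫ f).stalkMap z a = (f.fiberToSpecResidueField s).stalkMap z b := by
    rw [h2]
    rfl
  have hb0 : b = 0 := by
    have hE := maximalIdeal_stalk_Spec_field
      (IsLocalRing.ResidueField (S.presheaf.stalk s)) ((f.fiberToSpecResidueField s) z)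
    have hbm : b ∈ maximalIdeal
        ((Spec (S.residueField s)).presheaf.stalk ((f.fiberToSpecResidueField s) z)) := by
      rw [mem_maximalIdeal, mem_nonunits_iff]
      intro hu
      have hu2 : IsUnit ((f.fiberι s ≫ f).stalkMap z a) := by
        rw [h3]
        exact hu.map _
      have hu3 : IsUnit a := (isUnit_map_iff ((f.fiberι s ≫ f).stalkMap z).hom a).mp hu2
      exact ((mem_maximalIdeal a).mp ha) hu3
    have : b ∈ (⊥ : Ideal _) := hE ▸ hbm
    exact (Ideal.mem_bot).mp this
  rw [h3, hb0, map_zero]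

/-- If `𝔪_{S,f x} 𝒪_{X,x} = 𝔪_{X,x}`, the maximal ideal of the local ring of the fibre at `x` is zero. -/
theorem maximalIdeal_fiber_stalk_eq_bot (f : X ⟶ S) (s : S) (z : f.fiber s) (x : X)
    (hx : f.fiberι s z = x)
    (h : (maximalIdeal (S.presheaf.stalk (f x))).map (f.stalkMap x).hom =
      maximalIdeal (X.presheaf.stalk x)) :
    maximalIdeal ((f.fiber s).presheaf.stalk z) = ⊥ := by
  subst hx
  have hφ : Function.Surjective ((f.fiberι s).stalkMap z) := (f.fiberι s).stalkMap_surjective z
  rw [eq_bot_iff]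
  intro w hw
  obtain ⟨v, rfl⟩ := hφ w
  rw [Ideal.mem_bot]
  have hv : v ∈ maximalIdeal (X.presheaf.stalk (f.fiberι s z)) := by
    rw [mem_maximalIdeal, mem_nonunits_iff]
    intro hu
    exact ((mem_maximalIdeal _).mp hw) (hu.map _)
  rw [← h] at hv
  have h1 : (f.fiberι s ≫ f).stalkMap z =
      f.stalkMap (f.fiberι s z) ≫ (f.fiberι s).stalkMap z := Scheme.Hom.stalkMap_comp _ _ _
  have hkill : ∀ a ∈ maximalIdeal (S.presheaf.stalk (f (f.fiberι s z))),
      ((f.fiberι s).stalkMap z) ((f.stalkMap (f.fiberι s z)) a) = 0 := by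
    intro a ha
    have h0 := stalkMap_fiberι_comp_eq_zero f s z a ha
    rw [h1] at h0
    exact h0
  have hle : (maximalIdeal (S.presheaf.stalk (f (f.fiberι s z)))).map
      (f.stalkMap (f.fiberι s z)).hom ≤ RingHom.ker ((f.fiberι s).stalkMap z).hom := by
    rw [Ideal.map_le_iff_le_comap]
    intro a ha
    rw [Ideal.mem_comap, RingHom.mem_ker]
    exact hkill a ha
  exact (RingHom.mem_ker).mp (hle hv)

end Groth.Agent.Lib.Helper51.FibreStalkMax
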