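import Mathlib
import Groth.Agent.Lib.Helper51.FgField
import Groth.Agent.Lib.Helper51.IrrCount
import Groth.Agent.Lib.Helper51.IrrCompBC
import Groth.Agent.Lib.Helper51.CompSplit

/-!
# Finiteness of the fibres of `X_{k^sep} ⟶ X` for `X` locally of finite type (helper51)
-/

set_option autoImplicit false
universe u
open CategoryTheory CategoryTheory.Limits AlgebraicGeometry TensorProduct

namespace Groth.Agent.Lib.Helper51

/-- For `X` locally of finite type over `k` and `L/k` algebraic and separably closed, the fibres of
`X_L ⟶ X` are finite. -/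
theorem finite_preimage_singleton_of_isSepClosed {k : Type u} [Field k] {X : Scheme.{u}}
    (f : X ⟶ Spec (CommRingCat.of k)) [LocallyOfFiniteType f]
    (L : Type u) [Field L] [Algebra k L] [Algebra.IsIntegral k L] [IsSepClosed L] (x : X) :
    Finite ↥((pullback.fst f (Spec.map (CommRingCat.ofHom (algebraMap k L)))) ⁻¹' {x}) := by
  letI alg : Algebra k (X.residueField x) :=
    ((X.residue x).hom.comp ((X.presheaf.germ ⊤ x trivial).hom.comp (Coh.toGlobal f))).toAlgebra
  have hφ : Spec.map (CommRingCat.ofHom (algebraMap k (X.residueField x))) =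
      X.fromSpecResidueField x ≫ f := specMap_resMapOf f x
  haveI := finiteDimensional_separableClosure_residueField f x hφ
  have hsplit : ∀ a : separableClosure k (X.residueField x),
      ((minpoly k a).map (algebraMap k L)).Splits := fun a =>
    IsSepClosed.splits_codomain _ (Algebra.IsSeparable.isSeparable k a)
  haveI hfin : Finite (PrimeSpectrum (X.residueField x ⊗[k] L)) :=
    (card_primeSpectrum_tensor_le (k := k) (κ := X.residueField x) (L := L) hsplit).1
  exact Finite.of_equiv _ (fibreHomeo (K := L) f x hφ).symm.toEquiv

/-- For `X` locally of finite type over `k`, only finitely many irreducible components of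
`X_L` (`L/k` algebraic and separably closed) map into a given irreducible component of `X`,
and they all map onto it. -/
theorem finite_irreducibleComponents_over {k : Type u} [Field k] {X : Scheme.{u}}
    (f : X ⟶ Spec (CommRingCat.of k)) [LocallyOfFiniteType f]
    (L : Type u) [Field L] [Algebra k L] [Algebra.IsIntegral k L] [IsSepClosed L]
    {T : Set ↥X} (hT : T ∈ irreducibleComponents ↥X) :
    {T' : Set ↥(pullback f (Spec.map (CommRingCat.ofHom (algebraMap k L)))) |
      T' ∈ irreducibleComponents ↥(pullback f (Spec.map (CommRingCat.ofHom (algebraMap k L)))) ∧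
      pullback.fst f (Spec.map (CommRingCat.ofHom (algebraMap k L))) '' T' ⊆ T}.Finite := by
  obtain ⟨ξ, hξ⟩ := QuasiSober.sober hT.1 (isClosed_of_mem_irreducibleComponents T hT)
  haveI := finite_preimage_singleton_of_isSepClosed f L ξ
  have hrc : IsClosedMap (pullback.fst f (Spec.map (CommRingCat.ofHom (algebraMap k L)))) :=
    isClosedMap_pullback_fst_of_isIntegral f L
  refine (Set.finite_range (fun z : ↥((pullback.fst f (Spec.map (CommRingCat.ofHom
    (algebraMap k L)))) ⁻¹' {ξ}) => closure {z.1})).subset ?_
  rintro T' ⟨hT', hsub⟩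
  have himg : pullback.fst f (Spec.map (CommRingCat.ofHom (algebraMap k L))) '' T' = T :=
    le_antisymm hsub ((image_fst_mem_irreducibleComponents f L hT').2 hT.1 hsub)
  obtain ⟨ζ, hζ⟩ := QuasiSober.sober hT'.1 (isClosed_of_mem_irreducibleComponents T' hT')
  have h1 : closure {pullback.fst f (Spec.map (CommRingCat.ofHom (algebraMap k L))) ζ} =
      closure {ξ} := by
    rw [hξ.def, ← himg, ← hζ.def,
      ← hrc.closure_image_eq_of_continuous (Scheme.Hom.continuous _), Set.image_singleton]
  have h2 : pullback.fst f (Spec.map (CommRingCat.ofHom (algebraMap k L))) ζ = ξ :=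
    (inseparable_iff_closure_eq.mpr h1).eq
  exact ⟨⟨ζ, h2⟩, hζ.def⟩

/-- If `ι : Z ⟶ Y` is a topological embedding after every base change (e.g. a closed immersion) and
the preimage of its range in `Y_K` is irreducible for every field extension `K/L`, then `Z` is
geometrically irreducible over `L`. -/
theorem geometricallyIrreducible_comp_of_isIrreducible_preimage {L : Type u} [Field L]
    {Y Z : Scheme.{u}} (g : Y ⟶ Spec (CommRingCat.of L)) (ι : Z ⟶ Y) [IsClosedImmersion ι]
    (h : ∀ (K : Type u) [Field K] [Algebra L K],
      IsIrreducible ((pullback.fst g (Spec.map (CommRingCat.ofHom (algebraMap L K)))) ⁻¹' Set.range ι)) :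
    GeometricallyIrreducible (ι ≫ g) := by
  refine ⟨geometrically_iff_of_commRing_of_isClosedUnderIsomorphisms.mpr fun K _ _ => ?_⟩
  have hK := h K
  rw [← Scheme.Pullback.range_snd ι
    (pullback.fst g (Spec.map (CommRingCat.ofHom (algebraMap L K))))] at hK
  have hemb : Topology.IsEmbedding
      (pullback.snd ι (pullback.fst g (Spec.map (CommRingCat.ofHom (algebraMap L K))))) :=
    Scheme.Hom.isEmbedding _
  haveI h1 : IrreducibleSpace ↥(Set.range
      (pullback.snd ι (pullback.fst g (Spec.map (CommRingCat.ofHom (algebraMap L K)))))) :=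
    isIrreducible_iff_irreducibleSpace.mp hK
  haveI h2 : IrreducibleSpace
      ↥(pullback ι (pullback.fst g (Spec.map (CommRingCat.ofHom (algebraMap L K))))) :=
    hemb.toHomeomorph.irreducibleSpace_iff.mpr h1
  exact (pullbackRightPullbackFstIso g (Spec.map (CommRingCat.ofHom (algebraMap L K)))
    ι).hom.homeomorph.irreducibleSpace_iff.mp h2

end Groth.Agent.Lib.Helper51
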