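import Mathlib
import Groth.Agent.Lib.Helper51.StalkBC

/-!
# Base change of a `k`-morphism along a field extension: points and flatness of stalk maps (helper51)

For `f : X ⟶ Y` over `k` and `K/k`:
* `bcHom` : `X_K ⟶ Y_K`, `isPullback_bcHom`, `exists_bcHom_eq` (points over `(x, y')`).
* `flat_stalkMap_bcHom`: if `f` is flat at `x`, then `f_K` is flat at every point over `x`.
-/

set_option autoImplicit false
universe u
open CategoryTheory CategoryTheory.Limits AlgebraicGeometry TensorProduct

namespace Groth.Agent.Lib.Helper51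

section BcHom

variable {k : Type u} [Field k] {X Y : Scheme.{u}} (φX : X ⟶ Spec (CommRingCat.of k))
  (φY : Y ⟶ Spec (CommRingCat.of k)) (f : X ⟶ Y) (hf : f ≫ φY = φX)
  (K : Type u) [Field K] [Algebra k K]

/-- The base change `X_K ⟶ Y_K` of a `k`-morphism. -/
noncomputable def bcHom :
    pullback φX (Spec.map (CommRingCat.ofHom (algebraMap k K))) ⟶
      pullback φY (Spec.map (CommRingCat.ofHom (algebraMap k K))) :=
  pullback.map φX (Spec.map (CommRingCat.ofHom (algebraMap k K))) φY
    (Spec.map (CommRingCat.ofHom (algebraMap k K))) f (𝟙 _) (𝟙 _)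
    (by rw [Category.comp_id, hf]) (by simp)

@[reassoc]
theorem bcHom_fst : bcHom φX φY f hf K ≫ pullback.fst φY _ = pullback.fst φX _ ≫ f := by
  rw [bcHom, pullback.map, pullback.lift_fst]

@[reassoc]
theorem bcHom_snd : bcHom φX φY f hf K ≫ pullback.snd φY _ = pullback.snd φX _ := by
  rw [bcHom, pullback.map, pullback.lift_snd, Category.comp_id]

theorem isPullback_bcHom :
    IsPullback (bcHom φX φY f hf K)
      (pullback.fst φX (Spec.map (CommRingCat.ofHom (algebraMap k K))))
      (pullback.fst φY (Spec.map (CommRingCat.ofHom (algebraMap k K)))) f := by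
  have big := (IsPullback.of_hasPullback φX
    (Spec.map (CommRingCat.ofHom (algebraMap k K)))).flip
  have big' : IsPullback
      (bcHom φX φY f hf K ≫ pullback.snd φY (Spec.map (CommRingCat.ofHom (algebraMap k K))))
      (pullback.fst φX (Spec.map (CommRingCat.ofHom (algebraMap k K))))
      (Spec.map (CommRingCat.ofHom (algebraMap k K))) (f ≫ φY) :=
    IsPullback.of_iso big (Iso.refl _) (Iso.refl _) (Iso.refl _) (Iso.refl _)
      (by simp [bcHom_snd]) (by simp) (by simp) (by simp [hf])
  exact IsPullback.of_right big' (bcHom_fst φX φY f hf K)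
    (IsPullback.of_hasPullback φY (Spec.map (CommRingCat.ofHom (algebraMap k K)))).flip

theorem exists_bcHom_eq (x : X)
    (y' : ↥(pullback φY (Spec.map (CommRingCat.ofHom (algebraMap k K)))))
    (h : pullback.fst φY (Spec.map (CommRingCat.ofHom (algebraMap k K))) y' = f x) :
    ∃ x' : ↥(pullback φX (Spec.map (CommRingCat.ofHom (algebraMap k K)))),
      pullback.fst φX (Spec.map (CommRingCat.ofHom (algebraMap k K))) x' = x ∧
        bcHom φX φY f hf K x' = y' := by
  have hP := (isPullback_bcHom φX φY f hf K).flip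
  obtain ⟨z, hz1, hz2⟩ := Scheme.Pullback.exists_preimage_pullback
    (f := f) (g := pullback.fst φY (Spec.map (CommRingCat.ofHom (algebraMap k K)))) x y' h.symm
  refine ⟨hP.isoPullback.inv z, ?_, ?_⟩
  · rw [← Scheme.Hom.comp_apply, hP.isoPullback_inv_fst, hz1]
  · rw [← Scheme.Hom.comp_apply, hP.isoPullback_inv_snd, hz2]

end BcHom

section FlatStalk

variable {k : Type u} [Field k] {X Y : Scheme.{u}} (φX : X ⟶ Spec (CommRingCat.of k))
  (φY : Y ⟶ Spec (CommRingCat.of k)) (f : X ⟶ Y) (hf : f ≫ φY = φX)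
  (K : Type u) [Field K] [Algebra k K] (x : X)
  [Algebra k (X.presheaf.stalk x)] [Algebra k (Y.presheaf.stalk (f x))]
  (hψX : Spec.map (CommRingCat.ofHom (algebraMap k (X.presheaf.stalk x))) = X.fromSpecStalk x ≫ φX)
  (hψY : Spec.map (CommRingCat.ofHom (algebraMap k (Y.presheaf.stalk (f x)))) =
    Y.fromSpecStalk (f x) ≫ φY)

/-- `Spec 𝒪_{X,x} ⟶ Spec 𝒪_{Y,f x}`. -/
noncomputable def specStalkMap :
    Spec (CommRingCat.of (X.presheaf.stalk x)) ⟶ Spec (CommRingCat.of (Y.presheaf.stalk (f x))) :=
  Spec.map (f.stalkMap x)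

@[reassoc]
theorem specStalkMap_fromSpecStalk :
    specStalkMap f x ≫ Y.fromSpecStalk (f x) = X.fromSpecStalk x ≫ f :=
  Scheme.SpecMap_stalkMap_fromSpecStalk f

include hf hψX hψY in
theorem specMap_stalkMap_comp :
    specStalkMap f x ≫ Spec.map (CommRingCat.ofHom (algebraMap k (Y.presheaf.stalk (f x)))) =
      Spec.map (CommRingCat.ofHom (algebraMap k (X.presheaf.stalk x))) := by
  rw [hψY, hψX, specStalkMap_fromSpecStalk_assoc, hf]

/-- `Spec 𝒪_{X,x} ×_k Spec K ⟶ Spec 𝒪_{Y,f x} ×_k Spec K`. -/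
noncomputable def stalkBcHom :
    pullback (Spec.map (CommRingCat.ofHom (algebraMap k (X.presheaf.stalk x))))
      (Spec.map (CommRingCat.ofHom (algebraMap k K))) ⟶
    pullback (Spec.map (CommRingCat.ofHom (algebraMap k (Y.presheaf.stalk (f x)))))
      (Spec.map (CommRingCat.ofHom (algebraMap k K))) :=
  pullback.map _ _ _ _ (specStalkMap f x) (𝟙 _) (𝟙 _)
    (by rw [Category.comp_id, specMap_stalkMap_comp φX φY f hf x hψX hψY]) (by simp)

theorem flat_stalkBcHom (hflat : (f.stalkMap x).hom.Flat) :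
    Flat (stalkBcHom φX φY f hf K x hψX hψY) := by
  have h1 : Flat (specStalkMap f x) := (Flat.SpecMap_iff).mpr hflat
  have h2 : Flat (𝟙 (Spec (CommRingCat.of K))) := inferInstance
  exact MorphismProperty.pullbackMap (P := @Flat) h1 h2
    (specMap_stalkMap_comp φX φY f hf x hψX hψY).symm (Category.id_comp _).symm

theorem stalkBcMap_bcHom :
    stalkBcMap φX x hψX K ≫ bcHom φX φY f hf K =
      stalkBcHom φX φY f hf K x hψX hψY ≫ stalkBcMap φY (f x) hψY K := by
  apply pullback.hom_ext
  · rw [Category.assoc, bcHom_fst, Category.assoc]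
    rw [stalkBcMap, specBcMap_fst_assoc, stalkBcMap, specBcMap_fst]
    rw [stalkBcHom, pullback.map, pullback.lift_fst_assoc, Category.assoc,
      specStalkMap_fromSpecStalk]
  · rw [Category.assoc, bcHom_snd, Category.assoc]
    rw [stalkBcMap, specBcMap_snd, stalkBcMap, specBcMap_snd]
    rw [stalkBcHom, pullback.map, pullback.lift_snd, Category.comp_id]


include hψY in
theorem flat_stalkMap_bcHom_stalkBcMap (hflat : (f.stalkMap x).hom.Flat)
    (w : ↥(pullback (Spec.map (CommRingCat.ofHom (algebraMap k (X.presheaf.stalk x))))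
      (Spec.map (CommRingCat.ofHom (algebraMap k K))))) :
    ((bcHom φX φY f hf K).stalkMap (stalkBcMap φX x hψX K w)).hom.Flat := by
  have h := stalkBcMap_bcHom φX φY f hf K x hψX hψY
  have e1 := Scheme.Hom.stalkMap_congr_hom _ _ h w
  haveI := flat_stalkBcHom φX φY f hf K x hψX hψY hflat
  have hR : ((stalkBcMap φX x hψX K ≫ bcHom φX φY f hf K).stalkMap w).hom.Flat := by
    rw [e1, CommRingCat.hom_comp]
    exact RingHom.Flat.comp (RingHom.Flat.of_bijective
      (ConcreteCategory.bijective_of_isIso _)) (Flat.stalkMap _ _)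
  rw [Scheme.Hom.stalkMap_comp] at hR
  replace hR : (((stalkBcMap φX x hψX K).stalkMap w).hom.comp
      ((bcHom φX φY f hf K).stalkMap (stalkBcMap φX x hψX K w)).hom).Flat := hR
  have hb := bijective_stalkMap_of_flat_of_isPreimmersion (stalkBcMap φX x hψX K) w
  let E := RingEquiv.ofBijective _ hb
  have h2 : ((bcHom φX φY f hf K).stalkMap (stalkBcMap φX x hψX K w)).hom =
      E.symm.toRingHom.comp (((stalkBcMap φX x hψX K).stalkMap w).hom.comp
        ((bcHom φX φY f hf K).stalkMap (stalkBcMap φX x hψX K w)).hom) := by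
    ext a
    simp only [RingHom.comp_apply, RingEquiv.toRingHom_eq_coe, RingHom.coe_coe]
    exact (E.symm_apply_apply _).symm
  rw [h2]
  exact RingHom.Flat.comp hR (RingHom.Flat.of_bijective E.symm.bijective)

include hψX hψY in
/-- If `f` is flat at `x`, its base change `f_K` is flat at every point of `X_K` over `x`. -/
theorem flat_stalkMap_bcHom (hflat : (f.stalkMap x).hom.Flat)
    (x' : ↥(pullback φX (Spec.map (CommRingCat.ofHom (algebraMap k K)))))
    (hx' : pullback.fst φX (Spec.map (CommRingCat.ofHom (algebraMap k K))) x' = x) :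
    ((bcHom φX φY f hf K).stalkMap x').hom.Flat := by
  obtain ⟨w, rfl⟩ := exists_stalkBcMap_eq φX x hψX K x' hx'
  exact flat_stalkMap_bcHom_stalkBcMap φX φY f hf K x hψX hψY hflat w

end FlatStalk

end Groth.Agent.Lib.Helper51
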