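import Mathlib
import Groth.Agent.Lib.Helper56.SepGenResidue
import Groth.Agent.Lib.Helper51.GenericRed
import Groth.Agent.Lib.Helper51.GeomRedAt
import Groth.Agent.Lib.Helper51.InsepRedAlg

/-!
# Reducedness after adjoining `p`-th roots implies geometric reducedness (helper51)

`k` a field of characteristic `p`, `k'` a field extension containing a `p`-th root of every element
of `k` (e.g. `k` itself via Frobenius, or `k^{1/p}`).
-/

set_option autoImplicit false
universe u
open CategoryTheory CategoryTheory.Limits AlgebraicGeometry TensorProduct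

namespace Groth.Agent.Lib.Helper51

section Field

variable (k K k' : Type u) [Field k] [Field K] [Algebra k K] [Field k'] [Algebra k k']

/-- MacLane's criterion, one half: if `k' ⊗[k] K` is reduced then `p`-th powers of `k`-linearly
independent elements stay linearly independent. -/
theorem linearIndepOn_pow_of_isReduced_tensor [IsReduced (k' ⊗[k] K)]
    (p : ℕ) [hp : Fact p.Prime] [CharP k p]
    (hroot : ∀ c : k, ∃ d : k', d ^ p = algebraMap k k' c) (s : Finset K)
    (hs : LinearIndepOn k _root_.id (s : Set K)) : LinearIndepOn k (· ^ p) (s : Set K) := by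
  have hexp : ExpChar k p := .prime hp.out
  have hexp' : ExpChar (k' ⊗[k] K) p :=
    expChar_of_injective_algebraMap (algebraMap k (k' ⊗[k] K)).injective p
  have hli : LinearIndependent k'
      (fun i : (s : Set K) => (1 : k') ⊗ₜ[k] (i : K)) :=
    Module.Flat.linearIndependent_one_tmul hs
  unfold LinearIndepOn
  rw [Fintype.linearIndependent_iff]
  intro g hg
  have hd : ∀ i : (s : Set K), ∃ d : k', d ^ p = algebraMap k k' (g i) := fun i => hroot _
  choose d hd using hd
  have hz : (∑ i, d i ⊗ₜ[k] (i : K)) ^ p = 0 := by
    rw [sum_pow_char]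
    have : ∀ i : (s : Set K), (d i ⊗ₜ[k] (i : K)) ^ p =
        (1 : k') ⊗ₜ[k] (g i • (i : K) ^ p) := by
      intro i
      rw [Algebra.TensorProduct.tmul_pow, hd, Algebra.algebraMap_eq_smul_one,
        TensorProduct.smul_tmul]
    simp_rw [this]
    rw [← TensorProduct.tmul_sum, hg, TensorProduct.tmul_zero]
  have hz0 : ∑ i, d i ⊗ₜ[k] (i : K) = 0 := IsReduced.eq_zero _ ⟨p, hz⟩
  have hz1 : ∑ i, d i • ((1 : k') ⊗ₜ[k] (i : K)) = 0 := by
    rw [← hz0]
    refine Finset.sum_congr rfl (fun i _ => ?_)
    rw [TensorProduct.smul_tmul', smul_eq_mul, mul_one]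
  have hd0 := Fintype.linearIndependent_iff.mp hli d hz1
  intro i
  have := hd i
  rw [hd0 i, zero_pow hp.out.ne_zero] at this
  exact (map_eq_zero_iff _ (algebraMap k k').injective).mp this.symm

/-- A separating transcendence basis gives `Helper56.SepGen`. -/
theorem sepGen_of_isTranscendenceBasis_of_isSeparable [Algebra.EssFiniteType k K] (s : Finset K)
    (hs : IsTranscendenceBasis k ((↑) : s → K))
    (hsep : Algebra.IsSeparable (IntermediateField.adjoin k (s : Set K)) K) :
    Groth.Agent.Lib.Helper56.SepGen k K := by
  have key : ∀ t : Set K, t = (s : Set K) →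
      Algebra.IsSeparable (IntermediateField.adjoin k t) K := by
    rintro t rfl
    exact hsep
  have hsep' : Algebra.IsSeparable
      (IntermediateField.adjoin k (Set.range ((↑) : s → K))) K := key _ Subtype.range_coe
  haveI : Algebra.EssFiniteType (IntermediateField.adjoin k (Set.range ((↑) : s → K))) K :=
    Algebra.EssFiniteType.of_comp k _ K
  haveI : Algebra.IsAlgebraic (IntermediateField.adjoin k (Set.range ((↑) : s → K))) K :=
    Algebra.IsSeparable.isAlgebraic _ _
  exact ⟨↥s, inferInstance, IntermediateField.adjoin k (Set.range ((↑) : s → K)), inferInstance,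
    inferInstance, inferInstance, inferInstance, ⟨hs.1.aevalEquivField⟩,
    Algebra.finite_of_essFiniteType_of_isAlgebraic, hsep'⟩

/-- Finitely generated case. -/
theorem isGeometricallyReduced_of_isReduced_tensor_of_essFiniteType [Algebra.EssFiniteType k K]
    [IsReduced (k' ⊗[k] K)] (p : ℕ) [hp : Fact p.Prime] [CharP k p]
    (hroot : ∀ c : k, ∃ d : k', d ^ p = algebraMap k k' c) :
    Algebra.IsGeometricallyReduced k K := by
  obtain ⟨s, hs, hsep⟩ :=
    exists_isTranscendenceBasis_and_isSeparable_of_linearIndepOn_pow_of_essFiniteType p hp.out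
      (fun s hs => linearIndepOn_pow_of_isReduced_tensor k K k' p hroot s hs)
  exact Groth.Agent.Lib.Helper56.isGeometricallyReduced_of_sepGen k K
    (sepGen_of_isTranscendenceBasis_of_isSeparable k K s hs hsep)

/-- A field extension `K / k` with `k' ⊗[k] K` reduced, where `k'` contains the `p`-th roots of `k`, is
geometrically reduced. -/
theorem isGeometricallyReduced_of_isReduced_tensor_field
    [IsReduced (k' ⊗[k] K)] (p : ℕ) [hp : Fact p.Prime] [CharP k p]
    (hroot : ∀ c : k, ∃ d : k', d ^ p = algebraMap k k' c) :
    Algebra.IsGeometricallyReduced k K := by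
  refine Algebra.IsGeometricallyReduced.of_forall_fg fun B hB => ?_
  obtain ⟨t, ht⟩ := hB
  let E : IntermediateField k K := IntermediateField.adjoin k (t : Set K)
  haveI : Algebra.EssFiniteType k E := IntermediateField.essFiniteType_iff.mpr ⟨t, rfl⟩
  haveI : IsReduced (k' ⊗[k] E) := by
    refine isReduced_of_injective (Algebra.TensorProduct.map (AlgHom.id k k') E.val) ?_
    exact Module.Flat.lTensor_preserves_injective_linearMap _ E.val.injective
  haveI : Algebra.IsGeometricallyReduced k E :=
    isGeometricallyReduced_of_isReduced_tensor_of_essFiniteType k E k' p hroot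
  have hBE : B ≤ E.toSubalgebra := by
    rw [← ht]
    exact IntermediateField.algebra_adjoin_le_adjoin k _
  exact Algebra.IsGeometricallyReduced.of_injective (Subalgebra.inclusion hBE)
    (Subalgebra.inclusion_injective hBE)

/-- Version for a commutative ring which is a field. -/
theorem isGeometricallyReduced_of_isReduced_tensor_of_isField (R : Type u) [CommRing R]
    [Algebra k R] (hR : IsField R)
    [IsReduced (k' ⊗[k] R)] (p : ℕ) [hp : Fact p.Prime] [CharP k p]
    (hroot : ∀ c : k, ∃ d : k', d ^ p = algebraMap k k' c) :
    Algebra.IsGeometricallyReduced k R := by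
  letI : Field R := hR.toField
  exact isGeometricallyReduced_of_isReduced_tensor_field k R k' p hroot

end Field

section Scheme

variable {k : Type u} [Field k] (k' : Type u) [Field k'] [Algebra k k'] [Algebra.IsIntegral k k']
  {X : Scheme.{u}} (f : X ⟶ Spec (CommRingCat.of k))

/-- The local ring at the generic point of an irreducible component has a single prime. -/
theorem subsingleton_primeSpectrum_stalk_of_generic (η : X)
    (hη : closure {η} ∈ irreducibleComponents X) :
    Subsingleton (PrimeSpectrum (X.presheaf.stalk η)) := by
  have key : ∀ P : PrimeSpectrum (X.presheaf.stalk η), X.fromSpecStalk η P = η := by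
    intro P
    have h1 : X.fromSpecStalk η P ⤳ η := by
      have : X.fromSpecStalk η P ∈ Set.range (X.fromSpecStalk η) := ⟨P, rfl⟩
      rw [Scheme.range_fromSpecStalk] at this
      exact this
    have h2 : closure {η} ⊆ closure {X.fromSpecStalk η P} :=
      closure_minimal (Set.singleton_subset_iff.mpr h1.mem_closure) isClosed_closure
    have h3 : closure {X.fromSpecStalk η P} ⊆ closure {η} :=
      hη.2 isIrreducible_singleton.closure h2
    have h4 : η ⤳ X.fromSpecStalk η P :=
      specializes_iff_mem_closure.mpr (h3 (subset_closure rfl))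
    exact (h1.antisymm h4).eq
  refine ⟨fun P Q => ?_⟩
  exact (X.fromSpecStalk η).isEmbedding.injective ((key P).trans (key Q).symm)

/-- If `X_{k'}` is reduced for a (possibly infinite) algebraic extension `k'` containing all `p`-th
roots of elements of `k`, then `X` is geometrically reduced over `k`. -/
theorem geometricallyReduced_of_isReduced_pullback_of_roots (p : ℕ) [hp : Fact p.Prime] [CharP k p]
    (hroot : ∀ c : k, ∃ d : k', d ^ p = algebraMap k k' c)
    [hred : IsReduced (pullback f (Spec.map (CommRingCat.ofHom (algebraMap k k'))))] :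
    GeometricallyReduced f := by
  -- all `𝒪_{X,x} ⊗ k'` are reduced
  have htens : ∀ x : X, letI := stalkAlg f x
      _root_.IsReduced (k' ⊗[k] X.presheaf.stalk x) := by
    intro x
    letI := stalkAlg f x
    have hψ := specMap_stalkMapOf f x
    haveI : _root_.IsReduced (X.presheaf.stalk x ⊗[k] k') :=
      isReduced_tensor_of_forall_stalk f x hψ k' (fun y _ => inferInstance)
    exact isReduced_of_injective (Algebra.TensorProduct.comm k k' (X.presheaf.stalk x))
      (Algebra.TensorProduct.comm k k' (X.presheaf.stalk x)).injective
  haveI hX : IsReduced X := by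
    refine @isReduced_of_isReduced_stalk _ ?_
    intro x
    letI := stalkAlg f x
    haveI := htens x
    exact isReduced_of_injective
      (Algebra.TensorProduct.includeRight : X.presheaf.stalk x →ₐ[k] k' ⊗[k] X.presheaf.stalk x)
      (Algebra.TensorProduct.includeRight_injective (algebraMap k k').injective)
  refine geometricallyReduced_of_generic f fun η hη => ?_
  letI := stalkAlg f η
  haveI := htens η
  haveI := subsingleton_primeSpectrum_stalk_of_generic η hη
  haveI : _root_.IsReduced (X.presheaf.stalk η) := inferInstance
  have hfield : IsField (X.presheaf.stalk η) :=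
    isField_of_isReduced_of_subsingleton_primeSpectrum _
  exact isGeometricallyReduced_of_isReduced_tensor_of_isField k k' (X.presheaf.stalk η) hfield p
    hroot

end Scheme

section Frobenius

/-- `k` as an algebra over itself through the Frobenius endomorphism. -/
def FrobAlg (k : Type u) (_p : ℕ) : Type u := k

instance (k : Type u) [Field k] (p : ℕ) : Field (FrobAlg k p) := inferInstanceAs (Field k)

noncomputable instance (k : Type u) [Field k] (p : ℕ) [Fact p.Prime] [CharP k p] :
    Algebra k (FrobAlg k p) := (frobenius k p).toAlgebra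

/-- The underlying element of `k`. -/
def FrobAlg.out {k : Type u} {p : ℕ} (d : FrobAlg k p) : k := d

theorem FrobAlg.algebraMap_eq (k : Type u) [Field k] (p : ℕ) [Fact p.Prime] [CharP k p] (c : k) :
    algebraMap k (FrobAlg k p) c = (c ^ p : k) := rfl

instance (k : Type u) [Field k] (p : ℕ) [Fact p.Prime] [CharP k p] :
    Algebra.IsIntegral k (FrobAlg k p) := by
  refine ⟨fun d => ?_⟩
  refine ⟨(Polynomial.X ^ p - Polynomial.C (FrobAlg.out d) : Polynomial k), ?_, ?_⟩
  · exact Polynomial.monic_X_pow_sub_C _ (Fact.out : p.Prime).ne_zero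
  · rw [Polynomial.eval₂_sub, Polynomial.eval₂_pow, Polynomial.eval₂_X, Polynomial.eval₂_C,
      FrobAlg.algebraMap_eq]
    exact sub_self _

/-- If the Frobenius twist of a `k`-scheme is reduced, the scheme is geometrically reduced. -/
theorem geometricallyReduced_of_isReduced_frobenius_pullback {k : Type u} [Field k] (p : ℕ)
    [Fact p.Prime] [CharP k p] {X : Scheme.{u}} (f : X ⟶ Spec (CommRingCat.of k))
    (hred : IsReduced (pullback f (Spec.map (CommRingCat.ofHom (frobenius k p))))) :
    GeometricallyReduced f := by
  haveI : IsReduced (pullback f (Spec.map (CommRingCat.ofHom (algebraMap k (FrobAlg k p))))) := hred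
  exact geometricallyReduced_of_isReduced_pullback_of_roots (FrobAlg k p) f p
    (fun c => ⟨(show FrobAlg k p from c), rfl⟩)

end Frobenius

end Groth.Agent.Lib.Helper51
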