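import Mathlib
import Groth.Agent.Lib.Helper51.EtaleLocusSch

/-!
# Generic étaleness of a dominant morphism of integral schemes (helper51)

For `f : X ⟶ Y` locally of finite type between integral schemes (`Y` locally Noetherian) with
`f ξ_X = ξ_Y`: `f` is unramified on a nonempty open iff `f` is étale on a nonempty open iff
`K(X)/K(Y)` is finite separable.
-/

set_option autoImplicit false
universe u
open CategoryTheory CategoryTheory.Limits AlgebraicGeometry

namespace Groth.Agent.Lib.Helper51.GenericEtale

variable {X Y : Scheme.{u}}

/-- The function-field map attached to a morphism sending the generic point to the generic point. -/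
noncomputable abbrev ffMap [IsIntegral X] [IsIntegral Y] (f : X ⟶ Y)
    (e : f (genericPoint X) = genericPoint Y) : Y.functionField ⟶ X.functionField :=
  Y.presheaf.stalkSpecializes (specializes_of_eq e) ≫ f.stalkMap (genericPoint X)

theorem isIso_stalkSpecializes_of_eq {x y : Y} (e : x = y) :
    IsIso (Y.presheaf.stalkSpecializes (specializes_of_eq e)) := by
  subst e
  have : Y.presheaf.stalkSpecializes (specializes_of_eq (rfl : x = x)) = 𝟙 _ := by
    simp
  rw [this]
  infer_instance

theorem genericPoint_mem_of_nonempty [IsIntegral X] (U : X.Opens) (hU : (U : Set X).Nonempty) :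
    genericPoint X ∈ U :=
  ((genericPoint_spec X).mem_open_set_iff U.2).mpr (by simpa [Set.univ_inter] using hU)

/-- If `f` is unramified on a nonempty open, then `K(X)/K(Y)` is finite separable. -/
theorem finite_separable_of_unramified [IsIntegral X] [IsIntegral Y] (f : X ⟶ Y)
    [LocallyOfFiniteType f] (e : f (genericPoint X) = genericPoint Y)
    (U : X.Opens) (hU : (U : Set X).Nonempty) [FormallyUnramified (U.ι ≫ f)] :
    letI := (ffMap f e).hom.toAlgebra
    FiniteDimensional Y.functionField X.functionField ∧
      Algebra.IsSeparable Y.functionField X.functionField := by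
  let alg := (ffMap f e).hom.toAlgebra
  have hξ : genericPoint X ∈ U := genericPoint_mem_of_nonempty U hU
  let u : U.toScheme := ⟨genericPoint X, hξ⟩
  have h1' : (f.stalkMap (genericPoint X)).hom.FormallyUnramified := by
    have h1 := FormallyUnramified.stalkMap (U.ι ≫ f) u
    rw [Scheme.Hom.stalkMap_comp] at h1
    exact (RingHom.FormallyUnramified.respectsIso.cancel_right_isIso
      (f.stalkMap (U.ι u)) (U.ι.stalkMap u)).mp h1
  have h2 : (f.stalkMap (genericPoint X)).hom.EssFiniteType := LocallyOfFiniteType.stalkMap f _
  have := isIso_stalkSpecializes_of_eq (Y := Y) e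
  have h3 : (ffMap f e).hom.FormallyUnramified := by
    rw [CommRingCat.hom_comp, RingHom.FormallyUnramified.respectsIso.cancel_left_isIso]
    exact h1'
  have h4 : (ffMap f e).hom.EssFiniteType := by
    rw [CommRingCat.hom_comp, RingHom.EssFiniteType.respectsIso.cancel_left_isIso]
    exact h2
  have : Algebra.FormallyUnramified Y.functionField X.functionField := by
    rw [← RingHom.formallyUnramified_algebraMap, RingHom.algebraMap_toAlgebra]; exact h3
  have : Algebra.EssFiniteType Y.functionField X.functionField := by
    rw [← RingHom.essFiniteType_algebraMap, RingHom.algebraMap_toAlgebra]; exact h4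
  exact ⟨Algebra.FormallyUnramified.finite_of_free _ _,
    Algebra.FormallyUnramified.isSeparable _ _⟩

/-- If `K(X)/K(Y)` is separable algebraic, then `f` is étale on a nonempty open. -/
theorem exists_etale_of_separable [IsIntegral X] [IsIntegral Y] (f : X ⟶ Y)
    [LocallyOfFinitePresentation f] (e : f (genericPoint X) = genericPoint Y)
    (hsep : letI := (ffMap f e).hom.toAlgebra
      Algebra.IsSeparable Y.functionField X.functionField) :
    ∃ U : X.Opens, (U : Set X).Nonempty ∧ Etale (U.ι ≫ f) := by
  let alg := (ffMap f e).hom.toAlgebra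
  have : Algebra.IsSeparable Y.functionField X.functionField := hsep
  have hE : Algebra.FormallyEtale Y.functionField X.functionField :=
    Algebra.FormallyEtale.of_isSeparable _ _
  have := isIso_stalkSpecializes_of_eq (Y := Y) e
  have h3 : (ffMap f e).hom.FormallyUnramified := by
    have : Algebra.FormallyUnramified Y.functionField X.functionField := inferInstance
    rw [← RingHom.formallyUnramified_algebraMap, RingHom.algebraMap_toAlgebra] at this
    exact this
  have h4 : (ffMap f e).hom.FormallySmooth := by
    have : Algebra.FormallySmooth Y.functionField X.functionField := inferInstance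
    rw [← RingHom.formallySmooth_algebraMap, RingHom.algebraMap_toAlgebra] at this
    exact this
  rw [CommRingCat.hom_comp, RingHom.FormallyUnramified.respectsIso.cancel_left_isIso] at h3
  rw [CommRingCat.hom_comp, RingHom.FormallySmooth.respectsIso.cancel_left_isIso] at h4
  obtain ⟨W, hW, hWe⟩ := exists_etale_of_formallyEtale_stalk f (genericPoint X) h4 h3
  exact ⟨W, ⟨_, hW⟩, hWe⟩

/-- Generic étaleness criterion. -/
theorem main [IsIntegral X] [IsIntegral Y] [IsLocallyNoetherian Y] (f : X ⟶ Y)
    [LocallyOfFiniteType f] (e : f (genericPoint X) = genericPoint Y) :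
    letI := (ffMap f e).hom.toAlgebra
    ((∃ U : X.Opens, (U : Set X).Nonempty ∧ FormallyUnramified (U.ι ≫ f)) ↔
      (∃ U : X.Opens, (U : Set X).Nonempty ∧ Etale (U.ι ≫ f))) ∧
    ((∃ U : X.Opens, (U : Set X).Nonempty ∧ Etale (U.ι ≫ f)) ↔
      (FiniteDimensional Y.functionField X.functionField ∧
        Algebra.IsSeparable Y.functionField X.functionField)) := by
  let alg := (ffMap f e).hom.toAlgebra
  have h12 : (∃ U : X.Opens, (U : Set X).Nonempty ∧ FormallyUnramified (U.ι ≫ f)) →
      (FiniteDimensional Y.functionField X.functionField ∧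
        Algebra.IsSeparable Y.functionField X.functionField) := by
    rintro ⟨U, hU, hUf⟩
    exact finite_separable_of_unramified f e U hU
  have h23 : (FiniteDimensional Y.functionField X.functionField ∧
        Algebra.IsSeparable Y.functionField X.functionField) →
      (∃ U : X.Opens, (U : Set X).Nonempty ∧ Etale (U.ι ≫ f)) := by
    rintro ⟨_, hs⟩
    exact exists_etale_of_separable f e hs
  have h31 : (∃ U : X.Opens, (U : Set X).Nonempty ∧ Etale (U.ι ≫ f)) →
      (∃ U : X.Opens, (U : Set X).Nonempty ∧ FormallyUnramified (U.ι ≫ f)) := by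
    rintro ⟨U, hU, hUf⟩
    exact ⟨U, hU, inferInstance⟩
  exact ⟨⟨fun h => h23 (h12 h), h31⟩, ⟨fun h => h12 (h31 h), h23⟩⟩

end Groth.Agent.Lib.Helper51.GenericEtale
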