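import Mathlib
import Groth.Agent.Lib.Lead.Avoid1
import Groth.Agent.Lib.Helper60.TensorRestrictPow
import Groth.Agent.Lib.Helper35.Ample1
import Groth.Prelude.Def_RelProj

/-!
# Invariant affine open neighbourhoods for finite group actions on schemes with an ample module
-/

set_option autoImplicit false
universe u

open CategoryTheory AlgebraicGeometry TopologicalSpace Opposite Limits

namespace Groth.Agent.Lib.Helper51.InvariantAffine

variable {X : Scheme.{u}}

theorem isAmple_of_isAmple_restrict_top (L : X.Modules)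
    (h : CohB1.IsAmple (L.restrict (⊤ : X.Opens).ι)) : CohB1.IsAmple L := by
  have h1 : CohB1.IsAmple (L.restrict (𝟙 X)) :=
    (Groth.Agent.Lib.Helper60.TensorRestrict.isAmple_restrict_iff_of_opensRange_eq
      (⊤ : X.Opens).ι (𝟙 X) (by
        rw [Scheme.Opens.opensRange_ι]
        ext y
        simp) L).mp h
  exact Groth.Agent.Lib.Helper35.Ample.isAmple_of_iso (Scheme.Modules.restrictFunctorId.app L) h1

theorem isAmple_of_restrict_eq_top (L : X.Modules) (W : X.Opens) (hW : W = ⊤)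
    (h : CohB1.IsAmple (L.restrict W.ι)) : CohB1.IsAmple L := by
  subst hW
  exact isAmple_of_isAmple_restrict_top L h

/-- A quasi-projective scheme over an affine base carries an ample invertible module. -/
theorem exists_isAmple_of_isQuasiProjective {S : Scheme.{u}} [IsAffine S] (f : X ⟶ S)
    (hf : RelProj.IsQuasiProjective f) : ∃ L : X.Modules, CohB1.IsAmple L := by
  obtain ⟨-, -, L, hL⟩ := hf
  refine ⟨L, isAmple_of_restrict_eq_top L (f ⁻¹ᵁ ⊤) (Scheme.Hom.preimage_top f) ?_⟩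
  exact hL.2 ⟨⊤, isAffineOpen_top _⟩

/-- On a separated scheme with an ample invertible module, every point has an affine open
neighbourhood stable under a given finite group of automorphisms. -/
theorem exists_invariant_affine [IsAffineHom (pullback.diagonal (terminal.from X))]
    {L : X.Modules} (hL : CohB1.IsAmple L)
    (Γgrp : Type*) [Group Γgrp] [Finite Γgrp] (ρ : Γgrp →* Aut X) (x : X) :
    ∃ U : X.Opens, x ∈ U ∧ IsAffineOpen U ∧ ∀ σ : Γgrp, (ρ σ).hom ⁻¹ᵁ U = U := by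
  classical
  have := Fintype.ofFinite Γgrp
  have hmem : ∀ (V : Γgrp → X.Opens) (y : X), y ∈ (⨅ σ, V σ) ↔ ∀ σ, y ∈ V σ := by
    intro V y
    rw [← SetLike.mem_coe, Opens.coe_iInf, Set.mem_iInter]
    rfl
  -- the orbit of `x`
  let Z : Finset X := Finset.univ.image fun σ : Γgrp => (ρ σ).hom.base x
  obtain ⟨m, -, s, hZ, -, haff⟩ := Groth.Agent.Lib.Lead.Inv.exists_section_avoid hL ⊤ Z
    (fun z _ => trivial)
  set U₀ : X.Opens := CohB1.genLocus _ s with hU₀
  refine ⟨⨅ σ : Γgrp, (ρ σ).hom ⁻¹ᵁ U₀, ?_, ?_, ?_⟩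
  · rw [hmem]
    intro σ
    exact hZ _ (Finset.mem_image.mpr ⟨σ, Finset.mem_univ _, rfl⟩)
  · refine IsAffineOpen.iInf fun σ => ?_
    have : IsIso (ρ σ).hom := Iso.isIso_hom (ρ σ)
    exact haff.preimage_of_isIso (ρ σ).hom
  · intro τ
    have hcomp : ∀ σ : Γgrp, (ρ τ).hom ⁻¹ᵁ ((ρ σ).hom ⁻¹ᵁ U₀) = (ρ (σ * τ)).hom ⁻¹ᵁ U₀ := by
      intro σ
      rw [map_mul, Aut.Aut_mul_def]
      rfl
    ext y
    rw [SetLike.mem_coe, SetLike.mem_coe, Scheme.Hom.mem_preimage, hmem, hmem]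
    constructor
    · intro h σ
      have h2 : (ρ τ).hom.base y ∈ (ρ (σ * τ⁻¹)).hom ⁻¹ᵁ U₀ := h (σ * τ⁻¹)
      have h3 : y ∈ (ρ τ).hom ⁻¹ᵁ ((ρ (σ * τ⁻¹)).hom ⁻¹ᵁ U₀) := h2
      rw [hcomp, inv_mul_cancel_right] at h3
      exact h3
    · intro h σ
      have h1 : y ∈ (ρ (σ * τ)).hom ⁻¹ᵁ U₀ := h (σ * τ)
      rw [← hcomp] at h1
      exact h1

end Groth.Agent.Lib.Helper51.InvariantAffine
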