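import Mathlib
import Groth.Prelude.Def_SGA1t

/-!
# Kummer algebras over étale coordinates are formally smooth (helper51)

`kummer_formallySmooth`: let `A` be formally étale over the polynomial ring `R[X_j : j ∈ σ]` and let
`a_i` (`i ∈ ι`) be the images of distinct coordinates `X_{e i}`.  Then the Kummer algebra
`A[T_i]/(T_i^{n_i} - a_i)` is formally smooth over `R`.
-/

set_option autoImplicit false
universe u v w

namespace Groth.Agent.Lib.Helper51.KummerSmooth

open MvPolynomial

theorem kummer_formallySmooth {R A : Type u} [CommRing R] [CommRing A] [Algebra R A]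
    {σ : Type w} [Algebra (MvPolynomial σ R) A] [IsScalarTower R (MvPolynomial σ R) A]
    [Algebra.FormallyEtale (MvPolynomial σ R) A] {ι : Type v} (e : ι → σ)
    (he : Function.Injective e) (a : ι → A)
    (ha : ∀ i, a i = algebraMap (MvPolynomial σ R) A (X (e i))) (n : ι → ℕ) :
    Algebra.FormallySmooth R (SGA1t.kummer A a n) := by
  apply Algebra.FormallySmooth.of_comp_surjective
  intro D _ _ N hN gbar
  -- notation
  let I : Ideal (MvPolynomial ι A) :=
    Ideal.span (Set.range fun i => (X i : MvPolynomial ι A) ^ n i - C (a i))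
  let mkK : MvPolynomial ι A →+* SGA1t.kummer A a n := Ideal.Quotient.mk I
  have hT : ∀ i, mkK (X i) ^ n i = mkK (C (a i)) := by
    intro i
    rw [← map_pow, ← sub_eq_zero, ← map_sub]
    exact Ideal.Quotient.eq_zero_iff_mem.mpr (Ideal.subset_span ⟨i, rfl⟩)
  have halgAK : ∀ r : A, algebraMap A (SGA1t.kummer A a n) r = mkK (C r) := fun r => rfl
  -- choose lifts
  have hsurj : Function.Surjective (Ideal.Quotient.mk N) := Ideal.Quotient.mk_surjective
  choose t ht using fun i => hsurj (gbar (mkK (X i)))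
  choose c₀ hc₀ using fun j : σ =>
    hsurj (gbar (mkK (C (algebraMap (MvPolynomial σ R) A (X j)))))
  let c : σ → D := Function.extend e (fun i => t i ^ n i) c₀
  have hce : ∀ i, c (e i) = t i ^ n i := fun i => he.extend_apply _ _ i
  have hc : ∀ j, Ideal.Quotient.mk N (c j) =
      gbar (mkK (C (algebraMap (MvPolynomial σ R) A (X j)))) := by
    intro j
    by_cases hj : ∃ i, e i = j
    · obtain ⟨i, rfl⟩ := hj
      rw [hce, map_pow, ht, ← map_pow, hT, ha]
    · have : c j = c₀ j := Function.extend_apply' _ _ _ hj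
      rw [this, hc₀]
  -- the `P`-algebra structure on `D`
  letI algPD : Algebra (MvPolynomial σ R) D := (aeval c : MvPolynomial σ R →ₐ[R] D).toRingHom.toAlgebra
  have halgPD : ∀ p : MvPolynomial σ R, algebraMap (MvPolynomial σ R) D p = aeval c p := fun p => rfl
  haveI : IsScalarTower R (MvPolynomial σ R) D :=
    IsScalarTower.of_algebraMap_eq fun r => by
      rw [halgPD, MvPolynomial.algebraMap_eq, aeval_C]
  -- the two `R`-algebra maps `P → D/N`
  let φ₁ : MvPolynomial σ R →ₐ[R] D ⧸ N :=
    (gbar.comp (IsScalarTower.toAlgHom R A (SGA1t.kummer A a n))).comp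
      (IsScalarTower.toAlgHom R (MvPolynomial σ R) A)
  let φ₂ : MvPolynomial σ R →ₐ[R] D ⧸ N := (Ideal.Quotient.mkₐ R N).comp (aeval c)
  have hφ : φ₁ = φ₂ := by
    apply MvPolynomial.algHom_ext
    intro j
    change gbar (algebraMap A _ (algebraMap (MvPolynomial σ R) A (X j))) =
      Ideal.Quotient.mk N (aeval c (X j))
    rw [aeval_X, hc, halgAK]
  let g₁ : A →ₐ[MvPolynomial σ R] D ⧸ N :=
    { (gbar : SGA1t.kummer A a n →+* D ⧸ N).comp (algebraMap A (SGA1t.kummer A a n)) with
      commutes' := fun p => by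
        have := congrArg (fun φ : MvPolynomial σ R →ₐ[R] D ⧸ N => φ p) hφ
        exact this }
  obtain ⟨h, hh⟩ := Algebra.FormallySmooth.comp_surjective (MvPolynomial σ R) A N hN g₁
  have hh' : ∀ r : A, Ideal.Quotient.mk N (h r) = gbar (mkK (C r)) := by
    intro r
    have := congrArg (fun φ : A →ₐ[MvPolynomial σ R] D ⧸ N => φ r) hh
    exact this
  have hha : ∀ i, h (a i) = t i ^ n i := by
    intro i
    rw [ha, h.commutes, halgPD, aeval_X, hce]
  have hhR : ∀ r : R, h (algebraMap R A r) = algebraMap R D r := by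
    intro r
    rw [IsScalarTower.algebraMap_apply R (MvPolynomial σ R) A, h.commutes,
      ← IsScalarTower.algebraMap_apply R (MvPolynomial σ R) D]
  -- the lift
  let l₀ : MvPolynomial ι A →+* D := eval₂Hom (h : A →+* D) t
  have hl₀ : ∀ p ∈ I, l₀ p = 0 := by
    intro p hp
    have hle : I ≤ RingHom.ker l₀ := by
      rw [Ideal.span_le]
      rintro _ ⟨i, rfl⟩
      rw [SetLike.mem_coe, RingHom.mem_ker]
      change eval₂Hom (h : A →+* D) t (X i ^ n i - C (a i)) = 0
      rw [map_sub, map_pow, eval₂Hom_X', eval₂Hom_C]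
      change t i ^ n i - h (a i) = 0
      rw [hha, sub_self]
    exact hle hp
  let l₁ : SGA1t.kummer A a n →+* D := Ideal.Quotient.lift I l₀ hl₀
  have hl₁ : ∀ p, l₁ (mkK p) = l₀ p := fun p => Ideal.Quotient.lift_mk I l₀ hl₀
  let l : SGA1t.kummer A a n →ₐ[R] D :=
    { l₁ with
      commutes' := fun r => by
        change l₁ (mkK (C (algebraMap R A r))) = _
        rw [hl₁]
        change eval₂Hom (h : A →+* D) t (C (algebraMap R A r)) = _
        rw [eval₂Hom_C]
        exact hhR r }
  refine ⟨l, ?_⟩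
  apply AlgHom.coe_ringHom_injective
  apply Ideal.Quotient.ringHom_ext
  apply MvPolynomial.ringHom_ext
  · intro r
    change Ideal.Quotient.mk N (l₁ (mkK (C r))) = gbar (mkK (C r))
    rw [hl₁]
    change Ideal.Quotient.mk N (eval₂Hom (h : A →+* D) t (C r)) = _
    rw [eval₂Hom_C]
    exact hh' r
  · intro i
    change Ideal.Quotient.mk N (l₁ (mkK (X i))) = gbar (mkK (X i))
    rw [hl₁]
    change Ideal.Quotient.mk N (eval₂Hom (h : A →+* D) t (X i)) = _
    rw [eval₂Hom_X', ht]

end Groth.Agent.Lib.Helper51.KummerSmooth
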