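import Mathlib
import Groth.Prelude.Def_SGA1t
import Groth.Agent.Lib.Helper51.KummerSmooth
import Groth.Agent.Lib.Helper51.AffineSpaceChart

/-!
# Kummer covers along a relative strict normal crossings divisor are smooth (helper51)
-/

set_option autoImplicit false
universe u
open CategoryTheory CategoryTheory.Limits AlgebraicGeometry TopologicalSpace

namespace Groth.Agent.Lib.Helper51.KummerSmoothSch

open Groth.Agent.Lib.Helper51.AffineSpaceChart Groth.Agent.Lib.Helper51.KummerSmooth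

lemma homOfLE_appTop_eq {X : Scheme.{u}} {W W' : X.Opens} (h : W' ≤ W) :
    (X.homOfLE h).appTop = W.topIso.hom ≫ X.presheaf.map (homOfLE h).op ≫ W'.topIso.inv := by
  rw [Scheme.homOfLE_appTop]
  simp only [Scheme.Opens.topIso_hom, Scheme.Opens.topIso_inv]
  exact ((X.presheaf.map_comp _ _).trans (congrArg (_ ≫ ·) (X.presheaf.map_comp _ _))).symm ▸ rfl

/-- An étale morphism to affine space given by a vector of functions induces étale ring maps on
affine charts. -/
theorem etale_ringHom_of_etale_homOfVector {X S : Scheme.{u}} (f : X ⟶ S) (W : X.Opens) (σ : Type u)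
    (v : σ → Γ(W.toScheme, ⊤)) (hEt : Etale (AffineSpace.homOfVector (W.ι ≫ f) v))
    {U : S.Opens} (hU : IsAffineOpen U) {W' : X.Opens} (hW' : IsAffineOpen W') (hW'W : W' ≤ W)
    (hW'U : W' ≤ f ⁻¹ᵁ U) (ψ : MvPolynomial σ Γ(S, U) →+* Γ(X, W'))
    (hψC : ψ.comp MvPolynomial.C = (f.appLE U W' hW'U).hom)
    (hψX : ∀ j, ψ (MvPolynomial.X j) = X.presheaf.map (homOfLE hW'W).op (W.topIso.hom (v j))) :
    ψ.Etale := by
  have h1 : AffineSpace.homOfVector (W'.ι ≫ f) (chartVector hW' σ ψ) =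
      X.homOfLE hW'W ≫ AffineSpace.homOfVector (W.ι ≫ f) v := by
    apply AffineSpace.hom_ext
    · rw [AffineSpace.homOfVector_over, Category.assoc, AffineSpace.homOfVector_over,
        Scheme.homOfLE_ι_assoc]
    · intro j
      rw [AffineSpace.homOfVector_appTop_coord, Scheme.Hom.comp_appTop, CommRingCat.comp_apply,
        AffineSpace.homOfVector_appTop_coord, chartVector_eq, hψX, homOfLE_appTop_eq]
      rfl
  have h2 : Etale (AffineSpace.homOfVector (W'.ι ≫ f) (chartVector hW' σ ψ)) := by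
    rw [h1]
    infer_instance
  have h3 : Etale (Spec.map (CommRingCat.ofHom ψ) ≫ affineSpaceChart hU σ) := by
    rw [← chart_square f hW' hU hW'U σ ψ hψC]
    infer_instance
  have h4 : Etale (Spec.map (CommRingCat.ofHom ψ)) :=
    MorphismProperty.of_postcomp (W := @Etale) (W' := @Etale) _ (affineSpaceChart hU σ)
      inferInstance h3
  exact HasRingHomProperty.Spec_iff.mp h4

/-- The Kummer cover of the local ring at a point of a relative strict normal crossings divisor is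
smooth over the base at every point. -/
theorem kummer_stalkMap_formallySmooth {X S : Scheme.{u}} (f : X ⟶ S) {r : ℕ} (φ : Fin r → Γ(X, ⊤))
    (hD : SGA1t.IsRelSNC f φ) (x : X) (hx : Nonempty (SGA1t.vanishingAt φ x))
    (n : SGA1t.vanishingAt φ x → ℕ)
    (x' : Spec (CommRingCat.of (SGA1t.kummer (X.presheaf.stalk x)
      (fun i : SGA1t.vanishingAt φ x => (X.presheaf.germ ⊤ x trivial).hom (φ i.1)) n))) :
    ((Spec.map (CommRingCat.ofHom (algebraMap (X.presheaf.stalk x)
      (SGA1t.kummer (X.presheaf.stalk x)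
        (fun i : SGA1t.vanishingAt φ x => (X.presheaf.germ ⊤ x trivial).hom (φ i.1)) n))) ≫
        X.fromSpecStalk x ≫ f).stalkMap x').hom.FormallySmooth := by
  obtain ⟨W, hxW, d, v, e, he, hEt, hv⟩ := hD x hx
  -- affine charts
  obtain ⟨_, ⟨U, hU, rfl⟩, hsU, -⟩ :=
    S.isBasis_affineOpens.exists_subset_of_mem_open (Set.mem_univ (f x)) isOpen_univ
  have hx0 : x ∈ W ⊓ f ⁻¹ᵁ U := ⟨hxW, hsU⟩
  obtain ⟨_, ⟨W', hW', rfl⟩, hxW', hW'le⟩ :=
    X.isBasis_affineOpens.exists_subset_of_mem_open hx0 (W ⊓ f ⁻¹ᵁ U).2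
  have hW'W : W' ≤ W := fun z hz => (hW'le hz).1
  have hW'U : W' ≤ f ⁻¹ᵁ U := fun z hz => (hW'le hz).2
  -- the étale ring map
  let ψ : MvPolynomial (ULift.{u} (Fin d)) Γ(S, U) →+* Γ(X, W') :=
    MvPolynomial.eval₂Hom (f.appLE U W' hW'U).hom
      (fun j => X.presheaf.map (homOfLE hW'W).op (W.topIso.hom (v j)))
  have hψC : ψ.comp MvPolynomial.C = (f.appLE U W' hW'U).hom := by
    ext r
    exact MvPolynomial.eval₂Hom_C _ _ r
  have hψX : ∀ j, ψ (MvPolynomial.X j) =
      X.presheaf.map (homOfLE hW'W).op (W.topIso.hom (v j)) :=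
    fun j => MvPolynomial.eval₂Hom_X' _ _ j
  have hψe := etale_ringHom_of_etale_homOfVector f W _ v hEt hU hW' hW'W hW'U ψ hψC hψX
  -- algebra structures
  letI algPB : Algebra (MvPolynomial (ULift.{u} (Fin d)) Γ(S, U)) Γ(X, W') := ψ.toAlgebra
  haveI hEtPB : Algebra.Etale (MvPolynomial (ULift.{u} (Fin d)) Γ(S, U)) Γ(X, W') := hψe
  letI algBA : Algebra Γ(X, W') (X.presheaf.stalk x) := X.presheaf.algebra_section_stalk ⟨x, hxW'⟩
  haveI hloc : IsLocalization.AtPrime (X.presheaf.stalk x) (hW'.primeIdealOf ⟨x, hxW'⟩).asIdeal :=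
    hW'.isLocalization_stalk ⟨x, hxW'⟩
  haveI hEtBA : Algebra.FormallyEtale Γ(X, W') (X.presheaf.stalk x) :=
    Algebra.FormallyEtale.of_isLocalization (hW'.primeIdealOf ⟨x, hxW'⟩).asIdeal.primeCompl
  letI algPA : Algebra (MvPolynomial (ULift.{u} (Fin d)) Γ(S, U)) (X.presheaf.stalk x) :=
    ((algebraMap Γ(X, W') (X.presheaf.stalk x)).comp ψ).toAlgebra
  haveI : IsScalarTower (MvPolynomial (ULift.{u} (Fin d)) Γ(S, U)) Γ(X, W') (X.presheaf.stalk x) :=
    IsScalarTower.of_algebraMap_eq fun _ => rfl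
  haveI hEtPA : Algebra.FormallyEtale (MvPolynomial (ULift.{u} (Fin d)) Γ(S, U))
      (X.presheaf.stalk x) :=
    Algebra.FormallyEtale.comp _ Γ(X, W') _
  letI algRA : Algebra Γ(S, U) (X.presheaf.stalk x) :=
    ((algebraMap (MvPolynomial (ULift.{u} (Fin d)) Γ(S, U)) (X.presheaf.stalk x)).comp
      MvPolynomial.C).toAlgebra
  haveI : IsScalarTower Γ(S, U) (MvPolynomial (ULift.{u} (Fin d)) Γ(S, U)) (X.presheaf.stalk x) :=
    IsScalarTower.of_algebraMap_eq fun _ => rfl
  have halgBA : ∀ b : Γ(X, W'), algebraMap Γ(X, W') (X.presheaf.stalk x) b =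
      (X.presheaf.germ W' x hxW').hom b := fun b => rfl
  have ha : ∀ i : SGA1t.vanishingAt φ x, (X.presheaf.germ ⊤ x trivial).hom (φ i.1) =
      algebraMap (MvPolynomial (ULift.{u} (Fin d)) Γ(S, U)) (X.presheaf.stalk x)
        (MvPolynomial.X (ULift.up (e i))) := by
    intro i
    change _ = algebraMap Γ(X, W') (X.presheaf.stalk x) (ψ (MvPolynomial.X (ULift.up (e i))))
    rw [hψX, hv, halgBA]
    have h1 : W.topIso.hom (W.topIso.inv (X.presheaf.map (homOfLE le_top).op (φ i.1))) =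
        X.presheaf.map (homOfLE le_top).op (φ i.1) :=
      congrArg (fun α => α.hom (X.presheaf.map (homOfLE le_top).op (φ i.1))) W.topIso.inv_hom_id
    rw [h1, TopCat.Presheaf.germ_res_apply, TopCat.Presheaf.germ_res_apply]
  have hK := kummer_formallySmooth (R := Γ(S, U)) (A := X.presheaf.stalk x)
    (σ := ULift.{u} (Fin d)) (fun i : SGA1t.vanishingAt φ x => ULift.up (e i))
    (fun i j hij => he (ULift.up_injective hij))
    (fun i : SGA1t.vanishingAt φ x => (X.presheaf.germ ⊤ x trivial).hom (φ i.1)) ha n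
  -- the morphism to `S`
  obtain ⟨α, hα⟩ : ∃ α : X.presheaf.stalk x →+* SGA1t.kummer (X.presheaf.stalk x)
      (fun i : SGA1t.vanishingAt φ x => (X.presheaf.germ ⊤ x trivial).hom (φ i.1)) n,
      α = algebraMap _ _ := ⟨_, rfl⟩
  rw [← hα]
  obtain ⟨g, hg⟩ : ∃ g : Spec (CommRingCat.of (SGA1t.kummer (X.presheaf.stalk x)
      (fun i : SGA1t.vanishingAt φ x => (X.presheaf.germ ⊤ x trivial).hom (φ i.1)) n)) ⟶ S,
      g = Spec.map (CommRingCat.ofHom α) ≫ X.fromSpecStalk x ≫ f := ⟨_, rfl⟩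
  rw [← hg]
  have hgU : (⊤ : (Spec (CommRingCat.of (SGA1t.kummer (X.presheaf.stalk x)
      (fun i : SGA1t.vanishingAt φ x => (X.presheaf.germ ⊤ x trivial).hom (φ i.1)) n))).Opens) ≤
      g ⁻¹ᵁ U := by
    intro z _
    change g z ∈ U
    rw [hg, Scheme.Hom.comp_apply, Scheme.Hom.comp_apply]
    have h1 : (X.fromSpecStalk x) ((Spec.map (CommRingCat.ofHom α)) z) ⤳ x := by
      have : (X.fromSpecStalk x) ((Spec.map (CommRingCat.ofHom α)) z) ∈
          Set.range (X.fromSpecStalk x) := ⟨_, rfl⟩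
      rw [Scheme.range_fromSpecStalk] at this
      exact this
    exact (h1.map f.continuous).mem_open U.2 hsU
  rw [formallySmooth_stalkMap_iff U hU ⊤ (isAffineOpen_top _) hgU (Set.mem_univ x')]
  letI algRΓ : Algebra Γ(S, U) Γ(Spec (CommRingCat.of (SGA1t.kummer (X.presheaf.stalk x)
      (fun i : SGA1t.vanishingAt φ x => (X.presheaf.germ ⊤ x trivial).hom (φ i.1)) n)), ⊤) :=
    (g.appLE U ⊤ hgU).hom.toAlgebra
  change Algebra.FormallySmooth Γ(S, U) (Localization.AtPrime _)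
  have e1 : (⊤ : (Spec (X.presheaf.stalk x)).Opens) ≤ (X.fromSpecStalk x) ⁻¹ᵁ W' := by
    intro z _
    change (X.fromSpecStalk x) z ∈ W'
    have h1 : (X.fromSpecStalk x) z ⤳ x := by
      have : (X.fromSpecStalk x) z ∈ Set.range (X.fromSpecStalk x) := ⟨_, rfl⟩
      rw [Scheme.range_fromSpecStalk] at this
      exact this
    exact h1.mem_open W'.2 hxW'
  have e2 : (⊤ : (Spec (CommRingCat.of (SGA1t.kummer (X.presheaf.stalk x)
      (fun i : SGA1t.vanishingAt φ x => (X.presheaf.germ ⊤ x trivial).hom (φ i.1)) n))).Opens) ≤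
      (Spec.map (CommRingCat.ofHom α)) ⁻¹ᵁ ⊤ := fun _ _ => trivial
  have h1 : g.appLE U ⊤ hgU = f.appLE U W' hW'U ≫ (X.fromSpecStalk x).appLE W' ⊤ e1 ≫
      (Spec.map (CommRingCat.ofHom α)).appLE ⊤ ⊤ e2 := by
    rw [← Category.assoc, Scheme.Hom.appLE_comp_appLE, Scheme.Hom.appLE_comp_appLE]
    subst hg
    rfl
  have h2 : (X.fromSpecStalk x).appLE W' ⊤ e1 =
      X.presheaf.germ W' x hxW' ≫ (Scheme.ΓSpecIso (X.presheaf.stalk x)).inv := by
    rw [Scheme.Hom.appLE, Scheme.fromSpecStalk_app hxW', Category.assoc, Category.assoc,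
      ← Functor.map_comp]
    have : (Spec (X.presheaf.stalk x)).presheaf.map
        ((homOfLE le_top).op ≫ (homOfLE e1).op) = 𝟙 _ :=
      (Spec (X.presheaf.stalk x)).presheaf.map_id _
    rw [this, Category.comp_id]
  have h3 : (Spec.map (CommRingCat.ofHom α)).appLE ⊤ ⊤ e2 =
      (Spec.map (CommRingCat.ofHom α)).appTop := by
    rw [Scheme.Hom.appLE]
    exact (congrArg (_ ≫ ·) ((Spec _).presheaf.map_id _)).trans (Category.comp_id _)
  have hcomp : g.appLE U ⊤ hgU = f.appLE U W' hW'U ≫ X.presheaf.germ W' x hxW' ≫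
      CommRingCat.ofHom α ≫ (Scheme.ΓSpecIso _).inv := by
    have nat : (Scheme.ΓSpecIso (X.presheaf.stalk x)).inv ≫
        (Spec.map (CommRingCat.ofHom α)).appTop = CommRingCat.ofHom α ≫ (Scheme.ΓSpecIso _).inv :=
      (Scheme.ΓSpecIso_inv_naturality (CommRingCat.ofHom α)).symm
    rw [h1, h2, h3, Category.assoc, nat]
    rfl
  have hRA : ∀ r : Γ(S, U), algebraMap Γ(S, U) (X.presheaf.stalk x) r =
      (X.presheaf.germ W' x hxW').hom ((f.appLE U W' hW'U).hom r) := by
    intro r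
    change (X.presheaf.germ W' x hxW').hom (ψ (MvPolynomial.C r)) = _
    rw [show ψ (MvPolynomial.C r) = (f.appLE U W' hW'U).hom r from MvPolynomial.eval₂Hom_C _ _ r]
  let eqv : SGA1t.kummer (X.presheaf.stalk x)
      (fun i : SGA1t.vanishingAt φ x => (X.presheaf.germ ⊤ x trivial).hom (φ i.1)) n ≃ₐ[Γ(S, U)]
      Γ(Spec (CommRingCat.of (SGA1t.kummer (X.presheaf.stalk x)
        (fun i : SGA1t.vanishingAt φ x => (X.presheaf.germ ⊤ x trivial).hom (φ i.1)) n)), ⊤) :=
    { (Scheme.ΓSpecIso (CommRingCat.of (SGA1t.kummer (X.presheaf.stalk x)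
        (fun i : SGA1t.vanishingAt φ x => (X.presheaf.germ ⊤ x trivial).hom
          (φ i.1)) n))).symm.commRingCatIsoToRingEquiv with
      commutes' := fun r => by
        have h4 := congrArg (fun β => β.hom r) hcomp
        have h5 : algebraMap Γ(S, U) (SGA1t.kummer (X.presheaf.stalk x)
            (fun i : SGA1t.vanishingAt φ x => (X.presheaf.germ ⊤ x trivial).hom (φ i.1)) n) r =
            α ((X.presheaf.germ W' x hxW').hom ((f.appLE U W' hW'U).hom r)) := by
          rw [IsScalarTower.algebraMap_apply Γ(S, U) (X.presheaf.stalk x), hRA, hα]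
        change (Scheme.ΓSpecIso _).inv.hom (algebraMap Γ(S, U) _ r) = (g.appLE U ⊤ hgU).hom r
        rw [h5]
        exact h4.symm }
  haveI : Algebra.FormallySmooth Γ(S, U) Γ(Spec (CommRingCat.of (SGA1t.kummer (X.presheaf.stalk x)
      (fun i : SGA1t.vanishingAt φ x => (X.presheaf.germ ⊤ x trivial).hom (φ i.1)) n)), ⊤) :=
    Algebra.FormallySmooth.of_equiv (A := SGA1t.kummer (X.presheaf.stalk x)
      (fun i : SGA1t.vanishingAt φ x => (X.presheaf.germ ⊤ x trivial).hom (φ i.1)) n) eqv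
  infer_instance

end Groth.Agent.Lib.Helper51.KummerSmoothSch
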