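import Mathlib
import Groth.Agent.Lib.Helper51.MS2Defs
import Groth.Agent.Lib.Helper51.MultiSecNoeth

/-!
# S14068: the Noetherian Jacobson core (helper51)
-/

set_option autoImplicit false
set_option linter.style.haveILetI false
universe u
open TensorProduct KaehlerDifferential

namespace Groth.Agent.Lib.Helper51.MS2

open Groth.Agent.Lib.Helper51.MultiSecDescent Groth.Agent.Lib.Helper51.MultiSecSocle
  Groth.Agent.Lib.Helper51.MultiSecFibre Groth.Agent.Lib.Helper51.EtaleSlice
  Groth.Agent.Lib.Helper51.MultiSecNoeth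

/-- `x ∈ pB ⇒ 1 ⊗ x = 0` in `(A/p) ⊗ B`. -/
theorem one_tmul_eq_zero_of_mem_map {A B : Type*} [CommRing A] [CommRing B] [Algebra A B]
    (p : Ideal A) (x : B) (hx : x ∈ p.map (algebraMap A B)) : (1 : A ⧸ p) ⊗ₜ[A] x = 0 := by
  have h1 : TensorProduct.quotTensorEquivQuotSMul B p ((1 : A ⧸ p) ⊗ₜ[A] x) = 0 := by
    rw [TensorProduct.quotTensorEquivQuotSMul_mk_one_tmul, Submodule.Quotient.mk_eq_zero,
      Ideal.smul_top_eq_map]
    exact hx
  exact (TensorProduct.quotTensorEquivQuotSMul B p).injective (h1.trans (map_zero _).symm)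

/-- the fibre ideal of a standard smooth algebra over a maximal ideal is radical. -/
theorem isRadical_map_of_isMaximal {A B : Type u} [CommRing A] [CommRing B] [Algebra A B]
    [Algebra.IsStandardSmooth A B] (p : Ideal A) [hp : p.IsMaximal] :
    (p.map (algebraMap A B)).IsRadical := by
  letI : Field (A ⧸ p) := Ideal.Quotient.field p
  haveI : Algebra.Smooth (A ⧸ p) ((A ⧸ p) ⊗[A] B) := inferInstance
  haveI : IsReduced ((A ⧸ p) ⊗[A] B) :=
    Groth.Agent.Lib.Helper30.SmoothReduced.isReduced_of_smooth (A ⧸ p) _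
  intro x hx
  obtain ⟨n, hn⟩ := hx
  apply mem_map_of_one_tmul_eq_zero p x
  have h1 := one_tmul_eq_zero_of_mem_map p _ hn
  have h2 : ((1 : A ⧸ p) ⊗ₜ[A] x) ^ n = (1 : A ⧸ p) ⊗ₜ[A] (x ^ n) := by
    rw [Algebra.TensorProduct.tmul_pow, one_pow]
  exact IsReduced.eq_zero _ ⟨n, h2.trans h1⟩

/-- the pushout `Q ⊗[B] C` as an abstract package. -/
theorem tensor_package {A B Q C : Type u} [CommRing A] [CommRing B] [CommRing Q] [CommRing C]
    [Algebra A B] [Algebra B Q] [Algebra A Q] [IsScalarTower A B Q] [Algebra B C]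
    [Module.Flat A Q] [Module.Flat B C] :
    ∃ (R : Type u) (_ : CommRing R) (ψQ : Q →+* R) (ψC : C →+* R),
      ψQ.comp (algebraMap B Q) = ψC.comp (algebraMap B C) ∧
      (ψQ.comp ((algebraMap B Q).comp (algebraMap A B))).Flat ∧
      ∀ (T : Type u) [CommRing T] (χQ : Q →+* T) (χC : C →+* T),
        χQ.comp (algebraMap B Q) = χC.comp (algebraMap B C) →
        ∃ χ : R →+* T, χ.comp ψC = χC ∧ χ.comp ψQ = χQ := by
  refine ⟨Q ⊗[B] C, inferInstance,
    (Algebra.TensorProduct.includeLeft : Q →ₐ[B] Q ⊗[B] C).toRingHom,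
    (Algebra.TensorProduct.includeRight : C →ₐ[B] Q ⊗[B] C).toRingHom, ?_, ?_, ?_⟩
  · ext b
    show (Algebra.TensorProduct.includeLeft : Q →ₐ[B] Q ⊗[B] C) (algebraMap B Q b) =
      (Algebra.TensorProduct.includeRight : C →ₐ[B] Q ⊗[B] C) (algebraMap B C b)
    rw [AlgHom.commutes, AlgHom.commutes]
  · have hA : ((algebraMap B Q).comp (algebraMap A B)).Flat := by
      have : (algebraMap B Q).comp (algebraMap A B) = algebraMap A Q :=
        (IsScalarTower.algebraMap_eq A B Q).symm
      rw [this, RingHom.flat_algebraMap_iff]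
      infer_instance
    have hQ : RingHom.Flat (R := Q) (S := Q ⊗[B] C)
        (Algebra.TensorProduct.includeLeft : Q →ₐ[B] Q ⊗[B] C).toRingHom := by
      have h : (algebraMap Q (Q ⊗[B] C)).Flat := by
        rw [RingHom.flat_algebraMap_iff]
        infer_instance
      convert h using 1
      ext x
      simp
    exact hA.comp hQ
  · intro T _ χQ χC hcomm
    letI : Algebra B T := (χQ.comp (algebraMap B Q)).toAlgebra
    let χQ' : Q →ₐ[B] T := { χQ with commutes' := fun b => rfl }
    let χC' : C →ₐ[B] T := { χC with commutes' := fun b => (RingHom.congr_fun hcomm b).symm }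
    let χ : Q ⊗[B] C →ₐ[B] T := Algebra.TensorProduct.lift χQ' χC' (fun _ _ => Commute.all _ _)
    refine ⟨χ.toRingHom, ?_, ?_⟩
    · ext c
      show χ ((1 : Q) ⊗ₜ[B] c) = χC c
      rw [Algebra.TensorProduct.lift_tmul]
      show χQ 1 * χC c = χC c
      rw [map_one, one_mul]
    · ext x
      show χ (x ⊗ₜ[B] (1 : C)) = χQ x
      rw [Algebra.TensorProduct.lift_tmul]
      show χQ x * χC 1 = χQ x
      rw [map_one, mul_one]

/-- The Noetherian Jacobson core, with P1 and P2 as hypotheses. -/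
theorem concl_noeth_aux
    (hP1 : ∀ {A R : Type u} [CommRing A] [CommRing R] [Algebra A R] [Module.Flat A R]
      (I p : Ideal A) (σ : A) (_ : ∀ w : A, w * σ ∈ I → w ∈ p) (c : R)
      (_ : algebraMap A R σ * c ∈ I.map (algebraMap A R)), c ∈ p.map (algebraMap A R))
    (hP2 : ∀ {B C : Type u} [CommRing B] [CommRing C] [Algebra B C] [IsNoetherianRing B]
      [Module.Flat B C] [Algebra.FiniteType B C] (𝔟 : Ideal B) (_ : 𝔟.IsRadical) (x : C)
      (_ : x ∉ 𝔟.map (algebraMap B C)),
      ∃ h : B, h ∉ 𝔟 ∧ ∀ q : Ideal B, q.IsPrime → 𝔟 ≤ q → h ∉ q → x ∉ q.map (algebraMap B C))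
    (A B C : Type u) [CommRing A] [CommRing B] [CommRing C] [Algebra A B] [Algebra B C]
    [IsNoetherianRing A] [IsJacobsonRing A] [Algebra.IsStandardSmooth A B] [Module.Flat B C]
    [Algebra.FiniteType B C] (t : C) (ht : t ≠ 0) : Concl A B C t := by
  letI : Algebra A C := ((algebraMap B C).comp (algebraMap A B)).toAlgebra
  haveI : IsScalarTower A B C := IsScalarTower.of_algebraMap_eq (fun _ => rfl)
  haveI : Algebra.Smooth A B := inferInstance
  haveI : Algebra.FiniteType A B := inferInstance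
  haveI : IsNoetherianRing B := Algebra.FiniteType.isNoetherianRing A B
  haveI : Algebra.FiniteType A C := Algebra.FiniteType.trans (S := B) inferInstance inferInstance
  haveI : IsNoetherianRing C := Algebra.FiniteType.isNoetherianRing A C
  obtain ⟨n, hn, I, σ, u, c, hun, hσ, hrel, huc⟩ := exists_socle_data (A := A) (B := C) t ht
  haveI := hn
  haveI hpmax : (n.comap (algebraMap A C)).IsMaximal := comap_isMaximal_of_isJacobsonRing n
  set p : Ideal A := n.comap (algebraMap A C) with hp
  have hrad : (p.map (algebraMap A B)).IsRadical := isRadical_map_of_isMaximal p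
  have hmm : (p.map (algebraMap A B)).map (algebraMap B C) = p.map (algebraMap A C) := by
    rw [Ideal.map_map]; rfl
  have hx : u * c ∉ (p.map (algebraMap A B)).map (algebraMap B C) := by rw [hmm]; exact huc
  obtain ⟨h, hh, hq⟩ := hP2 (p.map (algebraMap A B)) hrad (u * c) hx
  obtain ⟨q', hq'max, hpq', hq'h, hunr⟩ := exists_separable_maximal p h hh
  haveI := hq'max
  haveI : q'.IsPrime := hq'max.isPrime
  have hxq' : u * c ∉ q'.map (algebraMap B C) := hq q' inferInstance hpq' hq'h
  letI : Field (B ⧸ q') := Ideal.Quotient.field q'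
  -- the slice
  let P := Localization.AtPrime q'
  haveI : IsLocalization (Algebra.algebraMapSubmonoid (B ⧸ q') q'.primeCompl)
      (P ⧸ q'.map (algebraMap B P)) := inferInstance
  haveI : Algebra.FormallyUnramified (B ⧸ q') (P ⧸ q'.map (algebraMap B P)) :=
    Algebra.FormallyUnramified.of_isLocalization
      (Algebra.algebraMapSubmonoid (B ⧸ q') q'.primeCompl)
  haveI : Algebra.FormallyUnramified A (P ⧸ q'.map (algebraMap B P)) :=
    Algebra.FormallyUnramified.comp A (B ⧸ q') _
  haveI : Subsingleton Ω[(P ⧸ q'.map (algebraMap B P))⁄A] :=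
    Algebra.FormallyUnramified.subsingleton_kaehlerDifferential
  obtain ⟨I₀, hI₀, -, f, hf, hEt⟩ := exists_etale_away_quotient (R := A) q' q' le_rfl
  let Lf := Localization.Away f
  let Q := Lf ⧸ I₀.map (algebraMap B Lf)
  have hfunit : IsUnit (Ideal.Quotient.mk q' f) := by
    rw [isUnit_iff_ne_zero, Ne, Ideal.Quotient.eq_zero_iff_mem]
    exact hf
  let ρ₀ : Lf →+* B ⧸ q' := IsLocalization.Away.lift f hfunit
  have hρ₀ : ∀ x : B, ρ₀ (algebraMap B Lf x) = Ideal.Quotient.mk q' x := fun x =>
    IsLocalization.Away.lift_eq f hfunit x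
  have hρker : ∀ x ∈ I₀.map (algebraMap B Lf), ρ₀ x = 0 := by
    intro x hx
    have hle : I₀.map (algebraMap B Lf) ≤ RingHom.ker ρ₀ := by
      rw [Ideal.map_le_iff_le_comap]
      intro y hy
      rw [Ideal.mem_comap, RingHom.mem_ker, hρ₀, Ideal.Quotient.eq_zero_iff_mem]
      exact hI₀ hy
    exact hle hx
  let ρ : Q →+* B ⧸ q' := Ideal.Quotient.lift _ ρ₀ hρker
  have hρ : ∀ x : B, ρ (algebraMap B Q x) = Ideal.Quotient.mk q' x := by
    intro x
    rw [IsScalarTower.algebraMap_apply B Lf Q, Ideal.Quotient.algebraMap_eq]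
    show ρ₀ _ = _
    exact hρ₀ x
  -- the ring `R = Q ⊗[B] C`
  obtain ⟨R, _, ψQ, ψC, hcomm, hflat, huniv⟩ :=
    tensor_package (A := A) (B := B) (Q := Q) (C := C)
  refine ⟨Q, inferInstance, algebraMap B Q, ?_, isLocQuotHom_away_quotient f _, R, inferInstance,
    ψQ, ψC, hcomm, hflat, ?_⟩
  · have : (algebraMap B Q).comp (algebraMap A B) = algebraMap A Q :=
      (IsScalarTower.algebraMap_eq A B Q).symm
    rw [this, RingHom.etale_algebraMap]
    exact hEt
  · intro ht0
    -- `A → R`
    have hιA : ψQ.comp ((algebraMap B Q).comp (algebraMap A B)) = ψC.comp (algebraMap A C) := by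
      rw [← RingHom.comp_assoc, hcomm, RingHom.comp_assoc]
      rfl
    letI : Algebra A R := (ψQ.comp ((algebraMap B Q).comp (algebraMap A B))).toAlgebra
    haveI : Module.Flat A R := hflat
    have hAR : algebraMap A R = ψC.comp (algebraMap A C) := hιA
    -- push the relation to `R`
    have h1 : ψC (u * t - algebraMap A C σ * c) ∈ I.map (algebraMap A R) := by
      have : (I.map (algebraMap A C)).map ψC = I.map (algebraMap A R) := by
        rw [Ideal.map_map, hAR]
      rw [← this]
      exact Ideal.mem_map_of_mem _ hrel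
    rw [map_sub, map_mul, map_mul, ht0, mul_zero] at h1
    have h2 : algebraMap A R σ * ψC c ∈ I.map (algebraMap A R) := by
      have h3 : algebraMap A R σ * ψC c = -(0 - ψC (algebraMap A C σ) * ψC c) := by
        rw [hAR]; simp
      rw [h3]
      exact neg_mem h1
    have hσ' : ∀ w : A, w * σ ∈ I → w ∈ p := by
      intro w hw
      by_contra hwp
      exact hσ w hwp hw
    have h4 : ψC c ∈ p.map (algebraMap A R) := hP1 I p σ hσ' (ψC c) h2
    have h5 : ψC (u * c) ∈ p.map (algebraMap A R) := by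
      rw [map_mul]
      exact Ideal.mul_mem_left _ _ h4
    -- the map to `C ⧸ q'C`
    let T := C ⧸ q'.map (algebraMap B C)
    let qm : B ⧸ q' →+* T :=
      Ideal.quotientMap (q'.map (algebraMap B C)) (algebraMap B C) Ideal.le_comap_map
    have hχcomm : (qm.comp ρ).comp (algebraMap B Q) =
        (Ideal.Quotient.mk (q'.map (algebraMap B C))).comp (algebraMap B C) := by
      ext b
      show qm (ρ (algebraMap B Q b)) = _
      rw [hρ]
      rfl
    obtain ⟨χ, hχC, -⟩ := huniv T (qm.comp ρ) (Ideal.Quotient.mk _) hχcomm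
    have h6 : χ (ψC (u * c)) ∈ (p.map (algebraMap A R)).map χ := Ideal.mem_map_of_mem _ h5
    have h7 : (p.map (algebraMap A R)).map χ = ⊥ := by
      rw [Ideal.map_map, eq_bot_iff, Ideal.map_le_iff_le_comap]
      intro a ha
      rw [Ideal.mem_comap, Ideal.mem_bot, hAR]
      show χ (ψC (algebraMap A C a)) = 0
      have : χ (ψC (algebraMap A C a)) = (χ.comp ψC) (algebraMap A C a) := rfl
      rw [this, hχC, Ideal.Quotient.eq_zero_iff_mem]
      show algebraMap B C (algebraMap A B a) ∈ _
      exact Ideal.mem_map_of_mem _ (hpq' (Ideal.mem_map_of_mem _ ha))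
    rw [h7, Ideal.mem_bot] at h6
    have h8 : χ (ψC (u * c)) = (χ.comp ψC) (u * c) := rfl
    rw [h8, hχC, Ideal.Quotient.eq_zero_iff_mem] at h6
    exact hxq' h6

end Groth.Agent.Lib.Helper51.MS2
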