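import Mathlib
import Groth.Agent.Lib.Helper51.MultiSecDescent

/-!
# Étale slices of a smooth morphism are schematically dominant (helper51)
-/

set_option autoImplicit false
set_option linter.style.haveILetI false
universe u
open CategoryTheory AlgebraicGeometry

namespace Groth.Agent.Lib.Helper51.MultiSecScheme

open Groth.Agent.Lib.Helper51.MultiSecDescent

theorem isImmersion_Spec_map_of_isLocQuotHom {B Q : CommRingCat.{u}} (φ : B ⟶ Q)
    (h : IsLocQuotHom φ.hom) : IsImmersion (Spec.map φ) := by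
  obtain ⟨f, hf, hsurj⟩ := h
  let Bf := Localization.Away f
  let lift : Bf →+* Q := IsLocalization.Away.lift f hf
  have hlift : ∀ b : B, lift (algebraMap B Bf b) = φ.hom b := fun b =>
    IsLocalization.Away.lift_eq f hf b
  have hfac : φ = CommRingCat.ofHom (algebraMap B Bf) ≫ CommRingCat.ofHom lift := by
    ext b
    exact (hlift b).symm
  have hls : Function.Surjective (CommRingCat.ofHom lift) := by
    intro x
    obtain ⟨b, n, hb⟩ := hsurj x
    refine ⟨algebraMap B Bf b * IsLocalization.Away.invSelf f ^ n, ?_⟩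
    show lift (algebraMap B Bf b * IsLocalization.Away.invSelf f ^ n) = x
    rw [map_mul, hlift, ← hb, map_pow, mul_assoc, ← hlift f, ← mul_pow, ← map_mul,
      IsLocalization.Away.mul_invSelf, map_one, one_pow, mul_one]
  haveI : IsClosedImmersion (Spec.map (CommRingCat.ofHom lift)) :=
    IsClosedImmersion.spec_of_surjective _ hls
  haveI : IsOpenImmersion (Spec.map (CommRingCat.ofHom (algebraMap B Bf))) := inferInstance
  rw [hfac, Spec.map_comp]
  infer_instance

set_option backward.isDefEq.respectTransparency false in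
/-- Pulling a section back along `Spec Q ⟶ Spec Γ(X, W) ⟶ X`. -/
theorem app_eq_zero_imp {X : Scheme.{u}} {W V : X.Opens} (hW : IsAffineOpen W) (hWV : W ≤ V)
    {Q : CommRingCat.{u}} (φ : Γ(X, W) ⟶ Q) (t : Γ(X, V))
    (h0 : (Spec.map φ ≫ hW.fromSpec).app V t = 0) :
    φ.hom (X.presheaf.map (homOfLE hWV).op t) = 0 := by
  have hpre : hW.fromSpec ⁻¹ᵁ V = ⊤ := by
    rw [eq_top_iff, ← hW.fromSpec_preimage_self]
    exact hW.fromSpec.preimage_mono hWV
  have e : (⊤ : (Spec Q).Opens) ≤ (Spec.map φ ≫ hW.fromSpec) ⁻¹ᵁ V := by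
    rw [Scheme.Hom.comp_preimage, hpre]
    simp
  have h1 : (Spec.map φ ≫ hW.fromSpec).appLE V ⊤ e t = 0 := by
    rw [Scheme.Hom.appLE, CommRingCat.comp_apply, h0, map_zero]
  rw [Scheme.Hom.comp_appLE, hW.fromSpec_app_of_le V hWV] at h1
  simp only [Category.assoc] at h1
  rw [Scheme.Hom.map_appLE] at h1
  have h2 : (Spec.map φ).appLE ⊤ ⊤ le_top = (Spec.map φ).appTop := by
    simp [Scheme.Hom.appLE]
  rw [h2, ← Scheme.ΓSpecIso_inv_naturality] at h1
  simp only [CommRingCat.comp_apply] at h1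
  have h3 := congrArg (Scheme.ΓSpecIso Q).hom h1
  rw [map_zero] at h3
  simpa using h3

set_option backward.isDefEq.respectTransparency false in
/-- **Étale multisections of a smooth morphism are schematically dominant.** -/
theorem eq_zero_of_forall_immersion_etale {X S : Scheme.{u}} (p : X ⟶ S) [Smooth p]
    (V : X.Opens) (t : Γ(X, V))
    (h : ∀ (Z : Scheme.{u}) (j : Z ⟶ X), IsImmersion j → Etale (j ≫ p) → j.app V t = 0) :
    t = 0 := by
  by_contra ht
  obtain ⟨x, hxV, hx⟩ : ∃ x, ∃ hx : x ∈ V, X.presheaf.germ V x hx t ≠ 0 := by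
    by_contra hcon
    push Not at hcon
    apply ht
    apply TopCat.Presheaf.section_ext X.sheaf V
    intro x hx
    exact (hcon x hx).trans (map_zero _).symm
  obtain ⟨U, hU, W₀, hW₀, hxW₀, e₀, hss⟩ := Smooth.exists_isStandardSmooth p x
  obtain ⟨f, hfV, hxf⟩ := hW₀.exists_basicOpen_le ⟨x, hxV⟩ hxW₀
  have hW : IsAffineOpen (X.basicOpen f) := hW₀.basicOpen f
  have hWW₀ : X.basicOpen f ≤ W₀ := X.basicOpen_le f
  have e : X.basicOpen f ≤ p ⁻¹ᵁ U := hWW₀.trans e₀
  have hss' : (p.appLE U (X.basicOpen f) e).hom.IsStandardSmooth := by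
    have h1 : p.appLE U (X.basicOpen f) e =
        p.appLE U W₀ e₀ ≫ X.presheaf.map (homOfLE hWW₀).op := by
      rw [Scheme.Hom.appLE_map]
    rw [h1, CommRingCat.hom_comp]
    letI := (X.presheaf.map (homOfLE hWW₀).op).hom.toAlgebra
    haveI : IsLocalization.Away f Γ(X, X.basicOpen f) := hW₀.isLocalization_basicOpen f
    exact RingHom.isStandardSmooth_stableUnderCompositionWithLocalizationAway.right
      (↑Γ(X, X.basicOpen f)) f _ hss
  have htW : X.presheaf.map (homOfLE hfV).op t ≠ 0 := by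
    intro h0
    apply hx
    have := TopCat.Presheaf.germ_res_apply X.presheaf (homOfLE hfV) x hxf t
    rw [← this, h0, map_zero]
  letI := (p.appLE U (X.basicOpen f) e).hom.toAlgebra
  haveI : Algebra.IsStandardSmooth Γ(S, U) Γ(X, X.basicOpen f) := hss'
  obtain ⟨Q, _, φ, hEt, hLQ, hφ⟩ :=
    exists_etale_slice_nonvanishing_general (A := Γ(S, U)) (B := Γ(X, X.basicOpen f)) _ htW
  let φ' : Γ(X, X.basicOpen f) ⟶ CommRingCat.of Q := CommRingCat.ofHom φ
  have himm : IsImmersion (Spec.map φ' ≫ hW.fromSpec) := by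
    haveI := isImmersion_Spec_map_of_isLocQuotHom φ' hLQ
    infer_instance
  have het : Etale ((Spec.map φ' ≫ hW.fromSpec) ≫ p) := by
    rw [Category.assoc, ← IsAffineOpen.SpecMap_appLE_fromSpec p hU hW e, ← Category.assoc,
      ← Spec.map_comp]
    haveI : Etale (Spec.map (p.appLE U (X.basicOpen f) e ≫ φ')) := by
      rw [HasRingHomProperty.Spec_iff (P := @Etale)]
      exact hEt
    infer_instance
  exact hφ (app_eq_zero_imp hW hfV φ' t (h _ _ himm het))

end Groth.Agent.Lib.Helper51.MultiSecScheme
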