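import Mathlib
import Groth.Agent.Lib.Helper51.MS2Defs
import Groth.Agent.Lib.Helper51.MultiSecScheme

/-!
# S14068: scheme wrapper (helper51)
-/

set_option autoImplicit false
set_option linter.style.haveILetI false
universe u
open CategoryTheory AlgebraicGeometry

namespace Groth.Agent.Lib.Helper51.MS2

open Groth.Agent.Lib.Helper51.MultiSecDescent Groth.Agent.Lib.Helper51.MultiSecScheme

set_option backward.isDefEq.respectTransparency false in
/-- Scheme-level statement from the ring-level one. -/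
theorem eq_zero_of_forall_baseChange
    (hR : ∀ {A B C : Type u} [CommRing A] [CommRing B] [CommRing C] [Algebra A B] [Algebra B C]
      [Algebra.IsStandardSmooth A B] [Module.Flat B C] [Algebra.FinitePresentation B C] (t : C),
      t ≠ 0 → Concl A B C t)
    {S S' B' : Scheme.{u}} (g : S' ⟶ S) [Smooth g]
    (q : B' ⟶ S') [Flat q] [LocallyOfFinitePresentation q] (V : B'.Opens) (t : Γ(B', V))
    (h : ∀ (Z : Scheme.{u}) (j : Z ⟶ S'), IsImmersion j → Etale (j ≫ g) →
      (Limits.pullback.snd j q).app V t = 0) : t = 0 := by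
  by_contra ht
  obtain ⟨x, hxV, hx⟩ : ∃ x, ∃ hx : x ∈ V, B'.presheaf.germ V x hx t ≠ 0 := by
    by_contra hcon
    push Not at hcon
    apply ht
    apply TopCat.Presheaf.section_ext B'.sheaf V
    intro x hx
    exact (hcon x hx).trans (map_zero _).symm
  obtain ⟨U, hU, W₀, hW₀, hyW₀, e₀, hss⟩ := Smooth.exists_isStandardSmooth g (q x)
  have hxVW : x ∈ V ⊓ q ⁻¹ᵁ W₀ := ⟨hxV, hyW₀⟩
  obtain ⟨V', hV', hxV', hV'sub⟩ := exists_isAffineOpen_mem_and_subset hxVW
  have hV'V : V' ≤ V := fun z hz => (hV'sub hz).1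
  have e : V' ≤ q ⁻¹ᵁ W₀ := fun z hz => (hV'sub hz).2
  have htV' : B'.presheaf.map (homOfLE hV'V).op t ≠ 0 := by
    intro h0
    apply hx
    have := TopCat.Presheaf.germ_res_apply B'.presheaf (homOfLE hV'V) x hxV' t
    rw [← this, h0, map_zero]
  letI := (g.appLE U W₀ e₀).hom.toAlgebra
  letI := (q.appLE W₀ V' e).hom.toAlgebra
  haveI : Algebra.IsStandardSmooth Γ(S, U) Γ(S', W₀) := hss
  haveI : Module.Flat Γ(S', W₀) Γ(B', V') := q.flat_appLE hW₀ hV' e
  haveI : Algebra.FinitePresentation Γ(S', W₀) Γ(B', V') := q.finitePresentation_appLE hW₀ hV' e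
  obtain ⟨Q, _, φ, hEt, hLQ, R, _, ψQ, ψC, hcomm, -, hψ⟩ :=
    hR (A := Γ(S, U)) (B := Γ(S', W₀)) (C := Γ(B', V')) _ htV'
  let φ' : Γ(S', W₀) ⟶ CommRingCat.of Q := CommRingCat.ofHom φ
  let ψQ' : CommRingCat.of Q ⟶ CommRingCat.of R := CommRingCat.ofHom ψQ
  let ψC' : Γ(B', V') ⟶ CommRingCat.of R := CommRingCat.ofHom ψC
  have himm : IsImmersion (Spec.map φ' ≫ hW₀.fromSpec) := by
    haveI := isImmersion_Spec_map_of_isLocQuotHom φ' hLQ
    infer_instance
  have het : Etale ((Spec.map φ' ≫ hW₀.fromSpec) ≫ g) := by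
    rw [Category.assoc, ← IsAffineOpen.SpecMap_appLE_fromSpec g hU hW₀ e₀, ← Category.assoc,
      ← Spec.map_comp]
    haveI : Etale (Spec.map (g.appLE U W₀ e₀ ≫ φ')) := by
      rw [HasRingHomProperty.Spec_iff (P := @Etale)]
      exact hEt
    infer_instance
  have hsq : Spec.map ψQ' ≫ (Spec.map φ' ≫ hW₀.fromSpec) = (Spec.map ψC' ≫ hV'.fromSpec) ≫ q := by
    rw [Category.assoc, ← IsAffineOpen.SpecMap_appLE_fromSpec q hW₀ hV' e, ← Category.assoc,
      ← Category.assoc, ← Spec.map_comp, ← Spec.map_comp]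
    congr 2
    ext b
    exact RingHom.congr_fun hcomm b
  let k : Spec (CommRingCat.of R) ⟶ Limits.pullback (Spec.map φ' ≫ hW₀.fromSpec) q :=
    Limits.pullback.lift (Spec.map ψQ') (Spec.map ψC' ≫ hV'.fromSpec) hsq
  have hk : Spec.map ψC' ≫ hV'.fromSpec = k ≫ Limits.pullback.snd _ q :=
    (Limits.pullback.lift_snd _ _ _).symm
  have h0 : (Spec.map ψC' ≫ hV'.fromSpec).app V t = 0 := by
    rw [Scheme.Hom.congr_app hk V, CommRingCat.comp_apply, Scheme.Hom.comp_app,
      CommRingCat.comp_apply, h _ _ himm het, map_zero, map_zero]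
  exact hψ (app_eq_zero_imp hV' hV'V ψC' t h0)

end Groth.Agent.Lib.Helper51.MS2
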