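import Mathlib
import Groth.Agent.Lib.Helper51.MS2Noeth
import Groth.Agent.Lib.Helper51.MS2Scheme
import Groth.Agent.Lib.Helper80.FinTypeZ
import Groth.Agent.Lib.Helper8.MS2P1
import Groth.Agent.Lib.Helper75.MS2P2
import Groth.Agent.Lib.Helper45.MS2P4b
import Groth.Agent.Lib.Helper45.MS2MB

/-!
# S14068: reduction of the general case to a premodel (helper51)

`concl_general_aux`: given the existence of a premodel over a finitely generated `ℤ`-subalgebra
(`hMA`), the conclusion `Concl A B C t` holds for every standard smooth `A → B` and flat finitely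
presented `B → C`.  Uses P1 (helper8), P2 (helper75), P4b and MB (helper45).
-/

set_option autoImplicit false
set_option linter.style.haveILetI false
universe u
open TensorProduct

namespace Groth.Agent.Lib.Helper51.MS2

open Groth.Agent.Lib.Helper51.MultiSecDescent

theorem concl_general_aux
    (hMA : ∀ {A B C : Type u} [CommRing A] [CommRing B] [CommRing C] [Algebra A B]
      [Algebra B C] [Algebra A C] [IsScalarTower A B C] [Algebra.IsStandardSmooth A B]
      [Algebra.FinitePresentation B C],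
      ∃ (A₁ : Subalgebra ℤ A) (B₁ C₁ : Type u) (_ : CommRing B₁) (_ : CommRing C₁)
        (_ : Algebra A₁ B₁) (_ : Algebra A₁ C₁) (_ : Algebra B₁ C₁) (_ : IsScalarTower A₁ B₁ C₁)
        (eB : A ⊗[A₁] B₁ ≃ₐ[A] B) (eC : A ⊗[A₁] C₁ ≃ₐ[A] C),
        A₁.FG ∧ Algebra.IsStandardSmooth A₁ B₁ ∧ Algebra.FiniteType B₁ C₁ ∧
        ∀ x, eC (Algebra.TensorProduct.map (AlgHom.id A A)
          (IsScalarTower.toAlgHom A₁ B₁ C₁) x) = algebraMap B C (eB x))
    {A B C : Type u} [CommRing A] [CommRing B] [CommRing C] [Algebra A B] [Algebra B C]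
    [Algebra.IsStandardSmooth A B] [Module.Flat B C] [Algebra.FinitePresentation B C]
    (t : C) (ht : t ≠ 0) : Concl A B C t := by
  letI : Algebra A C := ((algebraMap B C).comp (algebraMap A B)).toAlgebra
  haveI : IsScalarTower A B C := IsScalarTower.of_algebraMap_eq (fun _ => rfl)
  obtain ⟨A₁, B₁, C₁, _, _, _, _, _, _, eB, eC, hA₁, hss, hft, hcompat⟩ :=
    hMA (A := A) (B := B) (C := C)
  obtain ⟨A₃, B₃, C₃, _, _, _, _, _, _, eB₃, eC₃, t₃, hA₃, hss₃, hfl₃, hft₃, heB, heC, het⟩ :=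
    Groth.Agent.Lib.Helper45.MS2MB.exists_model_of_premodel A₁ hA₁ eB eC hcompat t
  haveI : Algebra.FiniteType ℤ A₃ := (Subalgebra.fg_iff_finiteType A₃).1 hA₃
  haveI : IsNoetherianRing A₃ := Algebra.FiniteType.isNoetherianRing ℤ A₃
  haveI : IsJacobsonRing ℤ := Groth.Agent.Lib.Helper80.int_isJacobsonRing
  haveI : IsJacobsonRing A₃ := isJacobsonRing_of_finiteType (A := ℤ)
  have ht₃ : t₃ ≠ 0 := by
    intro h0
    apply ht
    rw [← het, h0, tmul_zero, map_zero]
  have h₃ : Concl A₃ B₃ C₃ t₃ := concl_noeth_aux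
    (fun I p σ hσ c hc => Groth.Agent.Lib.Helper8.MS2P1.mem_map_of_mul_mem_map_of_flat I p σ hσ c hc)
    (fun 𝔟 hrad x hx => Groth.Agent.Lib.Helper75.MS2P2.exists_not_mem_forall_prime 𝔟 hrad x hx)
    A₃ B₃ C₃ t₃ ht₃
  exact Groth.Agent.Lib.Helper45.MS2P4b.concl_of_model t Subtype.val_injective eB₃ heB eC₃ heC t₃ het h₃

end Groth.Agent.Lib.Helper51.MS2
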