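import Mathlib

/-!
# A denominator-clearing lemma for translated polynomials over a finite algebra (helper51, for S15088)
-/

set_option autoImplicit false
universe u

namespace Groth.Agent.Lib.Helper51.MovH

open Polynomial in
/-- An integral non-zero-divisor over a domain divides a nonzero scalar. -/
theorem exists_mul_eq_algebraMap {D B : Type*} [CommRing D] [IsDomain D] [CommRing B] [Algebra D B]
    (v : B) (hint : IsIntegral D v) (hreg : ∀ b : B, v * b = 0 → b = 0) :
    ∃ (h : D) (w : B), h ≠ 0 ∧ v * w = algebraMap D B h := by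
  classical
  obtain ⟨m, hm, hmv⟩ := hint
  have hex : ∃ n, ∃ p : D[X], p ≠ 0 ∧ aeval v p = 0 ∧ p.natDegree = n :=
    ⟨_, m, hm.ne_zero, by rwa [aeval_def], rfl⟩
  obtain ⟨p, hp0, hpv, hpn⟩ := Nat.find_spec hex
  have hmin : ∀ q : D[X], q ≠ 0 → aeval v q = 0 → Nat.find hex ≤ q.natDegree :=
    fun q hq hqv => Nat.find_min' hex ⟨q, hq, hqv, rfl⟩
  have hdiv := divX_mul_X_add p
  by_cases hc0 : p.coeff 0 = 0
  · exfalso
    have hpX : p = p.divX * X := by
      rw [hc0, C_0, add_zero] at hdiv
      exact hdiv.symm
    have hq0 : p.divX ≠ 0 := by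
      intro h
      rw [h, zero_mul] at hpX
      exact hp0 hpX
    have hqv : aeval v p.divX = 0 := by
      apply hreg
      have : aeval v p = aeval v p.divX * v := by
        conv_lhs => rw [hpX]
        simp
      rw [mul_comm, ← this, hpv]
    have h1 := hmin _ hq0 hqv
    rw [natDegree_divX_eq_natDegree_tsub_one, hpn] at h1
    have hn0 : Nat.find hex ≠ 0 := by
      intro h0
      rw [h0] at hpn
      have := eq_C_of_natDegree_eq_zero hpn
      rw [hc0, C_0] at this
      exact hp0 this
    omega
  · refine ⟨p.coeff 0, - aeval v p.divX, hc0, ?_⟩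
    have h2 : aeval v p = aeval v p.divX * v + algebraMap D B (p.coeff 0) := by
      conv_lhs => rw [← hdiv]
      simp
    rw [hpv] at h2
    linear_combination h2

open MvPolynomial TensorProduct

attribute [local instance] MvPolynomial.algebraMvPolynomial

/-- A nonzero polynomial with coefficients in a field stays a non-zero-divisor over any algebra. -/
theorem map_mul_eq_zero {k : Type u} [Field k] {σ : Type*} (W : Type u) [CommRing W] [Algebra k W]
    (f : MvPolynomial σ k) (hf : f ≠ 0) (b : MvPolynomial σ W)
    (hb : MvPolynomial.map (algebraMap k W) f * b = 0) : b = 0 := by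
  let e := MvPolynomial.algebraTensorAlgEquiv (R := k) (σ := σ) (A := W)
  have hinj : Function.Injective (LinearMap.lTensor W (LinearMap.mulLeft k f)) :=
    Module.Flat.lTensor_preserves_injective_linearMap _
      (fun x y hxy => mul_left_cancel₀ hf hxy)
  have hkey : ∀ x : W ⊗[k] MvPolynomial σ k,
      e (LinearMap.lTensor W (LinearMap.mulLeft k f) x) =
        MvPolynomial.map (algebraMap k W) f * e x := by
    intro x
    induction x using TensorProduct.induction_on with
    | zero => simp
    | tmul w g =>
      simp only [LinearMap.lTensor_tmul, LinearMap.mulLeft_apply, e,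
        MvPolynomial.algebraTensorAlgEquiv_tmul, map_mul]
      rw [Algebra.smul_def, Algebra.smul_def]
      ring
    | add x y hx hy => rw [map_add, map_add, hx, hy, map_add, mul_add]
  have h1 : e (LinearMap.lTensor W (LinearMap.mulLeft k f) (e.symm b)) = 0 := by
    rw [hkey, AlgEquiv.apply_symm_apply, hb]
  have h2 : LinearMap.lTensor W (LinearMap.mulLeft k f) (e.symm b) = 0 := by
    apply e.injective
    rw [h1, map_zero]
  have h3 : e.symm b = 0 := hinj (by rw [h2, map_zero])
  have := congrArg e h3
  rwa [AlgEquiv.apply_symm_apply, map_zero] at this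

theorem exists_mul_eq_map {k : Type u} [Field k] {r : ℕ} (W : Type u) [CommRing W] [Algebra k W]
    [Module.Finite k W] (ξ : Fin r → W) (c : W) (hc : IsUnit c) (f : MvPolynomial (Fin r) k)
    (hf : f ≠ 0) :
    ∃ (h : MvPolynomial (Fin r) k) (G : MvPolynomial (Fin r) W), h ≠ 0 ∧
      MvPolynomial.aeval (fun i => MvPolynomial.C (ξ i) + MvPolynomial.C c * MvPolynomial.X i) f * G =
        MvPolynomial.map (algebraMap k W) h := by
  obtain ⟨u, rfl⟩ := hc
  let Θ' : MvPolynomial (Fin r) W →ₐ[W] MvPolynomial (Fin r) W :=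
    MvPolynomial.aeval (fun i => MvPolynomial.C (ξ i) + MvPolynomial.C (u : W) * MvPolynomial.X i)
  let Θ : MvPolynomial (Fin r) W →ₐ[W] MvPolynomial (Fin r) W :=
    MvPolynomial.aeval (fun i => MvPolynomial.C ((u⁻¹ : Wˣ) : W) *
      (MvPolynomial.X i - MvPolynomial.C (ξ i)))
  have hΘΘ' : Θ.comp Θ' = AlgHom.id W _ := by
    apply MvPolynomial.algHom_ext
    intro i
    simp only [AlgHom.comp_apply, Θ', Θ, MvPolynomial.aeval_X, map_add, map_mul,
      MvPolynomial.aeval_C, AlgHom.id_apply, MvPolynomial.algebraMap_eq]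
    rw [← mul_assoc, ← MvPolynomial.C_mul, Units.mul_inv, MvPolynomial.C_1, one_mul]
    ring
  have hΘ'Θ : Θ'.comp Θ = AlgHom.id W _ := by
    apply MvPolynomial.algHom_ext
    intro i
    simp only [AlgHom.comp_apply, Θ', Θ, MvPolynomial.aeval_X, map_sub, map_mul,
      MvPolynomial.aeval_C, AlgHom.id_apply, MvPolynomial.algebraMap_eq]
    rw [add_sub_cancel_left, ← mul_assoc, ← MvPolynomial.C_mul, Units.inv_mul, MvPolynomial.C_1,
      one_mul]
  have hF : MvPolynomial.aeval (fun i => MvPolynomial.C (ξ i) + MvPolynomial.C (u : W) *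
      MvPolynomial.X i) f = Θ' (MvPolynomial.map (algebraMap k W) f) := by
    simp only [Θ']
    rw [MvPolynomial.aeval_map_algebraMap]
  set F := MvPolynomial.aeval (fun i => MvPolynomial.C (ξ i) + MvPolynomial.C (u : W) *
      MvPolynomial.X i) f with hFdef
  have hreg : ∀ b : MvPolynomial (Fin r) W, F * b = 0 → b = 0 := by
    intro b hb
    have h1 : MvPolynomial.map (algebraMap k W) f * Θ b = 0 := by
      have := congrArg Θ hb
      rw [map_mul, map_zero, hF] at this
      have h2 : Θ (Θ' (MvPolynomial.map (algebraMap k W) f)) =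
          MvPolynomial.map (algebraMap k W) f := by
        have := DFunLike.congr_fun hΘΘ' (MvPolynomial.map (algebraMap k W) f)
        simpa using this
      rwa [h2] at this
    have h3 := map_mul_eq_zero W f hf _ h1
    have := congrArg Θ' h3
    rw [map_zero] at this
    have h4 : Θ' (Θ b) = b := by
      have := DFunLike.congr_fun hΘ'Θ b
      simpa using this
    rwa [h4] at this
  have : Algebra.IsIntegral k W := Algebra.IsIntegral.of_finite k W
  have hint : IsIntegral (MvPolynomial (Fin r) k) F := Algebra.IsIntegral.isIntegral F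
  obtain ⟨h, w, hh, hw⟩ := exists_mul_eq_algebraMap F hint hreg
  exact ⟨h, w, hh, hw⟩

end Groth.Agent.Lib.Helper51.MovH
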