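import Mathlib
import Groth.Agent.Lib.Helper72.SchDense

/-!
# [D] of helper65's S13749: flat pullback of a schematically dense open, relative to an open `W`
-/

set_option linter.style.haveILetI false
universe u
open CategoryTheory CategoryTheory.Limits AlgebraicGeometry TopologicalSpace

namespace Groth.Agent.Lib.Helper51.NeronDescD

theorem dominant_homOfLE_of_flat {Y S : Scheme.{u}} [IsLocallyNoetherian S] (q : Y ⟶ S) [Flat q]
    (U : S.Opens) (hU : CInt.IsSchematicallyDense U) (W : Y.Opens) :
    IsSchemeTheoreticallyDominant (Y.homOfLE (inf_le_left : W ⊓ q ⁻¹ᵁ U ≤ W)) := by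
  haveI : QuasiCompact U.ι := inferInstance
  haveI : IsSchemeTheoreticallyDominant U.ι :=
    Groth.Agent.Lib.Helper72.SchDense.dominant_of_isSchematicallyDense U hU
  haveI : Flat (W.ι ≫ q) := inferInstance
  have A := (isPullback_opens_inf W (q ⁻¹ᵁ U)).flip
  have B := isPullback_morphismRestrict q U
  have H := A.paste_horiz B
  exact IsSchemeTheoreticallyDominant.of_isPullback H

end Groth.Agent.Lib.Helper51.NeronDescD
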