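import Mathlib
import Groth.Agent.Lib.Helper69.RatSec4

/-!
# A section of a separated morphism which is an open immersion on a dense open is an open immersion
(helper51, for helper52's S13432)
-/

set_option autoImplicit false
universe u
open CategoryTheory CategoryTheory.Limits AlgebraicGeometry

namespace Groth.Agent.Lib.Helper51.NeronFinOPS

theorem isOpenImmersion_section {W P : Scheme.{u}} [IsLocallyNoetherian P]
    (hP : ∀ x : P, IsDomain (P.presheaf.stalk x)) (p : P ⟶ W) [IsSeparated p] (σ : W ⟶ P)
    (hσ : σ ≫ p = 𝟙 W) (V : W.Opens) (hV : Dense (V : Set W)) [IsOpenImmersion (V.ι ≫ σ)] :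
    IsOpenImmersion σ := by
  have : IsClosedImmersion (σ ≫ p) := by rw [hσ]; infer_instance
  have : IsClosedImmersion σ := IsClosedImmersion.of_comp σ p
  have : IsDominant V.ι := ⟨by
    rw [DenseRange, Scheme.Opens.range_ι]
    exact hV⟩
  have hrange := Groth.Agent.Lib.Helper69.RatSec.range_eq_closure_range_of_dominant V.ι σ
  have hopen : IsOpen (Set.range σ) := by
    rw [hrange]
    exact Groth.Agent.Lib.Helper69.RatSec.isOpen_closure_of_isOpen hP
      (V.ι ≫ σ).isOpenEmbedding.isOpen_range
  have : IsReduced P := by
    have : ∀ x : P, _root_.IsReduced (P.presheaf.stalk x) := fun x => by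
      have := hP x
      infer_instance
    exact isReduced_of_isReduced_stalk _
  exact Groth.Agent.Lib.Helper69.RatSec.isOpenImmersion_of_isClosedImmersion_of_isOpen_range σ hopen

end Groth.Agent.Lib.Helper51.NeronFinOPS
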