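import Mathlib
import Groth.Prelude.Def_W4bk4grossh111Obs
import Groth.Agent.Lib.Helper85.ObsHull
import Groth.Agent.Lib.Helper85.ObsFinset
import Groth.Agent.Lib.Helper19.Grp.AntiAffineRep
import Groth.Agent.Lib.Helper19.Grp.GModMatrix
import Groth.Agent.Lib.Helper19.RatPts.ProdDenseRing
set_option autoImplicit false
universe u
open CategoryTheory CategoryTheory.Limits MonoidalCategory CartesianMonoidalCategory MonObj
  AlgebraicGeometry Opposite TopologicalSpace
open scoped TensorProduct
open Groth.Agent.Lib.Helper19.AffinePts Groth.Agent.Lib.Helper19.Kunneth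
  Groth.Agent.Lib.Helper85.ObsHull

namespace Groth.Agent.Lib.Helper51.ObsTfaeT1

variable {k : Type u} [Field k]

/-- T1 (pure algebra) -/
theorem eq_of_coef_eq_B {M : Type u} [AddCommGroup M] [Module k M]
    (B : Type u) [CommRing B] [Algebra k B] (x y : B ⊗[k] M)
    (h : ∀ l : M →ₗ[k] k, coef l B x = coef l B y) : x = y := by
  classical
  let b := Module.Basis.ofVectorSpace k M
  let bB := Algebra.TensorProduct.basis B b
  have key : ∀ j, (bB.coord j : B ⊗[k] M →ₗ[B] B) = coef (b.coord j) B := by
    intro j
    apply TensorProduct.AlgebraTensorModule.ext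
    intro a m
    rw [coef_tmul]
    show bB.repr (a ⊗ₜ m) j = _
    rw [Algebra.TensorProduct.basis_repr_tmul]
    simp [Algebra.smul_def, mul_comm]
  apply bB.ext_elem
  intro j
  have h1 := h (b.coord j)
  rw [← key j] at h1
  exact h1

end Groth.Agent.Lib.Helper51.ObsTfaeT1
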