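import Mathlib
import Groth.Prelude.Def_W4bk4grossh111Obs
import Groth.Agent.Lib.Helper85.ObsHull
import Groth.Agent.Lib.Helper85.ObsFinset
import Groth.Agent.Lib.Helper19.Grp.AntiAffineRep
import Groth.Agent.Lib.Helper19.Grp.GModMatrix
import Groth.Agent.Lib.Helper19.RatPts.ProdDenseRing
set_option autoImplicit false
set_option linter.style.haveILetI false
universe u
open CategoryTheory CategoryTheory.Limits MonoidalCategory CartesianMonoidalCategory MonObj
  AlgebraicGeometry Opposite TopologicalSpace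
open scoped TensorProduct
open Groth.Agent.Lib.Helper19.AffinePts Groth.Agent.Lib.Helper19.Kunneth
  Groth.Agent.Lib.Helper85.ObsHull

namespace Groth.Agent.Lib.Helper51.ObsTfaeT2

variable {k : Type u} [Field k]

/-- T2 (Nullstellensatz on a smooth affine k-scheme) -/
theorem eq_zero_of_forall_ev [IsAlgClosed k] (H : Over (Spec (CommRingCat.of k)))
    [IsAffine H.left] [Smooth H.hom] (r : Γ(H.left, ⊤))
    (h : ∀ x : VecGrp.pt k k ⟶ H, ev H x r = 0) : r = 0 := by
  letI := algU H ⊤
  haveI : Algebra.Smooth k Γ(H.left, ⊤) := by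
    have h1 : (H.hom.appLE ⊤ ⊤ le_top).hom.Smooth :=
      Smooth.smooth_appLE H.hom (isAffineOpen_top _) (isAffineOpen_top _) le_top
    have h2 : ((Scheme.ΓSpecIso (CommRingCat.of k)).inv).hom.Smooth :=
      RingHom.Smooth.of_bijective
        (ConcreteCategory.bijective_of_isIso (Scheme.ΓSpecIso (CommRingCat.of k)).inv)
    have h3 : (((Scheme.ΓSpecIso (CommRingCat.of k)).inv ≫ H.hom.appLE ⊤ ⊤ le_top).hom).Smooth := by
      rw [CommRingCat.hom_comp]
      exact h2.comp h1
    exact h3
  apply Groth.Agent.Lib.Helper19.ProdDense.eq_zero_of_forall_algHom k k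
  intro d
  have h4 := h (VecGrp.ptMap d ≫ gU H (isAffineOpen_top _))
  rw [ev_ptMap, ev_gU_top] at h4
  exact h4

end Groth.Agent.Lib.Helper51.ObsTfaeT2
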