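import Mathlib
import Groth.Agent.Lib.Helper51.StalkBC

/-!
# Local rings of a fibre product `Y ×_X X'` over a general base (helper51)

`𝒪_{Y ×_X X', y'}` is the localisation of `𝒪_{Y,y} ⊗[R] 𝒪_{X',x'}` at a prime, compatibly with the
two stalk maps (`exists_ringEquiv_stalk_pullback`), where `Spec R ⟶ X` is any monomorphism through
which both `Spec 𝒪_{Y,y} ⟶ X` and `Spec 𝒪_{X',x'} ⟶ X` factor.
-/

set_option autoImplicit false
universe u
open CategoryTheory CategoryTheory.Limits AlgebraicGeometry TensorProduct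

namespace Groth.Agent.Lib.Helper51.PbStalk

section cat

variable {C : Type*} [Category C] [HasPullbacks C]

set_option backward.isDefEq.respectTransparency false in
theorem prop_pullbackMap_of_mono (P : MorphismProperty C) [P.IsStableUnderBaseChange]
    [P.IsStableUnderComposition] {S X X' Y Y' S' : C} {f : X ⟶ S} {g : Y ⟶ S} {f' : X' ⟶ S'}
    {g' : Y' ⟶ S'} {i₁ : X ⟶ X'} {i₂ : Y ⟶ Y'} (i₃ : S ⟶ S') [Mono i₃] (h₁ : P i₁) (h₂ : P i₂)
    (e₁ : f ≫ i₃ = i₁ ≫ f') (e₂ : g ≫ i₃ = i₂ ≫ g') :
    P (pullback.map f g f' g' i₁ i₂ i₃ e₁ e₂) := by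
  have hfac : pullback.map f g f' g' i₁ i₂ i₃ e₁ e₂ =
      pullback.map f g (f ≫ i₃) (g ≫ i₃) (𝟙 _) (𝟙 _) i₃ (by simp) (by simp) ≫
        pullback.map (f ≫ i₃) (g ≫ i₃) f' g' i₁ i₂ (𝟙 _)
          ((Category.comp_id _).trans e₁) ((Category.comp_id _).trans e₂) := by
    ext <;> simp
  have hiso : IsIso (pullback.map f g (f ≫ i₃) (g ≫ i₃) (𝟙 _) (𝟙 _) i₃ (by simp) (by simp)) := by
    refine ⟨⟨pullback.lift (pullback.fst _ _) (pullback.snd _ _) ?_, ?_, ?_⟩⟩
    · rw [← cancel_mono i₃, Category.assoc, Category.assoc, pullback.condition]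
    · ext <;> simp
    · ext <;> simp
  rw [hfac, P.cancel_left_of_respectsIso]
  exact MorphismProperty.pullbackMap h₁ h₂ e₁ e₂

end cat

section General

variable {X Y X' : Scheme.{u}} (f : Y ⟶ X) (p : X' ⟶ X)
variable {R S S' : Type u} [CommRing R] [CommRing S] [CommRing S'] [Algebra R S] [Algebra R S']
variable (i : Spec (CommRingCat.of R) ⟶ X) [Mono i]
variable (a : Spec (CommRingCat.of S) ⟶ Y) (b : Spec (CommRingCat.of S') ⟶ X')
variable (ha : Spec.map (CommRingCat.ofHom (algebraMap R S)) ≫ i = a ≫ f)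
variable (hb : Spec.map (CommRingCat.ofHom (algebraMap R S')) ≫ i = b ≫ p)

/-- `Spec (S ⊗[R] S') ⟶ Y ×_X X'`. -/
noncomputable def tensorToPullback : Spec (CommRingCat.of (S ⊗[R] S')) ⟶ pullback f p :=
  (pullbackSpecIso R S S').inv ≫ pullback.map _ _ f p a b i ha hb

set_option backward.isDefEq.respectTransparency false in
theorem tensorToPullback_fst : tensorToPullback f p i a b ha hb ≫ pullback.fst f p =
    Spec.map (CommRingCat.ofHom (Algebra.TensorProduct.includeLeftRingHom : S →+* S ⊗[R] S')) ≫ a := by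
  simp [tensorToPullback, pullbackSpecIso_inv_fst_assoc]

set_option backward.isDefEq.respectTransparency false in
theorem tensorToPullback_snd : tensorToPullback f p i a b ha hb ≫ pullback.snd f p =
    Spec.map (CommRingCat.ofHom
      (Algebra.TensorProduct.includeRight.toRingHom : S' →+* S ⊗[R] S')) ≫ b := by
  simp [tensorToPullback, pullbackSpecIso_inv_snd_assoc]

instance flat_tensorToPullback [Flat a] [Flat b] : Flat (tensorToPullback f p i a b ha hb) := by
  have : Flat (pullback.map _ _ f p a b i ha hb) :=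
    prop_pullbackMap_of_mono (P := @Flat) i inferInstance inferInstance ha hb
  unfold tensorToPullback
  infer_instance

instance isPreimmersion_tensorToPullback [IsPreimmersion a] [IsPreimmersion b] :
    IsPreimmersion (tensorToPullback f p i a b ha hb) := by
  haveI : MorphismProperty.IsStableUnderComposition @IsPreimmersion.{u} :=
    ⟨fun f g _ _ => inferInstance⟩
  have : IsPreimmersion (pullback.map _ _ f p a b i ha hb) :=
    prop_pullbackMap_of_mono (P := @IsPreimmersion) i inferInstance inferInstance ha hb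
  unfold tensorToPullback
  infer_instance

theorem range_tensorToPullback : Set.range (tensorToPullback f p i a b ha hb) =
    pullback.fst f p ⁻¹' Set.range a ∩ pullback.snd f p ⁻¹' Set.range b := by
  rw [tensorToPullback, Scheme.Hom.comp_base, TopCat.coe_comp, Set.range_comp,
    Set.range_eq_univ.mpr (pullbackSpecIso R S S').inv.surjective, Set.image_univ,
    Scheme.Pullback.range_map]

end General

end Groth.Agent.Lib.Helper51.PbStalk
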