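import Mathlib
import Groth.Agent.Lib.Helper51.PbStalk

/-!
# Local rings of a fibre product `Y ×_X X'`, II (helper51)

For `w` a prime of `B := 𝒪_{Y,y} ⊗[R] 𝒪_{X',x'}` we get a point `pt w` of `Y ×_X X'` and a ring
isomorphism `𝒪_{P, pt w} ≃+* B_w` compatible with the two stalk maps.
-/

set_option autoImplicit false
universe u
open CategoryTheory CategoryTheory.Limits AlgebraicGeometry TensorProduct

namespace Groth.Agent.Lib.Helper51.PbStalk

section Main

variable {X Y X' : Scheme.{u}} (f : Y ⟶ X) (p : X' ⟶ X) (y : Y) (x' : X')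
variable {R : Type u} [CommRing R] [Algebra R (Y.presheaf.stalk y)]
  [Algebra R (X'.presheaf.stalk x')]
variable (i : Spec (CommRingCat.of R) ⟶ X) [Mono i]
variable (ha : Spec.map (CommRingCat.ofHom (algebraMap R (Y.presheaf.stalk y))) ≫ i =
  Y.fromSpecStalk y ≫ f)
variable (hb : Spec.map (CommRingCat.ofHom (algebraMap R (X'.presheaf.stalk x'))) ≫ i =
  X'.fromSpecStalk x' ≫ p)

/-- `J : Spec (𝒪_{Y,y} ⊗[R] 𝒪_{X',x'}) ⟶ Y ×_X X'`. -/
noncomputable abbrev J :
    Spec (CommRingCat.of (Y.presheaf.stalk y ⊗[R] X'.presheaf.stalk x')) ⟶ pullback f p :=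
  tensorToPullback f p i (Y.fromSpecStalk y) (X'.fromSpecStalk x') ha hb

variable (w : PrimeSpectrum (Y.presheaf.stalk y ⊗[R] X'.presheaf.stalk x'))

/-- `Spec B_w ⟶ Y ×_X X'`. -/
noncomputable def locMap :
    Spec (CommRingCat.of (Localization.AtPrime w.asIdeal)) ⟶ pullback f p :=
  Spec.map (CommRingCat.ofHom (algebraMap (Y.presheaf.stalk y ⊗[R] X'.presheaf.stalk x')
    (Localization.AtPrime w.asIdeal))) ≫ J f p y x' i ha hb

instance : Flat (locMap f p y x' i ha hb w) := by
  have : Flat (Spec.map (CommRingCat.ofHom (algebraMap (Y.presheaf.stalk y ⊗[R]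
      X'.presheaf.stalk x') (Localization.AtPrime w.asIdeal)))) := by
    rw [Flat.SpecMap_iff]
    exact (RingHom.flat_algebraMap_iff).2 inferInstance
  unfold locMap
  infer_instance

instance : IsPreimmersion (locMap f p y x' i ha hb w) := by
  have : IsPreimmersion (Spec.map (CommRingCat.ofHom (algebraMap (Y.presheaf.stalk y ⊗[R]
      X'.presheaf.stalk x') (Localization.AtPrime w.asIdeal)))) :=
    IsPreimmersion.of_isLocalization w.asIdeal.primeCompl
  unfold locMap
  infer_instance

/-- The point of `Y ×_X X'` attached to the prime `w`. -/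
noncomputable def pt : ↥(pullback f p) :=
  locMap f p y x' i ha hb w (IsLocalRing.closedPoint (Localization.AtPrime w.asIdeal))

theorem pt_eq : pt f p y x' i ha hb w = J f p y x' i ha hb w := by
  unfold pt locMap
  change (J f p y x' i ha hb) ((Spec.map (CommRingCat.ofHom (algebraMap (Y.presheaf.stalk y ⊗[R]
    X'.presheaf.stalk x') (Localization.AtPrime w.asIdeal))))
      (IsLocalRing.closedPoint (Localization.AtPrime w.asIdeal))) = _
  congr 1
  apply PrimeSpectrum.ext
  exact Localization.AtPrime.under_maximalIdeal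

/-- The ring isomorphism `𝒪_{P, pt w} ≃+* B_w`. -/
noncomputable def stalkEquiv :
    (pullback f p).presheaf.stalk (pt f p y x' i ha hb w) ≃+* Localization.AtPrime w.asIdeal :=
  RingEquiv.ofBijective (Scheme.stalkClosedPointTo (locMap f p y x' i ha hb w)).hom (by
    unfold Scheme.stalkClosedPointTo
    rw [CommRingCat.hom_comp]
    exact Function.Bijective.comp
      (g := ⇑(CommRingCat.Hom.hom
        (stalkClosedPointIso (CommRingCat.of (Localization.AtPrime w.asIdeal))).hom))
      (ConcreteCategory.bijective_of_isIso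
        (stalkClosedPointIso (CommRingCat.of (Localization.AtPrime w.asIdeal))).hom)
      (bijective_stalkMap_of_flat_of_isPreimmersion (locMap f p y x' i ha hb w) _))

theorem germ_stalkClosedPointTo_congr {R₀ : CommRingCat.{u}} [IsLocalRing R₀] {Z : Scheme.{u}}
    {g₁ g₂ : Spec R₀ ⟶ Z} (h : g₁ = g₂) (U : Z.Opens)
    (hU : g₁ (IsLocalRing.closedPoint R₀) ∈ U) :
    Z.presheaf.germ U _ hU ≫ Scheme.stalkClosedPointTo g₁ =
      Z.presheaf.germ U _ (h ▸ hU) ≫ Scheme.stalkClosedPointTo g₂ := by
  subst h; rfl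

/-- `𝒪_{Y,y} → B → B_w`. -/
noncomputable def φL : Y.presheaf.stalk y ⟶ CommRingCat.of (Localization.AtPrime w.asIdeal) :=
  CommRingCat.ofHom ((algebraMap (Y.presheaf.stalk y ⊗[R] X'.presheaf.stalk x')
    (Localization.AtPrime w.asIdeal)).comp
      (Algebra.TensorProduct.includeLeftRingHom :
        Y.presheaf.stalk y →+* Y.presheaf.stalk y ⊗[R] X'.presheaf.stalk x'))

/-- `𝒪_{X',x'} → B → B_w`. -/
noncomputable def φR : X'.presheaf.stalk x' ⟶ CommRingCat.of (Localization.AtPrime w.asIdeal) :=
  CommRingCat.ofHom ((algebraMap (Y.presheaf.stalk y ⊗[R] X'.presheaf.stalk x')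
    (Localization.AtPrime w.asIdeal)).comp
      (Algebra.TensorProduct.includeRight.toRingHom :
        X'.presheaf.stalk x' →+* Y.presheaf.stalk y ⊗[R] X'.presheaf.stalk x'))

theorem locMap_fst : locMap f p y x' i ha hb w ≫ pullback.fst f p =
    Spec.map (φL y x' w) ≫ Y.fromSpecStalk y := by
  unfold locMap φL
  rw [Category.assoc, tensorToPullback_fst, ← Spec.map_comp_assoc]
  rfl

theorem locMap_snd : locMap f p y x' i ha hb w ≫ pullback.snd f p =
    Spec.map (φR y x' w) ≫ X'.fromSpecStalk x' := by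
  unfold locMap φR
  rw [Category.assoc, tensorToPullback_snd, ← Spec.map_comp_assoc]
  rfl

theorem isLocalHom_φL (hw : w.asIdeal.comap (Algebra.TensorProduct.includeLeftRingHom :
    Y.presheaf.stalk y →+* Y.presheaf.stalk y ⊗[R] X'.presheaf.stalk x') =
      IsLocalRing.maximalIdeal (Y.presheaf.stalk y)) : IsLocalHom (φL y x' w).hom := by
  constructor
  intro a ha
  by_contra hna
  have h1 : a ∈ IsLocalRing.maximalIdeal (Y.presheaf.stalk y) :=
    (IsLocalRing.mem_maximalIdeal a).2 hna
  rw [← hw, Ideal.mem_comap] at h1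
  have h2 := (IsLocalization.AtPrime.to_map_mem_maximal_iff
    (Localization.AtPrime w.asIdeal) w.asIdeal _).2 h1
  exact (IsLocalRing.mem_maximalIdeal _).1 h2 ha

theorem isLocalHom_φR (hw : w.asIdeal.comap (Algebra.TensorProduct.includeRight.toRingHom :
    X'.presheaf.stalk x' →+* Y.presheaf.stalk y ⊗[R] X'.presheaf.stalk x') =
      IsLocalRing.maximalIdeal (X'.presheaf.stalk x')) : IsLocalHom (φR y x' w).hom := by
  constructor
  intro a ha
  by_contra hna
  have h1 : a ∈ IsLocalRing.maximalIdeal (X'.presheaf.stalk x') :=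
    (IsLocalRing.mem_maximalIdeal a).2 hna
  rw [← hw, Ideal.mem_comap] at h1
  have h2 := (IsLocalization.AtPrime.to_map_mem_maximal_iff
    (Localization.AtPrime w.asIdeal) w.asIdeal _).2 h1
  exact (IsLocalRing.mem_maximalIdeal _).1 h2 ha

theorem stalkEquiv_fst_germ
    (hw : w.asIdeal.comap (Algebra.TensorProduct.includeLeftRingHom :
      Y.presheaf.stalk y →+* Y.presheaf.stalk y ⊗[R] X'.presheaf.stalk x') =
        IsLocalRing.maximalIdeal (Y.presheaf.stalk y))
    (U : Y.Opens) (hU : y ∈ U) (hU' : pullback.fst f p (pt f p y x' i ha hb w) ∈ U)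
    (s : Γ(Y, U)) :
    stalkEquiv f p y x' i ha hb w ((pullback.fst f p).stalkMap (pt f p y x' i ha hb w)
      (Y.presheaf.germ U _ hU' s)) = (φL y x' w).hom (Y.presheaf.germ U y hU s) := by
  have := isLocalHom_φL y x' w hw
  have key : Y.presheaf.germ U _ hU' ≫ (pullback.fst f p).stalkMap
      ((locMap f p y x' i ha hb w) (IsLocalRing.closedPoint
        (CommRingCat.of (Localization.AtPrime w.asIdeal)))) ≫
      Scheme.stalkClosedPointTo (locMap f p y x' i ha hb w) =
        Y.presheaf.germ U y hU ≫ φL y x' w := by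
    have h1 := Scheme.stalkClosedPointTo_comp (locMap f p y x' i ha hb w) (pullback.fst f p)
    have h2 := germ_stalkClosedPointTo_congr (locMap_fst f p y x' i ha hb w) U hU'
    rw [h1] at h2
    exact h2.trans (Scheme.germ_stalkClosedPointTo_Spec_fromSpecStalk (φL y x' w) U _)
  exact ConcreteCategory.congr_hom key s

theorem stalkEquiv_snd_germ
    (hw : w.asIdeal.comap (Algebra.TensorProduct.includeRight.toRingHom :
      X'.presheaf.stalk x' →+* Y.presheaf.stalk y ⊗[R] X'.presheaf.stalk x') =
        IsLocalRing.maximalIdeal (X'.presheaf.stalk x'))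
    (U : X'.Opens) (hU : x' ∈ U) (hU' : pullback.snd f p (pt f p y x' i ha hb w) ∈ U)
    (s : Γ(X', U)) :
    stalkEquiv f p y x' i ha hb w ((pullback.snd f p).stalkMap (pt f p y x' i ha hb w)
      (X'.presheaf.germ U _ hU' s)) = (φR y x' w).hom (X'.presheaf.germ U x' hU s) := by
  have := isLocalHom_φR y x' w hw
  have key : X'.presheaf.germ U _ hU' ≫ (pullback.snd f p).stalkMap
      ((locMap f p y x' i ha hb w) (IsLocalRing.closedPoint
        (CommRingCat.of (Localization.AtPrime w.asIdeal)))) ≫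
      Scheme.stalkClosedPointTo (locMap f p y x' i ha hb w) =
        X'.presheaf.germ U x' hU ≫ φR y x' w := by
    have h1 := Scheme.stalkClosedPointTo_comp (locMap f p y x' i ha hb w) (pullback.snd f p)
    have h2 := germ_stalkClosedPointTo_congr (locMap_snd f p y x' i ha hb w) U hU'
    rw [h1] at h2
    exact h2.trans (Scheme.germ_stalkClosedPointTo_Spec_fromSpecStalk (φR y x' w) U _)
  exact ConcreteCategory.congr_hom key s

theorem fst_pt_eq_iff : pullback.fst f p (pt f p y x' i ha hb w) = y ↔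
    w.asIdeal.comap (Algebra.TensorProduct.includeLeftRingHom :
      Y.presheaf.stalk y →+* Y.presheaf.stalk y ⊗[R] X'.presheaf.stalk x') =
        IsLocalRing.maximalIdeal (Y.presheaf.stalk y) := by
  rw [pt_eq]
  change (J f p y x' i ha hb ≫ pullback.fst f p) w = y ↔ _
  rw [tensorToPullback_fst]
  change Y.fromSpecStalk y ((Spec.map (CommRingCat.ofHom
    (Algebra.TensorProduct.includeLeftRingHom :
      Y.presheaf.stalk y →+* Y.presheaf.stalk y ⊗[R] X'.presheaf.stalk x'))) w) = y ↔ _
  conv_lhs => rhs; rw [← Scheme.fromSpecStalk_closedPoint (x := y)]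
  constructor
  · intro h
    exact congrArg PrimeSpectrum.asIdeal ((Y.fromSpecStalk y).isEmbedding.injective h)
  · intro h
    exact congrArg (Y.fromSpecStalk y) (PrimeSpectrum.ext h)

theorem snd_pt_eq_iff : pullback.snd f p (pt f p y x' i ha hb w) = x' ↔
    w.asIdeal.comap (Algebra.TensorProduct.includeRight.toRingHom :
      X'.presheaf.stalk x' →+* Y.presheaf.stalk y ⊗[R] X'.presheaf.stalk x') =
        IsLocalRing.maximalIdeal (X'.presheaf.stalk x') := by
  rw [pt_eq]
  change (J f p y x' i ha hb ≫ pullback.snd f p) w = x' ↔ _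
  rw [tensorToPullback_snd]
  change X'.fromSpecStalk x' ((Spec.map (CommRingCat.ofHom
    (Algebra.TensorProduct.includeRight.toRingHom :
      X'.presheaf.stalk x' →+* Y.presheaf.stalk y ⊗[R] X'.presheaf.stalk x'))) w) = x' ↔ _
  conv_lhs => rhs; rw [← Scheme.fromSpecStalk_closedPoint (x := x')]
  constructor
  · intro h
    exact congrArg PrimeSpectrum.asIdeal ((X'.fromSpecStalk x').isEmbedding.injective h)
  · intro h
    exact congrArg (X'.fromSpecStalk x') (PrimeSpectrum.ext h)

theorem pt_injective : Function.Injective (pt f p y x' i ha hb) := by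
  intro w₁ w₂ h
  rw [pt_eq, pt_eq] at h
  exact (J f p y x' i ha hb).isEmbedding.injective h

theorem exists_pt_eq (y' : ↥(pullback f p)) (h1 : pullback.fst f p y' = y)
    (h2 : pullback.snd f p y' = x') : ∃ w, pt f p y x' i ha hb w = y' := by
  have : y' ∈ Set.range (J f p y x' i ha hb) := by
    rw [range_tensorToPullback]
    refine ⟨⟨IsLocalRing.closedPoint _, ?_⟩, ⟨IsLocalRing.closedPoint _, ?_⟩⟩
    · rw [Scheme.fromSpecStalk_closedPoint, h1]
    · rw [Scheme.fromSpecStalk_closedPoint, h2]
  obtain ⟨w, hw⟩ := this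
  exact ⟨w, (pt_eq f p y x' i ha hb w).trans hw⟩

end Main

end Groth.Agent.Lib.Helper51.PbStalk
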