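import Mathlib
import Groth.Prelude.Def_HTop

/-!
# ph coverings: proper surjective morphisms; sections of sheaves along covering monomorphisms (helper51)
-/

set_option autoImplicit false
universe w v u
open CategoryTheory CategoryTheory.Limits AlgebraicGeometry Opposite HTop

namespace Groth.Agent.Lib.Helper51.PhCover

/-- A proper surjective morphism, as a one-member family, is a ph covering. -/
theorem isPhCover_singleton_of_proper_surjective {X Y : Scheme.{u}} (f : Y ⟶ X) [IsProper f]
    [Surjective f] : IsPhCover (PreZeroHypercover.singleton.{w} f) := by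
  classical
  refine ⟨fun _ => inferInstanceAs (LocallyOfFiniteType f), ?_⟩
  intro U
  let P : Scheme.{u} := ((f ⁻¹ᵁ (U : X.Opens) : Y.Opens) : Scheme.{u})
  let p : P ⟶ ((U : X.Opens) : Scheme.{u}) := f ∣_ (U : X.Opens)
  haveI hp1 : IsProper p := IsZariskiLocalAtTarget.restrict ‹IsProper f› _
  haveI hp2 : Surjective p := IsZariskiLocalAtTarget.restrict ‹Surjective f› _
  haveI : CompactSpace P :=
    isCompact_iff_compactSpace.1 (f.isCompact_preimage U.2.isCompact)
  have h2 : ∀ x : P, ∃ W : P.Opens, IsAffineOpen W ∧ x ∈ W := by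
    intro x
    obtain ⟨W, hW, hx, -⟩ := exists_isAffineOpen_mem_and_subset (X := P) (x := x)
      (U := ⊤) trivial
    exact ⟨W, hW, hx⟩
  choose W hWaff hxW using h2
  obtain ⟨t, ht⟩ := isCompact_univ.elim_finite_subcover (fun x : P => ((W x : P.Opens) : Set P))
    (fun x => (W x).isOpen) (fun x _ => Set.mem_iUnion.2 ⟨x, hxW x⟩)
  let n := t.card
  let e : Fin n ≃ t := t.equivFin.symm
  let pts : Fin n → P := fun k => (e k : P)
  let F : PreZeroHypercover.{0} ((U : X.Opens) : Scheme.{u}) :=
    { I₀ := Fin n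
      X := fun k => (W (pts k)).toScheme
      f := fun k => (W (pts k)).ι ≫ p }
  haveI : IsAffine ((U : X.Opens) : Scheme.{u}) := U.2
  refine ⟨F, ⟨inferInstance, inferInstanceAs (Finite (Fin n)), fun k => hWaff (pts k), ?_⟩, ?_⟩
  · refine ⟨P, p, fun k => (W (pts k)).ι, hp1, hp2, fun k => ?_, fun k => rfl, ?_⟩
    · change IsOpenImmersion (W (pts k)).ι
      infer_instance
    · intro x
      have hx := ht (Set.mem_univ x)
      simp only [Set.mem_iUnion] at hx
      obtain ⟨y, hy, hxy⟩ := hx
      refine ⟨e.symm ⟨y, hy⟩, ?_⟩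
      change x ∈ Set.range (W (pts (e.symm ⟨y, hy⟩))).ι.base
      have : pts (e.symm ⟨y, hy⟩) = y := by simp [pts]
      rw [this, Scheme.Opens.range_ι]
      exact hxy
  · intro k
    refine ⟨PUnit.unit, (W (pts k)).ι ≫ (f ⁻¹ᵁ (U : X.Opens) : Y.Opens).ι, ?_⟩
    change ((W (pts k)).ι ≫ (f ⁻¹ᵁ (U : X.Opens) : Y.Opens).ι) ≫ f =
      ((W (pts k)).ι ≫ p) ≫ (U : X.Opens).ι
    rw [Category.assoc, Category.assoc, morphismRestrict_ι]

/-- If `{f}` is covering for `J` then it is covering for `J.over S`. -/
theorem generate_singleton_mem_over {C : Type*} [Category C] (J : GrothendieckTopology C) {S : C}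
    {X X' : Over S} (f : X ⟶ X')
    (h : Sieve.generate (Presieve.singleton f.left) ∈ J X'.left) :
    Sieve.generate (Presieve.singleton f) ∈ J.over S X' := by
  rw [GrothendieckTopology.mem_over_iff]
  apply J.superset_covering _ h
  rw [Sieve.generate_le_iff]
  rintro _ _ ⟨⟩
  rw [Sieve.overEquiv_iff]
  refine ⟨X, Over.homMk (𝟙 X.left) (by simp), f, ⟨⟩, ?_⟩
  ext
  simp

/-- A sheaf of types takes the same sections along a covering monomorphism. -/
theorem bijective_map_of_mono {C : Type*} [Category C] {P : Cᵒᵖ ⥤ Type v} {X X' : C} (f : X ⟶ X')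
    [Mono f] (h : Presieve.IsSheafFor P (Presieve.singleton f)) :
    Function.Bijective (P.map f.op) := by
  rw [Presieve.isSheafFor_singleton] at h
  have key : ∀ x : P.obj (op X), ∃! y, P.map f.op y = x := by
    intro x
    apply h x
    intro Z p₁ p₂ hp
    rw [(cancel_mono f).1 hp]
  constructor
  · intro a b hab
    obtain ⟨y, -, hy⟩ := key (P.map f.op b)
    rw [hy a hab, hy b rfl]
  · intro x
    obtain ⟨y, hy, -⟩ := key x
    exact ⟨y, hy⟩

end Groth.Agent.Lib.Helper51.PhCover
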