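import Mathlib
import Groth.Agent.Lib.Helper51.Pi0Sch

/-!
# The field of "separable constants" of a connected scheme locally of finite type over a field
-/

set_option autoImplicit false
universe u

open CategoryTheory AlgebraicGeometry Limits TopologicalSpace

namespace Groth.Agent.Lib.Helper51.Pi0Comp

open Groth.Agent.Lib.Helper51.Pi0Sch Groth.Agent.Lib.Helper51.Pi0Alg
open Groth.Agent.Lib.Helper27.WeaklyEtaleField

variable {k : Type u} [Field k]

/-- A nonempty scheme locally of finite type over `k` has a "point" with values in a finite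
extension of `k`. -/
theorem exists_finite_point {Z : Scheme.{u}} [Nonempty Z] (g : Z ⟶ Spec (CommRingCat.of k))
    [LocallyOfFiniteType g] :
    ∃ (K : Type u) (_ : Field K) (ψ : CommRingCat.of k ⟶ CommRingCat.of K)
      (ev : Γ(Z, ⊤) ⟶ CommRingCat.of K),
      ((Scheme.ΓSpecIso (CommRingCat.of k)).inv ≫ g.appTop) ≫ ev = ψ ∧ ψ.hom.Finite := by
  obtain ⟨z⟩ := ‹Nonempty Z›
  obtain ⟨_, ⟨(U : Z.Opens), hU : IsAffineOpen U, rfl⟩, hzU, -⟩ :=
    Z.isBasis_affineOpens.exists_subset_of_mem_open (Set.mem_univ z) isOpen_univ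
  have hnt : Nontrivial Γ(Z, U) := by
    have : Nonempty (PrimeSpectrum Γ(Z, U)) := ⟨hU.primeIdealOf ⟨z, hzU⟩⟩
    exact PrimeSpectrum.nonempty_iff_nontrivial.mp this
  obtain ⟨m, hm⟩ := Ideal.exists_maximal Γ(Z, U)
  letI : Field (Γ(Z, U) ⧸ m) := Ideal.Quotient.field m
  let π : Γ(Z, U) ⟶ CommRingCat.of (Γ(Z, U) ⧸ m) := CommRingCat.ofHom (Ideal.Quotient.mk m)
  have hπ : LocallyOfFiniteType (Spec.map π) := by
    rw [HasRingHomProperty.Spec_iff (P := @LocallyOfFiniteType)]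
    exact RingHom.FiniteType.of_surjective _ Ideal.Quotient.mk_surjective
  let j : Spec (CommRingCat.of (Γ(Z, U) ⧸ m)) ⟶ Z := Spec.map π ≫ hU.fromSpec
  have hj : LocallyOfFiniteType (j ≫ g) := inferInstance
  let ψ := Spec.preimage (j ≫ g)
  have hψ : Spec.map ψ = j ≫ g := Spec.map_preimage _
  refine ⟨Γ(Z, U) ⧸ m, inferInstance, ψ, j.appTop ≫ (Scheme.ΓSpecIso _).hom, ?_, ?_⟩
  · have h1 := Scheme.ΓSpecIso_naturality ψ
    rw [hψ, Scheme.Hom.comp_appTop] at h1
    rw [Category.assoc, Iso.inv_comp_eq, ← h1, Category.assoc]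
  · rw [RingHom.finite_iff_finiteType_of_isJacobsonRing]
    rw [← hψ] at hj
    exact (HasRingHomProperty.Spec_iff (P := @LocallyOfFiniteType)).mp hj

/-- The universal property, abstractly. -/
theorem univ_prop {Z : Scheme.{u}} [ConnectedSpace Z] (g : Z ⟶ Spec (CommRingCat.of k))
    (E : CommRingCat.{u}) [Subsingleton ↥(Spec E)] (sE : CommRingCat.of k ⟶ E)
    (ιE : E ⟶ Γ(Z, ⊤)) (hι : Function.Injective ιE.hom)
    (hsι : sE ≫ ιE = (Scheme.ΓSpecIso (CommRingCat.of k)).inv ≫ g.appTop)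
    (hfac : ∀ (R : CommRingCat.{u}) (ψ : CommRingCat.of k ⟶ R) (a : R ⟶ Γ(Z, ⊤)),
      ψ.hom.Etale → ψ ≫ a = (Scheme.ΓSpecIso (CommRingCat.of k)).inv ≫ g.appTop →
      ∃ β : R ⟶ E, β ≫ ιE = a)
    (Y : Scheme.{u}) (gY : Y ⟶ Spec (CommRingCat.of k)) (h : Z ⟶ Y) (hgY : Etale gY)
    (hh : h ≫ gY = g) :
    ∃! t : Spec E ⟶ Y, t ≫ gY = Spec.map sE ∧ toSpec ιE ≫ t = h := by
  haveI := hgY
  haveI : DiscreteTopology Y := discreteTopology_of_etale_field gY
  obtain ⟨z₀⟩ : Nonempty Z := inferInstance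
  obtain ⟨_, ⟨(W : Y.Opens), hW : IsAffineOpen W, rfl⟩, hyW, -⟩ :=
    Y.isBasis_affineOpens.exists_subset_of_mem_open (Set.mem_univ (h z₀)) isOpen_univ
  have hconst : ∀ z : Z, h z = h z₀ := by
    intro z
    have hpre : _root_.IsPreconnected (Set.range h) := isPreconnected_range h.continuous
    exact hpre.subsingleton ⟨z, rfl⟩ ⟨z₀, rfl⟩
  have hrange : Set.range h ⊆ Set.range hW.fromSpec := by
    rw [hW.range_fromSpec]; rintro _ ⟨z, rfl⟩; rw [hconst z]; exact hyW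
  let h'' : Z ⟶ Spec Γ(Y, W) := IsOpenImmersion.lift hW.fromSpec h hrange
  have hh'' : h'' ≫ hW.fromSpec = h := IsOpenImmersion.lift_fac _ _ _
  let a : Γ(Y, W) ⟶ Γ(Z, ⊤) := (Scheme.ΓSpecIso _).inv ≫ h''.appTop
  have ha : h'' = toSpec a := eq_toSpec h''
  let ψ : CommRingCat.of k ⟶ Γ(Y, W) := Spec.preimage (hW.fromSpec ≫ gY)
  have hψ : Spec.map ψ = hW.fromSpec ≫ gY := Spec.map_preimage _
  have hψet : ψ.hom.Etale := by
    have : Etale (Spec.map ψ) := by rw [hψ]; infer_instance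
    exact (HasRingHomProperty.Spec_iff (P := @Etale)).mp this
  have hψa : ψ ≫ a = (Scheme.ΓSpecIso (CommRingCat.of k)).inv ≫ g.appTop := by
    apply toSpec_injective
    rw [← toSpec_comp_SpecMap, ← ha, hψ, ← Category.assoc, hh'', hh]
    exact eq_toSpec g
  obtain ⟨β, hβ⟩ := hfac _ ψ a hψet hψa
  have hmono : ∀ {R' : CommRingCat.{u}} (b₁ b₂ : R' ⟶ E), b₁ ≫ ιE = b₂ ≫ ιE → b₁ = b₂ := by
    intro R' b₁ b₂ hb
    ext r
    apply hι
    exact congrArg (fun m => m.hom r) hb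
  have hψβ : ψ ≫ β = sE := hmono _ _ (by rw [Category.assoc, hβ, hψa, hsι])
  have hsurj : ∀ p : Spec E, ∃ z : Z, toSpec ιE z = p := fun p => ⟨z₀, Subsingleton.elim _ _⟩
  refine ⟨Spec.map β ≫ hW.fromSpec, ⟨?_, ?_⟩, ?_⟩
  · rw [Category.assoc, ← hψ, ← Spec.map_comp, hψβ]
  · rw [← Category.assoc, toSpec_comp_SpecMap, hβ, ← ha, hh'']
  · rintro t' ⟨-, ht'⟩
    have hr' : Set.range t' ⊆ Set.range hW.fromSpec := by
      rw [hW.range_fromSpec]; rintro _ ⟨p, rfl⟩
      obtain ⟨z, rfl⟩ := hsurj p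
      rw [← Scheme.Hom.comp_apply, ht', hconst z]; exact hyW
    let t'' := IsOpenImmersion.lift hW.fromSpec t' hr'
    have ht'' : t'' ≫ hW.fromSpec = t' := IsOpenImmersion.lift_fac _ _ _
    let β' := Spec.preimage t''
    have hβ' : Spec.map β' = t'' := Spec.map_preimage _
    have h3 : β' ≫ ιE = a := by
      apply toSpec_injective
      rw [← toSpec_comp_SpecMap, hβ', ← ha]
      rw [← cancel_mono hW.fromSpec, Category.assoc, ht'', ht', hh'']
    have h4 : β' = β := hmono _ _ (by rw [h3, hβ])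
    rw [← ht'', ← hβ', h4]

/-- The main per-component statement. -/
theorem component_main {Z : Scheme.{u}} [ConnectedSpace Z] (g : Z ⟶ Spec (CommRingCat.of k))
    [LocallyOfFiniteType g] :
    ∃ (E : CommRingCat.{u}) (sE : CommRingCat.of k ⟶ E) (q : Z ⟶ Spec E),
      Etale (Spec.map sE) ∧ Subsingleton ↥(Spec E) ∧ Flat q ∧ q ≫ Spec.map sE = g ∧
      ∀ (Y : Scheme.{u}) (gY : Y ⟶ Spec (CommRingCat.of k)) (h : Z ⟶ Y), Etale gY →
        h ≫ gY = g → ∃! t : Spec E ⟶ Y, t ≫ gY = Spec.map sE ∧ q ≫ t = h := by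
  obtain ⟨K, _, ψK, ev, hev, hfin⟩ := exists_finite_point g
  let φ : CommRingCat.of k ⟶ Γ(Z, ⊤) := (Scheme.ΓSpecIso (CommRingCat.of k)).inv ≫ g.appTop
  letI : Algebra k Γ(Z, ⊤) := φ.hom.toAlgebra
  letI : Algebra k K := ψK.hom.toAlgebra
  haveI : Module.Finite k K := hfin
  let evA : Γ(Z, ⊤) →ₐ[k] K :=
    { ev.hom with
      commutes' := fun r => by
        have := congrArg (fun m => m.hom r) hev
        exact this }
  haveI : Nontrivial Γ(Z, ⊤) := ev.hom.domain_nontrivial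
  have hidem : ∀ e : Γ(Z, ⊤), IsIdempotentElem e → e = 0 ∨ e = 1 := idem_trivial_of_connected
  have hF : IsField (sepSub k Γ(Z, ⊤)) := isField_sepSub hidem
  haveI hfinE : Module.Finite k (sepSub k Γ(Z, ⊤)) := finite_sepSub hidem evA
  let E : CommRingCat.{u} := CommRingCat.of (sepSub k Γ(Z, ⊤))
  let ιE : E ⟶ Γ(Z, ⊤) := CommRingCat.ofHom (sepSub k Γ(Z, ⊤)).val.toRingHom
  let sE : CommRingCat.of k ⟶ E := CommRingCat.ofHom (algebraMap k (sepSub k Γ(Z, ⊤)))
  have hsι : sE ≫ ιE = φ := by ext r; rfl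
  have hsub : Subsingleton ↥(Spec E) := by
    letI : Field (sepSub k Γ(Z, ⊤)) := hF.toField
    exact (inferInstance : Subsingleton (PrimeSpectrum (sepSub k Γ(Z, ⊤))))
  haveI : IsDomain E := hF.isDomain
  have hEt : Etale (Spec.map sE) := by
    rw [HasRingHomProperty.Spec_iff (P := @Etale)]
    haveI : Algebra.Etale k (sepSub k Γ(Z, ⊤)) := etale_of_isSeparable_of_finiteType k _
    exact RingHom.etale_algebraMap.mpr inferInstance
  refine ⟨E, sE, toSpec ιE, hEt, hsub, inferInstance, ?_, ?_⟩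
  · rw [toSpec_comp_SpecMap, hsι]; exact (eq_toSpec g).symm
  · intro Y gY h hgY hh
    refine univ_prop g E sE ιE Subtype.val_injective hsι ?_ Y gY h hgY hh
    intro R ψ a hψet hψa
    letI : Algebra k R := ψ.hom.toAlgebra
    haveI : Algebra.Etale k R := hψet
    haveI : Algebra.IsSeparable k R := algebra_isSeparable_of_weaklyEtale k R
    let aA : R →ₐ[k] Γ(Z, ⊤) :=
      { a.hom with
        commutes' := fun r => by
          have := congrArg (fun m => m.hom r) hψa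
          exact this }
    let βA : R →ₐ[k] sepSub k Γ(Z, ⊤) :=
      aA.codRestrict (sepSub k Γ(Z, ⊤)) (fun r => algHom_mem_sepSub aA r)
    refine ⟨CommRingCat.ofHom βA.toRingHom, ?_⟩
    ext r
    rfl

end Groth.Agent.Lib.Helper51.Pi0Comp
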