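import Mathlib
import Groth.Agent.Lib.Helper51.Pi0Comp

/-!
# The étale scheme of connected components of a scheme locally of finite type over a field
-/

set_option autoImplicit false
universe u

open CategoryTheory AlgebraicGeometry Limits TopologicalSpace

namespace Groth.Agent.Lib.Helper51.Pi0Main

open Groth.Agent.Lib.Helper51.Pi0Sch Groth.Agent.Lib.Helper51.Pi0Comp

set_option backward.isDefEq.respectTransparency.types false in
theorem main (k : Type u) [Field k]
    (X : Scheme.{u}) (f : X ⟶ Spec (CommRingCat.of k)) [LocallyOfFiniteType f] :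
    ∃ (P : Scheme.{u}) (g : P ⟶ Spec (CommRingCat.of k)) (q : X ⟶ P), Etale g ∧ q ≫ g = f ∧
      (∀ (Y : Scheme.{u}) (gY : Y ⟶ Spec (CommRingCat.of k)) (h : X ⟶ Y), Etale gY → h ≫ gY = f →
        ∃! t : P ⟶ Y, t ≫ gY = g ∧ q ≫ t = h) ∧
      Flat q ∧ Surjective q ∧
      ∀ x : ↥X, (fun x' : ↥X => q x') ⁻¹' {q x} = connectedComponent x := by
  haveI : IsLocallyNoetherian X := LocallyOfFiniteType.isLocallyNoetherian f
  -- the open connected components
  have hopen : ∀ c : _root_.ConnectedComponents X, IsOpen ((_root_.ConnectedComponents.mk) ⁻¹' {c} : Set X) := by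
    intro c
    obtain ⟨x, rfl⟩ := _root_.ConnectedComponents.surjective_coe c
    rw [connectedComponents_preimage_singleton]
    exact isOpen_connectedComponent X x
  let U : _root_.ConnectedComponents X → X.Opens := fun c => ⟨_root_.ConnectedComponents.mk ⁻¹' {c}, hopen c⟩
  have hmemU : ∀ (x : X) (c : _root_.ConnectedComponents X), x ∈ U c ↔ _root_.ConnectedComponents.mk x = c :=
    fun x c => Iff.rfl
  have hUtop : iSup U = ⊤ := by
    rw [eq_top_iff]
    intro x _
    exact Opens.mem_iSup.mpr ⟨_root_.ConnectedComponents.mk x, rfl⟩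
  have hconn : ∀ c, ConnectedSpace ↥((U c).toScheme) := by
    intro c
    obtain ⟨x, rfl⟩ := _root_.ConnectedComponents.surjective_coe c
    have h1 : ((U (_root_.ConnectedComponents.mk x) : X.Opens) : Set X) = connectedComponent x :=
      connectedComponents_preimage_singleton
    have h2 : _root_.IsConnected ((U (_root_.ConnectedComponents.mk x) : X.Opens) : Set X) := by
      rw [h1]; exact isConnected_connectedComponent
    exact Subtype.connectedSpace h2
  -- X is the coproduct of its components
  have hcov : ⨆ c, ((U c).ι).opensRange = ⊤ := by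
    simpa only [Scheme.Opens.opensRange_ι] using hUtop
  have hdisj : Pairwise (Function.onFun Disjoint fun c => ((U c).ι).opensRange) := by
    intro c c' hne
    simp only [Function.onFun, Scheme.Opens.opensRange_ι]
    rw [← Opens.coe_disjoint, Set.disjoint_left]
    intro x hx hx'
    exact hne (((hmemU x c).mp hx).symm.trans ((hmemU x c').mp hx'))
  obtain ⟨hX⟩ := nonempty_isColimit_cofanMk_of (fun c => (U c).ι) hcov hdisj
  -- the components
  have hcomp := fun c => @component_main k _ (U c).toScheme (hconn c) ((U c).ι ≫ f) inferInstance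
  choose E sE qc hEt hsub hflat hq huniv using hcomp
  let P : Scheme.{u} := ∐ fun c => Spec (E c)
  let g : P ⟶ Spec (CommRingCat.of k) := Sigma.desc fun c => Spec.map (sE c)
  let q : X ⟶ P := Cofan.IsColimit.desc hX fun c => qc c ≫ Sigma.ι (fun c => Spec (E c)) c
  have hfac : ∀ c, (U c).ι ≫ q = qc c ≫ Sigma.ι (fun c => Spec (E c)) c :=
    fun c => Cofan.IsColimit.fac hX _ c
  have hqpt : ∀ c (y : ↥((U c).toScheme)), q ((U c).ι y) = Sigma.ι (fun c => Spec (E c)) c (qc c y) := by
    intro c y
    rw [← Scheme.Hom.comp_apply, hfac c, Scheme.Hom.comp_apply]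
  have hιg : ∀ c, Sigma.ι (fun c => Spec (E c)) c ≫ g = Spec.map (sE c) :=
    fun c => Sigma.ι_desc _ c
  refine ⟨P, g, q, ?_, ?_, ?_, ?_, ?_, ?_⟩
  · exact IsZariskiLocalAtSource.sigmaDesc (P := @Etale.{u}) hEt
  · refine Cofan.IsColimit.hom_ext hX _ _ fun c => ?_
    show (U c).ι ≫ q ≫ g = (U c).ι ≫ f
    rw [← Category.assoc, hfac c, Category.assoc, hιg c, hq c]
  · intro Y gY h hgY hh
    have hc := fun c => huniv c Y gY ((U c).ι ≫ h) hgY (by rw [Category.assoc, hh])
    let t : ∀ c, Spec (E c) ⟶ Y := fun c => (hc c).exists.choose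
    have ht : ∀ c, t c ≫ gY = Spec.map (sE c) ∧ qc c ≫ t c = (U c).ι ≫ h :=
      fun c => (hc c).exists.choose_spec
    refine ⟨Sigma.desc t, ⟨?_, ?_⟩, ?_⟩
    · refine Sigma.hom_ext _ _ fun c => ?_
      rw [← Category.assoc, Sigma.ι_desc, (ht c).1, hιg c]
    · refine Cofan.IsColimit.hom_ext hX _ _ fun c => ?_
      show (U c).ι ≫ q ≫ Sigma.desc t = (U c).ι ≫ h
      rw [← Category.assoc, hfac c, Category.assoc, Sigma.ι_desc, (ht c).2]
    · rintro t' ⟨ht'1, ht'2⟩
      refine Sigma.hom_ext _ _ fun c => ?_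
      rw [Sigma.ι_desc]
      refine (hc c).unique ⟨?_, ?_⟩ (ht c)
      · rw [Category.assoc, ht'1, hιg c]
      · rw [← Category.assoc, ← hfac c, Category.assoc, ht'2]
  · rw [IsZariskiLocalAtSource.iff_of_iSup_eq_top (P := @Flat.{u}) U hUtop]
    intro c
    rw [hfac c]
    haveI := hflat c
    infer_instance
  · refine ⟨fun p => ?_⟩
    obtain ⟨⟨c, p'⟩, rfl⟩ := (sigmaMk fun c => Spec (E c)).surjective p
    haveI := hconn c
    obtain ⟨y⟩ : Nonempty ↥((U c).toScheme) := inferInstance
    refine ⟨(U c).ι y, ?_⟩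
    rw [hqpt c y, sigmaMk_mk]
    haveI := hsub c
    exact congrArg _ (Subsingleton.elim _ _)
  · intro x
    ext x'
    simp only [Set.mem_preimage, Set.mem_singleton_iff]
    have hx : x ∈ U (_root_.ConnectedComponents.mk x) := rfl
    have hx' : x' ∈ U (_root_.ConnectedComponents.mk x') := rfl
    constructor
    · intro hqq
      have e1 := hqpt _ ⟨x, hx⟩
      have e2 := hqpt _ ⟨x', hx'⟩
      have e3 : q x' = q x := hqq
      have e4 : Sigma.ι (fun c => Spec (E c)) _ (qc _ ⟨x', hx'⟩) =
          Sigma.ι (fun c => Spec (E c)) _ (qc _ ⟨x, hx⟩) := by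
        rw [← e1, ← e2]; exact e3
      have e5 := (sigmaι_eq_iff _ _ _ _ _).mp e4
      have e6 : _root_.ConnectedComponents.mk x' = _root_.ConnectedComponents.mk x := congrArg Sigma.fst e5
      exact _root_.ConnectedComponents.coe_eq_coe'.mp e6
    · intro hmem
      have e6 : _root_.ConnectedComponents.mk x' = _root_.ConnectedComponents.mk x :=
        _root_.ConnectedComponents.coe_eq_coe'.mpr hmem
      have hx'' : x' ∈ U (_root_.ConnectedComponents.mk x) := e6
      have e1 := hqpt _ ⟨x, hx⟩
      have e2 := hqpt _ ⟨x', hx''⟩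
      show q x' = q x
      haveI := hsub (_root_.ConnectedComponents.mk x)
      calc q x' = _ := e2
        _ = _ := congrArg _ (Subsingleton.elim _ _)
        _ = q x := e1.symm

end Groth.Agent.Lib.Helper51.Pi0Main
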