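import Mathlib
import Groth.Agent.S2150
import Groth.Agent.Lib.Helper51.GeomRed
import Groth.Agent.Lib.Helper56.SepGenResidue

set_option autoImplicit false
set_option linter.style.haveILetI false

universe u

open TensorProduct

namespace Groth.Agent.Lib.Helper51.PrimKF2

theorem isDomain_of_irreducibleSpace_of_isReduced (R : Type u) [CommRing R] [IsReduced R]
    [h : IrreducibleSpace (PrimeSpectrum R)] : IsDomain R := by
  rw [PrimeSpectrum.irreducibleSpace_iff_isPrime_nilradical, nilradical_eq_zero] at h
  haveI h' : (⊥ : Ideal R).IsPrime := h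
  exact IsDomain.of_bot_isPrime R

theorem sepGen_restrictScalars {k k0 : Type u} [Field k] [Field k0] [Algebra k k0]
    (ι : Type u) [Finite ι] (F : IntermediateField k k0)
    (e : FractionRing (MvPolynomial ι k) ≃ₐ[k] F)
    (K2 : IntermediateField F k0) [Module.Finite F K2] [Algebra.IsSeparable F K2] :
    Groth.Agent.Lib.Helper56.SepGen k ↥(K2.restrictScalars k) := by
  letI : Algebra F ↥(K2.restrictScalars k) := inferInstanceAs (Algebra F ↥K2)
  haveI : IsScalarTower k F ↥(K2.restrictScalars k) :=
    IsScalarTower.of_algebraMap_eq (fun x => rfl)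
  exact ⟨ι, inferInstance, F, inferInstance, inferInstance, inferInstance, inferInstance, ⟨e⟩,
    inferInstanceAs (Module.Finite F ↥K2), inferInstanceAs (Algebra.IsSeparable F ↥K2)⟩

theorem isDomain_tensor_of_sepGen {k κ K : Type u} [Field k] [Field κ] [Field K] [Algebra k κ]
    [Algebra k K] (hsg : Groth.Agent.Lib.Helper56.SepGen k K)
    (hprim : ∀ a : κ, IsSeparable k a → a ∈ Set.range (algebraMap k κ)) :
    IsDomain (K ⊗[k] κ) := by
  haveI : Algebra.IsGeometricallyReduced k K :=
    Groth.Agent.Lib.Helper56.isGeometricallyReduced_of_sepGen k K hsg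
  haveI hred : IsReduced (κ ⊗[k] K) :=
    Groth.Agent.Lib.Helper51.isReduced_tensor_of_isGeometricallyReduced (k := k) (S := K) κ
  haveI hred' : IsReduced (K ⊗[k] κ) :=
    isReduced_of_injective (Algebra.TensorProduct.comm k K κ).toRingHom
      (Algebra.TensorProduct.comm k K κ).injective
  haveI hirr : IrreducibleSpace (PrimeSpectrum (K ⊗[k] κ)) :=
    (Groth.Agent.S2150.result (k := k) (K := κ)).mpr hprim K
  exact isDomain_of_irreducibleSpace_of_isReduced (K ⊗[k] κ)

theorem exists_k2 {k κ k0 : Type u} [Field k] [Field κ] [Field k0] [Algebra k κ] [Algebra k k0]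
    (hfg : (⊤ : IntermediateField k k0).FG)
    (hprim : ∀ a : κ, IsSeparable k a → a ∈ Set.range (algebraMap k κ)) :
    ∃ k2 : IntermediateField k k0, IsPurelyInseparable k2 k0 ∧ IsDomain (k2 ⊗[k] κ) := by
  haveI : Algebra.EssFiniteType k k0 := IntermediateField.fg_top_iff.mp hfg
  obtain ⟨s, hs, -⟩ :=
    IntermediateField.exists_finset_maximalFor_isTranscendenceBasis_separableClosure k k0
  have hs : IsTranscendenceBasis k (fun x : ↥(s : Set k0) => (x : k0)) := hs
  haveI : Algebra.IsAlgebraic
      (IntermediateField.adjoin k (Set.range (fun x : ↥(s : Set k0) => (x : k0)))) k0 :=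
    hs.isAlgebraic_field
  haveI : Algebra.EssFiniteType
      (IntermediateField.adjoin k (Set.range (fun x : ↥(s : Set k0) => (x : k0)))) k0 :=
    Algebra.EssFiniteType.of_comp k _ k0
  haveI : Module.Finite
      (IntermediateField.adjoin k (Set.range (fun x : ↥(s : Set k0) => (x : k0)))) k0 :=
    Algebra.finite_of_essFiniteType_of_isAlgebraic
  have hpi : IsPurelyInseparable
      (separableClosure
        (IntermediateField.adjoin k (Set.range (fun x : ↥(s : Set k0) => (x : k0)))) k0) k0 :=
    separableClosure.isPurelyInseparable _ k0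
  refine ⟨(separableClosure
        (IntermediateField.adjoin k (Set.range (fun x : ↥(s : Set k0) => (x : k0)))) k0).restrictScalars k,
    hpi, ?_⟩
  exact isDomain_tensor_of_sepGen
    (sepGen_restrictScalars ↥(s : Set k0) _ hs.1.aevalEquivField _) hprim

end Groth.Agent.Lib.Helper51.PrimKF2
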