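import Mathlib
import Groth.Agent.Lib.Helper51.StalkBC

/-!
# Local rings of a product `X ×_k Y` (helper51)

`𝒪_{X ×_k Y, z}` is the localisation of `𝒪_{X,x} ⊗[k] 𝒪_{Y,y}` at a prime
(`exists_prime_ringEquiv_prodStalk`).
-/

set_option autoImplicit false
universe u
open CategoryTheory CategoryTheory.Limits AlgebraicGeometry TensorProduct

namespace Groth.Agent.Lib.Helper51

section ProdStalk

variable {k : Type u} [Field k] {X Y : Scheme.{u}} (f : X ⟶ Spec (CommRingCat.of k))
  (g : Y ⟶ Spec (CommRingCat.of k)) (x : X) (y : Y)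
  [Algebra k (X.presheaf.stalk x)] [Algebra k (Y.presheaf.stalk y)]
  (hx : Spec.map (CommRingCat.ofHom (algebraMap k (X.presheaf.stalk x))) = X.fromSpecStalk x ≫ f)
  (hy : Spec.map (CommRingCat.ofHom (algebraMap k (Y.presheaf.stalk y))) = Y.fromSpecStalk y ≫ g)

/-- `Spec 𝒪_{X,x} ×_k Spec 𝒪_{Y,y} ⟶ X ×_k Y`. -/
noncomputable def prodStalkMap :
    pullback (Spec.map (CommRingCat.ofHom (algebraMap k (X.presheaf.stalk x))))
      (Spec.map (CommRingCat.ofHom (algebraMap k (Y.presheaf.stalk y)))) ⟶ pullback f g :=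
  pullback.map _ _ f g (X.fromSpecStalk x) (Y.fromSpecStalk y) (𝟙 _)
    ((Category.comp_id _).trans hx) ((Category.comp_id _).trans hy)

instance flat_prodStalkMap : Flat (prodStalkMap f g x y hx hy) :=
  MorphismProperty.pullbackMap (P := @Flat) (flat_fromSpecStalk x) (flat_fromSpecStalk y) hx hy

instance isPreimmersion_prodStalkMap : IsPreimmersion (prodStalkMap f g x y hx hy) :=
  MorphismProperty.pullbackMap (P := @IsPreimmersion) inferInstance inferInstance hx hy

theorem range_prodStalkMap : Set.range (prodStalkMap f g x y hx hy) =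
    pullback.fst f g ⁻¹' {x' | x' ⤳ x} ∩ pullback.snd f g ⁻¹' {y' | y' ⤳ y} := by
  rw [prodStalkMap, Scheme.Pullback.range_map, Scheme.range_fromSpecStalk,
    Scheme.range_fromSpecStalk]

/-- The prime of `𝒪_{X,x} ⊗[k] 𝒪_{Y,y}` attached to a point of `Spec 𝒪_{X,x} ×_k Spec 𝒪_{Y,y}`. -/
noncomputable def prodStalkPrime
    (w : ↥(pullback (Spec.map (CommRingCat.ofHom (algebraMap k (X.presheaf.stalk x))))
      (Spec.map (CommRingCat.ofHom (algebraMap k (Y.presheaf.stalk y)))))) :
    PrimeSpectrum (X.presheaf.stalk x ⊗[k] Y.presheaf.stalk y) :=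
  (pullbackSpecIso k (X.presheaf.stalk x) (Y.presheaf.stalk y)).hom w

noncomputable def prodStalkRingEquiv
    (w : ↥(pullback (Spec.map (CommRingCat.ofHom (algebraMap k (X.presheaf.stalk x))))
      (Spec.map (CommRingCat.ofHom (algebraMap k (Y.presheaf.stalk y)))))) :
    (pullback f g).presheaf.stalk (prodStalkMap f g x y hx hy w) ≃+*
      Localization.AtPrime (prodStalkPrime x y w).asIdeal :=
  (RingEquiv.ofBijective ((prodStalkMap f g x y hx hy).stalkMap w).hom
    (bijective_stalkMap_of_flat_of_isPreimmersion (prodStalkMap f g x y hx hy) w)).trans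
  ((RingEquiv.ofBijective
    ((pullbackSpecIso k (X.presheaf.stalk x) (Y.presheaf.stalk y)).hom.stalkMap w).hom
    (ConcreteCategory.bijective_of_isIso _)).symm.trans
  (Spec.stalkIso (CommRingCat.of (X.presheaf.stalk x ⊗[k] Y.presheaf.stalk y))
    (prodStalkPrime x y w)).commRingCatIsoToRingEquiv)

include hx hy in
theorem exists_prime_ringEquiv_prodStalk (z : ↥(pullback f g))
    (hzx : pullback.fst f g z ⤳ x) (hzy : pullback.snd f g z ⤳ y) :
    ∃ (q : Ideal (X.presheaf.stalk x ⊗[k] Y.presheaf.stalk y)) (_ : q.IsPrime),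
      Nonempty ((pullback f g).presheaf.stalk z ≃+* Localization.AtPrime q) := by
  have hz : z ∈ Set.range (prodStalkMap f g x y hx hy) := by
    rw [range_prodStalkMap]
    exact ⟨hzx, hzy⟩
  obtain ⟨w, rfl⟩ := hz
  exact ⟨(prodStalkPrime x y w).asIdeal, inferInstance, ⟨prodStalkRingEquiv f g x y hx hy w⟩⟩

end ProdStalk

end Groth.Agent.Lib.Helper51
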