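import Mathlib
import Groth.Agent.Lib.Helper51.H0Const
import Groth.Agent.Lib.Helper51.SepCount
import Groth.Agent.Lib.Helper51.FlatBC
import Groth.Agent.Lib.Helper56.SepBaseChange

/-!
# Global functions of a proper variety: separability and pure inseparability (helper51)
-/

set_option autoImplicit false
universe u
open CategoryTheory CategoryTheory.Limits AlgebraicGeometry TensorProduct

namespace Groth.Agent.Lib.Helper51

section Field

/-- A finite geometrically reduced field extension is separable. -/
theorem isSeparable_of_isGeometricallyReduced_of_finite (k κ : Type u) [Field k] [Field κ]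
    [Algebra k κ] [FiniteDimensional k κ] [Algebra.IsGeometricallyReduced k κ] :
    Algebra.IsSeparable k κ := by
  obtain ⟨s, hs, H⟩ :=
    Groth.Agent.Lib.Helper56.exists_isTranscendenceBasis_and_isSeparable_of_isGeometricallyReduced k κ
  have hempty : s = ∅ := by
    by_contra hne
    obtain ⟨a, ha⟩ := Finset.nonempty_iff_ne_empty.mpr hne
    have h1 : Transcendental k ((⟨a, ha⟩ : s) : κ) := hs.1.transcendental ⟨a, ha⟩
    exact h1 (Algebra.IsAlgebraic.isAlgebraic a)
  subst hempty
  have hbot : IntermediateField.adjoin k ((∅ : Finset κ) : Set κ) = ⊥ := by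
    simp
  have key : ∀ (F : IntermediateField k κ), F = ⊥ → Algebra.IsSeparable F κ →
      Algebra.IsSeparable k κ := by
    intro F hF hsep
    subst hF
    haveI := hsep
    haveI : Algebra.IsSeparable k (⊥ : IntermediateField k κ) := IntermediateField.isSeparable_bot k κ
    exact Algebra.IsSeparable.trans k (⊥ : IntermediateField k κ) κ
  exact key _ hbot H

/-- A finite field extension `κ / k` such that `κ ⊗[k] L` has a single prime for a separably closed
algebraic `L / k` is purely inseparable. -/
theorem isPurelyInseparable_of_subsingleton_primeSpectrum_tensor (k κ L : Type u) [Field k] [Field κ]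
    [Algebra k κ] [FiniteDimensional k κ] [Field L] [Algebra k L] [Algebra.IsIntegral k L]
    [IsSepClosed L] (h : Subsingleton (PrimeSpectrum (κ ⊗[k] L))) : IsPurelyInseparable k κ := by
  have hsplit : ∀ a : separableClosure k κ, ((minpoly k a).map (algebraMap k L)).Splits := fun a =>
    IsSepClosed.splits_codomain _ (Algebra.IsSeparable.isSeparable k a)
  have hcard := card_primeSpectrum_tensor_eq (k := k) (κ := κ) (L := L) hsplit
  haveI : Nontrivial (κ ⊗[k] L) := inferInstance
  haveI : Nonempty (PrimeSpectrum (κ ⊗[k] L)) := inferInstance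
  have h1 : Nat.card (PrimeSpectrum (κ ⊗[k] L)) = 1 := Nat.card_unique
  rw [h1] at hcard
  have hbot : separableClosure k κ = ⊥ := IntermediateField.finrank_eq_one_iff.mp hcard.symm
  exact separableClosure.eq_bot_iff.mp hbot

theorem isPurelyInseparable_of_irreducibleSpace_tensor (k κ L : Type u) [Field k] [Field κ]
    [Algebra k κ] [FiniteDimensional k κ] [Field L] [Algebra k L] [Algebra.IsIntegral k L]
    [IsSepClosed L] [IrreducibleSpace (PrimeSpectrum (κ ⊗[k] L))] : IsPurelyInseparable k κ := by
  haveI : Algebra.IsIntegral κ (κ ⊗[k] L) := inferInstance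
  exact isPurelyInseparable_of_subsingleton_primeSpectrum_tensor k κ L
    (subsingleton_primeSpectrum_of_isIntegral_of_irreducibleSpace κ (κ ⊗[k] L))

end Field

section Scheme

variable {k : Type u} [Field k] {X : Scheme.{u}} (f : X ⟶ Spec (CommRingCat.of k))

/-- The structure ring hom `k → Γ(X, ⊤)`. -/
noncomputable def toΓ : k →+* Γ(X, ⊤) :=
  f.appTop.hom.comp (Scheme.ΓSpecIso (CommRingCat.of k)).inv.hom

theorem toSpecΓ_specMap_toΓ : X.toSpecΓ ≫ Spec.map (CommRingCat.ofHom (toΓ f)) = f := by
  have h : CommRingCat.ofHom (toΓ f) = (Scheme.ΓSpecIso (CommRingCat.of k)).inv ≫ f.appTop := rfl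
  rw [h, Spec.map_comp, ← Category.assoc, ← Scheme.toSpecΓ_naturality, Category.assoc,
    toSpecΓ_SpecMap_ΓSpecIso_inv, Category.comp_id]

/-- Flat base change of global sections along a field extension: an injective ring hom
`Γ(X, ⊤) ⊗[k] K → Γ(X_K, ⊤)` (`X` quasi-compact). -/
theorem exists_injective_tensor_ringHom (K : Type u) [Field K] [Algebra k K] [CompactSpace X] :
    letI : Algebra k Γ(X, ⊤) := (toΓ f).toAlgebra
    ∃ ψ : Γ(X, ⊤) ⊗[k] K →+*
        Γ(pullback f (Spec.map (CommRingCat.ofHom (algebraMap k K))), ⊤),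
      Function.Injective ψ := by
  let g := Spec.map (CommRingCat.ofHom (algebraMap k K))
  have H : IsPullback (pullback.fst f g) (pullback.snd f g) f g := IsPullback.of_hasPullback f g
  have hmono := mono_pushoutSection_of_isCompact_of_flat_right H (US := ⊤) (UT := ⊤) (UX := ⊤)
    (UY := ⊤) le_top le_top (by simp) (isAffineOpen_top _) (isAffineOpen_top _) isCompact_univ
  letI : Algebra k Γ(X, ⊤) := (toΓ f).toAlgebra
  have H0 := CommRingCat.isPushout_tensorProduct k Γ(X, ⊤) K
  let e1 := Scheme.ΓSpecIso (CommRingCat.of k)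
  let e2 := Scheme.ΓSpecIso (CommRingCat.of K)
  have H' : IsPushout (f.appLE ⊤ ⊤ le_top) (g.appLE ⊤ ⊤ le_top)
      (CommRingCat.ofHom (S := Γ(X, ⊤) ⊗[k] K) <| Algebra.TensorProduct.includeLeftRingHom)
      (e2.hom ≫ (CommRingCat.ofHom (S := Γ(X, ⊤) ⊗[k] K) <|
        Algebra.TensorProduct.includeRight.toRingHom)) := by
    refine H0.of_iso e1.symm (Iso.refl _) e2.symm (Iso.refl _) ?_ ?_ ?_ ?_
    · have h1 : f.appLE ⊤ ⊤ le_top = f.appTop := by
        simp only [Scheme.Hom.appLE, Scheme.Hom.appTop]
        erw [CategoryTheory.Functor.map_id]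
        exact Category.comp_id (f.app ⊤)
      rw [h1]
      ext x
      rfl
    · have h1 : g.appLE ⊤ ⊤ le_top = g.appTop := by
        simp only [Scheme.Hom.appLE, Scheme.Hom.appTop]
        erw [CategoryTheory.Functor.map_id]
        exact Category.comp_id (g.app ⊤)
      rw [h1]
      exact Scheme.ΓSpecIso_inv_naturality (CommRingCat.ofHom (algebraMap k K))
    · simp
    · simp
  have hm2 : Mono (H'.isoPushout.hom ≫ pushoutSection H (US := ⊤) (UT := ⊤) (UX := ⊤)
    (UY := ⊤) le_top le_top (by simp)) := mono_comp _ _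
  have hinj := (ConcreteCategory.mono_iff_injective_of_preservesPullback _).mp hm2
  exact ⟨(H'.isoPushout.hom ≫ pushoutSection H (US := ⊤) (UT := ⊤) (UX := ⊤)
    (UY := ⊤) le_top le_top (by simp)).hom, hinj⟩

/-- Global functions of a quasi-compact geometrically reduced `k`-scheme form a geometrically reduced
`k`-algebra. -/
theorem isGeometricallyReduced_Γ [CompactSpace X] [GeometricallyReduced f] :
    letI : Algebra k Γ(X, ⊤) := (toΓ f).toAlgebra
    Algebra.IsGeometricallyReduced k Γ(X, ⊤) := by
  letI : Algebra k Γ(X, ⊤) := (toΓ f).toAlgebra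
  obtain ⟨ψ, hψ⟩ := exists_injective_tensor_ringHom f (AlgebraicClosure k)
  haveI hred : IsReduced (pullback f (Spec.map (CommRingCat.ofHom
      (algebraMap k (AlgebraicClosure k))))) :=
    GeometricallyReduced.geometrically_isReduced _ _ _ (.of_hasPullback _ _)
  rw [Algebra.isGeometricallyReduced_field_iff]
  haveI : _root_.IsReduced (Γ(X, ⊤) ⊗[k] AlgebraicClosure k) := isReduced_of_injective ψ hψ
  exact isReduced_of_injective (Algebra.TensorProduct.comm k (AlgebraicClosure k) Γ(X, ⊤))
    (Algebra.TensorProduct.comm k (AlgebraicClosure k) Γ(X, ⊤)).injective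

/-- If `X → Spec Γ(X, ⊤)` is surjective and `X / k` is geometrically irreducible, then
`Spec (Γ(X, ⊤) ⊗[k] L)` is irreducible for every field extension `L / k`. -/
theorem irreducibleSpace_primeSpectrum_tensor_Γ (hsurj : Function.Surjective X.toSpecΓ)
    [GeometricallyIrreducible f] (L : Type u) [Field L] [Algebra k L] :
    letI : Algebra k Γ(X, ⊤) := (toΓ f).toAlgebra
    IrreducibleSpace (PrimeSpectrum (Γ(X, ⊤) ⊗[k] L)) := by
  letI : Algebra k Γ(X, ⊤) := (toΓ f).toAlgebra
  let φY : Spec (CommRingCat.of Γ(X, ⊤)) ⟶ Spec (CommRingCat.of k) :=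
    Spec.map (CommRingCat.ofHom (algebraMap k Γ(X, ⊤)))
  have hf : X.toSpecΓ ≫ φY = f := toSpecΓ_specMap_toΓ f
  let gL := Spec.map (CommRingCat.ofHom (algebraMap k L))
  haveI hirr : IrreducibleSpace ↥(pullback f gL) :=
    GeometricallyIrreducible.geometrically_irreducibleSpace _ _ _ (.of_hasPullback _ _)
  have hP := isPullback_bcHom f φY X.toSpecΓ hf L
  haveI hs : Surjective X.toSpecΓ := ⟨hsurj⟩
  haveI hbc : Surjective (bcHom f φY X.toSpecΓ hf L) :=
    MorphismProperty.of_isPullback (P := @Surjective) hP.flip hs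
  haveI : IrreducibleSpace ↥(pullback φY gL) := by
    have himg : IsIrreducible (Set.range (bcHom f φY X.toSpecΓ hf L)) := by
      rw [← Set.image_univ]
      exact (IrreducibleSpace.isIrreducible_univ _).image _
        (bcHom f φY X.toSpecΓ hf L).continuous.continuousOn
    rw [hbc.surj.range_eq] at himg
    exact (irreducibleSpace_def _).mpr himg
  let e := pullbackSpecIso k Γ(X, ⊤) L
  exact (Scheme.homeoOfIso e).irreducibleSpace_iff.mp inferInstance

end Scheme

end Groth.Agent.Lib.Helper51
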