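import Mathlib

open CategoryTheory Category Limits Pretriangulated

namespace Groth.Agent.Lib.Helper51.RDPlus

universe w w' v v' u u'

variable {C : Type u} [Category.{v} C] [Abelian C]

noncomputable abbrev JK (C : Type u) [Category.{v} C] [Abelian C] :
    HomotopyCategory.Plus (InjectiveObject C) ⥤ HomotopyCategory.Plus C :=
  (InjectiveObject.ι C).mapHomotopyCategoryPlus

lemma isKInjective_JK_obj (Y : HomotopyCategory.Plus (InjectiveObject C)) :
    CochainComplex.IsKInjective ((JK C).obj Y).1.as := by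
  obtain ⟨K, rfl⟩ := HomotopyCategory.Plus.quotient_obj_surjective Y
  exact inferInstanceAs (CochainComplex.IsKInjective
      (((InjectiveObject.ι C).mapHomologicalComplex (.up ℤ)).obj K.obj))

variable [HasDerivedCategory.{w} C]

noncomputable abbrev G (C : Type u) [Category.{v} C] [Abelian C] [HasDerivedCategory.{w} C] :
    HomotopyCategory.Plus (InjectiveObject C) ⥤ DerivedCategory.Plus C :=
  JK C ⋙ DerivedCategory.Plus.Qh

instance : (G C).Full := ⟨fun {X Y} f => by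
  obtain ⟨g, hg⟩ := (DerivedCategory.Plus.Qh_map_bijective_of_isKInjective ((JK C).obj X)
    ((JK C).obj Y) (isKInjective_JK_obj Y)).2 f
  obtain ⟨h, hh⟩ := (JK C).map_surjective g
  exact ⟨h, by simp [hh, hg]⟩⟩

instance : (G C).Faithful := ⟨fun {X Y} f g h => by
  apply (JK C).map_injective
  exact (DerivedCategory.Plus.Qh_map_bijective_of_isKInjective ((JK C).obj X)
    ((JK C).obj Y) (isKInjective_JK_obj Y)).1 h⟩


section

variable [EnoughInjectives C]
  {D : Type u'} [Category.{v'} D] [Abelian D] [HasDerivedCategory.{w'} D]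
  (F : C ⥤ D) [F.Additive]

noncomputable abbrev F' : HomotopyCategory.Plus (InjectiveObject C) ⥤ DerivedCategory.Plus D :=
  JK C ⋙ F.mapHomotopyCategoryPlus ⋙ DerivedCategory.Plus.Qh

example : (F' F).IsTriangulated := inferInstance

instance (X : HomotopyCategory.Plus (InjectiveObject C)) :
    IsIso (F.rightDerivedFunctorPlusUnit.app ((JK C).obj X)) := by
  infer_instance

noncomputable def β (X : HomotopyCategory.Plus (InjectiveObject C)) :
    (F' F).obj X ≅ F.rightDerivedFunctorPlus.obj ((G C).obj X) :=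
  asIso (F.rightDerivedFunctorPlusUnit.app ((JK C).obj X))

lemma β_naturality {X Y : HomotopyCategory.Plus (InjectiveObject C)} (φ : X ⟶ Y) :
    (F' F).map φ ≫ (β F Y).hom = (β F X).hom ≫ F.rightDerivedFunctorPlus.map ((G C).map φ) :=
  F.rightDerivedFunctorPlusUnit.naturality ((JK C).map φ)

lemma comm_helper {X Y : HomotopyCategory.Plus (InjectiveObject C)} (φ : X ⟶ Y)
    {P Q : DerivedCategory.Plus C} (p : (G C).obj X ≅ P) (q : (G C).obj Y ≅ Q) (m : P ⟶ Q)
    (h : (G C).map φ ≫ q.hom = p.hom ≫ m) :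
    (F' F).map φ ≫ (β F Y ≪≫ F.rightDerivedFunctorPlus.mapIso q).hom =
      (β F X ≪≫ F.rightDerivedFunctorPlus.mapIso p).hom ≫ F.rightDerivedFunctorPlus.map m := by
  simp only [Iso.trans_hom, Functor.mapIso_hom, Category.assoc]
  rw [← Category.assoc, β_naturality, Category.assoc, ← Functor.map_comp, h, Functor.map_comp]

theorem exists_distTriang (T : Triangle (DerivedCategory.Plus C))
    (hT : T ∈ distTriang (DerivedCategory.Plus C)) :
    ∃ (T'' : Triangle (DerivedCategory.Plus D)) (_ : T'' ∈ distTriang (DerivedCategory.Plus D))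
      (e₁ : T''.obj₁ ≅ F.rightDerivedFunctorPlus.obj T.obj₁)
      (e₂ : T''.obj₂ ≅ F.rightDerivedFunctorPlus.obj T.obj₂)
      (e₃ : T''.obj₃ ≅ F.rightDerivedFunctorPlus.obj T.obj₃),
      T''.mor₁ ≫ e₂.hom = e₁.hom ≫ F.rightDerivedFunctorPlus.map T.mor₁ ∧
      T''.mor₂ ≫ e₃.hom = e₂.hom ≫ F.rightDerivedFunctorPlus.map T.mor₂ := by
  let A₁ := (G C).objPreimage T.obj₁
  let a₁ : (G C).obj A₁ ≅ T.obj₁ := (G C).objObjPreimageIso T.obj₁
  let A₂ := (G C).objPreimage T.obj₂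
  let a₂ : (G C).obj A₂ ≅ T.obj₂ := (G C).objObjPreimageIso T.obj₂
  let φ : A₁ ⟶ A₂ := (G C).preimage (a₁.hom ≫ T.mor₁ ≫ a₂.inv)
  obtain ⟨A₃, ψ, χ, hT'⟩ := distinguished_cocone_triangle φ
  have hGT' := (G C).map_distinguished _ hT'
  have hcomm : ((G C).mapTriangle.obj (Triangle.mk φ ψ χ)).mor₁ ≫ a₂.hom = a₁.hom ≫ T.mor₁ := by
    change (G C).map φ ≫ a₂.hom = a₁.hom ≫ T.mor₁
    rw [Functor.map_preimage, Category.assoc, Category.assoc, Iso.inv_hom_id, Category.comp_id]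
  let e := isoTriangleOfIso₁₂ _ T hGT' hT a₁ a₂ hcomm
  refine ⟨(F' F).mapTriangle.obj (Triangle.mk φ ψ χ), (F' F).map_distinguished _ hT',
    β F A₁ ≪≫ F.rightDerivedFunctorPlus.mapIso (Triangle.π₁.mapIso e),
    β F A₂ ≪≫ F.rightDerivedFunctorPlus.mapIso (Triangle.π₂.mapIso e),
    β F A₃ ≪≫ F.rightDerivedFunctorPlus.mapIso (Triangle.π₃.mapIso e), ?_, ?_⟩
  · exact comm_helper F φ (Triangle.π₁.mapIso e) (Triangle.π₂.mapIso e) T.mor₁ e.hom.comm₁
  · exact comm_helper F ψ (Triangle.π₂.mapIso e) (Triangle.π₃.mapIso e) T.mor₂ e.hom.comm₂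

end

section SES

noncomputable abbrev Q' (C : Type u) [Category.{v} C] [Abelian C] [HasDerivedCategory.{w} C] :
    CochainComplex.Plus C ⥤ DerivedCategory.Plus C :=
  HomotopyCategory.Plus.quotient C ⋙ DerivedCategory.Plus.Qh

noncomputable def uIso (X : CochainComplex.Plus C) :
    (DerivedCategory.Plus.ι (C := C)).obj ((Q' C).obj X) ≅ DerivedCategory.Q.obj X.obj :=
  (DerivedCategory.quotientCompQhIso C).app X.obj

lemma uIso_naturality {X Y : CochainComplex.Plus C} (f : X ⟶ Y) :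
    (DerivedCategory.Plus.ι (C := C)).map ((Q' C).map f) ≫ (uIso Y).hom =
      (uIso X).hom ≫ DerivedCategory.Q.map f.hom :=
  (DerivedCategory.quotientCompQhIso C).hom.naturality f.hom

theorem exists_distTriang_of_ses {X₁ X₂ X₃ : CochainComplex.Plus C} (f : X₁ ⟶ X₂) (g : X₂ ⟶ X₃)
    (w : f.hom ≫ g.hom = 0) (hS : (ShortComplex.mk f.hom g.hom w).ShortExact) :
    ∃ δ : (Q' C).obj X₃ ⟶ ((Q' C).obj X₁)⟦(1 : ℤ)⟧,
      Triangle.mk ((Q' C).map f) ((Q' C).map g) δ ∈ distTriang (DerivedCategory.Plus C) := by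
  obtain ⟨Z, g', h', hT⟩ := distinguished_cocone_triangle ((Q' C).map f)
  have hιT := (DerivedCategory.Plus.ι (C := C)).map_distinguished _ hT
  have hSES := DerivedCategory.triangleOfSES_distinguished hS
  let E := isoTriangleOfIso₁₂ _ _ hιT hSES (uIso X₁) (uIso X₂) (uIso_naturality f)
  let c : (DerivedCategory.Plus.ι (C := C)).obj Z ≅ DerivedCategory.Q.obj X₃.obj :=
    Triangle.π₃.mapIso E
  have hc : (DerivedCategory.Plus.ι (C := C)).map g' ≫ c.hom =
      (uIso X₂).hom ≫ DerivedCategory.Q.map g.hom := E.hom.comm₂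
  let θ : Z ≅ (Q' C).obj X₃ :=
    (DerivedCategory.Plus.ι (C := C)).preimageIso (c ≪≫ (uIso X₃).symm)
  have hθ : g' ≫ θ.hom = (Q' C).map g := by
    apply (DerivedCategory.Plus.ι (C := C)).map_injective
    have h3 := uIso_naturality g
    rw [Functor.map_comp, Functor.preimageIso_hom, Functor.map_preimage]
    rw [← cancel_mono (uIso X₃).hom, h3]
    rw [Iso.trans_hom, Iso.symm_hom, Category.assoc, Category.assoc, Iso.inv_hom_id,
      Category.comp_id]
    exact hc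
  refine ⟨θ.inv ≫ h', isomorphic_distinguished _ hT _
    (Triangle.isoMk _ _ (Iso.refl _) (Iso.refl _) θ.symm ?_ ?_ ?_)⟩
  · show (Q' C).map f ≫ 𝟙 _ = 𝟙 _ ≫ (Q' C).map f
    rw [Category.comp_id, Category.id_comp]
  · show (Q' C).map g ≫ θ.inv = 𝟙 _ ≫ g'
    rw [Category.id_comp, ← hθ, Category.assoc, Iso.hom_inv_id, Category.comp_id]
  · show (θ.inv ≫ h') ≫ (𝟙 _)⟦1⟧' = θ.inv ≫ h'
    rw [CategoryTheory.Functor.map_id, Category.comp_id]

end SES

lemma exact_transport {A : Type*} [Category A] [Abelian A] {X₁ X₂ X₃ Y₁ Y₂ Y₃ : A}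
    (f : X₁ ⟶ X₂) (g : X₂ ⟶ X₃) (f' : Y₁ ⟶ Y₂) (g' : Y₂ ⟶ Y₃)
    (e₁ : X₁ ≅ Y₁) (e₂ : X₂ ≅ Y₂) (e₃ : X₃ ≅ Y₃)
    (c₁ : f ≫ e₂.hom = e₁.hom ≫ f') (c₂ : g ≫ e₃.hom = e₂.hom ≫ g') (w : f ≫ g = 0)
    (h : (ShortComplex.mk f g w).Exact) :
    kernelSubobject g' = imageSubobject f' := by
  have w' : f' ≫ g' = 0 := by
    rw [← cancel_epi e₁.hom, ← Category.assoc, ← c₁, Category.assoc, ← c₂, ← Category.assoc, w,
      zero_comp, comp_zero]
  have h' : (ShortComplex.mk f' g' w').Exact :=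
    (ShortComplex.exact_iff_of_iso (ShortComplex.isoMk e₁ e₂ e₃ c₁.symm c₂.symm)).1 h
  exact ((ShortComplex.mk f' g' w').exact_iff_image_eq_kernel.1 h').symm

section

variable [EnoughInjectives C]
  {D : Type u'} [Category.{v'} D] [Abelian D] [HasDerivedCategory.{w'} D]
  (F : C ⥤ D) [F.Additive]

noncomputable abbrev RFH (n : ℤ) : DerivedCategory.Plus C ⥤ D :=
  F.rightDerivedFunctorPlus ⋙ DerivedCategory.Plus.ι ⋙ DerivedCategory.homologyFunctor D n

theorem les (T : Triangle (DerivedCategory.Plus C))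
    (hT : T ∈ distTriang (DerivedCategory.Plus C)) (i : ℤ) :
    kernelSubobject ((RFH F i).map T.mor₂) = imageSubobject ((RFH F i).map T.mor₁) ∧
    ∃ δ : (RFH F i).obj T.obj₃ ⟶ (RFH F (i + 1)).obj T.obj₁,
      kernelSubobject δ = imageSubobject ((RFH F i).map T.mor₂) ∧
      kernelSubobject ((RFH F (i + 1)).map T.mor₁) = imageSubobject δ := by
  obtain ⟨T'', hT'', e₁, e₂, e₃, c₁, c₂⟩ := exists_distTriang F T hT
  let Tι := (DerivedCategory.Plus.ι (C := D)).mapTriangle.obj T''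
  have hTι : Tι ∈ distTriang (DerivedCategory D) :=
    (DerivedCategory.Plus.ι (C := D)).map_distinguished _ hT''
  let H (n : ℤ) : DerivedCategory.Plus D ⥤ D :=
    DerivedCategory.Plus.ι ⋙ DerivedCategory.homologyFunctor D n
  have hc₁ (n : ℤ) : (H n).map T''.mor₁ ≫ ((H n).mapIso e₂).hom =
      ((H n).mapIso e₁).hom ≫ (RFH F n).map T.mor₁ := by
    have := congrArg (H n).map c₁
    simp only [Functor.map_comp] at this
    exact this
  have hc₂ (n : ℤ) : (H n).map T''.mor₂ ≫ ((H n).mapIso e₃).hom =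
      ((H n).mapIso e₂).hom ≫ (RFH F n).map T.mor₂ := by
    have := congrArg (H n).map c₂
    simp only [Functor.map_comp] at this
    exact this
  refine ⟨?_, ((H i).mapIso e₃).inv ≫ DerivedCategory.HomologySequence.δ Tι i (i + 1) rfl ≫
    ((H (i + 1)).mapIso e₁).hom, ?_, ?_⟩
  · exact exact_transport _ _ _ _ ((H i).mapIso e₁) ((H i).mapIso e₂) ((H i).mapIso e₃)
      (hc₁ i) (hc₂ i) _ (DerivedCategory.HomologySequence.exact₂ Tι hTι i)
  · refine exact_transport _ _ _ _ ((H i).mapIso e₂) ((H i).mapIso e₃) ((H (i + 1)).mapIso e₁)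
      (hc₂ i) ?_ _ (DerivedCategory.HomologySequence.exact₃ Tι hTι i (i + 1) rfl)
    exact (Iso.hom_inv_id_assoc _ _).symm
  · refine exact_transport _ _ _ _ ((H i).mapIso e₃) ((H (i + 1)).mapIso e₁)
      ((H (i + 1)).mapIso e₂) ?_ (hc₁ (i + 1)) _
      (DerivedCategory.HomologySequence.exact₁ Tι hTι i (i + 1) rfl)
    exact (Iso.hom_inv_id_assoc _ _).symm

end

end Groth.Agent.Lib.Helper51.RDPlus
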