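import Mathlib

/-!
# Geometric irreducibility and purely transcendental extensions (helper51)

* `mem_range_of_C_mem_range`: `K ∩ k(t) = k` in `K(t)`.
* `relSepClosed_of_ratFunc`: `k(t)` sep. closed in `K(t)` implies `k` sep. closed in `K`.
* `irreducibleSpace_tensor_ratFunc`: `L ⊗[k(t)] K(t)` is a localisation of `L ⊗[k] K`; irreducibility
  of the spectrum transfers.
-/

set_option autoImplicit false
universe u
open TensorProduct Polynomial

namespace Groth.Agent.Lib.Helper51

section RatFunc

variable {k K : Type u} [Field k] [Field K] [Algebra k K]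
variable (kt Kt : Type u) [Field kt] [Field Kt] [Algebra (Polynomial k) kt]
  [IsFractionRing (Polynomial k) kt] [Algebra (Polynomial K) Kt] [IsFractionRing (Polynomial K) Kt]
  [Algebra kt Kt]

/-- `K ∩ k(t) = k` inside `K(t)`. -/
theorem mem_range_of_C_mem_range
    (hcompat : ∀ p : Polynomial k, algebraMap kt Kt (algebraMap (Polynomial k) kt p) =
      algebraMap (Polynomial K) Kt (Polynomial.map (algebraMap k K) p))
    (a : K) (r : kt) (hr : algebraMap kt Kt r = algebraMap (Polynomial K) Kt (C a)) :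
    a ∈ Set.range (algebraMap k K) := by
  obtain ⟨p, q, hq, rfl⟩ := IsFractionRing.div_surjective (A := Polynomial k) r
  have hq0 : q ≠ 0 := nonZeroDivisors.ne_zero hq
  have hq1 : algebraMap (Polynomial k) kt q ≠ 0 := by
    intro h0
    exact hq0 ((IsFractionRing.injective (Polynomial k) kt) (by rw [h0, map_zero]))
  have h1 : algebraMap (Polynomial K) Kt (p.map (algebraMap k K)) =
      algebraMap (Polynomial K) Kt (C a * q.map (algebraMap k K)) := by
    rw [map_mul, ← hr, ← hcompat, ← hcompat, ← map_mul, div_mul_cancel₀ _ hq1]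
  have h2 := IsFractionRing.injective (Polynomial K) Kt h1
  obtain ⟨i, hi⟩ : ∃ i, q.coeff i ≠ 0 := by
    by_contra hcon
    apply hq0
    ext i
    by_contra h
    exact hcon ⟨i, h⟩
  have h3 := congrArg (fun f => f.coeff i) h2
  simp only [coeff_map, coeff_C_mul] at h3
  refine ⟨p.coeff i / q.coeff i, ?_⟩
  rw [map_div₀, h3, mul_div_assoc, div_self, mul_one]
  exact (_root_.map_ne_zero _).mpr hi

/-- If `k(t)` is separably closed in `K(t)` then `k` is separably closed in `K`. -/
theorem relSepClosed_of_ratFunc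
    (hcompat : ∀ p : Polynomial k, algebraMap kt Kt (algebraMap (Polynomial k) kt p) =
      algebraMap (Polynomial K) Kt (Polynomial.map (algebraMap k K) p))
    (h : ∀ α : Kt, IsSeparable kt α → α ∈ Set.range (algebraMap kt Kt))
    (a : K) (ha : IsSeparable k a) : a ∈ Set.range (algebraMap k K) := by
  set α : Kt := algebraMap (Polynomial K) Kt (C a) with hα
  let ψ : k →+* kt := (algebraMap (Polynomial k) kt).comp C
  have hsep : IsSeparable kt α := by
    have h1 : ((minpoly k a).map ψ).Separable := Polynomial.Separable.map ha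
    have h2 : Polynomial.aeval α ((minpoly k a).map ψ) = 0 := by
      rw [Polynomial.aeval_def, Polynomial.eval₂_map]
      have h3 : (algebraMap kt Kt).comp ψ =
          ((algebraMap (Polynomial K) Kt).comp C).comp (algebraMap k K) := by
        ext c
        simp only [ψ, RingHom.comp_apply]
        rw [hcompat, Polynomial.map_C]
      rw [h3, ← Polynomial.eval₂_map, hα]
      have h4 : Polynomial.eval₂ ((algebraMap (Polynomial K) Kt).comp C)
          (((algebraMap (Polynomial K) Kt).comp C) a) ((minpoly k a).map (algebraMap k K)) = 0 := by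
        rw [Polynomial.eval₂_hom, Polynomial.eval_map, ← Polynomial.aeval_def, minpoly.aeval, map_zero]
      exact h4
    exact h1.of_dvd (minpoly.dvd kt α h2)
  obtain ⟨r, hr⟩ := h α hsep
  exact mem_range_of_C_mem_range kt Kt hcompat a r hr


set_option maxHeartbeats 800000 in
theorem irreducibleSpace_tensor_ratFunc
    (hcompat : ∀ p : Polynomial k, algebraMap kt Kt (algebraMap (Polynomial k) kt p) =
      algebraMap (Polynomial K) Kt (Polynomial.map (algebraMap k K) p))
    (L : Type u) [Field L] [Algebra kt L] [Algebra k L]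
    (hL : ∀ c : k, algebraMap k L c = algebraMap kt L (algebraMap (Polynomial k) kt (C c)))
    [hirr : IrreducibleSpace (PrimeSpectrum (L ⊗[k] K))] :
    IrreducibleSpace (PrimeSpectrum (L ⊗[kt] Kt)) := by
  classical
  -- notation
  let tL : L := algebraMap kt L (algebraMap (Polynomial k) kt X)
  let iL : L →+* L ⊗[kt] Kt := Algebra.TensorProduct.includeLeftRingHom
  let iKt : Kt →+* L ⊗[kt] Kt := (Algebra.TensorProduct.includeRight : Kt →ₐ[kt] L ⊗[kt] Kt).toRingHom
  let cK : K →+* Kt := (algebraMap (Polynomial K) Kt).comp C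
  let jL : L →+* L ⊗[k] K := Algebra.TensorProduct.includeLeftRingHom
  let jK : K →+* L ⊗[k] K := (Algebra.TensorProduct.includeRight : K →ₐ[k] L ⊗[k] K).toRingHom
  let ι : Polynomial K →+* L ⊗[k] K := Polynomial.eval₂RingHom jK (jL tL)
  -- evaluating polynomials over `k` at `tL`
  have hevL : ∀ p : Polynomial k, algebraMap kt L (algebraMap (Polynomial k) kt p) =
      Polynomial.eval₂ (algebraMap k L) tL p := by
    intro p
    have : ((algebraMap kt L).comp (algebraMap (Polynomial k) kt)) =
        Polynomial.eval₂RingHom (algebraMap k L) tL := by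
      apply Polynomial.ringHom_ext
      · intro c
        simp only [RingHom.comp_apply, Polynomial.coe_eval₂RingHom, Polynomial.eval₂_C]
        exact (hL c).symm
      · simp only [RingHom.comp_apply, Polynomial.coe_eval₂RingHom, Polynomial.eval₂_X]
        rfl
    exact congrArg (fun f => f p) this
  -- the transfer across the tensor over `kt`
  have hmove : ∀ r : kt, iKt (algebraMap kt Kt r) = iL (algebraMap kt L r) := by
    intro r
    show (1 : L) ⊗ₜ[kt] (algebraMap kt Kt r) = (algebraMap kt L r) ⊗ₜ[kt] (1 : Kt)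
    rw [Algebra.algebraMap_eq_smul_one, Algebra.algebraMap_eq_smul_one, TensorProduct.smul_tmul]
  have hmovek : ∀ c : k, jK (algebraMap k K c) = jL (algebraMap k L c) := by
    intro c
    show (1 : L) ⊗ₜ[k] (algebraMap k K c) = (algebraMap k L c) ⊗ₜ[k] (1 : K)
    rw [Algebra.algebraMap_eq_smul_one, Algebra.algebraMap_eq_smul_one, TensorProduct.smul_tmul]
  have hcK : ∀ c : k, cK (algebraMap k K c) = algebraMap kt Kt (algebraMap (Polynomial k) kt (C c)) := by
    intro c
    simp only [cK, RingHom.comp_apply]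
    rw [hcompat, Polynomial.map_C]
  -- the comparison map `Φ`
  letI algT : Algebra k (L ⊗[kt] Kt) := (iL.comp (algebraMap k L)).toAlgebra
  let fL : L →ₐ[k] L ⊗[kt] Kt := { iL with commutes' := fun c => rfl }
  let fK : K →ₐ[k] L ⊗[kt] Kt :=
    { iKt.comp cK with
      commutes' := by
        intro c
        show iKt (cK (algebraMap k K c)) = iL (algebraMap k L c)
        rw [hcK, hmove, hL] }
  let Φ : L ⊗[k] K →ₐ[k] L ⊗[kt] Kt := Algebra.TensorProduct.productMap fL fK
  have hΦ : ∀ (l : L) (c : K), Φ (l ⊗ₜ c) = iL l * iKt (cK c) := by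
    intro l c
    exact Algebra.TensorProduct.productMap_apply_tmul fL fK l c
  -- `Φ ∘ ι = iKt ∘ algebraMap`
  have hΦι : ∀ p : Polynomial K, Φ (ι p) = iKt (algebraMap (Polynomial K) Kt p) := by
    intro p
    have : (Φ : L ⊗[k] K →+* L ⊗[kt] Kt).comp ι = iKt.comp (algebraMap (Polynomial K) Kt) := by
      apply Polynomial.ringHom_ext
      · intro c
        simp only [RingHom.comp_apply, ι, Polynomial.coe_eval₂RingHom, Polynomial.eval₂_C]
        show Φ ((1 : L) ⊗ₜ[k] c) = _
        rw [hΦ, map_one, one_mul]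
        rfl
      · simp only [RingHom.comp_apply, ι, Polynomial.coe_eval₂RingHom, Polynomial.eval₂_X]
        show Φ (tL ⊗ₜ[k] (1 : K)) = _
        rw [hΦ, map_one, map_one, mul_one]
        have h1 : algebraMap (Polynomial K) Kt X =
            algebraMap kt Kt (algebraMap (Polynomial k) kt X) := by
          rw [hcompat, Polynomial.map_X]
        rw [h1, hmove]
    exact congrArg (fun f => f p) this
  have hιmap : ∀ p : Polynomial k, ι (p.map (algebraMap k K)) =
      jL (algebraMap kt L (algebraMap (Polynomial k) kt p)) := by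
    intro p
    rw [hevL]
    simp only [ι, Polynomial.coe_eval₂RingHom]
    rw [Polynomial.eval₂_map]
    have : jK.comp (algebraMap k K) = jL.comp (algebraMap k L) := by
      ext c
      exact hmovek c
    rw [this, Polynomial.hom_eval₂]
  -- the localisation
  let M : Submonoid (L ⊗[k] K) := Submonoid.map ι (nonZeroDivisors (Polynomial K))
  let B := Localization M
  have hunit : ∀ y : nonZeroDivisors (Polynomial K),
      IsUnit (((algebraMap (L ⊗[k] K) B).comp ι) y) := by
    intro y
    exact IsLocalization.map_units B (⟨ι y, ⟨y, y.2, rfl⟩⟩ : M)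
  let g0 : Kt →+* B := IsLocalization.lift (M := nonZeroDivisors (Polynomial K)) (S := Kt) hunit
  have hg0 : ∀ p : Polynomial K, g0 (algebraMap (Polynomial K) Kt p) =
      algebraMap (L ⊗[k] K) B (ι p) := by
    intro p
    exact IsLocalization.lift_eq hunit p
  letI algB : Algebra kt B := ((algebraMap (L ⊗[k] K) B).comp (jL.comp (algebraMap kt L))).toAlgebra
  let gL : L →ₐ[kt] B := { (algebraMap (L ⊗[k] K) B).comp jL with commutes' := fun r => rfl }
  let gKt : Kt →ₐ[kt] B :=
    { g0 with
      commutes' := by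
        intro r
        show g0 (algebraMap kt Kt r) = algebraMap (L ⊗[k] K) B (jL (algebraMap kt L r))
        have : g0.comp (algebraMap kt Kt) =
            (algebraMap (L ⊗[k] K) B).comp (jL.comp (algebraMap kt L)) := by
          apply IsLocalization.ringHom_ext (nonZeroDivisors (Polynomial k))
          ext p
          · simp only [RingHom.comp_apply]
            rw [hcompat, hg0, hιmap]
          · simp only [RingHom.comp_apply]
            rw [hcompat, hg0, hιmap]
        exact congrArg (fun f => f r) this }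
  let Ψ : L ⊗[kt] Kt →ₐ[kt] B := Algebra.TensorProduct.productMap gL gKt
  have hΨL : ∀ l : L, Ψ (iL l) = algebraMap (L ⊗[k] K) B (jL l) := by
    intro l
    show Ψ (l ⊗ₜ[kt] (1 : Kt)) = _
    rw [Algebra.TensorProduct.productMap_apply_tmul, map_one, mul_one]
    rfl
  have hΨKt : ∀ α : Kt, Ψ (iKt α) = g0 α := by
    intro α
    show Ψ ((1 : L) ⊗ₜ[kt] α) = _
    rw [Algebra.TensorProduct.productMap_apply_tmul, map_one, one_mul]
    rfl
  have hΨΦ : ∀ z : L ⊗[k] K, Ψ (Φ z) = algebraMap (L ⊗[k] K) B z := by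
    intro z
    induction z using TensorProduct.induction_on with
    | zero => simp
    | tmul l c =>
      rw [hΦ, map_mul, hΨL, hΨKt]
      have h1 : g0 (cK c) = algebraMap (L ⊗[k] K) B (ι (C c)) := hg0 (C c)
      rw [h1, ← map_mul]
      congr 1
      simp only [ι, Polynomial.coe_eval₂RingHom, Polynomial.eval₂_C]
      show (l ⊗ₜ[k] (1 : K)) * ((1 : L) ⊗ₜ[k] c) = l ⊗ₜ[k] c
      rw [Algebra.TensorProduct.tmul_mul_tmul, mul_one, one_mul]
    | add x y hx hy => rw [map_add, map_add, hx, hy, map_add]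
  have hker : ∀ z : L ⊗[k] K, Φ z = 0 → ∃ q : Polynomial K, q ≠ 0 ∧ ι q * z = 0 := by
    intro z hz
    have h1 : algebraMap (L ⊗[k] K) B z = 0 := by rw [← hΨΦ, hz, map_zero]
    obtain ⟨⟨m, q, hq, rfl⟩, hm⟩ := (IsLocalization.map_eq_zero_iff M B z).mp h1
    exact ⟨q, nonZeroDivisors.ne_zero hq, hm⟩
  have hclear : ∀ τ : L ⊗[kt] Kt, ∃ q : Polynomial K, q ≠ 0 ∧ ∃ a' : L ⊗[k] K,
      τ * iKt (algebraMap (Polynomial K) Kt q) = Φ a' := by
    intro τ
    induction τ using TensorProduct.induction_on with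
    | zero => exact ⟨1, one_ne_zero, 0, by simp⟩
    | tmul l α =>
      obtain ⟨p, q, hq, rfl⟩ := IsFractionRing.div_surjective (A := Polynomial K) α
      have hq0 : q ≠ 0 := nonZeroDivisors.ne_zero hq
      have hq1 : algebraMap (Polynomial K) Kt q ≠ 0 := by
        intro h0
        exact hq0 ((IsFractionRing.injective (Polynomial K) Kt) (by rw [h0, map_zero]))
      refine ⟨q, hq0, jL l * ι p, ?_⟩
      rw [map_mul, hΦι]
      have h2 : Φ (jL l) = iL l := by
        show Φ (l ⊗ₜ[k] (1 : K)) = _
        rw [hΦ, map_one, map_one, mul_one]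
      rw [h2]
      show (l ⊗ₜ[kt] _) * ((1 : L) ⊗ₜ[kt] _) = (l ⊗ₜ[kt] (1 : Kt)) * ((1 : L) ⊗ₜ[kt] _)
      rw [Algebra.TensorProduct.tmul_mul_tmul, Algebra.TensorProduct.tmul_mul_tmul, mul_one,
        one_mul, div_mul_cancel₀ _ hq1]
    | add x y hx hy =>
      obtain ⟨q₁, hq₁, a₁, h₁⟩ := hx
      obtain ⟨q₂, hq₂, a₂, h₂⟩ := hy
      refine ⟨q₁ * q₂, mul_ne_zero hq₁ hq₂, a₁ * ι q₂ + a₂ * ι q₁, ?_⟩
      rw [map_add, map_mul Φ, map_mul Φ, ← h₁, ← h₂, hΦι, hΦι, map_mul, map_mul]
      ring
  have hnt : Nontrivial (L ⊗[kt] Kt) := inferInstance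
  have hunitq : ∀ q : Polynomial K, q ≠ 0 → IsUnit (iKt (algebraMap (Polynomial K) Kt q)) := by
    intro q hq
    have hq1 : algebraMap (Polynomial K) Kt q ≠ 0 := by
      intro h0
      exact hq ((IsFractionRing.injective (Polynomial K) Kt) (by rw [h0, map_zero]))
    exact (IsUnit.mk0 _ hq1).map iKt
  have hprime : (nilradical (L ⊗[k] K)).IsPrime :=
    PrimeSpectrum.irreducibleSpace_iff_isPrime_nilradical.mp hirr
  rw [PrimeSpectrum.irreducibleSpace_iff_isPrime_nilradical]
  -- nilpotency transfers along `Φ` up to units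
  have hnil : ∀ (τ : L ⊗[kt] Kt) (q : Polynomial K) (a' : L ⊗[k] K), q ≠ 0 →
      τ * iKt (algebraMap (Polynomial K) Kt q) = Φ a' → IsNilpotent a' → IsNilpotent τ := by
    intro τ q a' hq h hn
    have h1 : IsNilpotent (τ * iKt (algebraMap (Polynomial K) Kt q)) := by
      rw [h]; exact hn.map Φ
    obtain ⟨u, hu⟩ := hunitq q hq
    rw [← hu] at h1
    obtain ⟨n, hn⟩ := h1
    refine ⟨n, ?_⟩
    rw [mul_pow] at hn
    have : IsUnit ((u : L ⊗[kt] Kt) ^ n) := (u.isUnit).pow n
    exact (this.mul_left_eq_zero).mp hn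
  refine ⟨?_, ?_⟩
  · intro htop
    have : (1 : L ⊗[kt] Kt) ∈ nilradical (L ⊗[kt] Kt) := by rw [htop]; trivial
    exact not_isNilpotent_one (mem_nilradical.mp this)
  · intro a b hab
    obtain ⟨q₁, hq₁, a', ha'⟩ := hclear a
    obtain ⟨q₂, hq₂, b', hb'⟩ := hclear b
    obtain ⟨n, hn⟩ := mem_nilradical.mp hab
    have h1 : Φ ((a' * b') ^ n) = 0 := by
      rw [map_pow, map_mul, ← ha', ← hb']
      have : a * iKt (algebraMap (Polynomial K) Kt q₁) * (b * iKt (algebraMap (Polynomial K) Kt q₂)) =
          (a * b) * (iKt (algebraMap (Polynomial K) Kt q₁) * iKt (algebraMap (Polynomial K) Kt q₂)) := by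
        ring
      rw [this, mul_pow, hn, zero_mul]
    obtain ⟨q, hq, hqz⟩ := hker _ h1
    have h2 : ι q * (a' * b') ^ n ∈ nilradical (L ⊗[k] K) := by
      rw [hqz]; exact zero_mem _
    rcases hprime.mem_or_mem h2 with h3 | h3
    · exfalso
      have h4 : IsNilpotent (Φ (ι q)) := (mem_nilradical.mp h3).map Φ
      rw [hΦι] at h4
      exact (hunitq q hq).not_isNilpotent h4 -- nontrivial
    · have h4 : a' * b' ∈ nilradical (L ⊗[k] K) := hprime.mem_of_pow_mem n h3
      rcases hprime.mem_or_mem h4 with h5 | h5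
      · left
        exact mem_nilradical.mpr (hnil a q₁ a' hq₁ ha' (mem_nilradical.mp h5))
      · right
        exact mem_nilradical.mpr (hnil b q₂ b' hq₂ hb' (mem_nilradical.mp h5))

end RatFunc

end Groth.Agent.Lib.Helper51
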