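import Mathlib
import Groth.Agent.Lib.Helper52.RegularQuot
import Groth.Agent.Lib.Helper51.JacobianSlice

/-!
# Regular local algebras with a section are formally smooth (helper51)

`A` a ring, `S` a local `A`-algebra essentially of finite presentation which is a regular local ring and
admits an `A`-algebra retraction `S → A`; if `A` is a regular ring then `S` is formally smooth over `A`.
-/

set_option autoImplicit false
universe u
open TensorProduct IsLocalRing KaehlerDifferential

namespace Groth.Agent.Lib.Helper51.RegularSection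

section Derivation

variable {A P : Type*} [CommRing A] [CommRing P] [Algebra A P] (σ : P →ₐ[A] A)

/-- The `P`-module `N / 𝔪N`, `N = ker σ`. -/
abbrev V (𝔪 : Ideal P) : Type _ := ↥(RingHom.ker σ) ⧸ (𝔪 • (⊤ : Submodule P ↥(RingHom.ker σ)))

lemma sub_mem_ker (p : P) : p - algebraMap A P (σ p) ∈ RingHom.ker σ := by
  rw [RingHom.mem_ker, map_sub, AlgHom.commutes, Algebra.algebraMap_self_apply, sub_self]

/-- The linear map `p ↦ [p - σ p]` from `P` to `N / 𝔪N`. -/
noncomputable def δlin (𝔪 : Ideal P) : P →ₗ[A] V σ 𝔪 where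
  toFun p := Submodule.Quotient.mk ⟨p - algebraMap A P (σ p), sub_mem_ker σ p⟩
  map_add' p p' := by
    rw [← Submodule.Quotient.mk_add]
    congr 1
    ext
    simp only [map_add, Submodule.coe_add]
    ring
  map_smul' a p := by
    rw [RingHom.id_apply, ← Submodule.Quotient.mk_smul]
    congr 1
    ext
    simp only [Algebra.smul_def, map_mul, Submodule.coe_smul_of_tower]
    rw [AlgHom.commutes, Algebra.algebraMap_self_apply]
    ring

/-- The derivation `p ↦ [p - σ p]` from `P` to `N / 𝔪N` when `N ⊆ 𝔪`. -/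
noncomputable def δ (𝔪 : Ideal P) (h𝔪 : RingHom.ker σ ≤ 𝔪) : Derivation A P (V σ 𝔪) :=
  Derivation.mk' (δlin σ 𝔪) <| by
    intro p p'
    change Submodule.Quotient.mk _ = p • Submodule.Quotient.mk _ + p' • Submodule.Quotient.mk _
    rw [← Submodule.Quotient.mk_smul, ← Submodule.Quotient.mk_smul, ← Submodule.Quotient.mk_add,
      Submodule.Quotient.eq]
    have hn : p - algebraMap A P (σ p) ∈ RingHom.ker σ := sub_mem_ker σ p
    have h1 : (⟨p * p' - algebraMap A P (σ (p * p')), sub_mem_ker σ (p * p')⟩ : RingHom.ker σ) -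
        (p • ⟨p' - algebraMap A P (σ p'), sub_mem_ker σ p'⟩ +
          p' • ⟨p - algebraMap A P (σ p), sub_mem_ker σ p⟩) =
        (-(p - algebraMap A P (σ p))) • (⟨p' - algebraMap A P (σ p'), sub_mem_ker σ p'⟩ :
          RingHom.ker σ) := by
      ext
      simp only [map_mul, Submodule.coe_sub, Submodule.coe_add, Submodule.coe_smul, smul_eq_mul]
      ring
    rw [h1]
    exact Submodule.smul_mem_smul (𝔪.neg_mem (h𝔪 hn)) Submodule.mem_top

@[simp]
lemma δ_apply (𝔪 : Ideal P) (h𝔪 : RingHom.ker σ ≤ 𝔪) (p : P) :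
    δ σ 𝔪 h𝔪 p = Submodule.Quotient.mk ⟨p - algebraMap A P (σ p), sub_mem_ker σ p⟩ := rfl

lemma mem_smul_top_of_one_tmul_eq_zero {P M : Type*} [CommRing P] [IsLocalRing P] [AddCommGroup M]
    [Module P M] (x : M) (hx : (1 : ResidueField P) ⊗ₜ[P] x = 0) :
    x ∈ maximalIdeal P • (⊤ : Submodule P M) := by
  have h2 : TensorProduct.quotTensorEquivQuotSMul M (maximalIdeal P)
      ((1 : P ⧸ maximalIdeal P) ⊗ₜ[P] x) = Submodule.Quotient.mk x :=
    TensorProduct.quotTensorEquivQuotSMul_mk_one_tmul _ x
  have h : (Submodule.Quotient.mk x : M ⧸ maximalIdeal P • (⊤ : Submodule P M)) = 0 := by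
    rw [← h2]
    exact (LinearEquiv.map_eq_zero_iff _).mpr hx
  exact (Submodule.Quotient.mk_eq_zero _).mp h

/-- **Key lemma.** If `y ∈ ker σ` has `1 ⊗ dy = 0` in `κ ⊗ Ω[P/A]`, then `y ∈ 𝔪 · ker σ`. -/
theorem mem_mul_ker_of_one_tmul_D_eq_zero [IsLocalRing P] [Nontrivial A] (y : P)
    (hy : y ∈ RingHom.ker σ) (hD : (1 : ResidueField P) ⊗ₜ[P] D A P y = 0) :
    y ∈ maximalIdeal P * RingHom.ker σ := by
  have h𝔪 : RingHom.ker σ ≤ maximalIdeal P :=
    le_maximalIdeal (RingHom.ker_ne_top σ.toRingHom)
  let Φ : Ω[P⁄A] →ₗ[P] V σ (maximalIdeal P) := (δ σ (maximalIdeal P) h𝔪).liftKaehlerDifferential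
  have h1 : D A P y ∈ maximalIdeal P • (⊤ : Submodule P Ω[P⁄A]) :=
    mem_smul_top_of_one_tmul_eq_zero _ hD
  have h2 : Φ (D A P y) ∈ maximalIdeal P • (⊤ : Submodule P (V σ (maximalIdeal P))) := by
    have := Submodule.mem_map_of_mem (f := Φ) h1
    rw [Submodule.map_smul''] at this
    exact Submodule.smul_mono le_rfl le_top this
  have h3 : maximalIdeal P • (⊤ : Submodule P (V σ (maximalIdeal P))) = ⊥ := by
    rw [eq_bot_iff]
    refine Submodule.smul_le.mpr fun a ha v _ => ?_
    obtain ⟨n, rfl⟩ := Submodule.Quotient.mk_surjective _ v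
    rw [Submodule.mem_bot, ← Submodule.Quotient.mk_smul, Submodule.Quotient.mk_eq_zero]
    exact Submodule.smul_mem_smul ha Submodule.mem_top
  rw [h3, Submodule.mem_bot] at h2
  have h4 : Φ (D A P y) = Submodule.Quotient.mk ⟨y, hy⟩ := by
    change (δ σ (maximalIdeal P) h𝔪).liftKaehlerDifferential (D A P y) = _
    rw [Derivation.liftKaehlerDifferential_comp_D, δ_apply]
    congr 1
    ext
    have : σ y = 0 := hy
    simp [this]
  rw [h4, Submodule.Quotient.mk_eq_zero] at h2
  have h5 := Submodule.mem_map_of_mem (f := (RingHom.ker σ).subtype) h2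
  rw [Submodule.map_smul'', Submodule.map_top, Submodule.range_subtype] at h5
  exact h5

end Derivation

section Core

open Groth.Agent.Lib.Helper51.JacobianSlice

lemma one_tmul_smul {P M : Type*} [CommRing P] [IsLocalRing P] [AddCommGroup M] [Module P M]
    (a : P) (ω : M) :
    (1 : ResidueField P) ⊗ₜ[P] (a • ω) = residue P a • ((1 : ResidueField P) ⊗ₜ[P] ω) := by
  rw [TensorProduct.tmul_smul, TensorProduct.smul_tmul', TensorProduct.smul_tmul', smul_eq_mul,
    mul_one, Algebra.smul_def, mul_one]
  rfl

/-- **Core**: a regular local quotient `P/J` of a regular local, formally smooth `A`-algebra `P` such that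
`J` is contained in the kernel of an `A`-retraction `σ : P → A`, is formally smooth over `A`. -/
theorem formallySmooth_quotient_of_section {A P : Type u} [CommRing A] [CommRing P] [Algebra A P]
    [Nontrivial A] [IsRegularLocalRing P]
    [Algebra.FormallySmooth A P] [Module.Free P Ω[P⁄A]] [Module.Finite P Ω[P⁄A]]
    (σ : P →ₐ[A] A) (J : Ideal P) (hJ : J ≤ RingHom.ker σ) [IsRegularLocalRing (P ⧸ J)] :
    Algebra.FormallySmooth A (P ⧸ J) := by
  classical
  obtain ⟨d, hd⟩ := Groth.Agent.Lib.Helper52.exists_nat_ringKrullDim P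
  obtain ⟨x, c, hc, hspan, hJ'⟩ :=
    Groth.Agent.Lib.Helper52.exists_generators_of_regular_quotient_regular d P hd J
  have hxm : ∀ i, x i ∈ maximalIdeal P := fun i => hspan ▸ Ideal.subset_span ⟨i, rfl⟩
  -- the images of the `x i` in the cotangent space are linearly independent
  let v : Fin d → CotangentSpace P := fun i => (maximalIdeal P).toCotangent ⟨x i, hxm i⟩
  have hv : LinearIndependent (ResidueField P) v := by
    apply linearIndependent_of_top_le_span_of_card_eq_finrank
    · have h1 : Submodule.span P (Set.range (fun i => (⟨x i, hxm i⟩ : maximalIdeal P))) = ⊤ := by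
        apply Submodule.map_injective_of_injective (maximalIdeal P).subtype_injective
        rw [Submodule.map_span, Submodule.map_top, Submodule.range_subtype, ← Set.range_comp]
        exact hspan
      have h2 := (CotangentSpace.span_image_eq_top_iff (R := P)).mpr h1
      rw [← Set.range_comp] at h2
      exact h2.ge
    · have h1 := (IsRegularLocalRing.iff_finrank_cotangentSpace P).mp inferInstance
      rw [hd] at h1
      rw [Fintype.card_fin]
      exact_mod_cast h1.symm
  have hv' : LinearIndependent (ResidueField P) (fun i : Fin c => v (Fin.castLE hc i)) :=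
    hv.comp _ (Fin.castLE_injective hc)
  let j : Fin c → P := fun i => x (Fin.castLE hc i)
  have hj : ∀ i, j i ∈ maximalIdeal P := fun i => hxm _
  have hli : LinearIndependent (ResidueField P)
      (fun i => (1 : ResidueField P) ⊗ₜ[P] D A P (j i)) := by
    rw [Fintype.linearIndependent_iff]
    intro g hg
    choose a ha using fun i => residue_surjective (g i)
    have hyJ : (∑ i, a i * j i) ∈ J := by
      rw [hJ']
      exact Ideal.sum_mem _ fun i _ => Ideal.mul_mem_left _ _ (Ideal.subset_span ⟨i, rfl⟩)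
    have hDy : (1 : ResidueField P) ⊗ₜ[P] D A P (∑ i, a i * j i) = 0 := by
      rw [map_sum, TensorProduct.tmul_sum, ← hg]
      refine Finset.sum_congr rfl fun i _ => ?_
      rw [Derivation.leibniz, TensorProduct.tmul_add, one_tmul_smul, one_tmul_smul, ha,
        (residue_eq_zero_iff _).mpr (hj i), zero_smul, add_zero]
    have hy2 : (∑ i, a i * j i) ∈ maximalIdeal P * RingHom.ker σ :=
      mem_mul_ker_of_one_tmul_D_eq_zero σ _ (hJ hyJ) hDy
    have hker : RingHom.ker σ ≤ maximalIdeal P := le_maximalIdeal (RingHom.ker_ne_top σ.toRingHom)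
    have hzm : (∑ i, a i * j i) ∈ maximalIdeal P ^ 2 := by
      rw [pow_two]
      exact Ideal.mul_mono_right hker hy2
    have hzm' : (∑ i, a i * j i) ∈ maximalIdeal P := Ideal.pow_le_self two_ne_zero hzm
    have h0 : (maximalIdeal P).toCotangent ⟨_, hzm'⟩ = 0 :=
      (Ideal.toCotangent_eq_zero _ _).mpr hzm
    have h1 : (⟨∑ i, a i * j i, hzm'⟩ : maximalIdeal P) =
        ∑ i, a i • (⟨j i, hj i⟩ : maximalIdeal P) := by
      ext
      simp
    rw [h1, map_sum] at h0
    have h2 : ∑ i, residue P (a i) • v (Fin.castLE hc i) = 0 := by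
      rw [← h0]
      refine Finset.sum_congr rfl fun i _ => ?_
      rw [map_smul]
      rfl
    have h3 := Fintype.linearIndependent_iff.mp hv' (fun i => residue P (a i)) h2
    intro i
    rw [← ha i]
    exact h3 i
  subst hJ'
  exact formallySmooth_quotient_of_linearIndependent j hj hli

end Core

section EssFP

/-- A regular local `A`-algebra `S` with an `A`-retraction `S → A`, which is a localization of a quotient
of a polynomial ring over the regular ring `A`, is formally smooth over `A`. -/
theorem formallySmooth_of_section {A S : Type u} [CommRing A] [CommRing S] [Algebra A S]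
    [IsRegularRing A] [IsRegularLocalRing S] (σ : S →ₐ[A] A) (n : ℕ)
    (g : MvPolynomial (Fin n) A →ₐ[A] S)
    (hg : ∀ s : S, ∃ a b : MvPolynomial (Fin n) A, IsUnit (g b) ∧ s * g b = g a) :
    Algebra.FormallySmooth A S := by
  haveI : Nontrivial A := (algebraMap A S).domain_nontrivial
  let Q : Ideal (MvPolynomial (Fin n) A) := (maximalIdeal S).comap g.toRingHom
  haveI hQ : Q.IsPrime := Ideal.comap_isPrime _ _
  let P := Localization.AtPrime Q
  have hunits : ∀ y : Q.primeCompl, IsUnit (g y) := by
    rintro ⟨y, hy⟩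
    by_contra h
    exact hy ((mem_maximalIdeal _).mpr h)
  let fP : P →ₐ[A] S := IsLocalization.liftAlgHom (M := Q.primeCompl) (f := g) hunits
  have hsurj : Function.Surjective fP := by
    intro s
    obtain ⟨a, b, hb, hab⟩ := hg s
    have hbQ : b ∈ Q.primeCompl := fun hbQ => (mem_maximalIdeal _).mp hbQ hb
    refine ⟨IsLocalization.mk' P a ⟨b, hbQ⟩, ?_⟩
    change IsLocalization.lift hunits (IsLocalization.mk' P a ⟨b, hbQ⟩) = s
    rw [IsLocalization.lift_mk'_spec]
    exact hab.symm.trans (mul_comm _ _)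
  algebraize [fP.toRingHom]
  haveI : IsScalarTower A P S := IsScalarTower.of_algebraMap_eq' fP.comp_algebraMap.symm
  haveI : Algebra.FormallyEtale (MvPolynomial (Fin n) A) P := .of_isLocalization Q.primeCompl
  haveI : Algebra.FormallySmooth A P := .comp _ (MvPolynomial (Fin n) A) _
  haveI : Module.Free P Ω[P⁄A] :=
    .of_equiv (KaehlerDifferential.tensorKaehlerEquivOfFormallyEtale A (MvPolynomial (Fin n) A) P)
  haveI : Module.Finite P Ω[P⁄A] :=
    Module.Finite.equiv
      (KaehlerDifferential.tensorKaehlerEquivOfFormallyEtale A (MvPolynomial (Fin n) A) P)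
  let J : Ideal P := RingHom.ker (algebraMap P S)
  let e : (P ⧸ J) ≃ₐ[A] S :=
    Ideal.quotientKerAlgEquivOfSurjective (f := IsScalarTower.toAlgHom A P S) hsurj
  haveI : IsRegularLocalRing (P ⧸ J) := IsRegularLocalRing.of_ringEquiv e.symm.toRingEquiv
  let σP : P →ₐ[A] A := σ.comp (IsScalarTower.toAlgHom A P S)
  have hJ : J ≤ RingHom.ker σP := by
    intro z hz
    rw [RingHom.mem_ker] at hz ⊢
    change σ (algebraMap P S z) = 0
    rw [hz, map_zero]
  haveI := formallySmooth_quotient_of_section σP J hJ
  exact Algebra.FormallySmooth.of_equiv (A := P ⧸ J) e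

end EssFP

section AtPrime

/-- Ring-level form: `C₁` of finite type over `R₁` with an `R₁`-retraction `σ : C₁ → R₁`; at a prime
`q = σ⁻¹(p₁)` where `C₁` is regular and `(R₁)_{p₁}` is a regular ring, `C₁` is smooth over `R₁`. -/
theorem isSmoothAt_of_section {R₁ C₁ : Type u} [CommRing R₁] [CommRing C₁] [Algebra R₁ C₁]
    [Algebra.FiniteType R₁ C₁]
    (σ : C₁ →ₐ[R₁] R₁) (p₁ : Ideal R₁) [p₁.IsPrime] (q : Ideal C₁) [q.IsPrime]
    (hq : q = p₁.comap σ.toRingHom) [IsRegularRing (Localization.AtPrime p₁)]
    [IsRegularLocalRing (Localization.AtPrime q)] :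
    Algebra.IsSmoothAt R₁ q := by
  have hσalg : σ.toRingHom.comp (algebraMap R₁ C₁) = RingHom.id R₁ := by
    ext r
    exact σ.commutes r
  haveI hlo : q.LiesOver p₁ := ⟨by
    rw [Ideal.under_def, hq, Ideal.comap_comap, hσalg, Ideal.comap_id]⟩
  letI algAB : Algebra (Localization.AtPrime p₁) (Localization.AtPrime q) :=
    Localization.AtPrime.algebraOfLiesOver p₁ q
  let σB0 : Localization.AtPrime q →+* Localization.AtPrime p₁ :=
    Localization.localRingHom q p₁ σ.toRingHom hq
  have hσ : σB0.comp (algebraMap (Localization.AtPrime p₁) (Localization.AtPrime q)) =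
      RingHom.id _ := by
    apply IsLocalization.ringHom_ext p₁.primeCompl
    ext r
    simp only [RingHom.comp_apply, RingHom.id_apply]
    rw [← IsScalarTower.algebraMap_apply R₁ (Localization.AtPrime p₁) (Localization.AtPrime q),
      IsScalarTower.algebraMap_apply R₁ C₁ (Localization.AtPrime q)]
    change Localization.localRingHom q p₁ σ.toRingHom hq (algebraMap _ _ (algebraMap R₁ C₁ r)) = _
    rw [Localization.localRingHom_to_map]
    congr 1
    exact σ.commutes r
  let σB : Localization.AtPrime q →ₐ[Localization.AtPrime p₁] Localization.AtPrime p₁ :=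
    { σB0 with commutes' := fun a => congrArg (fun φ => φ a) hσ }
  obtain ⟨n, f₀, hf₀⟩ := Algebra.FiniteType.iff_quotient_mvPolynomial''.mp
    (inferInstance : Algebra.FiniteType R₁ C₁)
  let g : MvPolynomial (Fin n) (Localization.AtPrime p₁) →ₐ[Localization.AtPrime p₁]
      Localization.AtPrime q :=
    MvPolynomial.aeval (fun i => algebraMap C₁ (Localization.AtPrime q) (f₀ (MvPolynomial.X i)))
  have hgmap : ∀ c' : MvPolynomial (Fin n) R₁,
      g (MvPolynomial.map (algebraMap R₁ (Localization.AtPrime p₁)) c') =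
        algebraMap C₁ (Localization.AtPrime q) (f₀ c') := by
    intro c'
    induction c' using MvPolynomial.induction_on with
    | C r =>
      rw [MvPolynomial.map_C, ← MvPolynomial.algebraMap_eq, AlgHom.commutes,
        ← MvPolynomial.algebraMap_eq, AlgHom.commutes,
        ← IsScalarTower.algebraMap_apply R₁ (Localization.AtPrime p₁) (Localization.AtPrime q),
        IsScalarTower.algebraMap_apply R₁ C₁ (Localization.AtPrime q)]
    | add a b ha hb => rw [map_add, map_add, ha, hb, map_add, map_add]
    | mul_X a i ha =>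
      rw [map_mul, map_mul, ha, MvPolynomial.map_X, map_mul, map_mul]
      congr 1
      exact MvPolynomial.aeval_X _ i
  have hg : ∀ s : Localization.AtPrime q, ∃ a b : MvPolynomial (Fin n) (Localization.AtPrime p₁),
      IsUnit (g b) ∧ s * g b = g a := by
    intro s
    obtain ⟨c, u, rfl⟩ := IsLocalization.exists_mk'_eq q.primeCompl s
    obtain ⟨c', rfl⟩ := hf₀ c
    obtain ⟨u', hu'⟩ := hf₀ u
    refine ⟨MvPolynomial.map (algebraMap R₁ (Localization.AtPrime p₁)) c',
      MvPolynomial.map (algebraMap R₁ (Localization.AtPrime p₁)) u', ?_, ?_⟩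
    · rw [hgmap, hu']
      exact IsLocalization.map_units _ u
    · rw [hgmap, hgmap, hu']
      exact IsLocalization.mk'_spec _ _ _
  haveI := formallySmooth_of_section σB n g hg
  exact (Algebra.FormallySmooth.iff_restrictScalars (R := R₁) (A := Localization.AtPrime p₁)
    (B := Localization.AtPrime q)).mpr this

end AtPrime

end Groth.Agent.Lib.Helper51.RegularSection
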