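import Mathlib
import Groth.Agent.Lib.Helper51.EtaleCoord

/-!
# Étale coordinates vanishing along a section (helper51)

`A → B` finitely presented, smooth at the prime `q`, with an `A`-algebra retraction `σ : B → A`.
Then there are `g_1, …, g_m ∈ ker σ` and `h ∉ q` with `A[X_1..X_m] → B_h`, `X_j ↦ g_j`, étale.
-/

set_option autoImplicit false
universe u
open TensorProduct IsLocalRing KaehlerDifferential

namespace Groth.Agent.Lib.Helper51.SectionCoord

open Groth.Agent.Lib.Helper51.EtaleCoord

theorem exists_etale_coordinates_of_section {A B : Type u} [CommRing A] [CommRing B] [Algebra A B]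
    [Algebra.FinitePresentation A B] (σ : B →ₐ[A] A) (q : Ideal B) [q.IsPrime]
    [Algebra.IsSmoothAt A q] :
    ∃ (m : ℕ) (g : Fin m → B) (h : B), (∀ j, σ (g j) = 0) ∧ h ∉ q ∧
      ∀ (B' : Type u) [CommRing B'] [Algebra B B'] [IsLocalization.Away h B'],
        ((algebraMap B B').comp ((MvPolynomial.aeval (R := A)
          (fun j : ULift.{u} (Fin m) => g j.down) :
            MvPolynomial (ULift.{u} (Fin m)) A →ₐ[A] B) :
              MvPolynomial (ULift.{u} (Fin m)) A →+* B)).Etale := by
  classical
  set P := Localization.AtPrime q with hP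
  haveI : Algebra.FormallySmooth A P := ‹Algebra.IsSmoothAt A q›
  haveI : Algebra.EssFiniteType B P := Algebra.EssFiniteType.of_isLocalization P q.primeCompl
  haveI : Algebra.EssFiniteType A P := Algebra.EssFiniteType.comp A B P
  haveI : Module.Finite P Ω[P⁄A] := inferInstance
  obtain ⟨m, g₁, hli, hsp⟩ := exists_extension_to_basis (R := A) q.primeCompl P
    (Fin.elim0 : Fin 0 → B) linearIndependent_empty_type
  let g : Fin m → B := fun j => g₁ j - algebraMap A B (σ (g₁ j))
  have hσ : ∀ j, σ (g j) = 0 := by
    intro j
    change σ (g₁ j - algebraMap A B (σ (g₁ j))) = 0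
    rw [map_sub, AlgHom.commutes, Algebra.algebraMap_self, RingHom.id_apply, sub_self]
  have hD : ∀ j, D A P (algebraMap B P (g j)) = D A P (algebraMap B P (g₁ j)) := by
    intro j
    change D A P (algebraMap B P (g₁ j - algebraMap A B (σ (g₁ j)))) = _
    rw [map_sub, map_sub, ← IsScalarTower.algebraMap_apply A B P, Derivation.map_algebraMap,
      sub_zero]
  let ι := ULift.{u} (Fin m)
  let e : ι → Fin 0 ⊕ Fin m := fun j => Sum.inr j.down
  have he_inj : Function.Injective e := fun a b hab => by
    have := Sum.inr_injective hab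
    exact ULift.ext _ _ this
  have he_surj : Function.Surjective e := by
    rintro (a | b)
    · exact a.elim0
    · exact ⟨ULift.up b, rfl⟩
  let T := MvPolynomial ι A
  letI algTB : Algebra T B :=
    (MvPolynomial.aeval (fun j : ι => g j.down) : T →ₐ[A] B).toRingHom.toAlgebra
  haveI : IsScalarTower A T B :=
    IsScalarTower.of_algebraMap_eq'
      (MvPolynomial.aeval (fun j : ι => g j.down)).comp_algebraMap.symm
  have hX : ∀ o : ι, algebraMap T B (MvPolynomial.X o) = g o.down :=
    fun o => MvPolynomial.aeval_X _ o
  have hfun : (fun o : ι => (1 : ResidueField P) ⊗ₜ[P]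
      D A P (algebraMap B P (algebraMap T B (MvPolynomial.X o)))) =
      (fun i : Fin 0 ⊕ Fin m => (1 : ResidueField P) ⊗ₜ[P]
        D A P (algebraMap B P (Sum.elim (Fin.elim0 : Fin 0 → B) g₁ i))) ∘ e := by
    funext o
    rw [hX, hD]
    rfl
  obtain ⟨h, hh, hEt⟩ := exists_etale_coordinates (R := A) q P (ι := ι)
    (by rw [hfun]; exact hli.comp e he_inj)
    (by rw [hfun, he_surj.range_comp]; exact hsp)
  refine ⟨m, g, h, hσ, hh, ?_⟩
  intro B' _ _ _
  let eB : Localization.Away h ≃ₐ[B] B' := IsLocalization.algEquiv (.powers h) _ _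
  have hcomp : (algebraMap B B').comp ((MvPolynomial.aeval (R := A)
      (fun j : ι => g j.down) : T →ₐ[A] B) : T →+* B) =
      (eB : Localization.Away h ≃+* B').toRingHom.comp (algebraMap T (Localization.Away h)) := by
    ext x
    · change algebraMap B B' (algebraMap T B (MvPolynomial.C x)) =
        eB (algebraMap T (Localization.Away h) (MvPolynomial.C x))
      rw [IsScalarTower.algebraMap_apply T B (Localization.Away h), AlgEquiv.commutes]
    · change algebraMap B B' (algebraMap T B (MvPolynomial.X x)) =
        eB (algebraMap T (Localization.Away h) (MvPolynomial.X x))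
      rw [IsScalarTower.algebraMap_apply T B (Localization.Away h), AlgEquiv.commutes]
  rw [hcomp]
  exact RingHom.Etale.respectsIso.1 _ _ (RingHom.etale_algebraMap.mpr hEt)

end Groth.Agent.Lib.Helper51.SectionCoord
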