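import Mathlib
import Groth.Agent.Lib.Helper51.EtaleCoord

/-!
# Smooth divisors through a point (helper51)

`R → B` finitely presented, `B_q` formally smooth over `R`, `h ∈ B` with `1 ⊗ dh ≠ 0` in
`κ(q) ⊗ Ω[B_q/R]`. Then for some `f ∉ q`, `h` is a nonzerodivisor of `B_f` and `B_f/(h)` is smooth
over `R`.  The proof completes `h` to a system of étale coordinates.
-/

set_option autoImplicit false
open TensorProduct IsLocalRing KaehlerDifferential

namespace Groth.Agent.Lib.Helper51.SmoothDivisor

open Groth.Agent.Lib.Helper51.EtaleCoord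

section Poly

variable (R : Type*) [CommRing R] (σ : Type*)

theorem X_none_mem_nonZeroDivisors :
    (MvPolynomial.X none : MvPolynomial (Option σ) R) ∈ nonZeroDivisors (MvPolynomial (Option σ) R) := by
  rw [mem_nonZeroDivisors_iff_right]
  intro x hx
  have h1 := congrArg (MvPolynomial.optionEquivLeft R σ) hx
  rw [map_mul, MvPolynomial.optionEquivLeft_X_none, map_zero] at h1
  have h2 := (mem_nonZeroDivisors_iff_right.mp
    (Polynomial.X_mem_nonzeroDivisors (R := MvPolynomial σ R))) _ h1
  exact (MvPolynomial.optionEquivLeft R σ).injective (by rw [h2, map_zero])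

theorem smooth_quotient_X_none [Finite σ] :
    Algebra.Smooth R (MvPolynomial (Option σ) R ⧸
      Ideal.span {(MvPolynomial.X none : MvPolynomial (Option σ) R)}) := by
  let e₁ := MvPolynomial.optionEquivLeft R σ
  let I : Ideal (MvPolynomial (Option σ) R) := Ideal.span {MvPolynomial.X none}
  let I' : Ideal (Polynomial (MvPolynomial σ R)) :=
    Ideal.span {Polynomial.X - Polynomial.C (0 : MvPolynomial σ R)}
  have hI : I' = I.map (e₁ : MvPolynomial (Option σ) R →+* Polynomial (MvPolynomial σ R)) := by
    change Ideal.span _ = Ideal.map _ (Ideal.span _)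
    rw [Ideal.map_span, Set.image_singleton, map_zero, sub_zero]
    congr 2
    exact (MvPolynomial.optionEquivLeft_X_none R σ).symm
  let e₂ : (MvPolynomial (Option σ) R ⧸ I) ≃ₐ[R] (Polynomial (MvPolynomial σ R) ⧸ I') :=
    Ideal.quotientEquivAlg I I' e₁ hI
  let e₃ : (Polynomial (MvPolynomial σ R) ⧸ I') ≃ₐ[R] MvPolynomial σ R :=
    (Polynomial.quotientSpanXSubCAlgEquiv (0 : MvPolynomial σ R)).restrictScalars R
  haveI : Algebra.Smooth R (MvPolynomial σ R) := ⟨inferInstance, inferInstance⟩
  exact Algebra.Smooth.of_equiv (e₂.trans e₃).symm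

end Poly

section Main

variable {R B : Type*} [CommRing R] [CommRing B] [Algebra R B]

/-- **Smooth divisor**: `R → B` finitely presented, `P = B_q` formally smooth over `R`, `h ∈ B` with
`1 ⊗ dh ≠ 0` in `κ ⊗ Ω[P/R]`. Then for some `f ∉ q`, `h` is a nonzerodivisor of `B_f` and `B_f/(h)` is
smooth over `R`. -/
theorem exists_smooth_divisor [Algebra.FinitePresentation R B] (q : Ideal B) [q.IsPrime]
    (P : Type*) [CommRing P] [Algebra B P] [Algebra R P] [IsScalarTower R B P]
    [IsLocalization.AtPrime P q] [IsLocalRing P] [Algebra.FormallySmooth R P]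
    (h : B) (hd : (1 : ResidueField P) ⊗ₜ[P] D R P (algebraMap B P h) ≠ 0) :
    ∃ f : B, f ∉ q ∧
      algebraMap B (Localization.Away f) h ∈ nonZeroDivisors (Localization.Away f) ∧
      Algebra.Smooth R
        (Localization.Away f ⧸ Ideal.span {algebraMap B (Localization.Away f) h}) := by
  classical
  haveI : Algebra.EssFiniteType B P := Algebra.EssFiniteType.of_isLocalization P q.primeCompl
  haveI : Algebra.EssFiniteType R P := Algebra.EssFiniteType.comp R B P
  haveI : Module.Finite P Ω[P⁄R] := inferInstance
  let g₀ : Unit → B := fun _ => h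
  have hli₀ : LinearIndependent (ResidueField P)
      (fun i => (1 : ResidueField P) ⊗ₜ[P] D R P (algebraMap B P (g₀ i))) :=
    linearIndependent_unique_iff.mpr hd
  obtain ⟨m, g₁, hli, hsp⟩ := exists_extension_to_basis (R := R) q.primeCompl P g₀ hli₀
  let e : Option (Fin m) ≃ Unit ⊕ Fin m :=
    { toFun := fun o => o.elim (Sum.inl ()) Sum.inr
      invFun := Sum.elim (fun _ => none) some
      left_inv := by rintro (_ | j) <;> rfl
      right_inv := by rintro (_ | j) <;> rfl }
  let g : Option (Fin m) → B := fun o => Sum.elim g₀ g₁ (e o)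
  have hgnone : g none = h := rfl
  let T := MvPolynomial (Option (Fin m)) R
  letI algTB : Algebra T B := (MvPolynomial.aeval g : T →ₐ[R] B).toRingHom.toAlgebra
  haveI : IsScalarTower R T B := IsScalarTower.of_algebraMap_eq' (MvPolynomial.aeval g).comp_algebraMap.symm
  have hX : ∀ o, algebraMap T B (MvPolynomial.X o) = g o := fun o => MvPolynomial.aeval_X g o
  have hfun : (fun o : Option (Fin m) => (1 : ResidueField P) ⊗ₜ[P]
      D R P (algebraMap B P (algebraMap T B (MvPolynomial.X o)))) =
      (fun i : Unit ⊕ Fin m => (1 : ResidueField P) ⊗ₜ[P]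
        D R P (algebraMap B P (Sum.elim g₀ g₁ i))) ∘ e := by
    funext o
    rw [hX]
    rfl
  have hli' : LinearIndependent (ResidueField P) (fun o : Option (Fin m) =>
      (1 : ResidueField P) ⊗ₜ[P] D R P (algebraMap B P (algebraMap T B (MvPolynomial.X o)))) := by
    rw [hfun]
    exact hli.comp e e.injective
  have hsp' : Submodule.span (ResidueField P) (Set.range fun o : Option (Fin m) =>
      (1 : ResidueField P) ⊗ₜ[P] D R P (algebraMap B P (algebraMap T B (MvPolynomial.X o)))) = ⊤ := by
    rw [hfun, e.surjective.range_comp]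
    exact hsp
  obtain ⟨f, hf, hEt⟩ := exists_etale_coordinates (R := R) q P hli' hsp'
  refine ⟨f, hf, ?_, ?_⟩
  · -- nonzerodivisor
    haveI : Module.Flat T (Localization.Away f) := inferInstance
    have hreg : IsSMulRegular (Localization.Away f) (MvPolynomial.X none : T) :=
      Module.Flat.isSMulRegular_of_nonZeroDivisors (X_none_mem_nonZeroDivisors R (Fin m))
    rw [mem_nonZeroDivisors_iff_right]
    intro x hx
    apply hreg
    change (MvPolynomial.X none : T) • x = (MvPolynomial.X none : T) • (0 : Localization.Away f)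
    rw [smul_zero, Algebra.smul_def, IsScalarTower.algebraMap_apply T B (Localization.Away f), hX,
      hgnone, mul_comm]
    exact hx
  · -- smooth
    let p : Ideal T := Ideal.span {MvPolynomial.X none}
    have hI : p.map (algebraMap T (Localization.Away f)) =
        Ideal.span {algebraMap B (Localization.Away f) h} := by
      change Ideal.map _ (Ideal.span _) = _
      rw [Ideal.map_span, Set.image_singleton,
        IsScalarTower.algebraMap_apply T B (Localization.Away f), hX, hgnone]
    rw [← hI]
    let e' : ((T ⧸ p) ⊗[T] Localization.Away f) ≃ₐ[T ⧸ p]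
        (Localization.Away f ⧸ p.map (algebraMap T (Localization.Away f))) :=
      (Algebra.TensorProduct.quotIdealMapEquivQuotTensor (Localization.Away f) p).symm
    haveI : Algebra.Etale (T ⧸ p) (Localization.Away f ⧸ p.map (algebraMap T (Localization.Away f))) :=
      Algebra.Etale.of_equiv (A := (T ⧸ p) ⊗[T] Localization.Away f) e'
    haveI : Algebra.Smooth R (T ⧸ p) := smooth_quotient_X_none R (Fin m)
    exact Algebra.Smooth.comp R (T ⧸ p) _

end Main

end Groth.Agent.Lib.Helper51.SmoothDivisor
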