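import Mathlib
import Groth.Agent.Lib.Helper51.SmoothDivisor

/-!
# Smooth Cartier divisors through a point of a smooth morphism (helper51)
-/

set_option autoImplicit false
universe u
open CategoryTheory CategoryTheory.Limits AlgebraicGeometry IsLocalRing TensorProduct

namespace Groth.Agent.Lib.Helper51.SmoothDivisorSch

variable {X S : Scheme.{u}}

/-- If `f` is smooth on the open `W`, then `f.appLE V U` is smooth for affine opens `U ≤ W`, `V`. -/
theorem smooth_appLE_of_le (f : X ⟶ S) (W : X.Opens) (hW : Smooth (W.ι ≫ f))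
    {V : S.Opens} (hV : IsAffineOpen V) {U : X.Opens} (hU : IsAffineOpen U) (hUW : U ≤ W)
    (e : U ≤ f ⁻¹ᵁ V) : (f.appLE V U e).hom.Smooth := by
  have h1 : Smooth (U.ι ≫ f) := by
    rw [← X.homOfLE_ι hUW, Category.assoc]
    infer_instance
  have h2 : Smooth (f.resLE V U e ≫ V.ι) := by
    rw [Scheme.Hom.resLE_comp_ι]
    exact h1
  have h3 : Smooth (f.resLE V U e) :=
    MorphismProperty.of_postcomp (W := @Smooth) (W' := @IsOpenImmersion) _ V.ι inferInstance h2
  have : IsAffine V.toScheme := hV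
  have : IsAffine U.toScheme := hU
  rw [HasRingHomProperty.iff_of_isAffine (P := @Smooth)] at h3
  exact (RingHom.Smooth.respectsIso.arrow_mk_iso_iff (arrowResLEAppIso f V U e)).mp h3

/-- Affine charts around `x` carrying a section with given germ. -/
theorem exists_affine_charts_germ (f : X ⟶ S) (x : X) (W : X.Opens) (hxW : x ∈ W)
    (h : ↑(X.presheaf.stalk x)) :
    ∃ (V : S.Opens) (_ : IsAffineOpen V) (U : X.Opens) (_ : IsAffineOpen U) (_ : U ≤ W)
      (_ : U ≤ f ⁻¹ᵁ V) (hx : x ∈ U) (h₀ : Γ(X, U)), X.presheaf.germ U x hx h₀ = h := by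
  obtain ⟨_, ⟨V, hV, rfl⟩, hsV, -⟩ :=
    S.isBasis_affineOpens.exists_subset_of_mem_open (Set.mem_univ (f x)) isOpen_univ
  have hx0 : x ∈ W ⊓ f ⁻¹ᵁ V := ⟨hxW, hsV⟩
  obtain ⟨U₁, hU₁, hxU₁, s, hs⟩ := X.presheaf.exists_le_germ_eq h hx0
  obtain ⟨_, ⟨U, hU, rfl⟩, hxU, hUU₁⟩ :=
    X.isBasis_affineOpens.exists_subset_of_mem_open hxU₁ U₁.2
  have hUU₁' : U ≤ U₁ := hUU₁
  refine ⟨V, hV, U, hU, hUU₁'.trans (hU₁.trans inf_le_left), hUU₁'.trans (hU₁.trans inf_le_right),
    hxU, X.presheaf.map (homOfLE hUU₁').op s, ?_⟩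
  rw [TopCat.Presheaf.germ_res_apply]
  exact hs

open KaehlerDifferential in
/-- Core statement: the differential is taken over `Γ(S, V)`. -/
theorem exists_smooth_divisor_of_section (f : X ⟶ S) (x : X) (W : X.Opens)
    (hW : Smooth (W.ι ≫ f)) {V : S.Opens} (hV : IsAffineOpen V) {U₀ : X.Opens}
    (hU₀ : IsAffineOpen U₀) (hU₀W : U₀ ≤ W) (e : U₀ ≤ f ⁻¹ᵁ V) (hx : x ∈ U₀) (h₀ : Γ(X, U₀))
    (hd : letI := ((X.presheaf.germ U₀ x hx).hom.comp (f.appLE V U₀ e).hom).toAlgebra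
      (1 : ResidueField ↑(X.presheaf.stalk x)) ⊗ₜ[↑(X.presheaf.stalk x)]
        D Γ(S, V) ↑(X.presheaf.stalk x) (X.presheaf.germ U₀ x hx h₀) ≠ 0) :
    ∃ (U : X.Opens) (hU : IsAffineOpen U) (_ : x ∈ U) (hUU₀ : U ≤ U₀),
      X.presheaf.map (homOfLE hUU₀).op h₀ ∈ nonZeroDivisors Γ(X, U) ∧
      Smooth (Spec.map (CommRingCat.ofHom (Ideal.Quotient.mk
        (Ideal.span {(X.presheaf.map (homOfLE hUU₀).op h₀ : Γ(X, U))}))) ≫ hU.fromSpec ≫ f) := by
  have hsm := smooth_appLE_of_le f W hW hV hU₀ hU₀W e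
  algebraize [(f.appLE V U₀ e).hom]
  let q : Ideal Γ(X, U₀) := (hU₀.primeIdealOf ⟨x, hx⟩).asIdeal
  let algBS : Algebra Γ(X, U₀) (X.presheaf.stalk x) := X.presheaf.algebra_section_stalk ⟨x, hx⟩
  have hloc : IsLocalization.AtPrime (X.presheaf.stalk x) q := hU₀.isLocalization_stalk ⟨x, hx⟩
  let algRS : Algebra Γ(S, V) (X.presheaf.stalk x) :=
    ((algebraMap Γ(X, U₀) (X.presheaf.stalk x)).comp (algebraMap Γ(S, V) Γ(X, U₀))).toAlgebra
  have : IsScalarTower Γ(S, V) Γ(X, U₀) (X.presheaf.stalk x) := .of_algebraMap_eq' rfl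
  have : Algebra.FormallySmooth Γ(X, U₀) (X.presheaf.stalk x) :=
    Algebra.FormallySmooth.of_isLocalization q.primeCompl
  have : Algebra.FormallySmooth Γ(S, V) (X.presheaf.stalk x) :=
    Algebra.FormallySmooth.comp _ Γ(X, U₀) _
  obtain ⟨g, hg, hnzd, hsmooth⟩ :=
    Groth.Agent.Lib.Helper51.SmoothDivisor.exists_smooth_divisor (R := Γ(S, V)) q
      (X.presheaf.stalk x) h₀ hd
  have hUU₀ : X.basicOpen g ≤ U₀ := X.basicOpen_le g
  have hU : IsAffineOpen (X.basicOpen g) := hU₀.basicOpen g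
  have hxU : x ∈ X.basicOpen g := by
    rw [Scheme.mem_basicOpen X g x hx]
    exact IsLocalization.map_units (X.presheaf.stalk x) (⟨g, hg⟩ : q.primeCompl)
  have hlocg : IsLocalization.Away g Γ(X, X.basicOpen g) := hU₀.isLocalization_basicOpen g
  let eg : Localization.Away g ≃ₐ[Γ(X, U₀)] Γ(X, X.basicOpen g) :=
    IsLocalization.algEquiv (.powers g) _ _
  have heg : eg (algebraMap Γ(X, U₀) (Localization.Away g) h₀) =
      X.presheaf.map (homOfLE hUU₀).op h₀ := by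
    rw [AlgEquiv.commutes]
    rfl
  refine ⟨X.basicOpen g, hU, hxU, hUU₀, ?_, ?_⟩
  · rw [mem_nonZeroDivisors_iff_right]
    intro y hy
    have h1 : eg.symm y * algebraMap Γ(X, U₀) (Localization.Away g) h₀ = 0 := by
      apply eg.injective
      rw [map_mul, eg.apply_symm_apply, heg, hy, map_zero]
    have h2 := (mem_nonZeroDivisors_iff_right.mp hnzd) _ h1
    exact eg.symm.injective (by rw [h2, map_zero])
  · let algRU : Algebra Γ(S, V) Γ(X, X.basicOpen g) :=
      ((algebraMap Γ(X, U₀) Γ(X, X.basicOpen g)).comp (algebraMap Γ(S, V) Γ(X, U₀))).toAlgebra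
    have : IsScalarTower Γ(S, V) Γ(X, U₀) Γ(X, X.basicOpen g) := .of_algebraMap_eq' rfl
    let I : Ideal (Localization.Away g) :=
      Ideal.span {algebraMap Γ(X, U₀) (Localization.Away g) h₀}
    let I' : Ideal Γ(X, X.basicOpen g) := Ideal.span {X.presheaf.map (homOfLE hUU₀).op h₀}
    have hII' : I' = I.map ((eg.restrictScalars Γ(S, V) :
        Localization.Away g ≃ₐ[Γ(S, V)] Γ(X, X.basicOpen g)) :
          Localization.Away g →+* Γ(X, X.basicOpen g)) := by
      change Ideal.span _ = Ideal.map _ (Ideal.span _)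
      rw [Ideal.map_span, Set.image_singleton]
      congr 2
      exact heg.symm
    let eq : (Localization.Away g ⧸ I) ≃ₐ[Γ(S, V)] (Γ(X, X.basicOpen g) ⧸ I') :=
      Ideal.quotientEquivAlg I I' (eg.restrictScalars Γ(S, V)) hII'
    have hsm' : Algebra.Smooth Γ(S, V) (Γ(X, X.basicOpen g) ⧸ I') := Algebra.Smooth.of_equiv eq
    have hUV : X.basicOpen g ≤ f ⁻¹ᵁ V := hUU₀.trans e
    have hfac : hU.fromSpec ≫ f = Spec.map (f.appLE V (X.basicOpen g) hUV) ≫ hV.fromSpec :=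
      (IsAffineOpen.SpecMap_appLE_fromSpec f hV hU hUV).symm
    rw [hfac, ← Category.assoc, ← Spec.map_comp]
    have hring : (f.appLE V (X.basicOpen g) hUV ≫ CommRingCat.ofHom (Ideal.Quotient.mk I')) =
        CommRingCat.ofHom (algebraMap Γ(S, V) (Γ(X, X.basicOpen g) ⧸ I')) := by
      rw [← Scheme.Hom.appLE_map f e (homOfLE hUU₀).op]
      rfl
    change Smooth (Spec.map (f.appLE V (X.basicOpen g) hUV ≫
      CommRingCat.ofHom (Ideal.Quotient.mk I')) ≫ hV.fromSpec)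
    rw [hring]
    have : Smooth (Spec.map (CommRingCat.ofHom
        (algebraMap Γ(S, V) (Γ(X, X.basicOpen g) ⧸ I')))) :=
      HasRingHomProperty.Spec_iff.mpr (RingHom.smooth_algebraMap.mpr hsm')
    infer_instance

open KaehlerDifferential in
/-- **Smooth Cartier divisor with prescribed germ** (differential over the local ring of the base). -/
theorem exists_smooth_divisor_of_germ (f : X ⟶ S) (x : X) (W : X.Opens) (hxW : x ∈ W)
    (hW : Smooth (W.ι ≫ f)) (h : ↑(X.presheaf.stalk x))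
    (hd : letI := (f.stalkMap x).hom.toAlgebra
      (1 : ResidueField ↑(X.presheaf.stalk x)) ⊗ₜ[↑(X.presheaf.stalk x)]
          (D ↑(S.presheaf.stalk (f x)) ↑(X.presheaf.stalk x) h) ≠ 0) :
    ∃ (U : X.Opens) (hU : IsAffineOpen U) (hx : x ∈ U) (h' : Γ(X, U)),
      X.presheaf.germ U x hx h' = h ∧ h' ∈ nonZeroDivisors Γ(X, U) ∧
      Smooth (Spec.map (CommRingCat.ofHom (Ideal.Quotient.mk (Ideal.span {h'}))) ≫
        hU.fromSpec ≫ f) := by
  obtain ⟨V, hV, U₀, hU₀, hU₀W, e, hx, h₀, hh₀⟩ := exists_affine_charts_germ f x W hxW h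
  have hd' : letI := ((X.presheaf.germ U₀ x hx).hom.comp (f.appLE V U₀ e).hom).toAlgebra
      (1 : ResidueField ↑(X.presheaf.stalk x)) ⊗ₜ[↑(X.presheaf.stalk x)]
        D Γ(S, V) ↑(X.presheaf.stalk x) (X.presheaf.germ U₀ x hx h₀) ≠ 0 := by
    intro h0
    apply hd
    letI algΛ : Algebra ↑(S.presheaf.stalk (f x)) ↑(X.presheaf.stalk x) :=
      (f.stalkMap x).hom.toAlgebra
    letI algR : Algebra Γ(S, V) ↑(X.presheaf.stalk x) :=
      ((X.presheaf.germ U₀ x hx).hom.comp (f.appLE V U₀ e).hom).toAlgebra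
    letI algRΛ : Algebra Γ(S, V) ↑(S.presheaf.stalk (f x)) :=
      (S.presheaf.germ V (f x) (e hx)).hom.toAlgebra
    have h2 : S.presheaf.germ V (f x) (e hx) ≫ f.stalkMap x =
        f.appLE V U₀ e ≫ X.presheaf.germ U₀ x hx := by
      rw [Scheme.Hom.germ_stalkMap, Scheme.Hom.appLE, Category.assoc]
      congr 1
      exact (X.presheaf.germ_res _ _ _).symm
    haveI : IsScalarTower Γ(S, V) ↑(S.presheaf.stalk (f x)) ↑(X.presheaf.stalk x) :=
      IsScalarTower.of_algebraMap_eq' (by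
        have := congrArg CommRingCat.Hom.hom h2
        simp only [CommRingCat.hom_comp] at this
        exact this.symm)
    have h3 := congrArg (LinearMap.lTensor (ResidueField ↑(X.presheaf.stalk x))
      (KaehlerDifferential.map Γ(S, V) ↑(S.presheaf.stalk (f x)) ↑(X.presheaf.stalk x)
        ↑(X.presheaf.stalk x))) h0
    rw [LinearMap.lTensor_tmul, KaehlerDifferential.map_D, map_zero, Algebra.algebraMap_self,
      RingHom.id_apply, hh₀] at h3
    exact h3
  obtain ⟨U, hU, hxU, hUU₀, hnzd, hsm⟩ :=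
    exists_smooth_divisor_of_section f x W hW hV hU₀ hU₀W e hx h₀ hd'
  refine ⟨U, hU, hxU, X.presheaf.map (homOfLE hUU₀).op h₀, ?_, hnzd, hsm⟩
  rw [TopCat.Presheaf.germ_res_apply]
  exact hh₀

end Groth.Agent.Lib.Helper51.SmoothDivisorSch
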