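import Mathlib
import Groth.Agent.Lib.Helper51.SectionCoord
import Groth.Agent.Lib.Helper51.AffineSpaceChart
import Groth.Agent.Lib.Helper51.SmoothDivisorSch

/-!
# Étale charts carrying a section to the zero section (helper51)

`f : X ⟶ Y` locally of finite presentation with a section `i`. Then `f` is smooth at `i y` iff there
are opens `y ∈ U`, `i(U) ⊆ V ⊆ f⁻¹(U)` and functions on `V` vanishing along `i(U)` defining an étale
`U`-morphism `V ⟶ 𝔸ᵐ_U`.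
-/

set_option autoImplicit false
universe u
open CategoryTheory CategoryTheory.Limits AlgebraicGeometry TopologicalSpace

namespace Groth.Agent.Lib.Helper51.SectionChartSch

open Groth.Agent.Lib.Helper51.SmoothDivisorSch Groth.Agent.Lib.Helper51.AffineSpaceChart
  Groth.Agent.Lib.Helper51.SectionCoord

variable {X Y : Scheme.{u}}

/-- `f` restricted to its smooth locus is smooth. -/
theorem smooth_smoothLocus_ι (f : X ⟶ Y) [LocallyOfFinitePresentation f] :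
    Smooth (f.smoothLocus.ι ≫ f) := by
  rw [← Scheme.Hom.smoothLocus_eq_top_iff, ← Scheme.Hom.preimage_smoothLocus_eq]
  exact Scheme.Opens.ι_preimage_self _

lemma appLE_eq_id_of_eq_id (g : Y ⟶ Y) (hg : g = 𝟙 Y) (U : Y.Opens) (e : U ≤ g ⁻¹ᵁ U) :
    g.appLE U U e = 𝟙 _ := by
  subst hg
  simp only [Scheme.Hom.appLE, Scheme.Hom.id_app, Category.id_comp]
  exact Y.presheaf.map_id _

/-- If some neighbourhood of `x` maps étale to an affine space over an open of `Y`, then `f` is smooth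
at `x`. -/
theorem mem_smoothLocus_of_etale_chart (f : X ⟶ Y) [LocallyOfFinitePresentation f] (x : X)
    (U : Y.Opens) (V : X.Opens) (hxV : x ∈ V) (hVU : V ≤ f ⁻¹ᵁ U) (n : Type u) [Finite n]
    (v : n → Γ(V.toScheme, ⊤))
    (h : Etale (AffineSpace.homOfVector (f.resLE U V hVU) v)) : x ∈ f.smoothLocus := by
  have h1 : Smooth (f.resLE U V hVU) := by
    rw [← AffineSpace.homOfVector_over (f.resLE U V hVU) v]
    infer_instance
  have h2 : Smooth (V.ι ≫ f) := by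
    rw [← Scheme.Hom.resLE_comp_ι f hVU]
    infer_instance
  have h3 : V.ι ⁻¹ᵁ f.smoothLocus = ⊤ := by
    rw [Scheme.Hom.preimage_smoothLocus_eq, Scheme.Hom.smoothLocus_eq_top]
  have h4 : (⟨x, hxV⟩ : V.toScheme) ∈ V.ι ⁻¹ᵁ f.smoothLocus := by
    rw [h3]
    trivial
  exact h4

/-- **Étale chart along a section.** -/
theorem exists_etale_chart_of_section (f : X ⟶ Y) [LocallyOfFinitePresentation f] (i : Y ⟶ X)
    (hi : i ≫ f = 𝟙 Y) (y : Y) (hy : i y ∈ f.smoothLocus) :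
    ∃ (U : Y.Opens) (V : X.Opens) (_ : y ∈ U) (hUV : U ≤ i ⁻¹ᵁ V) (hVU : V ≤ f ⁻¹ᵁ U) (m : ℕ)
      (v : ULift.{u} (Fin m) → Γ(V.toScheme, ⊤)),
      Etale (AffineSpace.homOfVector (f.resLE U V hVU) v) ∧
        ∀ j, (i.resLE V U hUV).appTop (v j) = 0 := by
  have hfi : ∀ z : Y, f (i z) = z := fun z => by
    rw [← Scheme.Hom.comp_apply, hi]
    rfl
  set W := f.smoothLocus with hWdef
  have hW : Smooth (W.ι ≫ f) := smooth_smoothLocus_ι f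
  -- charts
  obtain ⟨_, ⟨U₀, hU₀, rfl⟩, hyU₀, -⟩ :=
    Y.isBasis_affineOpens.exists_subset_of_mem_open (Set.mem_univ y) isOpen_univ
  have hx0 : i y ∈ W ⊓ f ⁻¹ᵁ U₀ := ⟨hy, by
    change f (i y) ∈ U₀
    rw [hfi]
    exact hyU₀⟩
  obtain ⟨_, ⟨V₀, hV₀, rfl⟩, hxV₀, hV₀le⟩ :=
    X.isBasis_affineOpens.exists_subset_of_mem_open hx0 (W ⊓ f ⁻¹ᵁ U₀).2
  have hV₀W : V₀ ≤ W := fun z hz => (hV₀le hz).1
  have e₀ : V₀ ≤ f ⁻¹ᵁ U₀ := fun z hz => (hV₀le hz).2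
  have hy0 : y ∈ U₀ ⊓ i ⁻¹ᵁ V₀ := ⟨hyU₀, hxV₀⟩
  obtain ⟨a, haV, hya⟩ := hU₀.exists_basicOpen_le (V := U₀ ⊓ i ⁻¹ᵁ V₀) ⟨y, hy0⟩ hyU₀
  set U₁ := Y.basicOpen a with hU₁def
  have hU₁ : IsAffineOpen U₁ := hU₀.basicOpen a
  set V₁ := X.basicOpen (f.appLE U₀ V₀ e₀ a) with hV₁def
  have hV₁ : IsAffineOpen V₁ := hV₀.basicOpen _
  have hV₁eq : V₁ = V₀ ⊓ f ⁻¹ᵁ U₁ := by
    rw [hV₁def, Scheme.Hom.appLE, CommRingCat.comp_apply, Scheme.basicOpen_res,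
      Scheme.Hom.preimage_basicOpen]
  have hV₁V₀ : V₁ ≤ V₀ := hV₁eq ▸ inf_le_left
  have e₁ : V₁ ≤ f ⁻¹ᵁ U₁ := hV₁eq ▸ inf_le_right
  have e₁' : U₁ ≤ i ⁻¹ᵁ V₁ := by
    intro z hz
    change i z ∈ V₁
    rw [hV₁eq]
    refine ⟨(haV hz).2, ?_⟩
    change f (i z) ∈ U₁
    rw [hfi]
    exact hz
  have hxV₁ : i y ∈ V₁ := e₁' hya
  -- the rings
  have hsm := smooth_appLE_of_le f W hW hU₁ hV₁ (hV₁V₀.trans hV₀W) e₁
  have hretr : f.appLE U₁ V₁ e₁ ≫ i.appLE V₁ U₁ e₁' = 𝟙 _ := by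
    rw [Scheme.Hom.appLE_comp_appLE]
    exact appLE_eq_id_of_eq_id _ hi _ _
  algebraize [(f.appLE U₁ V₁ e₁).hom]
  let σ : Γ(X, V₁) →ₐ[Γ(Y, U₁)] Γ(Y, U₁) :=
    { (i.appLE V₁ U₁ e₁').hom with
      commutes' := fun r => by
        have := congrArg (fun φ => φ.hom r) hretr
        exact this }
  let q : Ideal Γ(X, V₁) := (hV₁.primeIdealOf ⟨i y, hxV₁⟩).asIdeal
  haveI : Algebra.IsSmoothAt Γ(Y, U₁) q := inferInstanceAs (Algebra.IsSmoothAt _ _)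
  obtain ⟨m, g, h, hσ, hh, hEt⟩ := exists_etale_coordinates_of_section σ q
  -- the open `V₂ = D(h)`
  set V₂ := X.basicOpen h with hV₂def
  have hV₂ : IsAffineOpen V₂ := hV₁.basicOpen h
  have hV₂V₁ : V₂ ≤ V₁ := X.basicOpen_le h
  have hxV₂ : i y ∈ V₂ := by
    letI algBS : Algebra Γ(X, V₁) (X.presheaf.stalk (i y)) :=
      X.presheaf.algebra_section_stalk ⟨i y, hxV₁⟩
    have hloc : IsLocalization.AtPrime (X.presheaf.stalk (i y)) q :=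
      hV₁.isLocalization_stalk ⟨i y, hxV₁⟩
    rw [hV₂def, Scheme.mem_basicOpen X h (i y) hxV₁]
    exact IsLocalization.map_units (X.presheaf.stalk (i y)) (⟨h, hh⟩ : q.primeCompl)
  have e₂ : V₂ ≤ f ⁻¹ᵁ U₁ := hV₂V₁.trans e₁
  have hlocB : IsLocalization.Away h Γ(X, V₂) := hV₁.isLocalization_basicOpen h
  have hψe := hEt Γ(X, V₂)
  set ψ : MvPolynomial (ULift.{u} (Fin m)) Γ(Y, U₁) →+* Γ(X, V₂) :=
    (algebraMap Γ(X, V₁) Γ(X, V₂)).comp ((MvPolynomial.aeval (R := Γ(Y, U₁))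
      (fun j : ULift.{u} (Fin m) => g j.down) :
        MvPolynomial (ULift.{u} (Fin m)) Γ(Y, U₁) →ₐ[Γ(Y, U₁)] Γ(X, V₁)) :
          MvPolynomial (ULift.{u} (Fin m)) Γ(Y, U₁) →+* Γ(X, V₁)) with hψdef
  have hψC : ψ.comp MvPolynomial.C = (f.appLE U₁ V₂ e₂).hom := by
    ext r
    change algebraMap Γ(X, V₁) Γ(X, V₂) (MvPolynomial.aeval _ (MvPolynomial.C r)) = _
    rw [MvPolynomial.aeval_C, ← Scheme.Hom.appLE_map f e₁ (homOfLE hV₂V₁).op]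
    rfl
  have hψX : ∀ j, ψ (MvPolynomial.X j) = X.presheaf.map (homOfLE hV₂V₁).op (g j.down) := by
    intro j
    change algebraMap Γ(X, V₁) Γ(X, V₂) (MvPolynomial.aeval _ (MvPolynomial.X j)) = _
    rw [MvPolynomial.aeval_X]
    rfl
  have hG₂ := etale_homOfVector_chart f hV₂ hU₁ e₂ (ULift.{u} (Fin m)) ψ hψC hψe
  -- the final opens
  let U : Y.Opens := U₁ ⊓ i ⁻¹ᵁ V₂
  let V : X.Opens := V₂ ⊓ f ⁻¹ᵁ U
  have hyU : y ∈ U := ⟨hya, hxV₂⟩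
  have hUV₂ : U ≤ i ⁻¹ᵁ V₂ := inf_le_right
  have hUU₁ : U ≤ U₁ := inf_le_left
  have hUV : U ≤ i ⁻¹ᵁ V := by
    intro z hz
    refine ⟨hz.2, ?_⟩
    change f (i z) ∈ U
    rw [hfi]
    exact hz
  have hVU : V ≤ f ⁻¹ᵁ U := inf_le_right
  have hVV₂ : V ≤ V₂ := inf_le_left
  refine ⟨U, V, hyU, hUV, hVU, m,
    fun j => (X.homOfLE hVV₂).appTop (chartVector hV₂ (ULift.{u} (Fin m)) ψ j),
    etale_homOfVector_resLE f U V V₂ hVU hVV₂ _ hG₂, ?_⟩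
  intro j
  beta_reduce
  rw [chartVector_eq, hψX]
  have h1 : i.resLE V U hUV ≫ X.homOfLE hVV₂ = i.resLE V₂ U hUV₂ := Scheme.Hom.resLE_map i hUV hVV₂
  have h2 : (i.resLE V U hUV).appTop ((X.homOfLE hVV₂).appTop
      (V₂.topIso.inv (X.presheaf.map (homOfLE hV₂V₁).op (g j.down)))) =
      (i.resLE V₂ U hUV₂).appTop (V₂.topIso.inv (X.presheaf.map (homOfLE hV₂V₁).op (g j.down))) := by
    rw [← h1]
    rfl
  rw [h2]
  have h6 : (i.resLE V₂ U hUV₂).appTop = V₂.topIso.hom ≫ i.appLE V₂ U hUV₂ ≫ U.topIso.inv :=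
    Scheme.Hom.resLE_app_top i hUV₂
  rw [h6, CommRingCat.comp_apply, CommRingCat.comp_apply]
  have h3 : V₂.topIso.hom (V₂.topIso.inv (X.presheaf.map (homOfLE hV₂V₁).op (g j.down))) =
      X.presheaf.map (homOfLE hV₂V₁).op (g j.down) :=
    congrArg (fun φ => φ.hom (X.presheaf.map (homOfLE hV₂V₁).op (g j.down))) V₂.topIso.inv_hom_id
  rw [h3]
  have h4 : i.appLE V₂ U hUV₂ (X.presheaf.map (homOfLE hV₂V₁).op (g j.down)) =
      Y.presheaf.map (homOfLE hUU₁).op (i.appLE V₁ U₁ e₁' (g j.down)) := by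
    rw [← CommRingCat.comp_apply, ← CommRingCat.comp_apply, Scheme.Hom.map_appLE,
      Scheme.Hom.appLE_map]
  have h5 : i.appLE V₁ U₁ e₁' (g j.down) = 0 := hσ j.down
  rw [h4, h5, map_zero, map_zero]

end Groth.Agent.Lib.Helper51.SectionChartSch
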