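import Mathlib
import Groth.Agent.Lib.Helper51.RegularSection
import Groth.Agent.Lib.Helper51.SectionChartSch

/-!
# Sections of regular schemes over Dedekind domains land in the smooth locus (helper51)
-/

set_option autoImplicit false
universe u
open CategoryTheory CategoryTheory.Limits AlgebraicGeometry TopologicalSpace

namespace Groth.Agent.Lib.Helper51.RegularSectionSch

open Groth.Agent.Lib.Helper51.RegularSection Groth.Agent.Lib.Helper51.SectionChartSch

/-- The local rings of affine opens of `Spec R`, `R` Dedekind, at their primes are regular rings. -/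
theorem isRegularRing_localization_primeIdealOf {R : Type u} [CommRing R] [IsDedekindDomain R]
    (U : (Spec (CommRingCat.of R)).Opens) (hU : IsAffineOpen U) (t : U) :
    IsRegularRing (Localization.AtPrime (hU.primeIdealOf t).asIdeal) := by
  let k : Algebra R ((Spec (CommRingCat.of R)).presheaf.stalk t.1) :=
    StructureSheaf.stalkAlgebra R t.1
  have h1 : IsLocalization.AtPrime ((Spec (CommRingCat.of R)).presheaf.stalk t.1) t.1.asIdeal :=
    StructureSheaf.IsLocalization.to_stalk R t.1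
  let e2 : Localization.AtPrime t.1.asIdeal ≃+* (Spec (CommRingCat.of R)).presheaf.stalk t.1 :=
    (IsLocalization.algEquiv t.1.asIdeal.primeCompl _ _).toRingEquiv
  letI := (Spec (CommRingCat.of R)).presheaf.algebra_section_stalk t
  have h2 : IsLocalization.AtPrime ((Spec (CommRingCat.of R)).presheaf.stalk t.1)
      (hU.primeIdealOf t).asIdeal := hU.isLocalization_stalk t
  let e1 : (Spec (CommRingCat.of R)).presheaf.stalk t.1 ≃+*
      Localization.AtPrime (hU.primeIdealOf t).asIdeal :=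
    (IsLocalization.algEquiv (hU.primeIdealOf t).asIdeal.primeCompl _ _).toRingEquiv
  exact IsRegularRing.of_ringEquiv (e2.trans e1)

theorem section_mem_smoothLocus {R : Type u} [CommRing R] [IsDedekindDomain R]
    {X : Scheme.{u}} (p : X ⟶ Spec (CommRingCat.of R)) [LocallyOfFinitePresentation p]
    (hreg : ∀ x : X, IsRegularLocalRing (X.presheaf.stalk x))
    (s : Spec (CommRingCat.of R) ⟶ X) (hs : s ≫ p = 𝟙 _) (t : Spec (CommRingCat.of R)) :
    s t ∈ p.smoothLocus := by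
  have hfi : ∀ z, p (s z) = z := fun z => by
    rw [← Scheme.Hom.comp_apply, hs]
    rfl
  -- charts
  obtain ⟨_, ⟨U₀, hU₀, rfl⟩, hyU₀, -⟩ :=
    (Spec (CommRingCat.of R)).isBasis_affineOpens.exists_subset_of_mem_open
      (Set.mem_univ t) isOpen_univ
  have hx0 : s t ∈ p ⁻¹ᵁ U₀ := by
    change p (s t) ∈ U₀
    rw [hfi]
    exact hyU₀
  obtain ⟨_, ⟨V₀, hV₀, rfl⟩, hxV₀, e₀⟩ :=
    X.isBasis_affineOpens.exists_subset_of_mem_open hx0 (p ⁻¹ᵁ U₀).2
  have hy0 : t ∈ U₀ ⊓ s ⁻¹ᵁ V₀ := ⟨hyU₀, hxV₀⟩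
  obtain ⟨a, haV, hya⟩ := hU₀.exists_basicOpen_le (V := U₀ ⊓ s ⁻¹ᵁ V₀) ⟨t, hy0⟩ hyU₀
  set U₁ := (Spec (CommRingCat.of R)).basicOpen a with hU₁def
  have hU₁ : IsAffineOpen U₁ := hU₀.basicOpen a
  set V₁ := X.basicOpen (p.appLE U₀ V₀ e₀ a) with hV₁def
  have hV₁ : IsAffineOpen V₁ := hV₀.basicOpen _
  have hV₁eq : V₁ = V₀ ⊓ p ⁻¹ᵁ U₁ := by
    rw [hV₁def, Scheme.Hom.appLE, CommRingCat.comp_apply, Scheme.basicOpen_res,
      Scheme.Hom.preimage_basicOpen]
  have e₁ : V₁ ≤ p ⁻¹ᵁ U₁ := hV₁eq ▸ inf_le_right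
  have e₁' : U₁ ≤ s ⁻¹ᵁ V₁ := by
    intro z hz
    change s z ∈ V₁
    rw [hV₁eq]
    refine ⟨(haV hz).2, ?_⟩
    change p (s z) ∈ U₁
    rw [hfi]
    exact hz
  have hxV₁ : s t ∈ V₁ := e₁' hya
  -- the rings
  have hretr : p.appLE U₁ V₁ e₁ ≫ s.appLE V₁ U₁ e₁' = 𝟙 _ := by
    rw [Scheme.Hom.appLE_comp_appLE]
    exact appLE_eq_id_of_eq_id _ hs _ _
  have hfp := p.finitePresentation_appLE hU₁ hV₁ e₁
  algebraize [(p.appLE U₁ V₁ e₁).hom]
  haveI : Algebra.FiniteType Γ(Spec (CommRingCat.of R), U₁) Γ(X, V₁) := inferInstance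
  let σ : Γ(X, V₁) →ₐ[Γ(Spec (CommRingCat.of R), U₁)] Γ(Spec (CommRingCat.of R), U₁) :=
    { (s.appLE V₁ U₁ e₁').hom with
      commutes' := fun r => by
        have := congrArg (fun φ => φ.hom r) hretr
        exact this }
  let q : Ideal Γ(X, V₁) := (hV₁.primeIdealOf ⟨s t, hxV₁⟩).asIdeal
  let p₁ : Ideal Γ(Spec (CommRingCat.of R), U₁) := (hU₁.primeIdealOf ⟨t, hya⟩).asIdeal
  have hq : q = p₁.comap σ.toRingHom := by
    have h := IsAffineOpen.comap_primeIdealOf_appLE (f := s) V₁ hV₁ U₁ hU₁ e₁' hya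
    exact congrArg PrimeSpectrum.asIdeal h.symm
  haveI : IsRegularRing (Localization.AtPrime p₁) :=
    isRegularRing_localization_primeIdealOf U₁ hU₁ ⟨t, hya⟩
  haveI : IsRegularLocalRing (Localization.AtPrime q) := by
    letI := X.presheaf.algebra_section_stalk ⟨s t, hxV₁⟩
    have hloc : IsLocalization.AtPrime (X.presheaf.stalk (s t)) q :=
      hV₁.isLocalization_stalk ⟨s t, hxV₁⟩
    haveI := hreg (s t)
    exact IsRegularLocalRing.of_ringEquiv
      (IsLocalization.algEquiv q.primeCompl (X.presheaf.stalk (s t))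
        (Localization.AtPrime q)).toRingEquiv
  have hsm : Algebra.IsSmoothAt Γ(Spec (CommRingCat.of R), U₁) q :=
    isSmoothAt_of_section σ p₁ q hq
  rw [Scheme.Hom.mem_smoothLocus, formallySmooth_stalkMap_iff U₁ hU₁ V₁ hV₁ e₁ hxV₁]
  exact hsm

end Groth.Agent.Lib.Helper51.RegularSectionSch
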