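import Mathlib
import Groth.Prelude.Def_MoreMor
import Groth.Agent.Lib.Helper51.GeomConn
import Groth.Agent.Lib.Helper51.GeomFibreBC

/-!
# Connected components through a rational point and base change (helper51)

* `isConnected_preimage_range_of_isPullback`: for a cartesian square `P = X ×_S Spec K` and
  `g : Z ⟶ X` with `Z` geometrically connected over `S`, the preimage in `P` of the image of `g` is
  connected.
* `isConnected_preimage_connectedComponent_of_section`: if `F` is a `k`-scheme with a `k`-point `p`,
  the preimage of the connected component of `p` under any base change `F_K ⟶ F` is connected.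
-/

set_option autoImplicit false
set_option linter.style.haveILetI false
universe u
open CategoryTheory CategoryTheory.Limits AlgebraicGeometry

namespace Groth.Agent.Lib.Helper51

theorem isConnected_preimage_range_of_isPullback {K : Type u} [Field K] {P X S Z : Scheme.{u}}
    {fst : P ⟶ X} {snd : P ⟶ Spec (CommRingCat.of K)} {f : X ⟶ S}
    {t : Spec (CommRingCat.of K) ⟶ S} (h : IsPullback fst snd f t) (g : Z ⟶ X)
    [GeometricallyConnected (g ≫ f)] : _root_.IsConnected (fst ⁻¹' Set.range g) := by
  have s1 : IsPullback (pullback.snd g fst) (pullback.fst g fst) fst g :=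
    (IsPullback.of_hasPullback g fst).flip
  have big := (s1.paste_horiz h.flip).flip
  haveI : ConnectedSpace ↥(pullback g fst) :=
    GeometricallyConnected.geometrically_connectedSpace (f := g ≫ f) _ _ _ big
  rw [← Scheme.Pullback.range_snd g fst]
  exact isConnected_range (pullback.snd g fst).continuous

theorem isConnected_preimage_connectedComponent_of_section {k K : Type u} [Field k] [Field K]
    {F F' : Scheme.{u}} (φ : F ⟶ Spec (CommRingCat.of k)) (h : Spec (CommRingCat.of k) ⟶ F)
    (hh : h ≫ φ = 𝟙 _) {m : F' ⟶ F} {snd : F' ⟶ Spec (CommRingCat.of K)}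
    {t : Spec (CommRingCat.of K) ⟶ Spec (CommRingCat.of k)} (hP : IsPullback m snd φ t)
    (pt : ↥(Spec (CommRingCat.of k))) :
    _root_.IsConnected (m ⁻¹' connectedComponent (h pt)) := by
  set p := h pt with hp
  let I := Scheme.IdealSheafData.vanishingIdeal
    ⟨connectedComponent p, isClosed_connectedComponent⟩
  have hrange : Set.range I.subschemeι = connectedComponent p := by
    rw [Scheme.IdealSheafData.range_subschemeι]
    exact Scheme.IdealSheafData.coe_support_vanishingIdeal _
  -- `Z` is connected
  haveI : ConnectedSpace ↥I.subscheme := by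
    have hne : Nonempty ↥I.subscheme := by
      have : p ∈ Set.range I.subschemeι := by rw [hrange]; exact mem_connectedComponent
      obtain ⟨z, -⟩ := this
      exact ⟨z⟩
    rw [connectedSpace_iff_univ]
    refine ⟨Set.univ_nonempty, ?_⟩
    rw [← I.subschemeι.isEmbedding.isInducing.isPreconnected_image, Set.image_univ, hrange]
    exact isPreconnected_connectedComponent
  -- the rational point lifts to `Z`
  have hsub : Subsingleton ↥(Spec (CommRingCat.of k)) :=
    inferInstanceAs (Subsingleton (PrimeSpectrum k))
  haveI : Surjective (pullback.snd I.subschemeι h) := by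
    refine ⟨fun q => ?_⟩
    have : p ∈ Set.range I.subschemeι := by rw [hrange]; exact mem_connectedComponent
    obtain ⟨z, hz⟩ := this
    obtain ⟨w, -, hw⟩ := Scheme.Pullback.exists_preimage_pullback (f := I.subschemeι) (g := h)
      z pt hz
    exact ⟨w, Subsingleton.elim _ _⟩
  haveI : AlgebraicGeometry.IsReduced (Spec (CommRingCat.of k)) := inferInstance
  haveI : IsIso (pullback.snd I.subschemeι h) :=
    isIso_of_isClosedImmersion_of_surjective _
  let l : Spec (CommRingCat.of k) ⟶ I.subscheme :=
    inv (pullback.snd I.subschemeι h) ≫ pullback.fst I.subschemeι h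
  have hl : l ≫ I.subschemeι = h := by
    rw [Category.assoc, pullback.condition, IsIso.inv_hom_id_assoc]
  haveI : GeometricallyConnected (I.subschemeι ≫ φ) := by
    refine geometricallyConnected_of_fieldPoint (I.subschemeι ≫ φ) k l ?_ ?_
    · rw [← Category.assoc, hl, hh]
      have : CommRingCat.ofHom (algebraMap k k) = 𝟙 (CommRingCat.of k) := rfl
      rw [this, Spec.map_id]
    · intro a _
      exact ⟨a, rfl⟩
  have := isConnected_preimage_range_of_isPullback hP I.subschemeι
  rwa [hrange] at this

end Groth.Agent.Lib.Helper51
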