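import Mathlib
import Groth.Agent.Lib.Helper51.JacobianSmooth

/-!
# Differentials at a point with separable residue field, not generic in its fibre (helper51)

`Λ → P` local homomorphism, `P` formally smooth and essentially of finite type over `Λ`, `κ(P)` formally
smooth over `κ(Λ)`. If `𝔪_Λ P ≠ 𝔪_P` there is `y ∈ 𝔪_P` with `1 ⊗ dy ≠ 0` in `κ(P) ⊗ Ω[P/Λ]`.
-/

set_option autoImplicit false
open TensorProduct IsLocalRing KaehlerDifferential

namespace Groth.Agent.Lib.Helper51.SepFibre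

open Groth.Agent.Lib.Helper51.JacobianSmooth

section Fibre

variable {Λ P : Type*} [CommRing Λ] [CommRing P] [IsLocalRing Λ] [IsLocalRing P] [Algebra Λ P]
  [IsLocalHom (algebraMap Λ P)]

/-- In a local ring with finitely generated nonzero maximal ideal there is `y ∈ 𝔪` with `1 ⊗ y ≠ 0` in
`κ ⊗ 𝔪`. -/
theorem exists_one_tmul_ne_zero {F : Type*} [CommRing F] [IsLocalRing F]
    (hfg : (maximalIdeal F).FG) (hne : maximalIdeal F ≠ ⊥) :
    ∃ y : maximalIdeal F, (1 : ResidueField F) ⊗ₜ[F] y ≠ 0 := by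
  by_contra hcon
  push_neg at hcon
  apply hne
  have hsub : Subsingleton (ResidueField F ⊗[F] maximalIdeal F) := by
    refine ⟨fun a b => ?_⟩
    have h0 : ∀ v : ResidueField F ⊗[F] maximalIdeal F, v = 0 := by
      intro v
      induction v using TensorProduct.induction_on with
      | zero => rfl
      | add x y hx hy => rw [hx, hy, add_zero]
      | tmul k y =>
        obtain ⟨a, rfl⟩ := residue_surjective k
        have : (residue F a) ⊗ₜ[F] y = (1 : ResidueField F) ⊗ₜ[F] (a • y) := by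
          rw [← smul_tmul, Algebra.smul_def, mul_one]
          rfl
        rw [this, hcon]
    rw [h0 a, h0 b]
  haveI : Module.Finite F (maximalIdeal F) := Module.Finite.iff_fg.mpr hfg
  have h1 : Subsingleton (maximalIdeal F) :=
    IsLocalRing.subsingleton_tensorProduct.mp hsub
  rw [eq_bot_iff]
  intro x hx
  have : (⟨x, hx⟩ : maximalIdeal F) = 0 := Subsingleton.elim _ _
  exact congrArg Subtype.val this

end Fibre

section Main

variable (Λ P : Type*) [CommRing Λ] [CommRing P] [IsLocalRing Λ] [IsLocalRing P] [Algebra Λ P]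

/-- the closed fibre ring `P / 𝔪_Λ P`. -/
abbrev Fib : Type _ := P ⧸ (maximalIdeal Λ).map (algebraMap Λ P)

noncomputable local instance algFib : Algebra (ResidueField Λ) (Fib Λ P) :=
  inferInstanceAs (Algebra (Λ ⧸ maximalIdeal Λ) (P ⧸ (maximalIdeal Λ).map (algebraMap Λ P)))

local instance towerFib : IsScalarTower Λ (ResidueField Λ) (Fib Λ P) :=
  inferInstanceAs (IsScalarTower Λ (Λ ⧸ maximalIdeal Λ)
    (P ⧸ (maximalIdeal Λ).map (algebraMap Λ P)))

local instance formallySmoothFib [Algebra.FormallySmooth Λ P] :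
    Algebra.FormallySmooth (ResidueField Λ) (Fib Λ P) :=
  Algebra.FormallySmooth.of_equiv
    (R := Λ ⧸ maximalIdeal Λ) (A := (Λ ⧸ maximalIdeal Λ) ⊗[Λ] P)
    (B := P ⧸ (maximalIdeal Λ).map (algebraMap Λ P))
    (Algebra.TensorProduct.quotIdealMapEquivQuotTensor P (maximalIdeal Λ)).symm

local instance essFiniteTypeFib [Algebra.EssFiniteType Λ P] :
    Algebra.EssFiniteType (ResidueField Λ) (Fib Λ P) :=
  inferInstanceAs (Algebra.EssFiniteType (Λ ⧸ maximalIdeal Λ)
    (P ⧸ (maximalIdeal Λ).map (algebraMap Λ P)))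

variable [IsLocalHom (algebraMap Λ P)]

/-- `κ(P) → (P/𝔪_Λ P)/𝔪`. -/
noncomputable def resHom [IsLocalRing (Fib Λ P)] :
    ResidueField P →ₐ[ResidueField Λ] (Fib Λ P ⧸ maximalIdeal (Fib Λ P)) :=
  { Ideal.Quotient.lift (maximalIdeal P)
      ((Ideal.Quotient.mk (maximalIdeal (Fib Λ P))).comp (algebraMap P (Fib Λ P)))
      (fun a ha => by
        rw [RingHom.comp_apply, Ideal.Quotient.eq_zero_iff_mem, mem_maximalIdeal, mem_nonunits_iff]
        intro hu
        have hloc : IsLocalHom (algebraMap P (Fib Λ P)) :=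
          IsLocalHom.of_surjective _ Ideal.Quotient.mk_surjective
        exact ((mem_maximalIdeal a).mp ha) (hloc.map_nonunit a hu)) with
    commutes' := fun r => by
      obtain ⟨a, rfl⟩ := residue_surjective r
      rfl }

theorem resHom_bijective [IsLocalRing (Fib Λ P)] : Function.Bijective (resHom Λ P) := by
  constructor
  · exact (resHom Λ P).toRingHom.injective
  · intro x
    obtain ⟨y, rfl⟩ := Ideal.Quotient.mk_surjective x
    obtain ⟨z, rfl⟩ := Ideal.Quotient.mk_surjective y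
    exact ⟨residue P z, rfl⟩

variable {Λ P}

theorem exists_one_tmul_D_ne_zero
    [Algebra.FormallySmooth Λ P] [Algebra.EssFiniteType Λ P]
    [Algebra.FormallySmooth (ResidueField Λ) (ResidueField P)]
    (hne : (maximalIdeal Λ).map (algebraMap Λ P) ≠ maximalIdeal P) :
    ∃ y ∈ maximalIdeal P, (1 : ResidueField P) ⊗ₜ[P] D Λ P y ≠ 0 := by
  classical
  have h𝔫le : (maximalIdeal Λ).map (algebraMap Λ P) ≤ maximalIdeal P :=
    map_maximalIdeal_le (algebraMap Λ P)
  haveI : Nontrivial (Fib Λ P) :=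
    Ideal.Quotient.nontrivial_iff.mpr (fun h => (maximalIdeal.isMaximal P).ne_top
      (top_le_iff.mp (h ▸ h𝔫le)))
  haveI : IsLocalRing (Fib Λ P) :=
    IsLocalRing.of_surjective' (Ideal.Quotient.mk _) Ideal.Quotient.mk_surjective
  haveI hloc : IsLocalHom (algebraMap P (Fib Λ P)) :=
    IsLocalHom.of_surjective _ Ideal.Quotient.mk_surjective
  haveI : IsNoetherianRing (Fib Λ P) :=
    Algebra.EssFiniteType.isNoetherianRing (ResidueField Λ) (Fib Λ P)
  haveI : Module.Finite (Fib Λ P) Ω[Fib Λ P⁄ResidueField Λ] := inferInstance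
  haveI : Module.Free (Fib Λ P) Ω[Fib Λ P⁄ResidueField Λ] := Module.free_of_flat_of_isLocalRing
  haveI : Algebra.FormallySmooth (ResidueField Λ) (Fib Λ P ⧸ maximalIdeal (Fib Λ P)) :=
    Algebra.FormallySmooth.of_equiv (AlgEquiv.ofBijective (resHom Λ P) (resHom_bijective Λ P))
  have hfg : (maximalIdeal (Fib Λ P)).FG := IsNoetherian.noetherian _
  have hneF : maximalIdeal (Fib Λ P) ≠ ⊥ := by
    intro h0
    apply hne
    refine le_antisymm h𝔫le ?_
    intro a ha
    have h1 : algebraMap P (Fib Λ P) a ∈ maximalIdeal (Fib Λ P) := by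
      rw [mem_maximalIdeal, mem_nonunits_iff]
      intro hu
      exact ((mem_maximalIdeal a).mp ha) (hloc.map_nonunit a hu)
    rw [h0, Ideal.mem_bot] at h1
    exact Ideal.Quotient.eq_zero_iff_mem.mp h1
  obtain ⟨yb, hyb⟩ := exists_one_tmul_ne_zero (F := Fib Λ P) hfg hneF
  have hli : LinearIndependent (ResidueField (Fib Λ P))
      (fun _ : Unit => (1 : ResidueField (Fib Λ P)) ⊗ₜ[Fib Λ P] yb) :=
    linearIndependent_unique_iff.mpr hyb
  have hD := linearIndependent_one_tmul_D_of_formallySmooth_quotient (R := ResidueField Λ)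
    (maximalIdeal (Fib Λ P)) le_rfl hfg (fun _ : Unit => yb) hli
  have hD' : (1 : ResidueField (Fib Λ P)) ⊗ₜ[Fib Λ P]
      D (ResidueField Λ) (Fib Λ P) ((yb : maximalIdeal (Fib Λ P)) : Fib Λ P) ≠ 0 :=
    hD.ne_zero ()
  obtain ⟨y, hy⟩ := Ideal.Quotient.mk_surjective ((yb : maximalIdeal (Fib Λ P)) : Fib Λ P)
  have hym : y ∈ maximalIdeal P := by
    rw [mem_maximalIdeal, mem_nonunits_iff]
    intro hu
    have h1 : IsUnit (algebraMap P (Fib Λ P) y) := hu.map _
    have h2 : algebraMap P (Fib Λ P) y = (yb : Fib Λ P) := hy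
    rw [h2] at h1
    exact ((mem_maximalIdeal _).mp yb.2) h1
  refine ⟨y, hym, fun h0 => hD' ?_⟩
  haveI : SMulCommClass (ResidueField Λ) P (Fib Λ P) :=
    ⟨fun c p x => by rw [Algebra.smul_def, Algebra.smul_def, Algebra.smul_def, Algebra.smul_def,
      mul_left_comm]⟩
  let g₁ : ResidueField P →ₗ[P] ResidueField (Fib Λ P) :=
    (IsScalarTower.toAlgHom P (ResidueField P) (ResidueField (Fib Λ P))).toLinearMap
  let g₂ : Ω[P⁄Λ] →ₗ[P] Ω[Fib Λ P⁄ResidueField Λ] :=
    KaehlerDifferential.map Λ (ResidueField Λ) P (Fib Λ P)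
  let ψ : ResidueField P ⊗[P] Ω[P⁄Λ] →ₗ[P]
      ResidueField (Fib Λ P) ⊗[Fib Λ P] Ω[Fib Λ P⁄ResidueField Λ] :=
    (TensorProduct.mapOfCompatibleSMul (Fib Λ P) P P (ResidueField (Fib Λ P))
      Ω[Fib Λ P⁄ResidueField Λ]).comp (TensorProduct.map g₁ g₂)
  have h3 := congrArg ψ h0
  rw [map_zero] at h3
  have h4 : ψ ((1 : ResidueField P) ⊗ₜ[P] D Λ P y) =
      (1 : ResidueField (Fib Λ P)) ⊗ₜ[Fib Λ P]
        D (ResidueField Λ) (Fib Λ P) ((yb : maximalIdeal (Fib Λ P)) : Fib Λ P) := by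
    change TensorProduct.mapOfCompatibleSMul (Fib Λ P) P P (ResidueField (Fib Λ P))
      Ω[Fib Λ P⁄ResidueField Λ] (TensorProduct.map g₁ g₂ ((1 : ResidueField P) ⊗ₜ[P] D Λ P y)) = _
    rw [TensorProduct.map_tmul, TensorProduct.mapOfCompatibleSMul_tmul]
    have h5 : g₁ 1 = 1 := map_one (IsScalarTower.toAlgHom P (ResidueField P) (ResidueField (Fib Λ P)))
    have h6 : g₂ (D Λ P y) = D (ResidueField Λ) (Fib Λ P) (algebraMap P (Fib Λ P) y) :=
      KaehlerDifferential.map_D Λ (ResidueField Λ) P (Fib Λ P) y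
    rw [h5, h6]
    congr 2
  rw [← h4]
  exact h3

end Main

end Groth.Agent.Lib.Helper51.SepFibre
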