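import Mathlib
import Groth.Agent.Lib.Helper51.SepFibre
import Groth.Agent.Lib.Helper51.FibreStalkMax
import Groth.Agent.Lib.Helper51.SmoothDivisorSch

/-!
# A point of a smooth morphism with separable residue field, not generic in its fibre (helper51)
-/

set_option autoImplicit false
universe u
open CategoryTheory CategoryTheory.Limits AlgebraicGeometry IsLocalRing TensorProduct

namespace Groth.Agent.Lib.Helper51.SepFibreSch

open Groth.Agent.Lib.Helper51.SmoothDivisorSch

variable {X S : Scheme.{u}}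

/-- The local ring at a point where `f` is smooth is formally smooth and essentially of finite type over
the local ring of the base. -/
theorem formallySmooth_essFiniteType_stalk (f : X ⟶ S) (x : X) (W : X.Opens) (hxW : x ∈ W)
    (hW : Smooth (W.ι ≫ f)) :
    letI := (f.stalkMap x).hom.toAlgebra
    Algebra.FormallySmooth ↑(S.presheaf.stalk (f x)) ↑(X.presheaf.stalk x) ∧
      Algebra.EssFiniteType ↑(S.presheaf.stalk (f x)) ↑(X.presheaf.stalk x) := by
  obtain ⟨V, hV, U₀, hU₀, hU₀W, e, hx, -, -⟩ := exists_affine_charts_germ f x W hxW 0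
  have hsm := smooth_appLE_of_le f W hW hV hU₀ hU₀W e
  algebraize [(f.appLE V U₀ e).hom]
  letI algΛ : Algebra ↑(S.presheaf.stalk (f x)) ↑(X.presheaf.stalk x) :=
    (f.stalkMap x).hom.toAlgebra
  let q : Ideal Γ(X, U₀) := (hU₀.primeIdealOf ⟨x, hx⟩).asIdeal
  let p : Ideal Γ(S, V) := (hV.primeIdealOf ⟨f x, e hx⟩).asIdeal
  letI algBS : Algebra Γ(X, U₀) (X.presheaf.stalk x) := X.presheaf.algebra_section_stalk ⟨x, hx⟩
  have hloc : IsLocalization.AtPrime (X.presheaf.stalk x) q := hU₀.isLocalization_stalk ⟨x, hx⟩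
  letI algRΛ : Algebra Γ(S, V) (S.presheaf.stalk (f x)) :=
    S.presheaf.algebra_section_stalk ⟨f x, e hx⟩
  have hlocΛ : IsLocalization.AtPrime (S.presheaf.stalk (f x)) p :=
    hV.isLocalization_stalk ⟨f x, e hx⟩
  letI algRS : Algebra Γ(S, V) (X.presheaf.stalk x) :=
    ((algebraMap Γ(X, U₀) (X.presheaf.stalk x)).comp (algebraMap Γ(S, V) Γ(X, U₀))).toAlgebra
  haveI : IsScalarTower Γ(S, V) Γ(X, U₀) (X.presheaf.stalk x) := .of_algebraMap_eq' rfl
  have h2 : S.presheaf.germ V (f x) (e hx) ≫ f.stalkMap x =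
      f.appLE V U₀ e ≫ X.presheaf.germ U₀ x hx := by
    rw [Scheme.Hom.germ_stalkMap, Scheme.Hom.appLE, Category.assoc]
    congr 1
    exact (X.presheaf.germ_res _ _ _).symm
  haveI : IsScalarTower Γ(S, V) ↑(S.presheaf.stalk (f x)) ↑(X.presheaf.stalk x) :=
    IsScalarTower.of_algebraMap_eq' (by
      have := congrArg CommRingCat.Hom.hom h2
      simp only [CommRingCat.hom_comp] at this
      exact this.symm)
  haveI : Algebra.FormallySmooth Γ(X, U₀) (X.presheaf.stalk x) :=
    Algebra.FormallySmooth.of_isLocalization q.primeCompl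
  haveI : Algebra.FormallySmooth Γ(S, V) (X.presheaf.stalk x) :=
    Algebra.FormallySmooth.comp _ Γ(X, U₀) _
  haveI : Algebra.EssFiniteType Γ(X, U₀) (X.presheaf.stalk x) :=
    Algebra.EssFiniteType.of_isLocalization _ q.primeCompl
  haveI : Algebra.EssFiniteType Γ(S, V) (X.presheaf.stalk x) :=
    Algebra.EssFiniteType.comp _ Γ(X, U₀) _
  exact ⟨Algebra.FormallySmooth.localization_base p.primeCompl,
    Algebra.EssFiniteType.of_comp Γ(S, V) _ _⟩

open KaehlerDifferential in
/-- **Separable residue field and not generic in the fibre ⇒ a function vanishing at `x` with nonzero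
differential.** -/
theorem exists_mem_maximalIdeal_one_tmul_D_ne_zero (f : X ⟶ S) (x : X) (W : X.Opens) (hxW : x ∈ W)
    (hW : Smooth (W.ι ≫ f))
    (hsep : letI := (f.residueFieldMap x).hom.toAlgebra
      Algebra.FormallySmooth (S.residueField (f x)) (X.residueField x))
    (hne : (maximalIdeal ↑(S.presheaf.stalk (f x))).map (f.stalkMap x).hom ≠
      maximalIdeal ↑(X.presheaf.stalk x)) :
    letI := (f.stalkMap x).hom.toAlgebra
    ∃ y ∈ maximalIdeal ↑(X.presheaf.stalk x),
      (1 : ResidueField ↑(X.presheaf.stalk x)) ⊗ₜ[↑(X.presheaf.stalk x)]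
        (D ↑(S.presheaf.stalk (f x)) ↑(X.presheaf.stalk x) y) ≠ 0 := by
  letI algΛ : Algebra ↑(S.presheaf.stalk (f x)) ↑(X.presheaf.stalk x) :=
    (f.stalkMap x).hom.toAlgebra
  obtain ⟨h1, h2⟩ := formallySmooth_essFiniteType_stalk f x W hxW hW
  haveI : Algebra.FormallySmooth ↑(S.presheaf.stalk (f x)) ↑(X.presheaf.stalk x) := h1
  haveI : Algebra.EssFiniteType ↑(S.presheaf.stalk (f x)) ↑(X.presheaf.stalk x) := h2
  haveI : IsLocalHom (algebraMap ↑(S.presheaf.stalk (f x)) ↑(X.presheaf.stalk x)) :=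
    inferInstanceAs (IsLocalHom (f.stalkMap x).hom)
  haveI : Algebra.FormallySmooth (ResidueField ↑(S.presheaf.stalk (f x)))
      (ResidueField ↑(X.presheaf.stalk x)) := by
    have halg : (ResidueField.instAlgebra : Algebra (ResidueField ↑(S.presheaf.stalk (f x)))
        (ResidueField ↑(X.presheaf.stalk x))) = (f.residueFieldMap x).hom.toAlgebra := by
      apply Algebra.algebra_ext
      intro r
      rfl
    rw [halg]
    exact hsep
  exact Groth.Agent.Lib.Helper51.SepFibre.exists_one_tmul_D_ne_zero hne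

end Groth.Agent.Lib.Helper51.SepFibreSch
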