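import Mathlib
import Groth.Prelude.Def_FlatCA
import Groth.Prelude.Def_EGA4b
import Groth.Agent.Lib.Helper22.SmoothDim
import Groth.Agent.Lib.Helper73.DimFT.Scheme
import Groth.Agent.Lib.Helper73.DimFT.Catenary
import Groth.Agent.Lib.Helper36.FibreDimZero

/-!
# Dimension of the local rings of a smooth algebra over a field (helper51, for helper89's S11186)

`dim C_Q = n - trdeg_k κ(Q)` for `C` smooth of relative dimension `n` over a field `k`.
-/

set_option autoImplicit false
set_option linter.style.haveILetI false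
universe u

open CategoryTheory AlgebraicGeometry

namespace Groth.Agent.Lib.Helper51.SmFibD1

theorem ringKrullDim_atPrime_of_smooth_field (k C : Type u) [Field k] [CommRing C] [Algebra k C]
    (n : ℕ) (hs : FlatCA.SmoothRelDim n k C) (Q : Ideal C) [Q.IsPrime] (t : ℕ)
    (ht : Algebra.trdeg k Q.ResidueField = (t : Cardinal.{u})) :
    t ≤ n ∧ ringKrullDim (Localization.AtPrime Q) = ((n - t : ℕ) : WithBot ℕ∞) := by
  let f : Spec (.of C) ⟶ Spec (.of k) := Spec.map (CommRingCat.ofHom (algebraMap k C))
  haveI : SmoothOfRelativeDimension n f := hs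
  haveI : Smooth f := SmoothOfRelativeDimension.smooth n f
  haveI : LocallyOfFiniteType f := inferInstance
  haveI : Algebra.FiniteType k C := by
    have h := (HasRingHomProperty.Spec_iff (P := @LocallyOfFiniteType)).mp ‹LocallyOfFiniteType f›
    exact RingHom.finiteType_algebraMap.mp h
  let p : PrimeSpectrum C := ⟨Q, inferInstance⟩
  have h1 := Groth.Agent.Lib.Helper22.SmoothDim.localDim_eq_add_fibreDimAt_of_smooth f p
  have h2 := Groth.Agent.Lib.Helper22.SmoothDim.fibreDimAt_eq_of_smoothOfRelativeDimension n f p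
  have h3 : FlatMor.localDim (Spec (.of k)) (f.base p) = 0 :=
    Groth.Agent.Lib.Helper36.FibreDimZero.localDim_eq_zero_of_isOpen_singleton _ (by
      show IsOpen ({_} : Set (PrimeSpectrum k))
      exact isOpen_discrete _)
  rw [h2, h3, zero_add] at h1
  have h4 := Groth.Agent.Lib.Helper73.localDim_primeSpectrum_eq k p
  have h5 : Algebra.trdeg k Q.ResidueField = ((Groth.Agent.Lib.Helper73.quotDim p : ℕ) : Cardinal) :=
    Groth.Agent.Lib.Helper73.trdeg_eq_of_ringKrullDim_eq k p.asIdeal.ResidueField
      (Groth.Agent.Lib.Helper73.quotDim p) (Groth.Agent.Lib.Helper73.coe_quotDim k p).symm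
  have h6 : Groth.Agent.Lib.Helper73.quotDim p = t := by
    rw [ht] at h5
    exact_mod_cast h5.symm
  have h7 : ringKrullDim (Localization.AtPrime Q) = Q.height :=
    IsLocalization.AtPrime.ringKrullDim_eq_height Q _
  have h8 : ((Q.height + (t : ℕ∞) : ℕ∞) : WithBot ℕ∞) = (n : WithBot ℕ∞) := by
    rw [← h6]
    exact h4.symm.trans h1
  have h9 : Q.height + (t : ℕ∞) = (n : ℕ∞) := by exact_mod_cast h8
  have hfin : Q.height ≠ ⊤ := by
    intro h
    rw [h, top_add] at h9
    exact ENat.top_ne_natCast _ h9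
  obtain ⟨a, ha⟩ := ENat.ne_top_iff_exists.mp hfin
  rw [← ha] at h9
  have h10 : a + t = n := by exact_mod_cast h9
  refine ⟨by omega, ?_⟩
  rw [h7, ← ha]
  have : a = n - t := by omega
  rw [this]
  rfl

end Groth.Agent.Lib.Helper51.SmFibD1
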