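import Mathlib
import Groth.Prelude.Def_FlatCA
import Groth.Prelude.Def_EGA4b
import Groth.Agent.Lib.Helper51.SmFibD1
import Groth.Agent.Lib.Helper65.RegularSmooth
import Groth.Agent.Lib.Helper77.RegularCM

/-!
# Fibres of a smooth ring map: base change and depth (helper51, for helper89's S11186)
-/

set_option autoImplicit false
set_option linter.style.haveILetI false
universe u

open CategoryTheory AlgebraicGeometry TensorProduct

namespace Groth.Agent.Lib.Helper51.SmFibB

/-- The fibre algebra `κ(p) ⊗[A] B` of a ring map smooth of relative dimension `n` is smooth of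
relative dimension `n` over `κ(p)`. -/
theorem smoothRelDim_fiber (A B : Type u) [CommRing A] [CommRing B] [Algebra A B] (n : ℕ)
    (hs : FlatCA.SmoothRelDim n A B) (p : Ideal A) [p.IsPrime] :
    FlatCA.SmoothRelDim n p.ResidueField (p.Fiber B) := by
  have hpo := CommRingCat.isPushout_tensorProduct A p.ResidueField B
  have hpb := (isPullback_SpecMap_of_isPushout _ _ _ _ hpo).flip
  haveI := smoothOfRelativeDimension_isStableUnderBaseChange.{u} n
  exact MorphismProperty.of_isPullback (P := @SmoothOfRelativeDimension n) hpb hs

/-- A smooth algebra over a field has regular local rings. -/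
theorem isRegularLocalRing_atPrime_of_smooth_field (k C : Type u) [Field k] [CommRing C]
    [Algebra k C] (n : ℕ) (hs : FlatCA.SmoothRelDim n k C) (Q : Ideal C) [Q.IsPrime] :
    IsRegularLocalRing (Localization.AtPrime Q) := by
  let f : Spec (.of C) ⟶ Spec (.of k) := Spec.map (CommRingCat.ofHom (algebraMap k C))
  haveI : SmoothOfRelativeDimension n f := hs
  haveI : Smooth f := SmoothOfRelativeDimension.smooth n f
  haveI : Algebra.Smooth k C := by
    have h := (HasRingHomProperty.Spec_iff (P := @Smooth)).mp ‹Smooth f›
    exact RingHom.smooth_algebraMap.mp h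
  haveI : Algebra.FinitePresentation k C := Algebra.Smooth.finitePresentation
  haveI : Algebra.FiniteType k C := inferInstance
  haveI : Algebra.FormallySmooth k C := Algebra.Smooth.formallySmooth
  haveI : Algebra.FormallySmooth k (Localization.AtPrime Q) :=
    inferInstanceAs (Algebra.FormallySmooth k (Localization Q.primeCompl))
  haveI : Algebra.EssFiniteType C (Localization.AtPrime Q) :=
    Algebra.EssFiniteType.of_isLocalization _ Q.primeCompl
  haveI : Algebra.EssFiniteType k (Localization.AtPrime Q) :=
    Algebra.EssFiniteType.comp k C (Localization.AtPrime Q)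
  exact Groth.Agent.Lib.Helper65.RegularSmooth.isRegularLocalRing_of_formallySmooth k
    (Localization.AtPrime Q)

/-- Depth of the local rings of a smooth algebra over a field. -/
theorem depth_eq_of_smooth_field (k C : Type u) [Field k] [CommRing C] [Algebra k C]
    (n : ℕ) (hs : FlatCA.SmoothRelDim n k C) (Q : Ideal C) [Q.IsPrime] (t : ℕ)
    (ht : Algebra.trdeg k Q.ResidueField = (t : Cardinal.{u})) :
    t ≤ n ∧ LocCoh.depth (Localization.AtPrime Q) (Localization.AtPrime Q) = ((n - t : ℕ) : ℕ∞) := by
  obtain ⟨h1, h2⟩ := Groth.Agent.Lib.Helper51.SmFibD1.ringKrullDim_atPrime_of_smooth_field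
    k C n hs Q t ht
  haveI := isRegularLocalRing_atPrime_of_smooth_field k C n hs Q
  refine ⟨h1, ?_⟩
  have h3 := Groth.Agent.Lib.Helper77.RegularCM.depth_eq_dim (Localization.AtPrime Q)
  rw [h2] at h3
  have h4 : ((LocCoh.depth (Localization.AtPrime Q) (Localization.AtPrime Q) : ℕ∞) : WithBot ℕ∞) =
      (((n - t : ℕ) : ℕ∞) : WithBot ℕ∞) := h3
  exact WithBot.coe_injective h4

end Groth.Agent.Lib.Helper51.SmFibB
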