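import Mathlib
import Groth.Prelude.Def_FlatCA
import Groth.Prelude.Def_EGA4b
import Groth.Agent.Lib.Helper51.SmFibB
import Groth.Agent.Lib.Helper85.SmFibBF
import Groth.Agent.Lib.Helper71.SmFibA
import Groth.Agent.Lib.Helper64.DepthQuot

/-!
# Depth of the fibre local ring of a smooth ring map (helper51, for helper89's S11186; assembly of
pieces by helper71 (a), helper85 (b)+(f), helper51 (c),(d),D1)
-/

set_option autoImplicit false
set_option linter.style.haveILetI false
universe u

open CategoryTheory AlgebraicGeometry TensorProduct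

namespace Groth.Agent.Lib.Helper51.SmFibFD


theorem depth_fibLoc_of_smooth (A B : Type u) [CommRing A] [CommRing B] [Algebra A B]
    [IsNoetherianRing A] (n : ℕ) (hs : FlatCA.SmoothRelDim n A B) (p : Ideal A) [p.IsPrime]
    (q : Ideal B) [q.IsPrime] [hq : q.LiesOver p] (t : ℕ)
    (ht : @Algebra.trdeg p.ResidueField q.ResidueField _ _
      (Ideal.ResidueField.mapₐ p q (Algebra.ofId A B) hq.over).toRingHom.toAlgebra =
        (t : Cardinal.{u})) :
    t ≤ n ∧ LocCoh.depth (Localization.AtPrime q) (EGA4.FibLocMod A B q B) =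
      ((n - t : ℕ) : ℕ∞) := by
  -- `B` is Noetherian
  let f : Spec (.of B) ⟶ Spec (.of A) := Spec.map (CommRingCat.ofHom (algebraMap A B))
  haveI : SmoothOfRelativeDimension n f := hs
  haveI : Smooth f := SmoothOfRelativeDimension.smooth n f
  haveI : LocallyOfFiniteType f := inferInstance
  haveI : Algebra.FiniteType A B := by
    have h := (HasRingHomProperty.Spec_iff (P := @LocallyOfFiniteType)).mp ‹LocallyOfFiniteType f›
    exact RingHom.finiteType_algebraMap.mp h
  haveI : IsNoetherianRing B := Algebra.FiniteType.isNoetherianRing A B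
  obtain ⟨Q, hQ, ⟨e⟩, htr⟩ := Groth.Agent.Lib.Helper85.SmFibBF.exists_fiber_prime_data A B p q
  have hsC := Groth.Agent.Lib.Helper51.SmFibB.smoothRelDim_fiber A B n hs p
  have ht' : Algebra.trdeg p.ResidueField Q.ResidueField = (t : Cardinal.{u}) := htr.symm.trans ht
  have hinst : (IsLocalRing.ResidueField.instAlgebra : Algebra p.ResidueField Q.ResidueField) =
      (IsLocalRing.ResidueField.algebra (Localization.AtPrime Q)) := by
    apply Algebra.algebra_ext
    intro r
    obtain ⟨x, rfl⟩ := IsLocalRing.residue_surjective r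
    rfl
  rw [hinst] at ht'
  obtain ⟨h1, h2⟩ := Groth.Agent.Lib.Helper51.SmFibB.depth_eq_of_smooth_field
    p.ResidueField (p.Fiber B) n hsC Q t ht'
  haveI : IsLocalRing (EGA4.FibLocRing A B q) := e.isLocalRing
  refine ⟨h1, ?_⟩
  rw [Groth.Agent.Lib.Helper71.SmFibA.depth_fibLocMod_eq A B q, ← h2]
  exact (Groth.Agent.Lib.Helper64.DepthQuot.depth_self_of_ringEquiv e).symm

end Groth.Agent.Lib.Helper51.SmFibFD
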