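import Mathlib
import Groth.Agent.Lib.Helper51.ClosedCoordSch

/-!
# Étale-local extension of morphisms to smooth schemes across closed immersions (helper51)

`exists_etale_nhd_extending`: `i : S₀ ⟶ S` closed immersion, `p : X ⟶ S`, `q : Y ⟶ S` smooth,
`f₀ : X ×_S S₀ ⟶ Y` over `S`, `x₀` a point of `X ×_S S₀`.  Then there is an étale `e : U ⟶ X` whose base
change to `X₀ = X ×_S S₀` is an open immersion around `x₀`, and `f : U ⟶ Y` over `S` extending `f₀`.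
-/

set_option autoImplicit false
universe u
open CategoryTheory CategoryTheory.Limits AlgebraicGeometry TopologicalSpace

namespace Groth.Agent.Lib.Helper51.SmoothLiftEtale

open Groth.Agent.Lib.Helper51.ClosedCoordSch

/-- Étale coordinates around a point of a smooth scheme. -/
theorem exists_etale_chart {S Y : Scheme.{u}} (q : Y ⟶ S) [Smooth q] (y : Y) :
    ∃ (V : Y.Opens) (N : Type u) (_ : Finite N) (π : (V : Scheme.{u}) ⟶ 𝔸(N; S)),
      y ∈ V ∧ Etale π ∧ π ≫ (𝔸(N; S) ↘ S) = V.ι ≫ q := by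
  obtain ⟨U, m, n, π, ρ, hy, hπ, hπS, -⟩ := exists_adapted_chart q q (𝟙 Y) (Category.id_comp q) y
  exact ⟨U, ULift.{u} (Fin m ⊕ Fin n), inferInstance, π, hy, hπ, hπS⟩

/-- An affine open neighbourhood of `j x₀` in `X` whose preimage under the closed immersion `j` lies in
a given open neighbourhood of `x₀`. -/
theorem exists_affine_nhd {X₀ X : Scheme.{u}} (j : X₀ ⟶ X) [IsClosedImmersion j] (x₀ : X₀)
    (W₀ : X₀.Opens) (hx₀ : x₀ ∈ W₀) :
    ∃ X' : X.Opens, IsAffineOpen X' ∧ j x₀ ∈ X' ∧ j ⁻¹ᵁ X' ≤ W₀ := by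
  obtain ⟨O, hO, hOW⟩ := j.isClosedEmbedding.isEmbedding.isInducing.isOpen_iff.mp W₀.isOpen
  have hjO : j x₀ ∈ O := by
    have : x₀ ∈ j ⁻¹' O := by rw [hOW]; exact hx₀
    exact this
  obtain ⟨_, ⟨X', hX', rfl⟩, hxX', hX'O⟩ :=
    (X.isBasis_affineOpens).exists_subset_of_mem_open hjO hO
  refine ⟨X', hX', hxX', ?_⟩
  intro z hz
  have : z ∈ j ⁻¹' O := hX'O hz
  rw [hOW] at this
  exact this

/-- Categorical core: an étale `π : V' ⟶ A`, a map `g : X' ⟶ A` on an open of `X` and a lift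
`f₀' : j⁻¹X' ⟶ V'` of `g` over the closed subscheme give an étale neighbourhood of `j⁻¹X'` in `X'` which
is an isomorphism over `j⁻¹X'` and carries a lift of `g` extending `f₀'`. -/
theorem core {X₀ X A V' : Scheme.{u}} (j : X₀ ⟶ X) [IsClosedImmersion j] (X' : X.Opens)
    (π : V' ⟶ A) [Etale π] (g : (X' : Scheme.{u}) ⟶ A)
    (f₀' : (↑(j ⁻¹ᵁ X') : Scheme.{u}) ⟶ V') (hg : (j ∣_ X') ≫ g = f₀' ≫ π) :
    ∃ (U : Scheme.{u}) (e' : U ⟶ X') (h : U ⟶ V'), Etale e' ∧ e' ≫ g = h ≫ π ∧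
      ∃ μ : pullback (e' ≫ X'.ι) j ⟶ ↑(j ⁻¹ᵁ X'), IsIso μ ∧
        pullback.snd (e' ≫ X'.ι) j = μ ≫ (j ⁻¹ᵁ X').ι ∧
        pullback.fst (e' ≫ X'.ι) j ≫ h = μ ≫ f₀' := by
  -- the étale neighbourhood before shrinking
  let U₁ : Scheme.{u} := pullback g π
  let e₁ : U₁ ⟶ X' := pullback.fst g π
  let e : U₁ ⟶ X := e₁ ≫ X'.ι
  let s : (↑(j ⁻¹ᵁ X') : Scheme.{u}) ⟶ U₁ := pullback.lift (j ∣_ X') f₀' hg
  have hs1 : s ≫ e₁ = j ∣_ X' := pullback.lift_fst _ _ _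
  have hs2 : s ≫ pullback.snd g π = f₀' := pullback.lift_snd _ _ _
  have hse : s ≫ e = (j ⁻¹ᵁ X').ι ≫ j := by
    change s ≫ e₁ ≫ X'.ι = _
    rw [← Category.assoc, hs1, morphismRestrict_ι]
  let κ : pullback e j ⟶ U₁ := pullback.fst e j
  let π₁ : pullback e j ⟶ X₀ := pullback.snd e j
  let t : (↑(j ⁻¹ᵁ X') : Scheme.{u}) ⟶ pullback e j := pullback.lift s (j ⁻¹ᵁ X').ι hse
  have ht1 : t ≫ κ = s := pullback.lift_fst _ _ _
  have ht2 : t ≫ π₁ = (j ⁻¹ᵁ X').ι := pullback.lift_snd _ _ _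
  haveI : Etale t := by
    refine MorphismProperty.of_postcomp (W := @Etale) (W' := @Etale) t π₁ inferInstance ?_
    rw [ht2]
    infer_instance
  haveI : Mono t := mono_of_mono_fac ht2
  haveI : IsOpenImmersion t := IsOpenImmersion.of_flat_of_mono t
  -- shrink `U₁` so that its trace on the closed subscheme is the image of the section
  have hκcl : Topology.IsClosedEmbedding κ := κ.isClosedEmbedding
  let C : Set U₁ := κ '' ((t.opensRange : Set ↥(pullback e j))ᶜ)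
  have hC : IsClosed C := hκcl.isClosedMap _ t.opensRange.isOpen.isClosed_compl
  let U : U₁.Opens := ⟨Cᶜ, hC.isOpen_compl⟩
  have hU1 : ∀ z : ↥(pullback e j), κ z ∈ U ↔ z ∈ t.opensRange := by
    intro z
    change κ z ∈ Cᶜ ↔ _
    rw [Set.mem_compl_iff, hκcl.injective.mem_set_image, Set.mem_compl_iff, not_not]
    rfl
  -- the final neighbourhood
  obtain ⟨e', he'⟩ : ∃ e' : (U : Scheme.{u}) ⟶ X', e' = U.ι ≫ e₁ := ⟨_, rfl⟩
  obtain ⟨h, hh⟩ : ∃ h : (U : Scheme.{u}) ⟶ V', h = U.ι ≫ pullback.snd g π := ⟨_, rfl⟩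
  haveI : Etale e' := by rw [he']; infer_instance
  have he'e : e' ≫ X'.ι = U.ι ≫ e := by rw [he']; exact Category.assoc _ _ _
  let fstP : pullback (e' ≫ X'.ι) j ⟶ U := pullback.fst (e' ≫ X'.ι) j
  let πfin : pullback (e' ≫ X'.ι) j ⟶ X₀ := pullback.snd (e' ≫ X'.ι) j
  have hcond : (fstP ≫ U.ι) ≫ e = πfin ≫ j :=
    (Category.assoc _ _ _).trans ((congrArg (fstP ≫ ·) he'e.symm).trans pullback.condition)
  obtain ⟨lam, hlam1, hlam2⟩ : ∃ lam : pullback (e' ≫ X'.ι) j ⟶ pullback e j,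
      lam ≫ κ = fstP ≫ U.ι ∧ lam ≫ π₁ = πfin :=
    ⟨pullback.lift (fstP ≫ U.ι) πfin hcond, pullback.lift_fst _ _ _, pullback.lift_snd _ _ _⟩
  have hrange : Set.range lam ⊆ Set.range t := by
    rintro _ ⟨z, rfl⟩
    have h1 : κ (lam z) ∈ U := by
      rw [← Scheme.Hom.comp_apply, hlam1, Scheme.Hom.comp_apply]
      exact (fstP z).2
    exact (hU1 _).mp h1
  obtain ⟨μ, hμ⟩ : ∃ μ : pullback (e' ≫ X'.ι) j ⟶ ↑(j ⁻¹ᵁ X'), μ ≫ t = lam :=
    ⟨IsOpenImmersion.lift t lam hrange, IsOpenImmersion.lift_fac _ _ _⟩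
  have hπfin : πfin = μ ≫ (j ⁻¹ᵁ X').ι := by
    rw [← hlam2, ← hμ, Category.assoc, ht2]
  -- the inverse of `μ`
  have hrange' : Set.range s ⊆ Set.range U.ι := by
    rintro _ ⟨a, rfl⟩
    have h1 : s a ∈ U := by
      rw [← ht1, Scheme.Hom.comp_apply]
      exact (hU1 _).mpr ⟨a, rfl⟩
    exact ⟨⟨s a, h1⟩, rfl⟩
  obtain ⟨s', hs'⟩ : ∃ s' : (↑(j ⁻¹ᵁ X') : Scheme.{u}) ⟶ U, s' ≫ U.ι = s :=
    ⟨IsOpenImmersion.lift U.ι s hrange', IsOpenImmersion.lift_fac _ _ _⟩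
  have hνcond : s' ≫ (e' ≫ X'.ι) = (j ⁻¹ᵁ X').ι ≫ j := by
    rw [he'e, ← Category.assoc, hs', hse]
  obtain ⟨ν, hν1, hν2⟩ : ∃ ν : (↑(j ⁻¹ᵁ X') : Scheme.{u}) ⟶ pullback (e' ≫ X'.ι) j,
      ν ≫ fstP = s' ∧ ν ≫ πfin = (j ⁻¹ᵁ X').ι :=
    ⟨pullback.lift s' (j ⁻¹ᵁ X').ι hνcond, pullback.lift_fst _ _ _, pullback.lift_snd _ _ _⟩
  have hνlam : ν ≫ lam = t := by
    apply pullback.hom_ext
    · change (ν ≫ lam) ≫ κ = t ≫ κ
      rw [Category.assoc, hlam1, ← Category.assoc, hν1, hs', ht1]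
    · change (ν ≫ lam) ≫ π₁ = t ≫ π₁
      rw [Category.assoc, hlam2, hν2, ht2]
  have hνμ : ν ≫ μ = 𝟙 _ := by
    rw [← cancel_mono t, Category.assoc, hμ, hνlam, Category.id_comp]
  have hμν : μ ≫ ν = 𝟙 _ := by
    apply pullback.hom_ext
    · change (μ ≫ ν) ≫ fstP = 𝟙 _ ≫ fstP
      rw [Category.assoc, hν1, Category.id_comp, ← cancel_mono U.ι, Category.assoc, hs', ← ht1,
        ← Category.assoc, hμ, hlam1]
    · change (μ ≫ ν) ≫ πfin = 𝟙 _ ≫ πfin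
      rw [Category.assoc, hν2, Category.id_comp, hπfin]
  refine ⟨U, e', h, inferInstance, ?_, μ, ⟨ν, hμν, hνμ⟩, hπfin, ?_⟩
  · rw [he', hh, Category.assoc, Category.assoc, pullback.condition]
  · rw [hh]
    change fstP ≫ U.ι ≫ pullback.snd g π = μ ≫ f₀'
    rw [← Category.assoc, ← hlam1, ← hμ, Category.assoc, Category.assoc, ← Category.assoc t, ht1, hs2]

theorem exists_etale_nhd_extending {S S₀ X Y : Scheme.{u}} (i : S₀ ⟶ S) [IsClosedImmersion i]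
    (p : X ⟶ S) (q : Y ⟶ S) [Smooth q] (f₀ : pullback p i ⟶ Y)
    (hf₀ : f₀ ≫ q = pullback.fst p i ≫ p) (x₀ : ↥(pullback p i)) :
    ∃ (U : Scheme.{u}) (e : U ⟶ X) (f : U ⟶ Y), Etale e ∧ f ≫ q = e ≫ p ∧
      IsOpenImmersion (pullback.snd e (pullback.fst p i)) ∧
      x₀ ∈ Set.range (pullback.snd e (pullback.fst p i)).base ∧
      pullback.snd e (pullback.fst p i) ≫ f₀ = pullback.fst e (pullback.fst p i) ≫ f := by
  obtain ⟨j, hj⟩ : ∃ j : pullback p i ⟶ X, j = pullback.fst p i := ⟨_, rfl⟩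
  rw [← hj] at hf₀ ⊢
  haveI : IsClosedImmersion j := by rw [hj]; infer_instance
  -- étale coordinates on `Y` around `f₀ x₀`
  obtain ⟨V, N, hN, π, hyV, hπ, hπS⟩ := exists_etale_chart q (f₀ x₀)
  -- an affine open of `X` around `j x₀` whose trace on `X₀` maps into `V`
  obtain ⟨X', hX', hxX', hX'V⟩ := exists_affine_nhd j x₀ (f₀ ⁻¹ᵁ V) hyV
  haveI : IsAffine (X' : Scheme.{u}) := hX'
  let f₀' : (↑(j ⁻¹ᵁ X') : Scheme.{u}) ⟶ V := f₀.resLE V (j ⁻¹ᵁ X') hX'V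
  have hf₀' : f₀' ≫ V.ι = (j ⁻¹ᵁ X').ι ≫ f₀ := Scheme.Hom.resLE_comp_ι _ _
  -- lift the coordinate functions from `j⁻¹X'` to `X'`
  have hsurj : Function.Surjective (j ∣_ X').appTop :=
    (IsClosedImmersion.isAffine_surjective_of_isAffine (j ∣_ X')).2
  choose w hw using fun k : N => hsurj ((f₀' ≫ π).appTop (AffineSpace.coord S k))
  let g : (X' : Scheme.{u}) ⟶ 𝔸(N; S) := AffineSpace.homOfVector (X'.ι ≫ p) w
  have hg : (j ∣_ X') ≫ g = f₀' ≫ π := by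
    apply AffineSpace.hom_ext
    · rw [Category.assoc, AffineSpace.homOfVector_over, Category.assoc, hπS,
        ← Category.assoc, morphismRestrict_ι, Category.assoc, ← hf₀, ← Category.assoc f₀',
        hf₀', Category.assoc]
    · intro k
      rw [Scheme.Hom.comp_appTop, CommRingCat.comp_apply, AffineSpace.homOfVector_appTop_coord, hw]
  obtain ⟨U, e', h, he', hgh, μ, hμiso, hμ1, hμ2⟩ := core j X' π g f₀' hg
  refine ⟨U, e' ≫ X'.ι, h ≫ V.ι, inferInstance, ?_, ?_, ?_, ?_⟩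
  · rw [Category.assoc, ← hπS, ← Category.assoc, ← hgh, Category.assoc,
      AffineSpace.homOfVector_over, Category.assoc]
  · rw [hμ1]
    infer_instance
  · rw [hμ1]
    refine ⟨(inv μ) ⟨x₀, hxX'⟩, ?_⟩
    rw [← Scheme.Hom.comp_apply, IsIso.inv_hom_id_assoc]
    rfl
  · rw [hμ1, Category.assoc, ← hf₀', ← Category.assoc, ← hμ2, Category.assoc]

end Groth.Agent.Lib.Helper51.SmoothLiftEtale
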