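import Mathlib

/-!
# The non-smooth locus and base change (helper51)

* `nonSmoothLocus f`: the set of points of the source having no open neighbourhood on which `f` is smooth.
* `isClosed_nonSmoothLocus`, `smooth_ι_comp_of_disjoint_nonSmoothLocus`.
* `nonSmoothLocus_subset_preimage`: base change shrinks the non-smooth locus.
* `nonSmoothLocus_subset_image`: for a base change along a surjective flat quasi-compact map with
  closed projection, the non-smooth locus is contained in the image of the one upstairs.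
* `isClosed_singleton_of_finite_isClosed`: finite closed subsets of Jacobson spaces consist of closed points.
* `finite_preimage_singleton_of_isClosed`: finite fibres over closed points for base change of fields.
-/

set_option autoImplicit false
universe u
open CategoryTheory CategoryTheory.Limits AlgebraicGeometry

namespace Groth.Agent.Lib.Helper51

/-- The set of points having no open neighbourhood on which `f` is smooth. -/
def nonSmoothLocus {X Y : Scheme.{u}} (f : X ⟶ Y) : Set ↥X :=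
  {x | ¬ ∃ U : X.Opens, x ∈ U ∧ Smooth (U.ι ≫ f)}

theorem isClosed_nonSmoothLocus {X Y : Scheme.{u}} (f : X ⟶ Y) : IsClosed (nonSmoothLocus f) := by
  rw [← isOpen_compl_iff, isOpen_iff_forall_mem_open]
  intro x hx
  simp only [nonSmoothLocus, Set.mem_compl_iff, Set.mem_setOf_eq, not_not] at hx
  obtain ⟨U, hxU, hU⟩ := hx
  refine ⟨U, ?_, U.2, hxU⟩
  intro y hy
  simp only [nonSmoothLocus, Set.mem_compl_iff, Set.mem_setOf_eq, not_not]
  exact ⟨U, hy, hU⟩

theorem smooth_ι_comp_of_forall {X Y : Scheme.{u}} (f : X ⟶ Y) (W : X.Opens)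
    (h : ∀ x ∈ W, ∃ U : X.Opens, x ∈ U ∧ Smooth (U.ι ≫ f)) : Smooth (W.ι ≫ f) := by
  choose U hxU hU using h
  rw [IsZariskiLocalAtSource.iff_of_iSup_eq_top (P := @Smooth)
    (fun x : W => W.ι ⁻¹ᵁ (U x.1 x.2))]
  · intro x
    have hU' := hU x.1 x.2
    have hr : Set.range ((W.ι ⁻¹ᵁ (U x.1 x.2)).ι ≫ W.ι) ⊆ Set.range (U x.1 x.2).ι := by
      rintro _ ⟨y, rfl⟩
      rw [Scheme.Opens.range_ι]
      exact y.2
    have hfac := IsOpenImmersion.lift_fac (U x.1 x.2).ι ((W.ι ⁻¹ᵁ (U x.1 x.2)).ι ≫ W.ι) hr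
    have : (W.ι ⁻¹ᵁ (U x.1 x.2)).ι ≫ W.ι ≫ f =
        IsOpenImmersion.lift (U x.1 x.2).ι ((W.ι ⁻¹ᵁ (U x.1 x.2)).ι ≫ W.ι) hr ≫
          (U x.1 x.2).ι ≫ f := by
      rw [← Category.assoc, ← Category.assoc, hfac]
    rw [this]
    haveI : IsOpenImmersion
        (IsOpenImmersion.lift (U x.1 x.2).ι ((W.ι ⁻¹ᵁ (U x.1 x.2)).ι ≫ W.ι) hr) :=
      IsOpenImmersion.of_comp _ (U x.1 x.2).ι
    infer_instance
  · rw [eq_top_iff]
    intro x _
    rw [TopologicalSpace.Opens.mem_iSup]
    exact ⟨x, hxU x.1 x.2⟩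

theorem smooth_ι_comp_of_disjoint_nonSmoothLocus {X Y : Scheme.{u}} (f : X ⟶ Y) (W : X.Opens)
    (h : Disjoint (W : Set ↥X) (nonSmoothLocus f)) : Smooth (W.ι ≫ f) := by
  refine smooth_ι_comp_of_forall f W fun x hx => ?_
  by_contra hcon
  exact Set.disjoint_left.mp h hx hcon

/-- Base change shrinks the non-smooth locus. -/
theorem nonSmoothLocus_subset_preimage {X' X T' T : Scheme.{u}} {i₀ : X' ⟶ X} {q : X' ⟶ T'}
    {p : X ⟶ T} {s : T' ⟶ T} (sq : IsPullback i₀ q p s) :
    nonSmoothLocus q ⊆ i₀ ⁻¹' nonSmoothLocus p := by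
  intro x' hx' hcon
  apply hx'
  simp only [nonSmoothLocus, Set.mem_preimage, Set.mem_ofPred_eq, not_not] at hcon
  obtain ⟨U, hxU, hU⟩ := hcon
  refine ⟨i₀ ⁻¹ᵁ U, hxU, ?_⟩
  have sq' : IsPullback (i₀ ∣_ U) ((i₀ ⁻¹ᵁ U).ι ≫ q) (U.ι ≫ p) s :=
    (isPullback_morphismRestrict i₀ U).paste_vert sq
  exact MorphismProperty.of_isPullback (P := @Smooth) sq' hU

/-- For a base change along a surjective flat quasi-compact morphism whose projection is a closed
map, the non-smooth locus is contained in the image of the non-smooth locus upstairs. -/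
theorem nonSmoothLocus_subset_image {X' X T' T : Scheme.{u}} {i₀ : X' ⟶ X} {q : X' ⟶ T'}
    {p : X ⟶ T} {s : T' ⟶ T} (sq : IsPullback i₀ q p s) [Surjective s] [Flat s] [QuasiCompact s]
    (hcl : IsClosedMap i₀) :
    nonSmoothLocus p ⊆ i₀ '' nonSmoothLocus q := by
  intro x hx
  by_contra hcon
  apply hx
  let U : X.Opens := ⟨(i₀ '' nonSmoothLocus q)ᶜ, (hcl _ (isClosed_nonSmoothLocus q)).isOpen_compl⟩
  refine ⟨U, hcon, ?_⟩
  have sq' : IsPullback (i₀ ∣_ U) ((i₀ ⁻¹ᵁ U).ι ≫ q) (U.ι ≫ p) s :=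
    (isPullback_morphismRestrict i₀ U).paste_vert sq
  have hsm : Smooth ((i₀ ⁻¹ᵁ U).ι ≫ q) := by
    apply smooth_ι_comp_of_disjoint_nonSmoothLocus
    rw [Set.disjoint_left]
    intro y hy hy'
    exact hy ⟨y, hy', rfl⟩
  exact MorphismProperty.of_isPullback_of_descendsAlong (P := @Smooth)
    (Q := @Surjective ⊓ @Flat ⊓ @QuasiCompact) sq'.flip ⟨⟨inferInstance, inferInstance⟩, inferInstance⟩ hsm

/-- Finite closed subsets of Jacobson spaces consist of closed points. -/
theorem subset_closedPoints_of_finite_of_isClosed {X : Type*} [TopologicalSpace X] [JacobsonSpace X]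
    {Z : Set X} (hZ : IsClosed Z) (hfin : Z.Finite) : Z ⊆ closedPoints X := by
  have h := closure_inter_closedPoints hZ
  have hcl : IsClosed (Z ∩ closedPoints X) := by
    rw [← (Z ∩ closedPoints X).biUnion_of_singleton]
    exact (hfin.subset Set.inter_subset_left).isClosed_biUnion fun x hx => hx.2
  rw [hcl.closure_eq] at h
  intro z hz
  rw [← h] at hz
  exact hz.2

/-- A scheme finite over a field has finitely many points. -/
theorem finite_of_isFinite_over_field {Ω : Type u} [Field Ω] {F : Scheme.{u}}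
    (g : F ⟶ Spec (CommRingCat.of Ω)) [IsFinite g] : Finite ↥F := by
  haveI : IsAffine F := isAffine_of_isAffineHom g
  have hfin : IsFinite (F.isoSpec.inv ≫ g) := inferInstance
  obtain ⟨φ, hφ⟩ := Spec.map_surjective (F.isoSpec.inv ≫ g)
  rw [← hφ, IsFinite.SpecMap_iff] at hfin
  letI : Algebra Ω Γ(F, ⊤) := φ.hom.toAlgebra
  haveI : Module.Finite Ω Γ(F, ⊤) := hfin
  haveI : IsArtinianRing Γ(F, ⊤) := IsArtinianRing.of_finite Ω _
  haveI : Finite (PrimeSpectrum Γ(F, ⊤)) := inferInstance
  exact Finite.of_equiv (Spec Γ(F, ⊤)) F.isoSpec.symm.schemeIsoToHomeo.toEquiv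

/-- The fibres over closed points of the base change of a scheme locally of finite type over a field
along a field extension are finite. -/
theorem finite_preimage_singleton_of_isClosed {k Ω : Type u} [Field k] [Field Ω] {X X' : Scheme.{u}}
    {p : X ⟶ Spec (CommRingCat.of k)} [LocallyOfFiniteType p]
    {s : Spec (CommRingCat.of Ω) ⟶ Spec (CommRingCat.of k)} {i₀ : X' ⟶ X}
    {q : X' ⟶ Spec (CommRingCat.of Ω)} (sq : IsPullback i₀ q p s) (x : X) (hx : IsClosed {x}) :
    (i₀ ⁻¹' {x}).Finite := by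
  haveI : JacobsonSpace X := LocallyOfFiniteType.jacobsonSpace p
  haveI := isClosed_singleton_iff_isClosedImmersion.mp hx
  have hfin : IsFinite (X.fromSpecResidueField x ≫ p) :=
    (isFinite_iff_locallyOfFiniteType_of_jacobsonSpace
      (f := X.fromSpecResidueField x ≫ p)).mpr inferInstance
  have sqF : IsPullback (pullback.fst (X.fromSpecResidueField x) i₀)
      (pullback.snd (X.fromSpecResidueField x) i₀ ≫ q) (X.fromSpecResidueField x ≫ p) s :=
    (IsPullback.of_hasPullback (X.fromSpecResidueField x) i₀).paste_vert sq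
  haveI : IsFinite (pullback.snd (X.fromSpecResidueField x) i₀ ≫ q) :=
    MorphismProperty.of_isPullback (P := @IsFinite) sqF hfin
  haveI := finite_of_isFinite_over_field (pullback.snd (X.fromSpecResidueField x) i₀ ≫ q)
  have hr : Set.range (pullback.snd (X.fromSpecResidueField x) i₀) = i₀ ⁻¹' {x} := by
    rw [Scheme.Pullback.range_snd, Scheme.range_fromSpecResidueField]
  rw [← hr]
  exact Set.finite_range _

end Groth.Agent.Lib.Helper51
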