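import Mathlib

/-!
# Distinct variables of a polynomial ring form a weakly regular sequence (helper51)
-/

set_option autoImplicit false

namespace Groth.Agent.Lib.Helper51.VarRegular

open RingTheory.Sequence

variable {σ R : Type*} [CommRing R]

theorem ofList_take_ofFn_X (n : ℕ) (v : Fin n → σ) (i : ℕ) :
    Ideal.ofList ((List.ofFn fun j : Fin n => (MvPolynomial.X (v j) : MvPolynomial σ R)).take i) =
      Ideal.span (MvPolynomial.X '' (v '' {j : Fin n | (j : ℕ) < i})) := by
  unfold Ideal.ofList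
  congr 1
  ext p
  simp only [Set.mem_ofPred_eq, Set.mem_image]
  rw [List.mem_take_iff_getElem]
  constructor
  · rintro ⟨j, hj, rfl⟩
    rw [List.getElem_ofFn]
    have hj' : j < i ∧ j < n := by simpa using hj
    exact ⟨v ⟨j, hj'.2⟩, ⟨⟨j, hj'.2⟩, hj'.1, rfl⟩, rfl⟩
  · rintro ⟨_, ⟨j, hj, rfl⟩, rfl⟩
    refine ⟨(j : ℕ), ?_, ?_⟩
    · simp only [List.length_ofFn, lt_min_iff]
      exact ⟨hj, j.isLt⟩
    · rw [List.getElem_ofFn]

theorem isWeaklyRegular_X_of_injective (n : ℕ) (v : Fin n → σ) (hv : Function.Injective v) :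
    IsWeaklyRegular (MvPolynomial σ R)
      (List.ofFn fun j : Fin n => (MvPolynomial.X (v j) : MvPolynomial σ R)) := by
  classical
  refine ⟨fun i hi => ?_⟩
  have hiN : i < n := by simpa using hi
  have h1 : ∀ J : Ideal (MvPolynomial σ R),
      J • (⊤ : Submodule (MvPolynomial σ R) (MvPolynomial σ R)) = J := fun J => Ideal.mul_top J
  rw [List.getElem_ofFn, h1, ofList_take_ofFn_X,
    isSMulRegular_quotient_iff_mem_of_smul_mem]
  intro p h
  rw [smul_eq_mul, MvPolynomial.mem_ideal_span_X_image] at h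
  rw [MvPolynomial.mem_ideal_span_X_image]
  intro d hd
  have hd' : Finsupp.single (v ⟨i, hiN⟩) 1 + d ∈
      ((MvPolynomial.X (v ⟨i, hiN⟩) : MvPolynomial σ R) * p).support := by
    rw [MvPolynomial.mem_support_iff, MvPolynomial.coeff_X_mul]
    exact MvPolynomial.mem_support_iff.mp hd
  obtain ⟨k, ⟨j, hj, rfl⟩, hk⟩ := h _ hd'
  refine ⟨v j, ⟨j, hj, rfl⟩, ?_⟩
  have hne : v ⟨i, hiN⟩ ≠ v j := by
    intro heq
    have := hv heq
    have hj' : (j : ℕ) < i := hj
    rw [← this] at hj'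
    exact lt_irrefl _ hj'
  rw [Finsupp.add_apply, Finsupp.single_apply, if_neg hne, zero_add] at hk
  exact hk

end Groth.Agent.Lib.Helper51.VarRegular
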