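import Mathlib
import Groth.Agent.Lib.Helper51.ClosedCoord
import Groth.Agent.Lib.Helper51.VarRegular

/-!
# The ideal of a smooth closed subscheme of a smooth scheme is locally generated by a regular sequence
(helper51) — ring form (EGA IV 17.12.1 a) ⇒ c))
-/

set_option autoImplicit false
universe u
open TensorProduct RingTheory.Sequence

namespace Groth.Agent.Lib.Helper51.SmoothPairRegular

open Groth.Agent.Lib.Helper51.ClosedCoord Groth.Agent.Lib.Helper51.VarRegular

theorem ofList_ofFn {R : Type*} [CommRing R] {n : ℕ} (h : Fin n → R) :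
    Ideal.ofList (List.ofFn h) = Ideal.span (Set.range h) := by
  unfold Ideal.ofList
  congr 1
  ext r
  simp [List.mem_ofFn]

theorem exists_regular_generators {A B C : Type u} [CommRing A] [CommRing B] [CommRing C]
    [Algebra A B] [Algebra A C] [Algebra.FinitePresentation A B] [Algebra.Smooth A C]
    (ι : B →ₐ[A] C) (hι : Function.Surjective ι) (q : Ideal B) [q.IsPrime]
    (hq : RingHom.ker ι ≤ q) [Algebra.IsSmoothAt A q]
    (Bq : Type u) [CommRing Bq] [Algebra B Bq] [IsLocalization.AtPrime Bq q] :
    ∃ rs : List Bq, IsWeaklyRegular Bq rs ∧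
      Ideal.ofList rs = (RingHom.ker ι).map (algebraMap B Bq) := by
  obtain ⟨m, n, f, g, hf, -, H⟩ := exists_adapted_coordinates ι hι q hq
  obtain ⟨ψ, hψet, -, hψX, hgen⟩ := H (Localization.Away f)
  -- `Bq` as an algebra over `B_f`
  have hfu : IsUnit (algebraMap B Bq f) :=
    IsLocalization.map_units Bq (⟨f, hf⟩ : q.primeCompl)
  letI algB'Bq : Algebra (Localization.Away f) Bq := (IsLocalization.Away.lift f hfu).toAlgebra
  haveI : IsScalarTower B (Localization.Away f) Bq :=
    IsScalarTower.of_algebraMap_eq fun b => (IsLocalization.Away.lift_eq f hfu b).symm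
  have hle : Submonoid.powers f ≤ q.primeCompl := by
    rintro _ ⟨k, rfl⟩
    exact q.primeCompl.pow_mem hf k
  haveI := IsLocalization.isLocalization_of_submonoid_le (Localization.Away f) Bq
    (Submonoid.powers f) q.primeCompl hle
  haveI : Module.Flat (Localization.Away f) Bq :=
    IsLocalization.flat Bq (q.primeCompl.map (algebraMap B (Localization.Away f)))
  -- the polynomial ring
  letI algTB' : Algebra (MvPolynomial (ULift.{u} (Fin m ⊕ Fin n)) A) (Localization.Away f) :=
    ψ.toAlgebra
  haveI : Algebra.Etale (MvPolynomial (ULift.{u} (Fin m ⊕ Fin n)) A) (Localization.Away f) := hψet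
  haveI : Module.Flat (MvPolynomial (ULift.{u} (Fin m ⊕ Fin n)) A) (Localization.Away f) :=
    inferInstance
  letI algTBq : Algebra (MvPolynomial (ULift.{u} (Fin m ⊕ Fin n)) A) Bq :=
    ((algebraMap (Localization.Away f) Bq).comp ψ).toAlgebra
  haveI : IsScalarTower (MvPolynomial (ULift.{u} (Fin m ⊕ Fin n)) A) (Localization.Away f) Bq :=
    IsScalarTower.of_algebraMap_eq fun _ => rfl
  haveI : Module.Flat (MvPolynomial (ULift.{u} (Fin m ⊕ Fin n)) A) Bq :=
    Module.Flat.trans _ (Localization.Away f) _
  let v : Fin n → ULift.{u} (Fin m ⊕ Fin n) := fun j => ULift.up (Sum.inr j)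
  have hv : Function.Injective v := fun a b hab => Sum.inr_injective (ULift.up_injective hab)
  have hw := (isWeaklyRegular_X_of_injective (R := A) n v hv).of_flat (S := Bq)
  refine ⟨_, hw, ?_⟩
  rw [List.map_ofFn, ofList_ofFn]
  have h1 : (RingHom.ker ι).map (algebraMap B Bq) =
      ((RingHom.ker ι).map (algebraMap B (Localization.Away f))).map
        (algebraMap (Localization.Away f) Bq) := by
    rw [Ideal.map_map, ← IsScalarTower.algebraMap_eq]
  rw [h1, hgen, Ideal.map_span, ← Set.range_comp]
  congr 2
  funext j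
  change algebraMap (Localization.Away f) Bq (ψ (MvPolynomial.X (v j))) = _
  rw [hψX]
  rfl

end Groth.Agent.Lib.Helper51.SmoothPairRegular
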