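import Mathlib
import Groth.Agent.Lib.Helper51.SmoothPairRegular
import Groth.Agent.Lib.Helper51.RegularImmSmooth
import Groth.Agent.Lib.Helper51.SmoothDivisorSch

/-!
# EGA IV 17.12.1, a) ⇔ c) for a closed immersion with smooth source (helper51)

`j : Y ⟶ X` a closed immersion of schemes locally of finite presentation over `S`, `Y` smooth over `S` at
`y`.  Then `X` is smooth over `S` at `j y` iff the kernel of `O_{X,j y} → O_{Y,y}` is generated by a
regular sequence.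
-/

set_option autoImplicit false
universe u
open CategoryTheory AlgebraicGeometry IsLocalRing RingTheory.Sequence

namespace Groth.Agent.Lib.Helper51.RegularQuotSmooth

open Groth.Agent.Lib.Helper51.SmoothPairRegular Groth.Agent.Lib.Helper51.SmoothDivisorSch

variable {X Y S : Scheme.{u}}

theorem exists_regular_of_mem_smoothLocus (f : X ⟶ S) [LocallyOfFinitePresentation f]
    (j : Y ⟶ X) [IsClosedImmersion j] [LocallyOfFinitePresentation (j ≫ f)] (y : Y)
    (hy : y ∈ (j ≫ f).smoothLocus) (hx : j y ∈ f.smoothLocus) :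
    ∃ rs : List (X.presheaf.stalk (j y)), IsRegular (X.presheaf.stalk (j y)) rs ∧
      Ideal.ofList rs = RingHom.ker (j.stalkMap y).hom := by
  obtain ⟨W₀, hyW₀, hW₀⟩ := exists_smooth_nhd_of_mem_smoothLocus (j ≫ f) y hy
  obtain ⟨_, ⟨V, hV, rfl⟩, hxV, -⟩ :=
    S.isBasis_affineOpens.exists_subset_of_mem_open (Set.mem_univ (f (j y))) isOpen_univ
  obtain ⟨O, hO, hOW⟩ := j.isClosedEmbedding.isEmbedding.isInducing.isOpen_iff.mp W₀.isOpen
  have hjO : j y ∈ O := by
    have : y ∈ j ⁻¹' O := by rw [hOW]; exact hyW₀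
    exact this
  obtain ⟨_, ⟨U, hU, rfl⟩, hxU, hUle⟩ :=
    X.isBasis_affineOpens.exists_subset_of_mem_open
      (show j y ∈ O ∩ (f ⁻¹ᵁ V : Set X) from ⟨hjO, hxV⟩) (hO.inter (f ⁻¹ᵁ V).2)
  have e : U ≤ f ⁻¹ᵁ V := fun z hz => (hUle hz).2
  have hW : IsAffineOpen (j ⁻¹ᵁ U) := hU.preimage j
  have hWW₀ : j ⁻¹ᵁ U ≤ W₀ := by
    intro z hz
    have : z ∈ j ⁻¹' O := (hUle hz).1
    rw [hOW] at this
    exact this
  have e' : j ⁻¹ᵁ U ≤ (j ≫ f) ⁻¹ᵁ V := fun z hz => e hz
  have hsmC := smooth_appLE_of_le (j ≫ f) W₀ hW₀ hV hW hWW₀ e'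
  have hcomp : (j ≫ f).appLE V (j ⁻¹ᵁ U) e' = f.appLE V U e ≫ j.app U := by
    rw [← Scheme.Hom.appLE_eq_app (f := j), Scheme.Hom.appLE_comp_appLE]
  have hfp := f.finitePresentation_appLE hV hU e
  algebraize [(f.appLE V U e).hom]
  letI algRC : Algebra Γ(S, V) Γ(Y, j ⁻¹ᵁ U) :=
    ((j.app U).hom.comp (algebraMap Γ(S, V) Γ(X, U))).toAlgebra
  haveI hsmRC : Algebra.Smooth Γ(S, V) Γ(Y, j ⁻¹ᵁ U) := by
    have h1 : ((j.app U).hom.comp (f.appLE V U e).hom).Smooth := by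
      rw [← CommRingCat.hom_comp, ← hcomp]
      exact hsmC
    exact h1
  let ιalg : Γ(X, U) →ₐ[Γ(S, V)] Γ(Y, j ⁻¹ᵁ U) :=
    { (j.app U).hom with commutes' := fun _ => rfl }
  have hιsurj : Function.Surjective ιalg := j.app_surjective U hU
  let q : Ideal Γ(X, U) := (hU.primeIdealOf ⟨j y, hxU⟩).asIdeal
  letI algX : Algebra Γ(X, U) (X.presheaf.stalk (j y)) :=
    X.presheaf.algebra_section_stalk ⟨j y, hxU⟩
  haveI hlocX : IsLocalization.AtPrime (X.presheaf.stalk (j y)) q :=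
    hU.isLocalization_stalk ⟨j y, hxU⟩
  have hkerstalk := ker_stalkMap_eq_map_germ j y U hU hxU
  have hKker : j.ker.ideal ⟨U, hU⟩ = RingHom.ker (j.app U).hom := Scheme.Hom.ker_apply j ⟨U, hU⟩
  have hkerne : RingHom.ker (j.stalkMap y).hom ≠ ⊤ := RingHom.ker_ne_top _
  have hq : RingHom.ker ιalg ≤ q := by
    intro b hb
    have hb' : b ∈ j.ker.ideal ⟨U, hU⟩ := by rw [hKker]; exact hb
    have h1 : algebraMap Γ(X, U) (X.presheaf.stalk (j y)) b ∈ RingHom.ker (j.stalkMap y).hom := by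
      rw [hkerstalk]
      exact Ideal.mem_map_of_mem _ hb'
    have h2 : algebraMap Γ(X, U) (X.presheaf.stalk (j y)) b ∈
        maximalIdeal (X.presheaf.stalk (j y)) := le_maximalIdeal hkerne h1
    exact (IsLocalization.AtPrime.to_map_mem_maximal_iff (X.presheaf.stalk (j y)) q b).mp h2
  haveI : Algebra.IsSmoothAt Γ(S, V) q :=
    (formallySmooth_stalkMap_iff V hV U hU e hxU).mp hx
  obtain ⟨rs, hw, hrs⟩ := exists_regular_generators ιalg hιsurj q hq (X.presheaf.stalk (j y))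
  have hrs' : Ideal.ofList rs = RingHom.ker (j.stalkMap y).hom := by
    rw [hrs, hkerstalk, hKker]
    rfl
  refine ⟨rs, ⟨hw, ?_⟩, hrs'⟩
  have h1 : ∀ J : Ideal (X.presheaf.stalk (j y)),
      J • (⊤ : Submodule (X.presheaf.stalk (j y)) (X.presheaf.stalk (j y))) = J :=
    fun J => Ideal.mul_top J
  rw [h1, hrs']
  exact hkerne.symm

/-- **EGA IV 17.12.1 a) ⇔ c)** for a closed immersion with smooth source. -/
theorem mem_smoothLocus_iff_regular (f : X ⟶ S) [LocallyOfFinitePresentation f]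
    (j : Y ⟶ X) [IsClosedImmersion j] [LocallyOfFinitePresentation (j ≫ f)] (y : Y)
    (hy : y ∈ (j ≫ f).smoothLocus) :
    j y ∈ f.smoothLocus ↔
      ∃ rs : List (X.presheaf.stalk (j y)), IsRegular (X.presheaf.stalk (j y)) rs ∧
        Ideal.ofList rs = RingHom.ker (j.stalkMap y).hom := by
  constructor
  · exact exists_regular_of_mem_smoothLocus f j y hy
  · rintro ⟨rs, hreg, hker⟩
    exact mem_smoothLocus_of_regular_stalk f j y hy rs hreg.toIsWeaklyRegular hker.symm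

end Groth.Agent.Lib.Helper51.RegularQuotSmooth
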