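import Mathlib
import Groth.Agent.Lib.Helper51.DomainLocus
import Groth.Agent.Lib.Helper51.IrrComp
import Groth.Agent.Lib.Helper51.GeomIrr
import Groth.Agent.Lib.Helper51.GenFibre
import Groth.Agent.Lib.Helper78.GeomConnBase
import Groth.Agent.Lib.Helper76.RegularLocal
import Groth.Agent.S1535

/-!
# Irreducibility of base changes via a dense open; smooth connected schemes with a section (helper51)
-/

set_option autoImplicit false
universe u
open CategoryTheory CategoryTheory.Limits AlgebraicGeometry TensorProduct

namespace Groth.Agent.Lib.Helper51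

/-- If `X` is irreducible, `U ⊆ X` a nonempty open and `U_K` is irreducible, then `X_K` is
irreducible. -/
theorem irreducibleSpace_pullback_of_open {k : Type u} [Field k] {X : Scheme.{u}}
    (f : X ⟶ Spec (CommRingCat.of k)) [IrreducibleSpace X] (U : X.Opens)
    (hU : (U : Set X).Nonempty) (K : Type u) [Field K] [Algebra k K]
    [IrreducibleSpace ↥(pullback (U.ι ≫ f) (Spec.map (CommRingCat.ofHom (algebraMap k K))))] :
    IrreducibleSpace ↥(pullback f (Spec.map (CommRingCat.ofHom (algebraMap k K)))) := by
  let j : pullback (U.ι ≫ f) (Spec.map (CommRingCat.ofHom (algebraMap k K))) ⟶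
      pullback f (Spec.map (CommRingCat.ofHom (algebraMap k K))) :=
    pullback.map (U.ι ≫ f) _ f _ U.ι (𝟙 _) (𝟙 _) (by simp) (by simp)
  have hrange : Set.range j =
      pullback.fst f (Spec.map (CommRingCat.ofHom (algebraMap k K))) ⁻¹' (U : Set X) := by
    dsimp only [j]
    rw [Scheme.Pullback.range_map]
    simp
  have hirr : IsIrreducible (Set.range j) := by
    rw [← Set.image_univ]
    exact (IrreducibleSpace.isIrreducible_univ _).image j j.continuous.continuousOn
  have hdense : closure (Set.range j) = Set.univ := by
    rw [Set.eq_univ_iff_forall]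
    intro y
    obtain ⟨ζ, hζy, hζ⟩ := exists_specializes_closure_mem_irreducibleComponents y
    haveI : Flat (pullback.fst f (Spec.map (CommRingCat.ofHom (algebraMap k K)))) := inferInstance
    have h2 : closure {pullback.fst f (Spec.map (CommRingCat.ofHom (algebraMap k K))) ζ} ∈
        irreducibleComponents ↥X :=
      closure_image_mem_irreducibleComponents (Flat.generalizingMap _) hζ
    rw [irreducibleComponents_eq_singleton, Set.mem_singleton_iff] at h2
    have hζU : pullback.fst f (Spec.map (CommRingCat.ofHom (algebraMap k K))) ζ ∈ (U : Set X) := by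
      by_contra hne
      have hsub : closure {pullback.fst f (Spec.map (CommRingCat.ofHom (algebraMap k K))) ζ} ⊆
          (U : Set X)ᶜ :=
        closure_minimal (Set.singleton_subset_iff.mpr hne) U.isOpen.isClosed_compl
      rw [h2] at hsub
      obtain ⟨u, hu⟩ := hU
      exact hsub (Set.mem_univ u) hu
    have hζr : ζ ∈ Set.range j := by rw [hrange]; exact hζU
    exact hζy.mem_closed isClosed_closure (subset_closure hζr)
  rw [irreducibleSpace_def]
  have := hirr.closure
  rwa [hdense] at this

/-- A connected smooth scheme over a field with a section is geometrically irreducible. -/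
theorem irreducibleSpace_pullback_of_smooth_of_section {k : Type u} [Field k] {U : Scheme.{u}}
    (g : U ⟶ Spec (CommRingCat.of k)) [Smooth g] [ConnectedSpace U]
    (σ : Spec (CommRingCat.of k) ⟶ U) (hσ : σ ≫ g = 𝟙 _) (K : Type u) [Field K] [Algebra k K] :
    IrreducibleSpace ↥(pullback g (Spec.map (CommRingCat.ofHom (algebraMap k K)))) := by
  haveI hgc : GeometricallyConnected g :=
    Groth.Agent.Lib.Helper78.GeomConn.geometricallyConnected_of_section g σ hσ
  haveI : ConnectedSpace ↥(pullback g (Spec.map (CommRingCat.ofHom (algebraMap k K)))) :=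
    GeometricallyConnected.geometrically_connectedSpace (f := g) _ _ _ (.of_hasPullback _ _)
  haveI hsm : Smooth (pullback.snd g (Spec.map (CommRingCat.ofHom (algebraMap k K)))) :=
    inferInstance
  haveI : IsLocallyNoetherian (pullback g (Spec.map (CommRingCat.ofHom (algebraMap k K)))) :=
    LocallyOfFiniteType.isLocallyNoetherian
      (pullback.snd g (Spec.map (CommRingCat.ofHom (algebraMap k K))))
  apply irreducibleSpace_of_forall_isDomain_stalk
  intro y
  letI : (pullback g (Spec.map (CommRingCat.ofHom (algebraMap k K)))).Over
      (Spec (CommRingCat.of K)) := ⟨pullback.snd g (Spec.map (CommRingCat.ofHom (algebraMap k K)))⟩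
  haveI : Smooth ((pullback g (Spec.map (CommRingCat.ofHom (algebraMap k K)))) ↘
      (Spec (CommRingCat.of K))) := hsm
  haveI := Groth.Agent.S1535.result K (pullback g (Spec.map (CommRingCat.ofHom (algebraMap k K)))) y
  exact Groth.Agent.Lib.Helper76.isDomain_of_isRegularLocalRing _

end Groth.Agent.Lib.Helper51
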