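import Mathlib
import Groth.Agent.Lib.Helper51.ProperH0
import Groth.Agent.Lib.Helper51.SchemeIdem

/-!
# Geometric connectedness of proper schemes over a field via global sections (helper51)
-/

set_option autoImplicit false
universe u
open CategoryTheory CategoryTheory.Limits AlgebraicGeometry TensorProduct

namespace Groth.Agent.Lib.Helper51

section Algebra

variable (k : Type u) [Field k] (R : Type u) [CommRing R] [Algebra k R] (K : Type u) [Field K]
  [Algebra k K]

/-- If every element of `R` has a `q^n`-th power in `k` modulo nilpotents, the same holds for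
`R ⊗[k] K` over `K`. -/
theorem exists_pow_sub_isNilpotent_tensor
    (h : ∀ a : R, ∃ (n : ℕ) (c : k), IsNilpotent (a ^ (ringExpChar k ^ n) - algebraMap k R c))
    (s : R ⊗[k] K) :
    ∃ (n : ℕ) (μ : K), IsNilpotent (s ^ (ringExpChar k ^ n) - (1 : R) ⊗ₜ[k] μ) := by
  rcases subsingleton_or_nontrivial (R ⊗[k] K) with hS | hS
  · exact ⟨0, 0, by rw [Subsingleton.elim (s ^ (ringExpChar k ^ 0) - (1 : R) ⊗ₜ[k] (0 : K)) 0]; exact IsNilpotent.zero⟩
  set q := ringExpChar k with hq
  haveI : ExpChar k q := ringExpChar.expChar k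
  haveI : ExpChar (R ⊗[k] K) q :=
    expChar_of_injective_algebraMap (algebraMap k (R ⊗[k] K)).injective q
  have hqpos : ∀ n : ℕ, q ^ n ≠ 0 := fun n => pow_ne_zero n (expChar_pos k q).ne'
  induction s using TensorProduct.induction_on with
  | zero => exact ⟨0, 0, by simp⟩
  | tmul a l =>
    obtain ⟨n, c, hn⟩ := h a
    refine ⟨n, c • l ^ (q ^ n), ?_⟩
    have : (a ⊗ₜ[k] l) ^ (q ^ n) - (1 : R) ⊗ₜ[k] (c • l ^ (q ^ n)) =
        (a ^ (q ^ n) - algebraMap k R c) ⊗ₜ[k] (l ^ (q ^ n)) := by
      rw [Algebra.TensorProduct.tmul_pow, TensorProduct.sub_tmul, TensorProduct.tmul_smul,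
        Algebra.algebraMap_eq_smul_one, TensorProduct.smul_tmul']
    rw [this]
    obtain ⟨m, hm⟩ := hn
    exact ⟨m, by rw [Algebra.TensorProduct.tmul_pow, hm, TensorProduct.zero_tmul]⟩
  | add x y hx hy =>
    obtain ⟨n1, μ1, h1⟩ := hx
    obtain ⟨n2, μ2, h2⟩ := hy
    refine ⟨n1 + n2, μ1 ^ (q ^ n2) + μ2 ^ (q ^ n1), ?_⟩
    have e1 : x ^ (q ^ (n1 + n2)) - (1 : R) ⊗ₜ[k] (μ1 ^ (q ^ n2)) =
        (x ^ (q ^ n1) - (1 : R) ⊗ₜ[k] μ1) ^ (q ^ n2) := by
      rw [sub_pow_expChar_pow, Algebra.TensorProduct.tmul_pow, one_pow, pow_add, pow_mul]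
    have e2 : y ^ (q ^ (n1 + n2)) - (1 : R) ⊗ₜ[k] (μ2 ^ (q ^ n1)) =
        (y ^ (q ^ n2) - (1 : R) ⊗ₜ[k] μ2) ^ (q ^ n1) := by
      rw [sub_pow_expChar_pow, Algebra.TensorProduct.tmul_pow, one_pow, add_comm n1 n2, pow_add,
        pow_mul]
    have e3 : (x + y) ^ (q ^ (n1 + n2)) - (1 : R) ⊗ₜ[k] (μ1 ^ (q ^ n2) + μ2 ^ (q ^ n1)) =
        (x ^ (q ^ (n1 + n2)) - (1 : R) ⊗ₜ[k] (μ1 ^ (q ^ n2))) +
          (y ^ (q ^ (n1 + n2)) - (1 : R) ⊗ₜ[k] (μ2 ^ (q ^ n1))) := by
      rw [add_pow_expChar_pow, TensorProduct.tmul_add]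
      ring
    rw [e3, e1, e2]
    exact (Commute.all _ _).isNilpotent_add (h1.pow_of_pos (hqpos n2)) (h2.pow_of_pos (hqpos n1))

/-- Under the hypothesis of `exists_pow_sub_isNilpotent_tensor`, idempotents of `R ⊗[k] K` are
trivial. -/
theorem idempotent_tensor_trivial
    (h : ∀ a : R, ∃ (n : ℕ) (c : k), IsNilpotent (a ^ (ringExpChar k ^ n) - algebraMap k R c))
    (e : R ⊗[k] K) (he : IsIdempotentElem e) : e = 0 ∨ e = 1 := by
  obtain ⟨n, μ, hn⟩ := exists_pow_sub_isNilpotent_tensor k R K h e
  have hqpos : ringExpChar k ^ n ≠ 0 :=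
    pow_ne_zero n (expChar_pos k (ringExpChar k)).ne'
  have hpow : e ^ (ringExpChar k ^ n) = e := by
    obtain ⟨m, hm⟩ := Nat.exists_eq_succ_of_ne_zero hqpos
    rw [hm, he.pow_succ_eq]
  rw [hpow] at hn
  by_cases hμ : μ = 0
  · left
    rw [hμ, TensorProduct.tmul_zero, sub_zero] at hn
    exact he.eq_zero_of_isNilpotent hn
  · right
    have hu : IsUnit ((1 : R) ⊗ₜ[k] μ) := by
      have : IsUnit μ := IsUnit.mk0 μ hμ
      exact this.map (Algebra.TensorProduct.includeRight : K →ₐ[k] R ⊗[k] K)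
    have hue : IsUnit e := by
      have := hn.isUnit_add_right_of_commute hu (Commute.all _ _)
      simpa using this
    exact (IsIdempotentElem.iff_eq_one_of_isUnit hue).mp he

end Algebra

section Scheme

variable {k : Type u} [Field k] {X : Scheme.{u}} (f : X ⟶ Spec (CommRingCat.of k))

/-- Flat base change of global sections along a field extension, for `X` quasi-compact and
quasi-separated: a bijective ring hom `Γ(X, ⊤) ⊗[k] K → Γ(X_K, ⊤)`. -/
theorem exists_bijective_tensor_ringHom (K : Type u) [Field K] [Algebra k K] [CompactSpace X]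
    [QuasiSeparatedSpace X] :
    letI : Algebra k Γ(X, ⊤) := (toΓ f).toAlgebra
    ∃ ψ : Γ(X, ⊤) ⊗[k] K →+*
        Γ(pullback f (Spec.map (CommRingCat.ofHom (algebraMap k K))), ⊤),
      Function.Bijective ψ := by
  let g := Spec.map (CommRingCat.ofHom (algebraMap k K))
  have H : IsPullback (pullback.fst f g) (pullback.snd f g) f g := IsPullback.of_hasPullback f g
  have hiso := isIso_pushoutSection_of_isQuasiSeparated_of_flat_right H (US := ⊤) (UT := ⊤)
    (UX := ⊤) (UY := ⊤) le_top le_top (by simp) (isAffineOpen_top _) (isAffineOpen_top _)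
    isCompact_univ isQuasiSeparated_univ
  letI : Algebra k Γ(X, ⊤) := (toΓ f).toAlgebra
  have H0 := CommRingCat.isPushout_tensorProduct k Γ(X, ⊤) K
  let e1 := Scheme.ΓSpecIso (CommRingCat.of k)
  let e2 := Scheme.ΓSpecIso (CommRingCat.of K)
  have H' : IsPushout (f.appLE ⊤ ⊤ le_top) (g.appLE ⊤ ⊤ le_top)
      (CommRingCat.ofHom (S := Γ(X, ⊤) ⊗[k] K) <| Algebra.TensorProduct.includeLeftRingHom)
      (e2.hom ≫ (CommRingCat.ofHom (S := Γ(X, ⊤) ⊗[k] K) <|
        Algebra.TensorProduct.includeRight.toRingHom)) := by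
    refine H0.of_iso e1.symm (Iso.refl _) e2.symm (Iso.refl _) ?_ ?_ ?_ ?_
    · have h1 : f.appLE ⊤ ⊤ le_top = f.appTop := by
        simp only [Scheme.Hom.appLE, Scheme.Hom.appTop]
        erw [CategoryTheory.Functor.map_id]
        exact Category.comp_id (f.app ⊤)
      rw [h1]
      ext x
      rfl
    · have h1 : g.appLE ⊤ ⊤ le_top = g.appTop := by
        simp only [Scheme.Hom.appLE, Scheme.Hom.appTop]
        erw [CategoryTheory.Functor.map_id]
        exact Category.comp_id (g.app ⊤)
      rw [h1]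
      exact Scheme.ΓSpecIso_inv_naturality (CommRingCat.ofHom (algebraMap k K))
    · simp
    · simp
  let Φ := H'.isoPushout.hom ≫ pushoutSection H (US := ⊤) (UT := ⊤) (UX := ⊤)
    (UY := ⊤) le_top le_top (by simp)
  have hm2 : IsIso Φ := inferInstance
  exact ⟨Φ.hom, ConcreteCategory.bijective_of_isIso Φ⟩

/-- If every global function of the qcqs nonempty `k`-scheme `X` has a `q^n`-th power in `k` modulo
nilpotents, then `X` is geometrically connected. -/
theorem geometricallyConnected_of_forall_pow [CompactSpace X] [QuasiSeparatedSpace X] [Nonempty X]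
    (h : ∀ a : Γ(X, ⊤), ∃ (n : ℕ) (c : k),
      IsNilpotent (a ^ (ringExpChar k ^ n) - toΓ f c)) :
    GeometricallyConnected f := by
  letI : Algebra k Γ(X, ⊤) := (toΓ f).toAlgebra
  refine ⟨geometrically_iff_of_commRing_of_isClosedUnderIsomorphisms.mpr fun K _ _ => ?_⟩
  obtain ⟨ψ, hψ⟩ := exists_bijective_tensor_ringHom f K
  let g := Spec.map (CommRingCat.ofHom (algebraMap k K))
  haveI : Surjective g := by
    refine ⟨fun y => ?_⟩
    obtain ⟨x⟩ : Nonempty (Spec (CommRingCat.of K)) := inferInstance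
    exact ⟨x, Subsingleton.elim (α := PrimeSpectrum k) _ _⟩
  haveI : Nonempty ↥(pullback f g) := by
    obtain ⟨x⟩ : Nonempty X := inferInstance
    obtain ⟨z, -⟩ := (pullback.fst f g).surjective x
    exact ⟨z⟩
  refine connectedSpace_of_forall_idempotent _ fun e he => ?_
  let ψe := RingEquiv.ofBijective ψ hψ
  have he' : IsIdempotentElem (ψe.symm e) := he.map ψe.symm.toRingHom
  rcases idempotent_tensor_trivial k Γ(X, ⊤) K h _ he' with h0 | h1
  · left
    simpa using congrArg ψe h0
  · right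
    simpa using congrArg ψe h1

/-- An injective algebra hom into an integral algebra over a field is surjective on spectra. -/
theorem subsingleton_primeSpectrum_of_injective_of_isIntegral {k A B : Type*} [Field k]
    [CommRing A] [CommRing B] [Algebra k A] [Algebra k B] [Algebra.IsIntegral k B]
    (φ : A →ₐ[k] B) (hφ : Function.Injective φ) (h : Subsingleton (PrimeSpectrum B)) :
    Subsingleton (PrimeSpectrum A) := by
  have hφint : φ.toRingHom.IsIntegral := by
    refine RingHom.IsIntegral.tower_top (algebraMap k A) φ.toRingHom ?_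
    have : φ.toRingHom.comp (algebraMap k A) = algebraMap k B :=
      RingHom.ext fun x => φ.commutes x
    rw [this]
    exact algebraMap_isIntegral_iff.mpr inferInstance
  exact (hφint.comap_surjective hφ).subsingleton

/-- An algebraic field extension `κ / k` such that `κ ⊗[k] L` has at most one prime for a
separably closed algebraic `L / k` is purely inseparable. -/
theorem isPurelyInseparable_of_subsingleton_primeSpectrum_tensor_of_isAlgebraic (k κ L : Type u)
    [Field k] [Field κ] [Algebra k κ] [Algebra.IsAlgebraic k κ] [Field L] [Algebra k L]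
    [Algebra.IsIntegral k L] [IsSepClosed L] (h : Subsingleton (PrimeSpectrum (κ ⊗[k] L))) :
    IsPurelyInseparable k κ := by
  haveI : ExpChar k (ringExpChar k) := ringExpChar.expChar k
  rw [isPurelyInseparable_iff_pow_mem k (ringExpChar k)]
  intro a
  let E : IntermediateField k κ := IntermediateField.adjoin k {a}
  haveI : FiniteDimensional k E :=
    IntermediateField.adjoin.finiteDimensional (Algebra.IsIntegral.isIntegral (R := k) a)
  let φ : E ⊗[k] L →ₐ[k] κ ⊗[k] L := Algebra.TensorProduct.map E.val (AlgHom.id k L)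
  have hφinj : Function.Injective φ := by
    have : ⇑φ = ⇑(LinearMap.rTensor L E.val.toLinearMap) := by
      ext x
      rfl
    rw [this]
    exact Module.Flat.rTensor_preserves_injective_linearMap _ E.val.injective
  haveI : Algebra.IsIntegral κ (κ ⊗[k] L) := inferInstance
  haveI : Algebra.IsIntegral k κ := inferInstance
  haveI : Algebra.IsIntegral k (κ ⊗[k] L) := Algebra.IsIntegral.trans κ
  have hsub : Subsingleton (PrimeSpectrum (E ⊗[k] L)) :=
    subsingleton_primeSpectrum_of_injective_of_isIntegral (A := E ⊗[k] L) (B := κ ⊗[k] L)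
      φ hφinj h
  haveI : IsPurelyInseparable k E :=
    isPurelyInseparable_of_subsingleton_primeSpectrum_tensor k E L hsub
  obtain ⟨n, c, hc⟩ := IsPurelyInseparable.pow_mem k (ringExpChar k)
    (⟨a, IntermediateField.mem_adjoin_simple_self k a⟩ : E)
  exact ⟨n, c, by simpa using congrArg E.val hc⟩

/-- For a connected scheme `Y`, universally closed and locally of finite type over a field, the
spectrum of `Γ(Y, ⊤)` is a single point and `Y → Spec Γ(Y, ⊤)` is surjective. -/
theorem subsingleton_primeSpectrum_Γ_of_connected [UniversallyClosed f] [LocallyOfFiniteType f]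
    [ConnectedSpace X] :
    Subsingleton (PrimeSpectrum Γ(X, ⊤)) ∧ Function.Surjective X.toSpecΓ := by
  haveI : CompactSpace X := (quasiCompact_iff_compactSpace f).mp inferInstance
  haveI : IsNoetherian X := { __ := LocallyOfFiniteType.isLocallyNoetherian f }
  have hint : (toΓ f).IsIntegral := by
    have h1 := isIntegral_appTop_of_universallyClosed f
    have h2 : (Scheme.ΓSpecIso (CommRingCat.of k)).inv.hom.IsIntegral :=
      RingHom.isIntegral_of_surjective _
        ((ConcreteCategory.bijective_of_isIso (Scheme.ΓSpecIso (CommRingCat.of k)).inv).2)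
    exact h2.trans _ _ h1
  haveI hdim : Ring.KrullDimLE 0 Γ(X, ⊤) := by
    refine Ring.KrullDimLE.mk₀ fun I hI => ?_
    refine Ideal.isMaximal_of_isIntegral_of_isMaximal_comap' (toΓ f) hint I ?_
    haveI : (I.comap (toΓ f)).IsPrime := Ideal.comap_isPrime (toΓ f) I
    rw [Ideal.eq_bot_of_prime (I.comap (toΓ f))]
    exact Ideal.bot_isMaximal
  haveI : UniversallyClosed (X.toSpecΓ ≫ Spec.map (CommRingCat.ofHom (toΓ f))) := by
    rw [toSpecΓ_specMap_toΓ]
    infer_instance
  haveI : UniversallyClosed X.toSpecΓ :=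
    .of_comp_of_isSeparated _ (Spec.map (CommRingCat.ofHom (toΓ f)))
  have hsurj : Function.Surjective X.toSpecΓ := by
    have hd : DenseRange X.toSpecΓ := X.toSpecΓ.denseRange
    have hc : IsClosed (Set.range X.toSpecΓ) := X.toSpecΓ.isClosedMap.isClosed_range
    have : Set.range X.toSpecΓ = Set.univ := by
      rw [← hc.closure_eq]
      exact hd.closure_eq
    exact Set.range_eq_univ.mp this
  refine ⟨?_, hsurj⟩
  haveI : TopologicalSpace.NoetherianSpace (PrimeSpectrum Γ(X, ⊤)) :=
    TopologicalSpace.noetherianSpace_of_surjective X.toSpecΓ X.toSpecΓ.continuous hsurj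
  haveI : ConnectedSpace (PrimeSpectrum Γ(X, ⊤)) :=
    hsurj.connectedSpace X.toSpecΓ.continuous
  haveI : Finite (irreducibleComponents (PrimeSpectrum Γ(X, ⊤))) :=
    TopologicalSpace.NoetherianSpace.finite_irreducibleComponents.to_subtype
  haveI : Finite (minimalPrimes Γ(X, ⊤)) :=
    Finite.of_equiv _ (minimalPrimes.equivIrreducibleComponents Γ(X, ⊤)).toEquiv.symm
  haveI : Finite (PrimeSpectrum Γ(X, ⊤)) := by
    let j : PrimeSpectrum Γ(X, ⊤) → minimalPrimes Γ(X, ⊤) := fun p =>
      ⟨p.asIdeal, Ideal.mem_minimalPrimes_of_krullDimLE_zero p.asIdeal⟩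
    refine Finite.of_injective j fun p p' hpp' => ?_
    exact PrimeSpectrum.ext (congrArg Subtype.val hpp')
  haveI : DiscreteTopology (PrimeSpectrum Γ(X, ⊤)) :=
    PrimeSpectrum.discreteTopology_iff_finite_and_krullDimLE_zero.mpr ⟨inferInstance, hdim⟩
  have : (Set.univ : Set (PrimeSpectrum Γ(X, ⊤))).Subsingleton :=
    (isPreconnected_univ (α := PrimeSpectrum Γ(X, ⊤))).subsingleton
  exact Set.subsingleton_univ_iff.mp this

/-- Global functions of a geometrically connected proper `k`-scheme: a zero-dimensional local ring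
whose elements have `q^n`-th powers in `k` modulo nilpotents. -/
theorem isLocalRing_Γ_of_geometricallyConnected [IsProper f] [GeometricallyConnected f] :
    IsLocalRing Γ(X, ⊤) ∧ ringKrullDim Γ(X, ⊤) = 0 ∧
      ∀ a : Γ(X, ⊤), ∃ (n : ℕ) (c : k), IsNilpotent (a ^ (ringExpChar k ^ n) - toΓ f c) := by
  letI alg : Algebra k Γ(X, ⊤) := (toΓ f).toAlgebra
  haveI : CompactSpace X := (quasiCompact_iff_compactSpace f).mp inferInstance
  haveI : QuasiSeparatedSpace X := quasiSeparatedSpace_of_quasiSeparated f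
  haveI : ConnectedSpace X := GeometricallyConnected.connectedSpace_of_subsingleton f
  obtain ⟨hsub, hsurj⟩ := subsingleton_primeSpectrum_Γ_of_connected f
  haveI : Nonempty (PrimeSpectrum Γ(X, ⊤)) := by
    obtain ⟨x⟩ : Nonempty X := inferInstance
    exact ⟨X.toSpecΓ x⟩
  haveI : Nontrivial Γ(X, ⊤) := (PrimeSpectrum.nonempty_iff_nontrivial).mp inferInstance
  have hloc : IsLocalRing Γ(X, ⊤) := by
    obtain ⟨m, hm⟩ := Ideal.exists_maximal Γ(X, ⊤)
    refine IsLocalRing.of_unique_max_ideal ⟨m, hm, fun m' hm' => ?_⟩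
    have := Subsingleton.elim (⟨m', hm'.isPrime⟩ : PrimeSpectrum Γ(X, ⊤)) ⟨m, hm.isPrime⟩
    exact congrArg PrimeSpectrum.asIdeal this
  refine ⟨hloc, Order.krullDim_eq_zero, fun a => ?_⟩
  haveI := hloc
  -- the residue field is purely inseparable over `k`
  let L := SeparableClosure k
  let gL := Spec.map (CommRingCat.ofHom (algebraMap k L))
  haveI : ConnectedSpace ↥(pullback f gL) :=
    GeometricallyConnected.geometrically_connectedSpace _ _ _ (.of_hasPullback _ _)
  obtain ⟨hsubL, -⟩ := subsingleton_primeSpectrum_Γ_of_connected (pullback.snd f gL)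
  obtain ⟨ψ, hψ⟩ := exists_bijective_tensor_ringHom f L
  have hsub2 : Subsingleton (PrimeSpectrum (Γ(X, ⊤) ⊗[k] L)) := by
    let ψe := RingEquiv.ofBijective ψ hψ
    exact (PrimeSpectrum.comap_injective_of_surjective ψe.symm.toRingHom
      ψe.symm.surjective).subsingleton
  let κ := IsLocalRing.ResidueField Γ(X, ⊤)
  let π : Γ(X, ⊤) →ₐ[k] κ := IsScalarTower.toAlgHom k Γ(X, ⊤) κ
  have hπ : Function.Surjective π := IsLocalRing.residue_surjective
  have hsurj3 : Function.Surjective (Algebra.TensorProduct.map π (AlgHom.id k L)) := by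
    have : ⇑(Algebra.TensorProduct.map π (AlgHom.id k L)) =
        ⇑(LinearMap.rTensor L π.toLinearMap) := by
      ext x
      rfl
    rw [this]
    exact LinearMap.rTensor_surjective L hπ
  have hsub3 : Subsingleton (PrimeSpectrum (κ ⊗[k] L)) :=
    (PrimeSpectrum.comap_injective_of_surjective _ hsurj3).subsingleton
  haveI : Algebra.IsAlgebraic k κ := by
    have hint : (toΓ f).IsIntegral := by
      have h1 := isIntegral_appTop_of_universallyClosed f
      have h2 : (Scheme.ΓSpecIso (CommRingCat.of k)).inv.hom.IsIntegral :=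
        RingHom.isIntegral_of_surjective _
          ((ConcreteCategory.bijective_of_isIso (Scheme.ΓSpecIso (CommRingCat.of k)).inv).2)
      exact h2.trans _ _ h1
    haveI : Algebra.IsIntegral k Γ(X, ⊤) := algebraMap_isIntegral_iff.mp hint
    haveI : Algebra.IsIntegral k κ :=
      Algebra.IsIntegral.of_surjective π hπ
    exact Algebra.IsIntegral.isAlgebraic
  haveI : IsPurelyInseparable k κ :=
    isPurelyInseparable_of_subsingleton_primeSpectrum_tensor_of_isAlgebraic k κ L hsub3
  haveI : ExpChar k (ringExpChar k) := ringExpChar.expChar k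
  obtain ⟨n, c, hc⟩ := IsPurelyInseparable.pow_mem k (ringExpChar k) (π a)
  refine ⟨n, c, ?_⟩
  rw [nilpotent_iff_mem_prime]
  intro J hJ
  have hJm : J = IsLocalRing.maximalIdeal Γ(X, ⊤) :=
    congrArg PrimeSpectrum.asIdeal (Subsingleton.elim (⟨J, hJ⟩ : PrimeSpectrum Γ(X, ⊤))
      ⟨IsLocalRing.maximalIdeal Γ(X, ⊤), inferInstance⟩)
  rw [hJm, ← IsLocalRing.residue_eq_zero_iff, map_sub, map_pow, sub_eq_zero]
  exact hc.symm

end Scheme

end Groth.Agent.Lib.Helper51
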