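import Mathlib
import Groth.Agent.Lib.Helper51.CotangentDominant

/-!
# Rank of the cotangent map of a local homomorphism (helper51)

`RankLE φ r`: the image of `m_A` in `m_B/m_B²` lies in the span of at most `r` elements.
-/

set_option autoImplicit false
set_option linter.style.haveILetI false

namespace Groth.Agent.Lib.Helper51.TangentRank

open IsLocalRing

variable {A B C : Type*} [CommRing A] [CommRing B] [CommRing C] [IsLocalRing A] [IsLocalRing B]
  [IsLocalRing C]

/-- The cotangent map of `φ` has rank at most `r`. -/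
def RankLE (φ : A →+* B) (r : ℕ) : Prop :=
  ∃ s : Finset B, s.card ≤ r ∧ (∀ b ∈ s, b ∈ maximalIdeal B) ∧
    Ideal.map φ (maximalIdeal A) ≤ Ideal.span (s : Set B) ⊔ maximalIdeal B ^ 2

theorem RankLE.comp {φ : A →+* B} {r : ℕ} (h : RankLE φ r) (γ : B →+* C) [IsLocalHom γ] :
    RankLE (γ.comp φ) r := by
  classical
  obtain ⟨s, hs, hsm, hle⟩ := h
  refine ⟨s.image γ, Finset.card_image_le.trans hs, ?_, ?_⟩
  · intro c hc
    obtain ⟨b, hb, rfl⟩ := Finset.mem_image.mp hc
    exact map_nonunit γ b (hsm b hb)
  · rw [← Ideal.map_map]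
    refine (Ideal.map_mono hle).trans ?_
    rw [Ideal.map_sup, Ideal.map_span, Finset.coe_image, Ideal.map_pow]
    exact sup_le_sup le_rfl (Ideal.pow_right_mono (map_maximalIdeal_le γ) 2)

theorem RankLE.of_comp_surjective {α : A →+* B} [IsLocalHom α] (hα : Function.Surjective α)
    {φ : B →+* C} {r : ℕ} (h : RankLE (φ.comp α) r) : RankLE φ r := by
  obtain ⟨s, hs, hsm, hle⟩ := h
  refine ⟨s, hs, hsm, ?_⟩
  have hmap : Ideal.map α (maximalIdeal A) = maximalIdeal B := by
    apply le_antisymm (map_maximalIdeal_le α)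
    intro b hb
    obtain ⟨a, rfl⟩ := hα b
    refine Ideal.mem_map_of_mem α ?_
    rw [mem_maximalIdeal] at hb ⊢
    exact (map_mem_nonunits_iff α a).mp hb
  rw [← hmap, Ideal.map_map]
  exact hle

/-- From the span formulation in the cotangent space. -/
theorem rankLE_of_span (φ : A →+* B) [IsLocalHom φ] (r : ℕ) (S : Finset (CotangentSpace B))
    (hS : S.card ≤ r)
    (h : ∀ a (ha : a ∈ maximalIdeal A), (maximalIdeal B).toCotangent ⟨φ a, map_nonunit φ a ha⟩ ∈
      Submodule.span (ResidueField B) (S : Set (CotangentSpace B))) :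
    RankLE φ r := by
  classical
  -- choose lifts
  have hlift : ∀ v : CotangentSpace B, ∃ b : maximalIdeal B, (maximalIdeal B).toCotangent b = v :=
    fun v => Ideal.toCotangent_surjective _ v
  choose lift hlift' using hlift
  refine ⟨S.image (fun v => (lift v : B)), Finset.card_image_le.trans hS, ?_, ?_⟩
  · intro b hb
    obtain ⟨v, -, rfl⟩ := Finset.mem_image.mp hb
    exact (lift v).2
  · rw [Ideal.map_le_iff_le_comap]
    intro a ha
    rw [Ideal.mem_comap]
    have h1 := h a ha
    -- every element of the span is the class of an element of the ideal span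
    have key : ∀ w ∈ Submodule.span (ResidueField B) (S : Set (CotangentSpace B)),
        ∃ b : maximalIdeal B, (b : B) ∈ Ideal.span ((S.image (fun v => (lift v : B)) : Finset B) : Set B) ∧
          (maximalIdeal B).toCotangent b = w := by
      intro w hw
      induction hw using Submodule.span_induction with
      | mem v hv =>
        refine ⟨lift v, Ideal.subset_span ?_, hlift' v⟩
        rw [Finset.coe_image]
        exact ⟨v, hv, rfl⟩
      | zero => exact ⟨0, Ideal.zero_mem _, map_zero _⟩
      | add x y _ _ hx hy =>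
        obtain ⟨bx, hbx, rfl⟩ := hx
        obtain ⟨by', hby, rfl⟩ := hy
        exact ⟨bx + by', Ideal.add_mem _ hbx hby, map_add _ _ _⟩
      | smul c x _ hx =>
        obtain ⟨bx, hbx, rfl⟩ := hx
        obtain ⟨c', rfl⟩ := residue_surjective c
        refine ⟨c' • bx, Ideal.mul_mem_left _ c' hbx, ?_⟩
        exact (CotangentDominant.residue_smul_toCotangent c' bx).symm
    obtain ⟨b, hb, hbw⟩ := key _ h1
    have h2 : (φ a - (b : B)) ∈ maximalIdeal B ^ 2 := by
      have := (Ideal.toCotangent_eq (I := maximalIdeal B)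
        (x := ⟨φ a, map_nonunit φ a ha⟩) (y := b)).mp hbw.symm
      exact this
    have h3 : φ a = (b : B) + (φ a - b) := by ring
    rw [h3]
    exact Ideal.add_mem _ (Ideal.mem_sup_left hb) (Ideal.mem_sup_right h2)

section Bound

universe u
variable {A' B' : Type u} [CommRing A'] [CommRing B'] [IsLocalRing A'] [IsLocalRing B']
  [IsNoetherianRing A']

/-- Classes of elements of `span s + m²` lie in the span of the classes of `s`. -/
theorem toCotangent_mem_span (s : Finset B') (hsm : ∀ b ∈ s, b ∈ maximalIdeal B') (x : B')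
    (hxm : x ∈ maximalIdeal B')
    (hx : x ∈ Ideal.span (s : Set B') ⊔ maximalIdeal B' ^ 2) :
    (maximalIdeal B').toCotangent ⟨x, hxm⟩ ∈ Submodule.span (ResidueField B')
      (Set.range fun b : s => (maximalIdeal B').toCotangent ⟨b.1, hsm b.1 b.2⟩) := by
  have key : ∀ y ∈ Ideal.span (s : Set B'), ∃ hy : y ∈ maximalIdeal B',
      (maximalIdeal B').toCotangent ⟨y, hy⟩ ∈ Submodule.span (ResidueField B')
        (Set.range fun b : s => (maximalIdeal B').toCotangent ⟨b.1, hsm b.1 b.2⟩) := by
    intro y hy
    induction hy using Submodule.span_induction with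
    | mem y hy => exact ⟨hsm y hy, Submodule.subset_span ⟨⟨y, hy⟩, rfl⟩⟩
    | zero =>
      refine ⟨Ideal.zero_mem _, ?_⟩
      have : (⟨0, Ideal.zero_mem _⟩ : maximalIdeal B') = 0 := rfl
      rw [this, map_zero]
      exact Submodule.zero_mem _
    | add y z _ _ hy hz =>
      obtain ⟨hym, hy'⟩ := hy
      obtain ⟨hzm, hz'⟩ := hz
      refine ⟨Ideal.add_mem _ hym hzm, ?_⟩
      have : (⟨y + z, Ideal.add_mem _ hym hzm⟩ : maximalIdeal B') = ⟨y, hym⟩ + ⟨z, hzm⟩ := rfl
      rw [this, map_add]
      exact Submodule.add_mem _ hy' hz'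
    | smul c y _ hy =>
      obtain ⟨hym, hy'⟩ := hy
      refine ⟨Ideal.mul_mem_left _ c hym, ?_⟩
      have : (⟨c • y, Ideal.mul_mem_left _ c hym⟩ : maximalIdeal B') = c • ⟨y, hym⟩ := rfl
      rw [this, ← CotangentDominant.residue_smul_toCotangent]
      exact Submodule.smul_mem _ _ hy'
  obtain ⟨y, hy, z, hz, rfl⟩ := Submodule.mem_sup.mp hx
  obtain ⟨hym, hy'⟩ := key y hy
  have hzm : z ∈ maximalIdeal B' := Ideal.pow_le_self two_ne_zero hz
  have : (⟨y + z, hxm⟩ : maximalIdeal B') = ⟨y, hym⟩ + ⟨z, hzm⟩ := rfl
  rw [this, map_add, (Ideal.toCotangent_eq_zero _ ⟨z, hzm⟩).mpr hz, add_zero]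
  exact hy'

/-- If the cotangent map of `φ` is injective, has rank at most `r`, and `φ` is surjective on
residue fields, then the maximal ideal of the source is generated by at most `r` elements. -/
theorem spanFinrank_le_of_rankLE (φ : A' →+* B') [IsLocalHom φ]
    (hres : ∀ b : B', ∃ a : A', b - φ a ∈ maximalIdeal B')
    (hcot : ∀ a ∈ maximalIdeal A', φ a ∈ maximalIdeal B' ^ 2 → a ∈ maximalIdeal A' ^ 2)
    {r : ℕ} (h : RankLE φ r) : (maximalIdeal A').spanFinrank ≤ r := by
  classical
  obtain ⟨s, hs, hsm, hle⟩ := h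
  obtain ⟨a, ham, ha⟩ := CotangentDominant.exists_fin_generators (A := A')
  have hli := CotangentDominant.linearIndependent_map_of_cotangent_injective φ hres hcot a ham ha
    rfl
  set t : s → CotangentSpace B' := fun b => (maximalIdeal B').toCotangent ⟨b.1, hsm b.1 b.2⟩
    with ht
  have hmem : ∀ i, (maximalIdeal B').toCotangent ⟨φ (a i), map_nonunit φ _ (ham i)⟩ ∈
      Submodule.span (ResidueField B') (Set.range t) := by
    intro i
    refine toCotangent_mem_span s hsm _ _ (hle ?_)
    exact Ideal.mem_map_of_mem φ (ham i)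
  have h1 := finrank_span_eq_card hli
  rw [Fintype.card_fin] at h1
  have h2 : Module.finrank (ResidueField B') (Submodule.span (ResidueField B') (Set.range
      fun i => (maximalIdeal B').toCotangent ⟨φ (a i), map_nonunit φ _ (ham i)⟩)) ≤
      Module.finrank (ResidueField B') (Submodule.span (ResidueField B') (Set.range t)) := by
    haveI : Module.Finite (ResidueField B') (Submodule.span (ResidueField B') (Set.range t)) :=
      Module.Finite.span_of_finite _ (Set.finite_range t)
    apply Submodule.finrank_mono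
    rw [Submodule.span_le]
    rintro _ ⟨i, rfl⟩
    exact hmem i
  have h3 : Module.finrank (ResidueField B') (Submodule.span (ResidueField B') (Set.range t)) ≤
      s.card := by
    have := finrank_range_le_card (R := ResidueField B') t
    rw [Fintype.card_coe] at this
    exact this
  omega

end Bound

end Groth.Agent.Lib.Helper51.TangentRank
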