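import Mathlib
import Groth.Agent.Lib.Helper51.TangentRank
import Groth.Agent.Lib.Helper51.CotangentSmoothSch
import Groth.Agent.Lib.Helper51.CotangentSmoothDim
import Groth.Agent.Lib.Helper22.FibreComp

/-!
# The dimension of the image of the locus where the tangent map has rank at most `r`
(Hartshorne III.10.6; helper51)
-/

set_option autoImplicit false
set_option linter.style.haveILetI false
universe u

namespace Groth.Agent.Lib.Helper51.TangentRankSch

open CategoryTheory AlgebraicGeometry IsLocalRing TopologicalSpace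
open Groth.Agent.Lib.Helper51.CotangentDominantSch Groth.Agent.Lib.Helper73

variable {K : Type u} [Field K] {X Y : Scheme.{u}}

theorem genericPoint_of_isDominant [IsIntegral X] [IsIntegral Y] (u : X ⟶ Y) [IsDominant u] :
    u (genericPoint X) = genericPoint Y := by
  have h1 := (genericPoint_spec X).image u.continuous
  rw [Set.image_univ, u.denseRange.closure_range] at h1
  exact h1.eq (genericPoint_spec Y)

/-- Open-set version of generic smoothness in characteristic zero: the cotangent maps of a dominant
morphism of integral schemes of finite type are injective at the closed points of a nonempty open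
subset. -/
theorem exists_open_cotangent_injective [IsAlgClosed K] [CharZero K] (sX : X ⟶ Spec (.of K))
    (sY : Y ⟶ Spec (.of K)) [LocallyOfFiniteType sX] [LocallyOfFiniteType sY]
    [IsIntegral X] [IsIntegral Y] (u : X ⟶ Y) (hu : u ≫ sY = sX) [IsDominant u] :
    ∃ W : X.Opens, (W : Set X).Nonempty ∧ ∀ P ∈ W, IsClosed ({P} : Set X) →
      ∀ a ∈ maximalIdeal (Y.presheaf.stalk (u P)),
        (u.stalkMap P).hom a ∈ maximalIdeal (X.presheaf.stalk P) ^ 2 →
          a ∈ maximalIdeal (Y.presheaf.stalk (u P)) ^ 2 := by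
  haveI : IsLocallyNoetherian Y := LocallyOfFiniteType.isLocallyNoetherian sY
  haveI : LocallyOfFiniteType u := by
    haveI : LocallyOfFiniteType (u ≫ sY) := hu ▸ inferInstance
    exact locallyOfFiniteType_of_comp u sY
  haveI : CharZero Y.functionField := charZero_functionField sY
  have h1 : genericPoint X ∈ u.smoothLocus :=
    GenericSmooth.formallySmooth_stalkMap_genericPoint u (genericPoint_of_isDominant u)
  refine ⟨u.smoothLocus, ⟨_, h1⟩, fun P hP hPcl a _ h => ?_⟩
  exact CotangentDominant.mem_sq_of_formallySmooth (u.stalkMap P).hom hP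
    (exists_stalkMap_sub_mem sX sY u hu P hPcl) a h

theorem rankLE_congr {V : Scheme.{u}} {g₁ g₂ : V ⟶ Y} (h : g₁ = g₂) (P : V) (r : ℕ) :
    TangentRank.RankLE (g₁.stalkMap P).hom r → TangentRank.RankLE (g₂.stalkMap P).hom r := by
  subst h
  exact id

/-- Core estimate: if `g' : V ⟶ Y'` is a dominant morphism of integral schemes of finite type over
`K`, `j : Y' ⟶ Y` a closed immersion, and the points where `g' ≫ j` has tangent rank at most `r` are
dense among closed points of `V`, then `dim Y' ≤ r`. -/
theorem dim_le_of_dense_rankLE [IsAlgClosed K] [CharZero K] {V Y' : Scheme.{u}} [IsIntegral V]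
    [IsIntegral Y'] (qV : V ⟶ Spec (.of K)) (qY : Y ⟶ Spec (.of K)) [LocallyOfFiniteType qV]
    [LocallyOfFiniteType qY] (j : Y' ⟶ Y) [IsClosedImmersion j] (g' : V ⟶ Y') [IsDominant g']
    (hg : (g' ≫ j) ≫ qY = qV) (r : ℕ)
    (hdense : ∀ W : V.Opens, (W : Set V).Nonempty →
      ∃ P ∈ W, IsClosed ({P} : Set V) ∧ TangentRank.RankLE ((g' ≫ j).stalkMap P).hom r) :
    topologicalKrullDim Y' ≤ r := by
  haveI : LocallyOfFiniteType (j ≫ qY) := inferInstance
  have hg2 : g' ≫ (j ≫ qY) = qV := by rw [← hg, Category.assoc]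
  obtain ⟨W, hWne, hW⟩ := exists_open_cotangent_injective qV (j ≫ qY) g' hg2
  obtain ⟨P, hPW, hPcl, hrank⟩ := hdense W hWne
  have hcot := hW P hPW hPcl
  have hrank' : TangentRank.RankLE (g'.stalkMap P).hom r := by
    rw [Scheme.Hom.stalkMap_comp] at hrank
    exact TangentRank.RankLE.of_comp_surjective (α := (j.stalkMap (g' P)).hom)
      (j.stalkMap_surjective (g' P)) hrank
  haveI : IsLocallyNoetherian Y' := LocallyOfFiniteType.isLocallyNoetherian (j ≫ qY)
  have hres := exists_stalkMap_sub_mem qV (j ≫ qY) g' hg2 P hPcl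
  have h1 := TangentRank.spanFinrank_le_of_rankLE (g'.stalkMap P).hom hres hcot hrank'
  have h2 := ringKrullDim_le_spanFinrank_maximalIdeal (Y'.presheaf.stalk (g' P))
  haveI : JacobsonSpace Y' := LocallyOfFiniteType.jacobsonSpace (j ≫ qY)
  haveI : LocallyOfFiniteType g' := by
    haveI : LocallyOfFiniteType (g' ≫ (j ≫ qY)) := hg2 ▸ inferInstance
    exact locallyOfFiniteType_of_comp g' (j ≫ qY)
  have hcl : IsClosed ({g' P} : Set Y') := g'.closePoints_subset_preimage_closedPoints hPcl
  rw [← CotangentSmoothDim.ringKrullDim_stalk_eq_dim_of_isClosed (j ≫ qY) hcl]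
  exact h2.trans (by exact_mod_cast h1)

/-- For a morphism `g : V ⟶ Y` from an integral scheme of finite type over `K`, if the points where
`g` has tangent rank at most `r` are dense among closed points, then every point of the closure of
the image has transcendence degree at most `r`. -/
theorem trdegNat_le_of_dense_rankLE [IsAlgClosed K] [CharZero K] {V : Scheme.{u}} [IsIntegral V]
    (qV : V ⟶ Spec (.of K)) (qY : Y ⟶ Spec (.of K)) [LocallyOfFiniteType qV]
    [LocallyOfFiniteType qY] (g : V ⟶ Y) (hg : g ≫ qY = qV) (r : ℕ)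
    (hdense : ∀ W : V.Opens, (W : Set V).Nonempty →
      ∃ P ∈ W, IsClosed ({P} : Set V) ∧ TangentRank.RankLE (g.stalkMap P).hom r)
    (t : Y) (ht : t ∈ closure (Set.range g)) : trdegNat qY t ≤ r := by
  let T : Closeds Y := ⟨closure (Set.range g), isClosed_closure⟩
  set I := Scheme.IdealSheafData.vanishingIdeal T with hI
  have hjr : Set.range I.subschemeι = closure (Set.range g) := by
    rw [I.range_subschemeι, hI, Scheme.IdealSheafData.coe_support_vanishingIdeal]
    rfl
  haveI : IsReduced I.subscheme :=
    Groth.Agent.Lib.Helper22.FibreComp.isReduced_subscheme_vanishingIdeal T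
  obtain ⟨g', hg'⟩ := Groth.Agent.Lib.Helper22.FibreComp.exists_lift_of_isReduced I.subschemeι g
    (by rw [hjr]; exact subset_closure)
  have hce := I.subschemeι.isClosedEmbedding
  have hdom : DenseRange g' := by
    rw [DenseRange, dense_iff_closure_eq]
    apply hce.injective.image_injective
    rw [← hce.closure_image_eq, ← Set.range_comp, Set.image_univ, hjr]
    congr 2
    rw [← hg']
    rfl
  haveI : IsDominant g' := ⟨hdom⟩
  haveI : IrreducibleSpace I.subscheme := by
    rw [irreducibleSpace_def]
    have h1 : IsIrreducible (g' '' Set.univ) :=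
      (IrreducibleSpace.isIrreducible_univ V).image g' g'.continuous.continuousOn
    rw [Set.image_univ] at h1
    have h2 := h1.closure
    rwa [hdom.closure_range] at h2
  haveI : IsIntegral I.subscheme := isIntegral_of_irreducibleSpace_of_isReduced _
  have hdim := dim_le_of_dense_rankLE qV qY I.subschemeι g' (by rw [hg', hg]) r
    (fun W hW => by
      obtain ⟨P, hP, hPcl, hr⟩ := hdense W hW
      exact ⟨P, hP, hPcl, rankLE_congr hg'.symm P r hr⟩)
  have hδ := isDimFun_trdegNat qY
  have h3 : topologicalKrullDim I.subscheme = topologicalKrullDim ↥(closure (Set.range g)) := by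
    rw [← hjr]
    exact IsHomeomorph.topologicalKrullDim_eq _
      (I.subschemeι.isEmbedding.toHomeomorph).isHomeomorph
  have h4 := hδ.topologicalKrullDim_closed_eq_iSup (isClosed_closure (s := Set.range g))
  have h5 : ((trdegNat qY t : ℕ∞) : WithBot ℕ∞) ≤
      topologicalKrullDim ↥(closure (Set.range g)) := by
    rw [h4]
    exact le_iSup (fun x : closure (Set.range g) => ((trdegNat qY x.1 : ℕ∞) : WithBot ℕ∞))
      ⟨t, ht⟩
  have h6 := h5.trans (h3 ▸ hdim)
  exact_mod_cast h6

/-- On a reduced Noetherian scheme, each irreducible component contains an integral open subscheme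
which is dense in it. -/
theorem exists_integral_open_of_mem_irreducibleComponents [IsReduced X] [NoetherianSpace X]
    (C : Set X) (hC : C ∈ irreducibleComponents X) :
    ∃ (U : X.Opens) (_ : IsIntegral U), closure (U : Set X) = C := by
  have hfin : (irreducibleComponents X).Finite := NoetherianSpace.finite_irreducibleComponents
  let U : X.Opens :=
    ⟨(⋃₀ (irreducibleComponents X \ {C}))ᶜ, by
      rw [Set.sUnion_eq_biUnion, isOpen_compl_iff]
      exact hfin.sdiff.isClosed_biUnion fun W hW ↦ isClosed_of_mem_irreducibleComponents W hW.1⟩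
  have hU : closure (U : Set X) = C :=
    closure_sUnion_irreducibleComponents_sdiff_singleton hfin _ hC
  have hCirr : IsIrreducible C := hC.1
  have : AlgebraicGeometry.IsIntegral U :=
    have : IrreducibleSpace U := isIrreducible_iff_irreducibleSpace.mp
      (isIrreducible_iff_closure.mp (hU ▸ hCirr))
    isIntegral_of_irreducibleSpace_of_isReduced _
  exact ⟨U, this, hU⟩

/-- **Hartshorne III.10.6** (char. 0, algebraically closed): the closure of the image of a set of
closed points at which the tangent map has rank at most `r` has dimension at most `r`. -/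
theorem dim_closure_image_le [IsAlgClosed K] [CharZero K] (qX : X ⟶ Spec (.of K))
    (qY : Y ⟶ Spec (.of K)) [LocallyOfFiniteType qX] [QuasiCompact qX] [LocallyOfFiniteType qY]
    (f : X ⟶ Y) (hf : f ≫ qY = qX) (r : ℕ) (Xr : Set X)
    (hXr : ∀ x ∈ Xr, IsClosed ({x} : Set X) ∧ TangentRank.RankLE (f.stalkMap x).hom r) :
    topologicalKrullDim ↥(closure (f '' Xr)) ≤ r := by
  let Z : Closeds X := ⟨closure Xr, isClosed_closure⟩
  set I := Scheme.IdealSheafData.vanishingIdeal Z with hI
  have hir : Set.range I.subschemeι = closure Xr := by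
    rw [I.range_subschemeι, hI, Scheme.IdealSheafData.coe_support_vanishingIdeal]
    rfl
  haveI : IsReduced I.subscheme :=
    Groth.Agent.Lib.Helper22.FibreComp.isReduced_subscheme_vanishingIdeal Z
  haveI : LocallyOfFiniteType (I.subschemeι ≫ qX) := inferInstance
  haveI : QuasiCompact (I.subschemeι ≫ qX) := inferInstance
  haveI : IsLocallyNoetherian I.subscheme :=
    LocallyOfFiniteType.isLocallyNoetherian (I.subschemeι ≫ qX)
  haveI : CompactSpace I.subscheme :=
    QuasiCompact.compactSpace_of_compactSpace (I.subschemeι ≫ qX)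
  haveI : IsNoetherian I.subscheme := {}
  have hfin : (irreducibleComponents I.subscheme).Finite :=
    NoetherianSpace.finite_irreducibleComponents
  have hδ := isDimFun_trdegNat qY
  rw [hδ.topologicalKrullDim_closed_eq_iSup isClosed_closure]
  refine iSup_le fun t => ?_
  set h := I.subschemeι ≫ f with hh
  have hcov : closure (f '' Xr) ⊆
      ⋃ C ∈ irreducibleComponents I.subscheme, closure (h '' C) := by
    apply closure_minimal _ (hfin.isClosed_biUnion fun C _ => isClosed_closure)
    rintro _ ⟨x, hx, rfl⟩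
    have hxZ : x ∈ Set.range I.subschemeι := by
      rw [hir]
      exact subset_closure hx
    obtain ⟨z, rfl⟩ := hxZ
    exact Set.mem_biUnion (irreducibleComponent_mem_irreducibleComponents z)
      (subset_closure ⟨z, mem_irreducibleComponent, rfl⟩)
  obtain ⟨C, hC, htC⟩ := Set.mem_iUnion₂.mp (hcov t.2)
  obtain ⟨U, hUint, hUC⟩ := exists_integral_open_of_mem_irreducibleComponents C hC
  haveI := hUint
  have ht' : t.1 ∈ closure (Set.range (U.ι ≫ h)) := by
    have h1 : Set.range (U.ι ≫ h) = h '' (U : Set I.subscheme) := by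
      rw [Scheme.Hom.comp_base, TopCat.coe_comp, Set.range_comp]
      congr 1
      exact U.range_ι
    rw [h1]
    have h2 : h '' C ⊆ closure (h '' (U : Set I.subscheme)) := by
      rw [← hUC]
      exact image_closure_subset_closure_image h.continuous
    exact closure_minimal h2 isClosed_closure htC
  have key := trdegNat_le_of_dense_rankLE (U.ι ≫ I.subschemeι ≫ qX) qY (U.ι ≫ h)
    (by rw [hh, Category.assoc, Category.assoc, hf]) r ?_ t.1 ht'
  · exact_mod_cast key
  intro W hW
  obtain ⟨w, hw⟩ := hW
  have hopen : IsOpen (U.ι '' (W : Set U)) := U.ι.isOpenEmbedding.isOpenMap _ W.2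
  obtain ⟨O, hO, hOeq⟩ := I.subschemeι.isEmbedding.isInducing.isOpen_iff.mp hopen
  have hwO : I.subschemeι (U.ι w) ∈ O := by
    have : U.ι w ∈ I.subschemeι ⁻¹' O := hOeq ▸ ⟨w, hw, rfl⟩
    exact this
  have hwZ : I.subschemeι (U.ι w) ∈ closure Xr := hir ▸ ⟨_, rfl⟩
  obtain ⟨x, hxO, hxr⟩ := mem_closure_iff.mp hwZ O hO hwO
  have hxZ : x ∈ Set.range I.subschemeι := by
    rw [hir]
    exact subset_closure hxr
  obtain ⟨z, rfl⟩ := hxZ
  have hz : z ∈ U.ι '' (W : Set U) := by
    rw [← hOeq]
    exact hxO
  obtain ⟨P, hPW, rfl⟩ := hz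
  obtain ⟨hcl, hrk⟩ := hXr _ hxr
  refine ⟨P, hPW, ?_, ?_⟩
  · have hinj : Function.Injective (U.ι ≫ I.subschemeι) := by
      rw [Scheme.Hom.comp_base, TopCat.coe_comp]
      exact I.subschemeι.isEmbedding.injective.comp U.ι.isEmbedding.injective
    have : ({P} : Set U) = (U.ι ≫ I.subschemeι) ⁻¹' {I.subschemeι (U.ι P)} := by
      ext Q
      simp only [Set.mem_singleton_iff, Set.mem_preimage]
      constructor
      · rintro rfl
        rfl
      · intro e
        exact hinj e
    rw [this]
    exact hcl.preimage (U.ι ≫ I.subschemeι).continuous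
  · have e1 : (U.ι ≫ h) = (U.ι ≫ I.subschemeι) ≫ f := by rw [hh, Category.assoc]
    refine rankLE_congr e1.symm P r ?_
    rw [Scheme.Hom.stalkMap_comp]
    have hrk' : TangentRank.RankLE (f.stalkMap ((U.ι ≫ I.subschemeι) P)).hom r := hrk
    exact hrk'.comp ((U.ι ≫ I.subschemeι).stalkMap P).hom

theorem cotangentMapAt_toCotangent (f : X ⟶ Y) (x : X) (a : Y.presheaf.stalk (f x))
    (ha : a ∈ maximalIdeal (Y.presheaf.stalk (f x))) :
    FixPt.cotangentMapAt f x (f x) rfl (Ideal.toCotangent _ ⟨a, ha⟩) =
      Ideal.toCotangent _ ⟨(f.stalkMap x).hom a, map_nonunit (f.stalkMap x).hom a ha⟩ := by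
  have h3' : FixPt.cotangentMapAt f x (f x) rfl (Ideal.toCotangent _ ⟨a, ha⟩) =
      Ideal.toCotangent _ ⟨FixPt.stalkMapAt f x (f x) rfl a,
        FixPt.maximalIdeal_le_comap_stalkMapAt f x (f x) rfl ha⟩ := rfl
  rw [h3']
  congr 1
  apply Subtype.ext
  change FixPt.stalkMapAt f x (f x) rfl a = _
  rw [CotangentSmoothSch.stalkMapAt_rfl]

/-- The span formulation of "tangent rank at most `r`" in terms of `FixPt.cotangentMapAt`. -/
theorem rankLE_of_cotangentMapAt (f : X ⟶ Y) (x : X) (r : ℕ)
    (S : Finset (IsLocalRing.CotangentSpace (X.presheaf.stalk x))) (hS : S.card ≤ r)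
    (h : (LinearMap.range (FixPt.cotangentMapAt f x (f x) rfl) :
        Set (IsLocalRing.CotangentSpace (X.presheaf.stalk x))) ⊆
      (Submodule.span (IsLocalRing.ResidueField (X.presheaf.stalk x))
        (S : Set (IsLocalRing.CotangentSpace (X.presheaf.stalk x))) :
          Set (IsLocalRing.CotangentSpace (X.presheaf.stalk x)))) :
    TangentRank.RankLE (f.stalkMap x).hom r := by
  refine TangentRank.rankLE_of_span (f.stalkMap x).hom r S hS fun a ha => ?_
  rw [← cotangentMapAt_toCotangent f x a ha]
  exact h ⟨_, rfl⟩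

end Groth.Agent.Lib.Helper51.TangentRankSch
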